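import Cfsg.Agent.Lib.Transfer.PlaneSL2
import Mathlib.LinearAlgebra.Projectivization.Action

/-!
The action of `SL(2,K)` on the projective line: fixed points of non-scalar elements.
-/

namespace CfsgLib.Transfer

open Matrix
open scoped MatrixGroups LinearAlgebra.Projectivization

variable {K : Type*} [Field K]

/-- The upper unitriangular element with corner `b`. -/
def upperU (b : K) : SL(2, K) := ⟨!![1, b; 0, 1], by simp [Matrix.det_fin_two]⟩

/-- The lower unitriangular element with corner `b`. -/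
def lowerU (b : K) : SL(2, K) := ⟨!![1, 0; b, 1], by simp [Matrix.det_fin_two]⟩

@[simp] theorem upperU_coe (b : K) : (upperU b : Matrix (Fin 2) (Fin 2) K) = !![1, b; 0, 1] := rfl

@[simp] theorem lowerU_coe (b : K) : (lowerU b : Matrix (Fin 2) (Fin 2) K) = !![1, 0; b, 1] := rfl

theorem upperU_mul (a b : K) : upperU a * upperU b = upperU (a + b) :=
  Subtype.ext (by simp [add_comm a b])

@[simp] theorem upperU_zero : upperU (0 : K) = 1 := Subtype.ext (by simp [Matrix.one_fin_two])

theorem upperU_inj {a b : K} (h : upperU a = upperU b) : a = b := by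
  have := congrArg (fun M : SL(2, K) => (M : Matrix (Fin 2) (Fin 2) K) 0 1) h
  simpa using this

theorem upperU_inv (a : K) : (upperU a)⁻¹ = upperU (-a) :=
  inv_eq_of_mul_eq_one_right (by rw [upperU_mul, add_neg_cancel, upperU_zero])

/-- The point at infinity. -/
def lineInf : ℙ K (Fin 2 → K) :=
  Projectivization.mk K ![1, 0] (fun h => one_ne_zero (congrFun h 0))

/-- The affine point `a`. -/
def linePt (a : K) : ℙ K (Fin 2 → K) :=
  Projectivization.mk K ![a, 1] (fun h => one_ne_zero (congrFun h 1))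

theorem linePt_inj {a b : K} (h : linePt a = linePt b) : a = b := by
  obtain ⟨e, he⟩ := (Projectivization.mk_eq_mk_iff' _ _ _ _ _).1 h
  have h0 := congrFun he 0
  have h1 := congrFun he 1
  simp at h0 h1
  rw [h1, one_mul] at h0
  exact h0.symm

theorem lineInf_ne_linePt (a : K) : lineInf ≠ linePt a := fun h => by
  obtain ⟨e, he⟩ := (Projectivization.mk_eq_mk_iff' _ _ _ _ _).1 h
  have h0 := congrFun he 0
  have h1 := congrFun he 1
  simp at h0 h1
  rw [h1, zero_mul] at h0
  exact zero_ne_one h0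

theorem line_cases (x : ℙ K (Fin 2 → K)) : x = lineInf ∨ ∃ a, x = linePt a := by
  induction x using Projectivization.ind with
  | h v hv =>
    by_cases h1 : v 1 = 0
    · left
      refine (Projectivization.mk_eq_mk_iff' _ _ _ _ _).2 ⟨v 0, ?_⟩
      ext i; fin_cases i <;> simp [h1]
    · right
      refine ⟨v 0 / v 1, (Projectivization.mk_eq_mk_iff' _ _ _ _ _).2 ⟨v 1, ?_⟩⟩
      ext i; fin_cases i <;> simp [mul_div_cancel₀ _ h1]

theorem smul_lineInf (M : SL(2, K)) :
    M • (lineInf : ℙ K (Fin 2 → K)) = lineInf ↔ M.1 1 0 = 0 := by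
  rw [lineInf, Projectivization.smul_mk, Projectivization.mk_eq_mk_iff']
  simp only [Matrix.SpecialLinearGroup.smul_def]
  constructor
  · rintro ⟨e, he⟩
    have := congrFun he 1
    simpa [Matrix.mulVec, dotProduct, Fin.sum_univ_two] using this.symm
  · intro h
    refine ⟨M.1 0 0, ?_⟩
    ext i; fin_cases i <;> simp [Matrix.mulVec, dotProduct, Fin.sum_univ_two, h]

theorem smul_lineInf_eq_linePt {M : SL(2, K)} (h : M.1 1 0 ≠ 0) :
    M • (lineInf : ℙ K (Fin 2 → K)) = linePt (M.1 0 0 / M.1 1 0) := by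
  rw [lineInf, linePt, Projectivization.smul_mk, Projectivization.mk_eq_mk_iff']
  refine ⟨M.1 1 0, ?_⟩
  simp only [Matrix.SpecialLinearGroup.smul_def]
  ext i; fin_cases i <;> simp [Matrix.mulVec, dotProduct, Fin.sum_univ_two, mul_div_cancel₀ _ h]

theorem smul_linePt {M : SL(2, K)} {a : K} (h : M.1 1 0 * a + M.1 1 1 ≠ 0) :
    M • linePt a = linePt ((M.1 0 0 * a + M.1 0 1) / (M.1 1 0 * a + M.1 1 1)) := by
  rw [linePt, linePt, Projectivization.smul_mk, Projectivization.mk_eq_mk_iff']
  refine ⟨M.1 1 0 * a + M.1 1 1, ?_⟩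
  simp only [Matrix.SpecialLinearGroup.smul_def]
  ext i; fin_cases i <;> simp [Matrix.mulVec, dotProduct, Fin.sum_univ_two, mul_div_cancel₀ _ h]

theorem upperU_smul_linePt (b a : K) : upperU b • linePt a = linePt (a + b) := by
  rw [smul_linePt (by simp)]
  simp

theorem smul_linePt_eq_self {M : SL(2, K)} {a : K} :
    M • linePt a = linePt a ↔
      M.1 1 0 * (a * a) + (M.1 1 1 - M.1 0 0) * a - M.1 0 1 = 0 := by
  rw [linePt, Projectivization.smul_mk, Projectivization.mk_eq_mk_iff']
  simp only [Matrix.SpecialLinearGroup.smul_def]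
  constructor
  · rintro ⟨e, he⟩
    have h0 := congrFun he 0
    have h1 := congrFun he 1
    simp [Matrix.mulVec, dotProduct, Fin.sum_univ_two] at h0 h1
    linear_combination h0 - a * h1
  · intro h
    refine ⟨M.1 1 0 * a + M.1 1 1, ?_⟩
    ext i
    fin_cases i <;> simp [Matrix.mulVec, dotProduct, Fin.sum_univ_two]
    linear_combination h

theorem exists_eigen_of_smul_eq_self {M : SL(2, K)} {x : ℙ K (Fin 2 → K)} (h : M • x = x) :
    ∃ (v : Fin 2 → K) (a : K), v ≠ 0 ∧ M.1 *ᵥ v = a • v := by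
  induction x using Projectivization.ind with
  | h v hv =>
    rw [Projectivization.smul_mk, Projectivization.mk_eq_mk_iff'] at h
    obtain ⟨a, ha⟩ := h
    exact ⟨v, a, hv, (Matrix.SpecialLinearGroup.smul_def M v).symm.trans ha.symm⟩

/-- The trace. -/
def trSL (M : SL(2, K)) : K := M.1 0 0 + M.1 1 1

theorem trSL_conj (g M : SL(2, K)) : trSL (g * M * g⁻¹) = trSL M := by
  have h : ∀ N : SL(2, K), trSL N = N.1.trace := fun N => by rw [trSL, Matrix.trace_fin_two]
  rw [h, h, Matrix.SpecialLinearGroup.coe_mul, Matrix.trace_mul_comm,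
    ← Matrix.SpecialLinearGroup.coe_mul, ← mul_assoc, inv_mul_cancel, one_mul]

/-- Neither `1` nor `-1`. -/
def IsNonScalar (M : SL(2, K)) : Prop := M ≠ 1 ∧ M ≠ -1

theorem IsNonScalar.conj {M : SL(2, K)} (h : IsNonScalar M) (g : SL(2, K)) :
    IsNonScalar (g * M * g⁻¹) := by
  refine ⟨fun e => h.1 (conj_eq_one_iff.1 e), fun e => h.2 ?_⟩
  have hc : g * -1 = -1 * g := by ext i j; simp
  calc M = g⁻¹ * (g * M * g⁻¹) * g := by group
    _ = g⁻¹ * (g * -1) := by rw [e, mul_assoc, ← hc]
    _ = -1 := by rw [← mul_assoc, inv_mul_cancel, one_mul]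

theorem det_eq_sl2 (M : SL(2, K)) : M.1 0 0 * M.1 1 1 - M.1 0 1 * M.1 1 0 = 1 := by
  have := M.2
  rwa [Matrix.det_fin_two] at this

theorem sq_trace_eq_four_iff_of_lower {M : SL(2, K)} (h : M.1 1 0 = 0) :
    trSL M ^ 2 = 4 ↔ M.1 0 0 = M.1 1 1 := by
  have hd := det_eq_sl2 M
  rw [h] at hd
  unfold trSL
  constructor
  · intro e
    have : (M.1 0 0 - M.1 1 1) ^ 2 = 0 := by linear_combination e - 4 * hd
    exact sub_eq_zero.1 (pow_eq_zero_iff two_ne_zero |>.1 this)
  · intro e
    rw [← e] at hd ⊢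
    linear_combination 4 * hd

/-- A non-scalar element fixes one or two points, one exactly when its trace squares to `4`. -/
theorem fixed_pair [IsAlgClosed K] (h2 : (2 : K) ≠ 0) {M : SL(2, K)} (hM : IsNonScalar M) :
    ∃ x y : ℙ K (Fin 2 → K), (∀ z, M • z = z ↔ z = x ∨ z = y) ∧ (x = y ↔ trSL M ^ 2 = 4) := by
  have hd := det_eq_sl2 M
  by_cases h10 : M.1 1 0 = 0
  · rw [sq_trace_eq_four_iff_of_lower h10]
    by_cases heq : M.1 0 0 = M.1 1 1
    · refine ⟨lineInf, lineInf, fun z => ?_, by simp [heq]⟩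
      rcases line_cases z with rfl | ⟨a, rfl⟩
      · simp [smul_lineInf, h10]
      · refine iff_of_false (fun h => ?_) (fun h => (lineInf_ne_linePt a) (by tauto))
        rw [smul_linePt_eq_self, h10, ← heq] at h
        have h01 : M.1 0 1 = 0 := by linear_combination -h
        rw [h10, ← heq, h01] at hd
        rcases mul_self_eq_one_iff.1 (show M.1 0 0 * M.1 0 0 = 1 by linear_combination hd) with h' | h'
        · exact hM.1 (by ext i j; fin_cases i <;> fin_cases j <;> simp [h10, h01, h', ← heq])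
        · exact hM.2 (by ext i j; fin_cases i <;> fin_cases j <;> simp [h10, h01, h', ← heq])
    · refine ⟨lineInf, linePt (M.1 0 1 / (M.1 1 1 - M.1 0 0)), fun z => ?_,
        iff_of_false (lineInf_ne_linePt _) heq⟩
      have hne : M.1 1 1 - M.1 0 0 ≠ 0 := sub_ne_zero.2 (Ne.symm heq)
      rcases line_cases z with rfl | ⟨a, rfl⟩
      · simp [smul_lineInf, h10]
      · rw [smul_linePt_eq_self, h10, zero_mul, zero_add, sub_eq_zero]
        constructor
        · exact fun h => Or.inr (congrArg _ (by rw [eq_div_iff hne]; linear_combination h))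
        · rintro (h | h)
          · exact absurd h.symm (lineInf_ne_linePt a)
          · rw [linePt_inj h]; field_simp
  · obtain ⟨s, hs⟩ := IsAlgClosed.exists_pow_nat_eq (trSL M ^ 2 - 4) (n := 2) (by norm_num)
    set B := M.1 1 1 - M.1 0 0 with hB
    have h2a : 2 * M.1 1 0 ≠ 0 := mul_ne_zero h2 h10
    have key : ∀ a, M.1 1 0 * (a * a) + B * a - M.1 0 1 = 0 ↔
        a = (s - B) / (2 * M.1 1 0) ∨ a = (-s - B) / (2 * M.1 1 0) := by
      intro a
      rw [eq_div_iff h2a, eq_div_iff h2a]
      have e : (a * (2 * M.1 1 0) - (s - B)) * (a * (2 * M.1 1 0) - (-s - B)) =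
          4 * M.1 1 0 * (M.1 1 0 * (a * a) + B * a - M.1 0 1) := by
        have hs' : s ^ 2 = (M.1 0 0 + M.1 1 1) ^ 2 - 4 := hs
        linear_combination (norm := skip) -hs' - 4 * hd
        rw [hB]; ring
      have h4 : 4 * M.1 1 0 ≠ 0 := by
        rw [show (4 : K) = 2 * 2 by norm_num, mul_assoc]; exact mul_ne_zero h2 h2a
      rw [← sub_eq_zero (a := a * (2 * M.1 1 0)) (b := s - B),
        ← sub_eq_zero (a := a * (2 * M.1 1 0)) (b := -s - B), ← mul_eq_zero, e, mul_eq_zero]
      simp [h4]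
    refine ⟨linePt ((s - B) / (2 * M.1 1 0)), linePt ((-s - B) / (2 * M.1 1 0)), fun z => ?_, ?_⟩
    · rcases line_cases z with rfl | ⟨a, rfl⟩
      · refine iff_of_false (fun h => h10 ((smul_lineInf M).1 h)) ?_
        rintro (h | h) <;> exact lineInf_ne_linePt _ h
      · rw [smul_linePt_eq_self, key]
        exact or_congr ⟨congrArg _, linePt_inj⟩ ⟨congrArg _, linePt_inj⟩
    · constructor
      · intro h
        have h' := (div_left_inj' h2a).1 (linePt_inj h)
        have : 2 * s = 0 := by linear_combination h'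
        rw [(mul_eq_zero.1 this).resolve_left h2, zero_pow two_ne_zero] at hs
        linear_combination -hs
      · intro h
        rw [h, sub_self] at hs
        rw [pow_eq_zero_iff two_ne_zero |>.1 hs, neg_zero]

/-- The eigenvalue of a fixed point satisfies the characteristic equation. -/
theorem eigen_quadratic {M : SL(2, K)} {v : Fin 2 → K} {a : K} (hv : v ≠ 0)
    (h : M.1 *ᵥ v = a • v) : a * a - trSL M * a + 1 = 0 := by
  have hd := det_eq_sl2 M
  have h0 := congrFun h 0
  have h1 := congrFun h 1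
  simp [Matrix.mulVec, dotProduct, Fin.sum_univ_two] at h0 h1
  have e0 : (a * a - trSL M * a + 1) * v 0 = 0 := by
    unfold trSL
    linear_combination -(a - M.1 1 1) * h0 - M.1 0 1 * h1 - v 0 * hd
  have e1 : (a * a - trSL M * a + 1) * v 1 = 0 := by
    unfold trSL
    linear_combination -(a - M.1 0 0) * h1 - M.1 1 0 * h0 - v 1 * hd
  by_contra hne
  exact hv (by
    ext i; fin_cases i
    · simpa [hne] using e0
    · simpa [hne] using e1)

theorem eigen_pow {M : SL(2, K)} {v : Fin 2 → K} {a : K} (h : M.1 *ᵥ v = a • v) :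
    ∀ i : ℕ, (M ^ i).1 *ᵥ v = a ^ i • v
  | 0 => by simp
  | i + 1 => by
    rw [pow_succ, Matrix.SpecialLinearGroup.coe_mul, ← Matrix.mulVec_mulVec, h, Matrix.mulVec_smul,
      eigen_pow h i, smul_smul, pow_succ']

end CfsgLib.Transfer
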