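import Cfsg.Agent.Lib.Cores.PConstrained
import Mathlib.GroupTheory.SchurZassenhaus

/-!
`p`-solubility (`Cfsg.IsPSolvable`), Hall–Higman Lemma 1.2.3, the upper `p`-series.
-/

namespace CfsgLib.Transfer

open Subgroup Cfsg
open scoped commutatorElement

variable {G H : Type*} [Group G] [Group H] {p : ℕ}

theorem isPSolvable_of_relIndex_dvd [Fact p.Prime] {n : ℕ} {A : Fin (n + 1) → Subgroup G}
    {B : Fin (n + 1) → Subgroup H} (h0 : B 0 = ⊥) (hl : B (Fin.last n) = ⊤) (hm : Monotone B)
    (hn : ∀ i, (B i).Normal)
    (hA : ∀ i : Fin n, (∃ m : ℕ, (A i.castSucc).relIndex (A i.succ) = p ^ m) ∨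
      ((A i.castSucc).relIndex (A i.succ)).Coprime p)
    (hd : ∀ i : Fin n, (B i.castSucc).relIndex (B i.succ) ∣ (A i.castSucc).relIndex (A i.succ)) :
    IsPSolvable p H := by
  refine ⟨n, B, h0, hl, hm, hn, fun i => ?_⟩
  rcases hA i with ⟨m, hm⟩ | hco
  · left
    obtain ⟨k, -, hk⟩ := (Nat.dvd_prime_pow Fact.out).1 (hm ▸ hd i)
    exact ⟨k, hk⟩
  · exact Or.inr (hco.coprime_dvd_left (hd i))

theorem relIndex_subgroupOf_dvd {A B K : Subgroup G} [A.Normal] (_hAB : A ≤ B) :
    (A.subgroupOf K).relIndex (B.subgroupOf K) ∣ A.relIndex B := by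
  have h1 : (A.subgroupOf K).relIndex (B.subgroupOf K) = A.relIndex (B ⊓ K) := by
    rw [← relIndex_map_map_of_injective _ _ K.subtype_injective, subgroupOf_map_subtype,
      subgroupOf_map_subtype]
    rw [← inf_relIndex_right, ← inf_relIndex_right A (B ⊓ K)]
    congr 1
    rw [inf_inf_inf_comm, inf_idem, inf_assoc]
  rw [h1, ← relIndex_subgroupOf (H := A) (inf_le_left : B ⊓ K ≤ B)]
  exact relIndex_dvd_index_of_normal (A.subgroupOf B) _

theorem isPSolvable_subgroup [Fact p.Prime] (h : IsPSolvable p G) (K : Subgroup G) :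
    IsPSolvable p K := by
  obtain ⟨n, A, h0, hl, hm, hn, hstep⟩ := h
  refine isPSolvable_of_relIndex_dvd (A := A) (B := fun i => (A i).subgroupOf K) ?_ ?_ ?_ ?_ hstep ?_
  · simp [h0]
  · simp [hl]
  · exact fun i j hij => comap_mono (hm hij)
  · exact fun i => (hn i).comap _
  · intro i
    have := hn i.castSucc
    exact relIndex_subgroupOf_dvd (hm (Fin.castSucc_lt_succ).le)

theorem relIndex_map_dvd {A B : Subgroup G} [A.Normal] (hAB : A ≤ B) (f : G →* H) :
    (A.map f).relIndex (B.map f) ∣ A.relIndex B := by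
  rw [relIndex_map_map]
  have h1 : (A ⊔ f.ker).relIndex (B ⊔ f.ker) = (A ⊔ f.ker).relIndex B := by
    have : B ⊔ f.ker = B ⊔ (A ⊔ f.ker) := by rw [← sup_assoc, sup_eq_left.2 hAB]
    rw [this, relIndex_sup_right]
  rw [h1]
  exact relIndex_dvd_of_le_left B le_sup_left

theorem isPSolvable_of_surjective [Fact p.Prime] (h : IsPSolvable p G) {f : G →* H}
    (hf : Function.Surjective f) : IsPSolvable p H := by
  obtain ⟨n, A, h0, hl, hm, hn, hstep⟩ := h
  refine isPSolvable_of_relIndex_dvd (A := A) (B := fun i => (A i).map f) ?_ ?_ ?_ ?_ hstep ?_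
  · simp [h0]
  · simp only [hl]
    exact map_top_of_surjective f hf
  · exact fun i j hij => map_mono (hm hij)
  · exact fun i => (hn i).map f hf
  · intro i
    have := hn i.castSucc
    exact relIndex_map_dvd (hm (Fin.castSucc_lt_succ).le) f

theorem isPSolvable_quotient [Fact p.Prime] (h : IsPSolvable p G) (N : Subgroup G) [N.Normal] :
    IsPSolvable p (G ⧸ N) :=
  isPSolvable_of_surjective h (QuotientGroup.mk'_surjective N)

theorem isPSolvable_map_subgroup [Fact p.Prime] {K : Subgroup G} (h : IsPSolvable p K) (f : G →* H) :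
    IsPSolvable p (K.map f) :=
  isPSolvable_of_surjective h (f.subgroupMap_surjective K)

/-- A `p`-soluble normal subgroup centralizing `O_p(G)` lies in `O_p(G)` when `O_{p'}(G) = 1`. -/
theorem le_pCore_of_isPSolvable_of_le_centralizer [Finite G] [Fact p.Prime]
    (hO : pPrimeCore p G = ⊥) {C : Subgroup G} [hCn : C.Normal]
    (hC : C ≤ centralizer (pCore p G : Set G)) (hsol : IsPSolvable p C) : C ≤ pCore p G := by
  obtain ⟨n, A, h0, hl, hm, hn, hstep⟩ := hsol
  suffices key : ∀ i, (A i).map C.subtype ≤ pCore p G by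
    have := key (Fin.last n)
    rwa [hl, ← MonoidHom.range_eq_map, range_subtype] at this
  intro i
  induction i using Fin.induction with
  | zero => simp [h0]
  | succ i ih =>
    have hle : A i.castSucc ≤ A i.succ := hm (Fin.castSucc_lt_succ).le
    have := hn i.castSucc
    have hsn : ((A i.succ).map C.subtype).IsSubnormal := by
      refine IsSubnormal.trans (map_subtype_le _) ?_ hCn.isSubnormal
      have : ((A i.succ).map C.subtype).subgroupOf C = A i.succ :=
        comap_map_eq_self_of_injective C.subtype_injective _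
      rw [this]
      exact (hn _).isSubnormal
    have hZp : IsPGroup p (A i.castSucc) :=
      ((Cores.isPGroup_pCore (G := G) p).to_le ih).of_equiv
        ((A i.castSucc).equivMapOfInjective C.subtype C.subtype_injective).symm
    have hcard : Nat.card (A i.castSucc) * (A i.castSucc).relIndex (A i.succ) = Nat.card (A i.succ) := by
      rw [← relIndex_bot_left, ← relIndex_bot_left (A i.succ),
        relIndex_mul_relIndex _ _ _ bot_le hle]
    obtain ⟨k, hk⟩ := IsPGroup.iff_card.1 hZp
    rcases hstep i with ⟨m, hm'⟩ | hco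
    · apply Cores.le_pCore_of_isSubnormal hsn
      apply IsPGroup.of_card (n := k + m)
      rw [card_map_of_injective C.subtype_injective, ← hcard, hk, hm', pow_add]
    · -- the lower term is a central Hall subgroup of the upper one
      set Z := (A i.castSucc).subgroupOf (A i.succ) with hZdef
      have hZc : Z ≤ center (A i.succ) := by
        intro z hz
        rw [mem_center_iff]
        intro x
        have h1 : (((x : C) : G)) * ((z : C) : G) = ((z : C) : G) * ((x : C) : G) := by
          have hz' : ((z : C) : G) ∈ pCore p G := ih ⟨_, hz, rfl⟩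
          exact (mem_centralizer_iff.1 (hC (x : C).2) _ hz').symm
        exact Subtype.ext (Subtype.ext h1)
      have hcop : (Nat.card Z).Coprime Z.index := by
        rw [Nat.card_congr (subgroupOfEquivOfLe hle).toEquiv, hk]
        exact Nat.Coprime.pow_left _ hco.symm
      obtain ⟨K, hK⟩ := exists_right_complement'_of_coprime hcop
      have hKn : K.Normal := by
        refine ⟨fun x hx g => ?_⟩
        obtain ⟨⟨z, y⟩, rfl⟩ := hK.2 g
        have hzc := mem_center_iff.1 (hZc z.2)
        simp only [mul_inv_rev]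
        have : (z : A i.succ) * (y : A i.succ) * x * ((y : A i.succ)⁻¹ * (z : A i.succ)⁻¹) =
            (y : A i.succ) * x * (y : A i.succ)⁻¹ := by
          rw [show (z : A i.succ) * (y : A i.succ) * x * ((y : A i.succ)⁻¹ * (z : A i.succ)⁻¹) =
            (z : A i.succ) * ((y : A i.succ) * x * (y : A i.succ)⁻¹) * (z : A i.succ)⁻¹ by group,
            ← hzc, mul_inv_cancel_right]
        rw [this]
        exact mul_mem (mul_mem y.2 hx) (inv_mem y.2)
      have hKco : (Nat.card K).Coprime p := by
        have h1 := hK.card_mul_card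
        rw [Nat.card_congr (subgroupOfEquivOfLe hle).toEquiv, ← hcard] at h1
        rw [Nat.eq_of_mul_eq_mul_left Nat.card_pos h1]
        exact hco
      set K' := (K.map (A i.succ).subtype).map C.subtype with hK'
      have hK'sn : K'.IsSubnormal := by
        refine IsSubnormal.trans (map_mono (map_subtype_le K)) ?_ hsn
        have : K'.subgroupOf ((A i.succ).map C.subtype) =
            K.map ((A i.succ).equivMapOfInjective C.subtype C.subtype_injective).toMonoidHom := by
          ext ⟨x, hx⟩
          simp only [hK', mem_subgroupOf, mem_map]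
          constructor
          · rintro ⟨_, ⟨y, hy, rfl⟩, hyx⟩
            exact ⟨y, hy, Subtype.ext hyx⟩
          · rintro ⟨y, hy, hyx⟩
            exact ⟨_, ⟨y, hy, rfl⟩, congrArg Subtype.val hyx⟩
        rw [this]
        exact (hKn.map _ (MulEquiv.surjective _)).isSubnormal
      have hK'bot : K' ≤ ⊥ := hO ▸ Cores.le_pPrimeCore_of_isSubnormal hK'sn (by
        rw [hK', card_map_of_injective C.subtype_injective, card_map_of_injective (A i.succ).subtype_injective]
        exact hKco)
      have hKbot : K = ⊥ := by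
        rw [le_bot_iff, hK', Subgroup.map_eq_bot_iff_of_injective _ C.subtype_injective,
          Subgroup.map_eq_bot_iff_of_injective _ (A i.succ).subtype_injective] at hK'bot
        exact hK'bot
      rw [hKbot, isComplement'_bot_right] at hK
      refine le_trans (map_mono ?_) ih
      exact subgroupOf_eq_top.1 hK

/-- Hall–Higman Lemma 1.2.3. -/
theorem centralizer_pCore_le_of_isPSolvable [Finite G] [Fact p.Prime] (h : IsPSolvable p G)
    (hO : pPrimeCore p G = ⊥) : centralizer (pCore p G : Set G) ≤ pCore p G :=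
  le_pCore_of_isPSolvable_of_le_centralizer hO le_rfl (isPSolvable_subgroup h _)

/-- `C_G(P)` is `p`-soluble for a Sylow subgroup `P` of `O_{p',p}(G)` only if `G` is `p`-constrained. -/
theorem isPConstrained_of_isPSolvable_centralizer [Finite G] [Fact p.Prime]
    (P : Sylow p ↥(pPrimePCore p G))
    (h : IsPSolvable p ↥(centralizer (((P : Subgroup ↥(pPrimePCore p G)).map
      (pPrimePCore p G).subtype : Subgroup G) : Set G))) : IsPConstrained p G := by
  rw [Cores.isPConstrained_iff]
  have key := Cores.map_mk'_centralizer_of_coprime (N := pPrimeCore p G) (P.2.map (pPrimePCore p G).subtype)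
    (Cores.coprime_card_pPrimeCore p)
  rw [Cores.map_mk'_sylow_pPrimePCore P] at key
  refine le_pCore_of_isPSolvable_of_le_centralizer (Cores.pPrimeCore_quotient_self p) le_rfl ?_
  rw [← key]
  exact isPSolvable_map_subgroup h _

/-! ### The upper `p`-series -/

theorem upperPSeries_succ_of_even (p : ℕ) (G : Type*) [Group G] {n : ℕ} (h : Even n) :
    (upperPSeries p G (n + 1)).1 =
      (pPrimeCore p (G ⧸ (upperPSeries p G n).1)).comap (QuotientGroup.mk' (upperPSeries p G n).1) := by
  rw [upperPSeries]
  simp [h]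

theorem upperPSeries_succ_of_odd (p : ℕ) (G : Type*) [Group G] {n : ℕ} (h : ¬ Even n) :
    (upperPSeries p G (n + 1)).1 =
      (pCore p (G ⧸ (upperPSeries p G n).1)).comap (QuotientGroup.mk' (upperPSeries p G n).1) := by
  rw [upperPSeries]
  simp [h]

theorem le_upperPSeries_succ (p : ℕ) (G : Type*) [Group G] (n : ℕ) :
    (upperPSeries p G n).1 ≤ (upperPSeries p G (n + 1)).1 := by
  rcases em (Even n) with h | h
  · rw [upperPSeries_succ_of_even p G h]
    exact (QuotientGroup.ker_mk' _).ge.trans (MonoidHom.ker_le_comap _ _)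
  · rw [upperPSeries_succ_of_odd p G h]
    exact (QuotientGroup.ker_mk' _).ge.trans (MonoidHom.ker_le_comap _ _)

theorem upperPSeries_mono (p : ℕ) (G : Type*) [Group G] : Monotone fun n => (upperPSeries p G n).1 :=
  monotone_nat_of_le_succ (le_upperPSeries_succ p G)

theorem map_upperPSeries_succ_of_odd (p : ℕ) (G : Type*) [Group G] {n : ℕ} (h : ¬ Even n) :
    (upperPSeries p G (n + 1)).1.map (QuotientGroup.mk' (upperPSeries p G n).1) =
      pCore p (G ⧸ (upperPSeries p G n).1) := by
  rw [upperPSeries_succ_of_odd p G h, map_comap_eq_self_of_surjective (QuotientGroup.mk'_surjective _)]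

/-- If `U` is the preimage of `O_{p'}(G/N)` then `O_{p'}(G/U) = 1`. -/
theorem pPrimeCore_quotient_eq_bot_of_eq_comap [Finite G] {N U : Subgroup G} [N.Normal] [U.Normal]
    (hU : U = (pPrimeCore p (G ⧸ N)).comap (QuotientGroup.mk' N)) :
    pPrimeCore p (G ⧸ U) = ⊥ := by
  have hNU : N ≤ U := by
    rw [hU]
    exact (QuotientGroup.ker_mk' N).ge.trans (MonoidHom.ker_le_comap _ _)
  set f : G ⧸ N →* G ⧸ U := QuotientGroup.map N U (MonoidHom.id G) (by rwa [comap_id]) with hf
  have hfs : Function.Surjective f := by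
    intro q
    obtain ⟨g, rfl⟩ := QuotientGroup.mk'_surjective U q
    exact ⟨QuotientGroup.mk' N g, rfl⟩
  have hker : f.ker = pPrimeCore p (G ⧸ N) := by
    rw [hf, QuotientGroup.ker_map, comap_id, hU,
      map_comap_eq_self_of_surjective (QuotientGroup.mk'_surjective _)]
  set M := pPrimeCore p (G ⧸ U)
  have hle : M.comap f ≤ f.ker := by
    rw [hker]
    have : (M.comap f).Normal := Normal.comap inferInstance f
    refine Cores.le_pPrimeCore ?_
    have h1 : Nat.card ↥(M.comap f) = Nat.card f.ker * Nat.card M := by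
      rw [← card_mul_index (f.ker.subgroupOf (M.comap f)),
        Nat.card_congr (subgroupOfEquivOfLe (MonoidHom.ker_le_comap f M)).toEquiv]
      congr 1
      show f.ker.relIndex (M.comap f) = _
      rw [relIndex_ker, map_comap_eq_self_of_surjective hfs]
    rw [h1, hker]
    exact (Cores.coprime_card_pPrimeCore p).mul_left (Cores.coprime_card_pPrimeCore p)
  rw [← map_comap_eq_self_of_surjective hfs M, eq_bot_iff]
  exact (map_mono hle).trans (le_of_eq ((Subgroup.map_eq_bot_iff _).2 le_rfl))

theorem pPrimeCore_quotient_upperPSeries [Finite G] (p : ℕ) {n : ℕ} (h : Even n) :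
    pPrimeCore p (G ⧸ (upperPSeries p G (n + 1)).1) = ⊥ :=
  pPrimeCore_quotient_eq_bot_of_eq_comap (upperPSeries_succ_of_even p G h)

/-- Each `p`-factor of the upper `p`-series contains its centralizer. -/
theorem centralizer_upperPSeries_factor_le [Finite G] [Fact p.Prime] (hsol : IsPSolvable p G) {n : ℕ}
    (h : Even n) :
    centralizer ((((upperPSeries p G (n + 2)).1.map (QuotientGroup.mk' (upperPSeries p G (n + 1)).1)) :
        Subgroup (G ⧸ (upperPSeries p G (n + 1)).1)) : Set (G ⧸ (upperPSeries p G (n + 1)).1)) ≤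
      (upperPSeries p G (n + 2)).1.map (QuotientGroup.mk' (upperPSeries p G (n + 1)).1) := by
  rw [map_upperPSeries_succ_of_odd p G (by simp [Nat.even_add_one, h])]
  exact centralizer_pCore_le_of_isPSolvable (isPSolvable_quotient hsol _) (pPrimeCore_quotient_upperPSeries p h)

end CfsgLib.Transfer
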