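import Cfsg.Agent.Lib.PGroup.PLength
import Cfsg.Agent.Lib.Solvable.MinimalNormal

/-!
Finite solvable groups are `p`-solvable.
-/

namespace CfsgLib.Transfer

open Cfsg Subgroup CfsgLib.PGroup

universe u

/-- The upper `p`-series of a solvable group grows every two steps. -/
theorem useries_lt_of_isSolvable {G : Type u} [Group G] [Finite G] [Group.IsSolvable G] {p : ℕ}
    [hp : Fact p.Prime] {n : ℕ} (h : useries p G n ≠ ⊤) : useries p G n < useries p G (n + 2) := by
  set U := useries p G n
  set π := QuotientGroup.mk' U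
  have : Nontrivial (G ⧸ U) := QuotientGroup.nontrivial_iff.2 h
  have : Group.IsSolvable (G ⧸ U) := Group.isSolvable_of_surjective (QuotientGroup.mk'_surjective U)
  obtain ⟨N, q, a, hN, hq, ha, -, hcard, hne, -, -⟩ :=
    CfsgLib.Solvable.exists_normal_prime_pow_card (G := G ⧸ U)
  set M := N.comap π
  have : M.Normal := hN.comap π
  have hUM : U ≤ M := fun x hx => mem_comap.2 (by
    rw [show π x = 1 from (QuotientGroup.eq_one_iff x).2 hx]; exact one_mem _)
  have hrel : U.relIndex M = q ^ a := by
    rw [relIndex_eq_card_map, map_comap_eq_self_of_surjective (QuotientGroup.mk'_surjective U), hcard]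
  have hlt : U < M := lt_of_le_of_ne hUM fun e => hne (by
    rw [← map_comap_eq_self_of_surjective (QuotientGroup.mk'_surjective U) N]
    show M.map π = ⊥
    rw [← e]
    exact QuotientGroup.map_mk'_self U)
  refine lt_of_lt_of_le hlt ?_
  have hstep : ∀ m : ℕ, (q = p ↔ ¬ Even m) → StepCond p m (q ^ a) := fun m hm =>
    ⟨fun he => (((Nat.coprime_primes hq hp.out).2 fun e => hm.1 e he).pow_left a),
      fun he => ⟨a, by rw [hm.2 he]⟩⟩
  by_cases hc : q = p ↔ ¬ Even n
  · exact (le_series_succ (n := n) (hrel ▸ hstep n hc)).trans (upperPSeries_mono p G (Nat.le_succ _))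
  · refine le_series_succ (n := n + 1) ((hstep (n + 1) ?_).of_dvd
      (hrel ▸ relIndex_dvd_of_le_left M (upperPSeries_mono p G (Nat.le_succ n))))
    rw [Nat.even_add_one]
    tauto

/-- A finite solvable group is `p`-solvable. -/
theorem isPSolvable_of_isSolvable (p : ℕ) [hp : Fact p.Prime] {G : Type u} [Group G] [Finite G]
    (hs : Group.IsSolvable G) : IsPSolvable p G := by
  have key : ∀ i, useries p G (2 * i) = ⊤ ∨ i < Nat.card ↥(useries p G (2 * i)) := by
    intro i
    induction i with
    | zero => exact Or.inr Nat.card_pos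
    | succ i ih =>
      by_cases h : useries p G (2 * i) = ⊤
      · exact Or.inl (top_le_iff.1 (h ▸ upperPSeries_mono p G (by omega)))
      refine Or.inr ?_
      have h1 := useries_lt_of_isSolvable (p := p) h
      have h2 : Nat.card ↥(useries p G (2 * i)) < Nat.card ↥(useries p G (2 * i + 2)) :=
        lt_of_le_of_ne (card_le_of_le h1.le) fun e => h1.ne (eq_of_le_of_card_ge h1.le e.ge)
      rw [show 2 * (i + 1) = 2 * i + 2 by ring]
      have := ih.resolve_left h
      omega
  have htop : useries p G (2 * Nat.card G) = ⊤ := (key _).resolve_right fun h =>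
    h.not_ge (card_le_card_group _)
  refine ⟨2 * Nat.card G, fun i => useries p G i, rfl, htop, fun i j hij => upperPSeries_mono p G hij,
    fun i => useries_normal p G i, fun i => ?_⟩
  have h := stepCond_series (p := p) (G := G) (i : ℕ)
  by_cases he : Even (i : ℕ)
  · exact Or.inr (h.1 he)
  · exact Or.inl (h.2 he)

end CfsgLib.Transfer
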