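import Cfsg.Agent.Lib.Transfer.Fusion

/-!
Frobenius' and Burnside's normal `p`-complement theorems, for `Cfsg.HasNormalPComplement`.
-/

namespace CfsgLib.Transfer

open Cfsg Subgroup
open scoped Pointwise commutatorElement

variable {G : Type*} [Group G] {p : ℕ}

/-- If a Sylow subgroup controls its own fusion there is a normal `p`-complement. -/
theorem hasNormalPComplement_of_controlsFusion [Finite G] [Fact p.Prime] (P : Sylow p G)
    (h : ControlsFusion (P : Subgroup G) (P : Subgroup G)) : HasNormalPComplement p G := by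
  rw [hasNormalPComplement_iff_inf_sylow P, inf_pResidual_eq P le_rfl h, eq_bot_iff]
  have : pResidual p (P : Subgroup G) = ⊥ := by
    rw [eq_bot_iff]
    intro x hx
    exact hom_pResidual_eq_one P.2 (pResidual p (P : Subgroup G)).subtype ⟨x, hx⟩
  rw [this, Subgroup.map_bot, inf_bot_eq]

/-- The Frobenius condition at the prime `p`: `p'`-elements normalizing a `p`-subgroup centralize
it. -/
def FrobeniusCond (p : ℕ) (G : Type*) [Group G] : Prop :=
  ∀ Q : Subgroup G, IsPGroup p Q → ∀ g ∈ normalizer (Q : Set G), (orderOf g).Coprime p →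
    g ∈ centralizer (Q : Set G)

theorem frobeniusCond_sylow [Finite G] [hp : Fact p.Prime] (h : FrobeniusCond p G)
    (D : Subgroup G) (hD : IsPGroup p D) {N : Subgroup G} (hN : N = normalizer (D : Set G))
    (S : Sylow p N) : (centralizer (D : Set G)).subgroupOf N ⊔ (S : Subgroup N) = ⊤ := by
  subst hN
  refine (eq_top_iff).2 ((pResidual_sup_sylow S).symm.le.trans (sup_le_sup_right ?_ _))
  rw [pResidual, closure_le]
  intro g hg
  exact h D hD g g.2 (by rw [orderOf_coe]; exact hg)

/-- Key step: two Sylow subgroups are conjugate by an element centralizing their intersection. -/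
theorem exists_centralizer_smul_eq [Finite G] [hp : Fact p.Prime] (h : FrobeniusCond p G)
    (P Q : Sylow p G) :
    ∃ c ∈ centralizer (((P : Subgroup G) ⊓ (Q : Subgroup G) : Subgroup G) : Set G),
      c • P = Q := by
  generalize hn : Nat.card G - Nat.card ((P : Subgroup G) ⊓ (Q : Subgroup G) : Subgroup G) = n
  induction n using Nat.strong_induction_on generalizing P Q with
  | _ n ih =>
  set D : Subgroup G := (P : Subgroup G) ⊓ (Q : Subgroup G) with hD
  by_cases hPQ : P = Q
  · exact ⟨1, one_mem _, by rw [hPQ, one_smul]⟩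
  have hlt : ∀ (R : Sylow p G), D ≤ (R : Subgroup G) → D ≠ (R : Subgroup G) →
      D < (R : Subgroup G) ⊓ normalizer (D : Set G) := by
    intro R hle hne
    have : Group.IsNilpotent (R : Subgroup G) := R.2.isNilpotent
    have h1 := Group.normalizerCondition_of_isNilpotent (G := (R : Subgroup G))
      (D.subgroupOf (R : Subgroup G))
      (lt_top_iff_ne_top.2 fun ht => hne (le_antisymm hle (subgroupOf_eq_top.1 ht)))
    obtain ⟨x, hx, hx'⟩ := SetLike.exists_of_lt h1
    refine lt_of_le_not_ge (le_inf hle le_normalizer) fun hge => hx' ?_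
    refine hge ⟨x.2, mem_normalizer_iff.2 fun d => ?_⟩
    have := mem_normalizer_iff.1 hx
    constructor
    · intro hd
      exact (this ⟨d, hle hd⟩).1 hd
    · intro hd
      have hdR : d ∈ (R : Subgroup G) := by
        have := mul_mem (mul_mem (inv_mem x.2) (hle hd)) x.2
        simpa [mul_assoc] using this
      exact (this ⟨d, hdR⟩).2 hd
  have hDP : D ≠ (P : Subgroup G) := fun e => hPQ
    (Sylow.ext (P.3 Q.2 (e ▸ inf_le_right)).symm)
  have hDQ : D ≠ (Q : Subgroup G) := fun e => hPQ
    (Sylow.ext (Q.3 P.2 (e ▸ inf_le_left)))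
  have hP1 := hlt P inf_le_left hDP
  have hQ1 := hlt Q inf_le_right hDQ
  set N := normalizer (D : Set G) with hN
  have hpN : ∀ R : Sylow p G, IsPGroup p (((R : Subgroup G) ⊓ N).subgroupOf N) := fun R =>
    (R.2.to_le inf_le_left).of_equiv (subgroupOfEquivOfLe inf_le_right).symm
  obtain ⟨S, hS⟩ := (hpN P).exists_le_sylow
  obtain ⟨T, hT⟩ := (hpN Q).exists_le_sylow
  -- a conjugating element in `C(D)`
  obtain ⟨m, hm⟩ := MulAction.exists_smul_eq N S T
  have hmem : m ∈ (centralizer (D : Set G)).subgroupOf N ⊔ (S : Subgroup N) :=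
    frobeniusCond_sylow h D (P.2.to_le inf_le_left) hN S ▸ mem_top m
  have : ((centralizer (D : Set G)).subgroupOf N).Normal := by
    refine ⟨fun c hc g => ?_⟩
    rw [mem_subgroupOf, mem_centralizer_iff] at hc ⊢
    intro d hd
    have := hc _ ((mem_normalizer_iff''.1 g.2 d).1 hd)
    calc d * ((g : G) * c * (g : G)⁻¹)
        = g * ((g : G)⁻¹ * d * g * c) * (g : G)⁻¹ := by group
      _ = g * (c * ((g : G)⁻¹ * d * g)) * (g : G)⁻¹ := by rw [this]
      _ = (g : G) * c * (g : G)⁻¹ * d := by group
  rw [← SetLike.mem_coe, normal_mul] at hmem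
  obtain ⟨c, hc, s, hs, rfl⟩ := hmem
  rw [mul_smul, Sylow.smul_eq_iff_mem_normalizer.2 (le_normalizer hs)] at hm
  obtain ⟨R, hR⟩ := (S.2.map N.subtype).exists_le_sylow
  have hPR : D < (P : Subgroup G) ⊓ (R : Subgroup G) := hP1.trans_le (le_inf inf_le_left
    fun x hx => hR ⟨⟨x, hx.2⟩, hS hx, rfl⟩)
  have hQR : D < (((c : G) • R : Sylow p G) : Subgroup G) ⊓ (Q : Subgroup G) := hQ1.trans_le (le_inf (by
    intro x hx
    rw [Sylow.coe_subgroup_smul, mem_pointwise_smul_iff_inv_smul_mem]
    refine hR ?_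
    have hxT : (⟨x, hx.2⟩ : N) ∈ (T : Subgroup N) := hT hx
    rw [← hm, Sylow.coe_subgroup_smul, mem_pointwise_smul_iff_inv_smul_mem] at hxT
    exact ⟨_, hxT, by simp⟩) inf_le_left)
  have hcard : ∀ {E : Subgroup G}, D < E → Nat.card G - Nat.card E < n := by
    intro E hE
    have h1 : Nat.card D < Nat.card E := lt_of_le_of_ne (card_le_of_le hE.le) fun e =>
      hE.ne (eq_of_le_of_card_ge hE.le e.ge)
    have h2 := card_le_card_group E
    omega
  obtain ⟨a, ha, haR⟩ := ih _ (hcard hPR) P R rfl
  obtain ⟨b, hb, hbQ⟩ := ih _ (hcard hQR) ((c : G) • R) Q rfl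
  exact ⟨b * c * a, mul_mem (mul_mem (centralizer_le hQR.le hb) hc) (centralizer_le hPR.le ha),
    by rw [mul_smul, mul_smul, haR, hbQ]⟩

/-- The Frobenius normal `p`-complement theorem. -/
theorem hasNormalPComplement_of_frobeniusCond [Finite G] [hp : Fact p.Prime]
    (h : FrobeniusCond p G) : HasNormalPComplement p G := by
  obtain ⟨P⟩ : Nonempty (Sylow p G) := inferInstance
  refine hasNormalPComplement_of_controlsFusion P fun x hx g hg => ?_
  obtain ⟨c, hc, hcQ⟩ := exists_centralizer_smul_eq h (g • P) P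
  have hxg : g * x * g⁻¹ ∈ ((g • P : Sylow p G) : Subgroup G) := by
    rw [Sylow.coe_subgroup_smul]
    exact smul_mem_pointwise_smul x (MulAut.conj g) _ hx
  have hcomm := mem_centralizer_iff.1 hc _ ⟨hxg, hg⟩
  rw [← mul_smul, Sylow.smul_eq_iff_mem_normalizer] at hcQ
  set n := c * g with hn
  have hnx : n * x * n⁻¹ = g * x * g⁻¹ := by
    calc c * g * x * (c * g)⁻¹ = c * (g * x * g⁻¹) * c⁻¹ := by group
      _ = g * x * g⁻¹ * c * c⁻¹ := by rw [hcomm]
      _ = _ := by group
  -- `n` acts on `P` as an element of `P`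
  have hsup := frobeniusCond_sylow h (P : Subgroup G) P.2 rfl
    (P.subtype (le_normalizer (H := (P : Subgroup G))))
  have hmem : (⟨n, hcQ⟩ : normalizer ((P : Subgroup G) : Set G)) ∈
      (P : Subgroup G).subgroupOf _ ⊔ (centralizer ((P : Subgroup G) : Set G)).subgroupOf _ := by
    rw [Sylow.coe_subtype, sup_comm] at hsup
    rw [hsup]
    exact mem_top _
  rw [← SetLike.mem_coe, normal_mul] at hmem
  obtain ⟨s, hs, d, hd, hsd⟩ := hmem
  refine ⟨s, hs, ?_⟩
  have hdx : x * (d : G) = d * x := mem_centralizer_iff.1 hd x hx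
  rw [← hnx, show n = (s : G) * d from congrArg Subtype.val hsd.symm]
  calc (s : G) * x * (s : G)⁻¹ = (s : G) * (x * d) * (d : G)⁻¹ * (s : G)⁻¹ := by group
    _ = (s : G) * (d * x) * (d : G)⁻¹ * (s : G)⁻¹ := by rw [hdx]
    _ = _ := by group

theorem frobeniusCond_of_hasNormalPComplement [Finite G] [Fact p.Prime]
    (h : HasNormalPComplement p G) : FrobeniusCond p G :=
  fun _ hQ _ hgn hg => mem_centralizer_of_hasNormalPComplement h hQ hgn hg

/-- Burnside's normal `p`-complement theorem. -/
theorem hasNormalPComplement_of_normalizer_le_centralizer [Finite G] [Fact p.Prime]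
    (P : Sylow p G) (h : normalizer (P : Set G) ≤ centralizer (P : Set G)) :
    HasNormalPComplement p G :=
  ⟨P, _, MonoidHom.normal_ker _, MonoidHom.ker_transferSylow_isComplement' P h⟩

/-- An abelian Sylow subgroup centralized by every `p'`-element of its normalizer has a normal
complement. -/
theorem hasNormalPComplement_of_abelian_sylow [Finite G] [hp : Fact p.Prime] (P : Sylow p G)
    (hP : IsMulCommutative P)
    (h : ∀ g ∈ normalizer (P : Set G), (orderOf g).Coprime p → g ∈ centralizer (P : Set G)) :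
    HasNormalPComplement p G := by
  refine hasNormalPComplement_of_normalizer_le_centralizer P fun g hg => ?_
  have hPC : (P : Subgroup G) ≤ centralizer (P : Set G) := @le_centralizer _ _ _ hP
  have hle : (⊤ : Subgroup (normalizer (P : Set G))) ≤
      (centralizer (P : Set G)).subgroupOf (normalizer (P : Set G)) := by
    rw [← pResidual_sup_sylow (P.subtype (le_normalizer (H := (P : Subgroup G))))]
    refine sup_le ?_ ?_
    · rw [pResidual, closure_le]
      exact fun x hx => h x x.2 (by rw [orderOf_coe]; exact hx)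
    · rw [Sylow.coe_subtype]
      exact fun x hx => hPC hx
  exact hle (mem_top (⟨g, hg⟩ : normalizer (P : Set G)))

end CfsgLib.Transfer
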