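import Cfsg.Prelude.Def_Transfer
import Mathlib.GroupTheory.Focal
import Mathlib.GroupTheory.Nilpotent

/-!
Basic facts on `Cfsg.pResidual` and `Cfsg.HasNormalPComplement`.
-/

namespace CfsgLib.Transfer

open Cfsg Subgroup

variable {G : Type*} [Group G] {p : ℕ}

theorem mem_pResidual_of_coprime {g : G} (h : Nat.Coprime (orderOf g) p) : g ∈ pResidual p G :=
  subset_closure h

theorem map_pResidual_le {H : Type*} [Group H] (φ : G →* H) :
    (pResidual p G).map φ ≤ pResidual p H := by
  rw [map_le_iff_le_comap, pResidual, closure_le]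
  intro g hg
  exact mem_pResidual_of_coprime
    (Nat.Coprime.coprime_dvd_left (orderOf_map_dvd φ g) hg)

theorem map_subtype_pResidual_le (H : Subgroup G) :
    (pResidual p H).map H.subtype ≤ pResidual p G := map_pResidual_le _

theorem pResidual_characteristic : (pResidual p G).Characteristic :=
  characteristic_iff_map_le.2 fun φ => map_pResidual_le φ.toMonoidHom

instance pResidual_normal_inst : (pResidual p G).Normal :=
  @normal_of_characteristic _ _ _ pResidual_characteristic

theorem eq_one_of_coprime_of_isPGroup [Fact p.Prime] {A : Type*} [Group A] (hA : IsPGroup p A)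
    {a : A} (ha : Nat.Coprime (orderOf a) p) : a = 1 := by
  obtain ⟨k, hk⟩ := IsPGroup.iff_orderOf.1 hA a
  rw [← orderOf_eq_one_iff]
  exact Nat.Coprime.eq_one_of_dvd (ha.pow_right k) (hk ▸ dvd_refl _)

theorem pResidual_le [Fact p.Prime] {N : Subgroup G} [N.Normal] (h : IsPGroup p (G ⧸ N)) :
    pResidual p G ≤ N := by
  rw [pResidual, closure_le]
  intro g hg
  rw [SetLike.mem_coe, ← QuotientGroup.eq_one_iff]
  exact eq_one_of_coprime_of_isPGroup h
    (Nat.Coprime.coprime_dvd_left (orderOf_map_dvd (QuotientGroup.mk' N) g) hg)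

theorem pResidual_le_ker [Fact p.Prime] {A : Type*} [Group A] (hA : IsPGroup p A) (φ : G →* A) :
    pResidual p G ≤ φ.ker := by
  rw [pResidual, closure_le]
  intro g hg
  exact eq_one_of_coprime_of_isPGroup hA
    (Nat.Coprime.coprime_dvd_left (orderOf_map_dvd φ g) hg)

theorem isPGroup_quotient_pResidual [Finite G] [hp : Fact p.Prime] :
    IsPGroup p (G ⧸ pResidual p G) := by
  intro x
  induction x using QuotientGroup.induction_on with
  | H g =>
    refine ⟨(orderOf g).factorization p, ?_⟩
    rw [← QuotientGroup.mk_pow, QuotientGroup.eq_one_iff]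
    refine mem_pResidual_of_coprime ?_
    rw [orderOf_pow_of_dvd (pow_ne_zero _ hp.out.ne_zero) (Nat.ordProj_dvd _ _)]
    exact (Nat.coprime_ordCompl hp.out (orderOf_pos g).ne').symm

theorem index_pResidual [Finite G] [Fact p.Prime] : ∃ k, (pResidual p G).index = p ^ k :=
  IsPGroup.iff_card.1 isPGroup_quotient_pResidual

/-- Every homomorphism from `O^p(G)` to a `p`-group is trivial. -/
theorem hom_pResidual_eq_one [Fact p.Prime] {A : Type*} [Group A] (hA : IsPGroup p A)
    (φ : pResidual p G →* A) (x : pResidual p G) : φ x = 1 := by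
  obtain ⟨x, hx⟩ := x
  induction hx using closure_induction with
  | mem g hg =>
    refine eq_one_of_coprime_of_isPGroup hA
      (Nat.Coprime.coprime_dvd_left (orderOf_map_dvd φ _) ?_)
    rw [← orderOf_coe]
    exact hg
  | one => exact map_one φ
  | mul a b ha hb iha ihb =>
    rw [show (⟨a * b, mul_mem ha hb⟩ : pResidual p G) = ⟨a, ha⟩ * ⟨b, hb⟩ from rfl, map_mul,
      iha, ihb, mul_one]
  | inv a ha iha =>
    rw [show (⟨a⁻¹, inv_mem ha⟩ : pResidual p G) = (⟨a, ha⟩)⁻¹ from rfl, map_inv, iha, inv_one]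

theorem coprime_of_not_dvd [hp : Fact p.Prime] {n : ℕ} (h : ¬ p ∣ n) : n.Coprime p :=
  (hp.out.coprime_iff_not_dvd.2 h).symm

theorem not_dvd_of_coprime [hp : Fact p.Prime] {n : ℕ} (h : n.Coprime p) : ¬ p ∣ n :=
  hp.out.coprime_iff_not_dvd.1 h.symm

theorem eq_one_of_coprime_of_pow [hp : Fact p.Prime] {n : ℕ} (h : n.Coprime p) {k : ℕ}
    (hd : n ∣ p ^ k) : n = 1 :=
  Nat.Coprime.eq_one_of_dvd (h.pow_right k) hd

/-- A normal subgroup of `p`-power index together with a Sylow `p`-subgroup generates `G`. -/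
theorem sup_sylow_eq_top [Finite G] [Fact p.Prime] (P : Sylow p G) {N : Subgroup G} {k : ℕ}
    (h : N.index = p ^ k) : N ⊔ (P : Subgroup G) = ⊤ := by
  rw [← index_eq_one]
  refine eq_one_of_coprime_of_pow (p := p) (k := k) ?_ ?_
  swap
  · rw [← h]; exact index_dvd_of_le le_sup_left
  exact Nat.Coprime.coprime_dvd_left (index_dvd_of_le le_sup_right)
    (coprime_of_not_dvd P.not_dvd_index)

theorem pResidual_sup_sylow [Finite G] [Fact p.Prime] (P : Sylow p G) :
    pResidual p G ⊔ (P : Subgroup G) = ⊤ := by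
  obtain ⟨k, hk⟩ := index_pResidual (G := G) (p := p)
  exact sup_sylow_eq_top P hk

theorem sylow_relIndex_eq_index [Finite G] (P : Sylow p G) {N : Subgroup G} [N.Normal]
    (h : N ⊔ (P : Subgroup G) = ⊤) : (P : Subgroup G).relIndex N = (P : Subgroup G).index := by
  have h1 : N.relIndex (P : Subgroup G) = N.index := by
    rw [← relIndex_sup_right, sup_comm, h, relIndex_top_right]
  have e1 := relIndex_mul_relIndex (⊥ : Subgroup G) _ _ bot_le
    (inf_le_left : N ⊓ (P : Subgroup G) ≤ N)
  have e2 := relIndex_mul_relIndex (⊥ : Subgroup G) _ _ bot_le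
    (inf_le_right : N ⊓ (P : Subgroup G) ≤ (P : Subgroup G))
  rw [relIndex_bot_left, relIndex_bot_left, inf_relIndex_left] at e1
  rw [relIndex_bot_left, relIndex_bot_left, inf_relIndex_right, h1] at e2
  have hpos : 0 < Nat.card (N ⊓ (P : Subgroup G) : Subgroup G) * N.index :=
    Nat.mul_pos Nat.card_pos (Nat.pos_of_ne_zero index_ne_zero_of_finite)
  refine Nat.eq_of_mul_eq_mul_left hpos ?_
  calc Nat.card (N ⊓ (P : Subgroup G) : Subgroup G) * N.index * (P : Subgroup G).relIndex N
      = Nat.card (N ⊓ (P : Subgroup G) : Subgroup G) * (P : Subgroup G).relIndex N * N.index := by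
        ring
    _ = Nat.card G := by rw [e1, card_mul_index]
    _ = Nat.card (N ⊓ (P : Subgroup G) : Subgroup G) * N.index * (P : Subgroup G).index := by
        rw [e2, card_mul_index]

/-! ### Normal `p`-complements -/

theorem isComplement'_sylow [Finite G] [hp : Fact p.Prime] (P : Sylow p G) {N : Subgroup G}
    (hc : (Nat.card N).Coprime p) {k : ℕ} (hk : N.index = p ^ k) :
    N.IsComplement' (P : Subgroup G) := by
  obtain ⟨a, ha⟩ := IsPGroup.iff_card.1 P.2
  have hcard : Nat.card N * Nat.card (P : Subgroup G) = Nat.card G := by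
    have hak : a = k := by
      have h1 : p ^ k ∣ Nat.card (P : Subgroup G) :=
        P.pow_dvd_card_of_pow_dvd_card (hk ▸ index_dvd_card N)
      have h2 : p ^ a ∣ Nat.card N * p ^ k :=
        hk ▸ card_mul_index N ▸ ha ▸ card_subgroup_dvd_card _
      exact le_antisymm
        ((Nat.pow_dvd_pow_iff_le_right hp.out.one_lt).1
          ((hc.symm.pow_left a).dvd_of_dvd_mul_left h2))
        ((Nat.pow_dvd_pow_iff_le_right hp.out.one_lt).1 (ha ▸ h1))
    rw [ha, hak, ← hk, card_mul_index]
  exact isComplement'_of_coprime hcard (ha ▸ hc.pow_right a)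

theorem coprime_card_of_isComplement' [Finite G] [Fact p.Prime] (P : Sylow p G) {N : Subgroup G}
    (h : N.IsComplement' (P : Subgroup G)) : (Nat.card N).Coprime p :=
  h.index_eq_card ▸ coprime_of_not_dvd P.not_dvd_index

theorem index_of_isComplement' [Finite G] [Fact p.Prime] (P : Sylow p G) {N : Subgroup G}
    (h : N.IsComplement' (P : Subgroup G)) : ∃ k, N.index = p ^ k :=
  h.symm.index_eq_card ▸ IsPGroup.iff_card.1 P.2

theorem hasNormalPComplement_of [Finite G] [Fact p.Prime] {N : Subgroup G} (hN : N.Normal)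
    (hc : (Nat.card N).Coprime p) {k : ℕ} (hk : N.index = p ^ k) :
    HasNormalPComplement p G :=
  ⟨default, N, hN, isComplement'_sylow default hc hk⟩

theorem hasNormalPComplement_iff [Finite G] [Fact p.Prime] :
    HasNormalPComplement p G ↔
      ∃ N : Subgroup G, N.Normal ∧ (Nat.card N).Coprime p ∧ ∃ k, N.index = p ^ k :=
  ⟨fun ⟨P, N, hN, h⟩ => ⟨N, hN, coprime_card_of_isComplement' P h, index_of_isComplement' P h⟩,
    fun ⟨_, hN, hc, _, hk⟩ => hasNormalPComplement_of hN hc hk⟩

theorem hasNormalPComplement_iff_sylow [Finite G] [Fact p.Prime] (P : Sylow p G) :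
    HasNormalPComplement p G ↔ ∃ N : Subgroup G, N.Normal ∧ N.IsComplement' (P : Subgroup G) := by
  rw [hasNormalPComplement_iff]
  exact ⟨fun ⟨N, hN, hc, k, hk⟩ => ⟨N, hN, isComplement'_sylow P hc hk⟩,
    fun ⟨N, hN, h⟩ => ⟨N, hN, coprime_card_of_isComplement' P h, index_of_isComplement' P h⟩⟩

theorem hasNormalPComplement_iff_pResidual [Finite G] [Fact p.Prime] :
    HasNormalPComplement p G ↔ (Nat.card (pResidual p G)).Coprime p := by
  rw [hasNormalPComplement_iff]
  constructor
  · rintro ⟨N, hN, hc, k, hk⟩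
    exact Nat.Coprime.coprime_dvd_left
      (card_dvd_of_le (pResidual_le (IsPGroup.of_card (show Nat.card (G ⧸ N) = p ^ k from hk)))) hc
  · intro h
    exact ⟨pResidual p G, inferInstance, h, index_pResidual⟩

theorem hasNormalPComplement_iff_inf_sylow [Finite G] [hp : Fact p.Prime] (P : Sylow p G) :
    HasNormalPComplement p G ↔ (P : Subgroup G) ⊓ pResidual p G = ⊥ := by
  rw [hasNormalPComplement_iff_pResidual]
  constructor
  · intro h
    obtain ⟨a, ha⟩ := IsPGroup.iff_card.1 P.2
    exact disjoint_iff.1 (disjoint_of_coprime_natCard (ha ▸ (h.pow_right a).symm))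
  · intro h
    refine coprime_of_not_dvd fun hd => ?_
    obtain ⟨⟨x, hx⟩, ho⟩ := exists_prime_orderOf_dvd_card' (G := pResidual p G) p hd
    rw [orderOf_mk] at ho
    have hzp : IsPGroup p (zpowers x) :=
      IsPGroup.of_card (n := 1) (by rw [Nat.card_zpowers, ho, pow_one])
    obtain ⟨Q, hQ⟩ := hzp.exists_le_sylow
    obtain ⟨g, hg⟩ := MulAction.exists_smul_eq G Q P
    have hmem : g * x * g⁻¹ ∈ (P : Subgroup G) := by
      rw [← hg, Sylow.coe_subgroup_smul]
      exact smul_mem_pointwise_smul _ (MulAut.conj g) _ (hQ (mem_zpowers x))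
    have h1 : g * x * g⁻¹ ∈ (P : Subgroup G) ⊓ pResidual p G :=
      ⟨hmem, pResidual_normal_inst.conj_mem x hx g⟩
    rw [h, mem_bot, conj_eq_one_iff] at h1
    subst h1
    rw [orderOf_one] at ho
    exact hp.out.one_lt.ne ho

/-- A normal `p`-complement is the set of elements of order prime to `p`. -/
theorem mem_iff_coprime_orderOf [Finite G] [Fact p.Prime] {N : Subgroup G} [N.Normal]
    (hc : (Nat.card N).Coprime p) {k : ℕ} (hk : N.index = p ^ k) (x : G) :
    x ∈ N ↔ (orderOf x).Coprime p :=
  ⟨fun hx => Nat.Coprime.coprime_dvd_left (orderOf_dvd_natCard N hx) hc,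
    fun hx => pResidual_le (IsPGroup.of_card (show Nat.card (G ⧸ N) = p ^ k from hk))
      (mem_pResidual_of_coprime hx)⟩

theorem hasNormalPComplement_of_isPGroup [Finite G] [Fact p.Prime] (h : IsPGroup p G) :
    HasNormalPComplement p G :=
  hasNormalPComplement_of (N := ⊥) inferInstance (by simp)
    (k := (IsPGroup.iff_card.1 h).choose)
    (by rw [index_bot]; exact (IsPGroup.iff_card.1 h).choose_spec)

theorem hasNormalPComplement_of_injective [Finite G] [Fact p.Prime] {H : Type*} [Group H]
    (φ : H →* G) (hφ : Function.Injective φ) (h : HasNormalPComplement p G) :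
    HasNormalPComplement p H := by
  have : Finite H := Finite.of_injective φ hφ
  rw [hasNormalPComplement_iff_pResidual] at h ⊢
  refine Nat.Coprime.coprime_dvd_left ?_ h
  rw [← card_map_of_injective hφ]
  exact card_dvd_of_le (map_pResidual_le φ)

theorem hasNormalPComplement_subgroup [Finite G] [Fact p.Prime] (h : HasNormalPComplement p G)
    (H : Subgroup G) : HasNormalPComplement p H :=
  hasNormalPComplement_of_injective H.subtype H.subtype_injective h

theorem map_pResidual_of_surjective [Finite G] [Fact p.Prime] {H : Type*} [Group H]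
    (φ : G →* H) (hφ : Function.Surjective φ) :
    (pResidual p G).map φ = pResidual p H := by
  refine le_antisymm (map_pResidual_le φ) ?_
  have : Finite H := Finite.of_surjective φ hφ
  have : ((pResidual p G).map φ).Normal := pResidual_normal_inst.map φ hφ
  refine pResidual_le ?_
  obtain ⟨k, hk⟩ := index_pResidual (G := G) (p := p)
  obtain ⟨j, -, hj⟩ := (Nat.dvd_prime_pow (Fact.out : p.Prime)).1
    (hk ▸ index_map_dvd (pResidual p G) hφ)
  exact IsPGroup.of_card (n := j) hj

theorem hasNormalPComplement_of_surjective [Finite G] [Fact p.Prime] {H : Type*} [Group H]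
    (φ : G →* H) (hφ : Function.Surjective φ) (h : HasNormalPComplement p G) :
    HasNormalPComplement p H := by
  have : Finite H := Finite.of_surjective φ hφ
  rw [hasNormalPComplement_iff_pResidual] at h ⊢
  rw [← map_pResidual_of_surjective φ hφ]
  exact Nat.Coprime.coprime_dvd_left (card_map_dvd (pResidual p G) φ) h

theorem hasNormalPComplement_congr [Finite G] [Fact p.Prime] {H : Type*} [Group H] (e : G ≃* H) :
    HasNormalPComplement p G ↔ HasNormalPComplement p H :=
  have : Finite H := Finite.of_surjective e e.surjective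
  ⟨hasNormalPComplement_of_surjective e.toMonoidHom e.surjective,
    hasNormalPComplement_of_surjective e.symm.toMonoidHom e.symm.surjective⟩

/-- In a group with a normal `p`-complement, an element of order prime to `p` normalising a
`p`-subgroup centralises it. -/
theorem mem_centralizer_of_hasNormalPComplement [Finite G] [Fact p.Prime]
    (h : HasNormalPComplement p G) {Q : Subgroup G} (hQ : IsPGroup p Q) {g : G}
    (hgQ : g ∈ normalizer (Q : Set G)) (hg : (orderOf g).Coprime p) :
    g ∈ centralizer (Q : Set G) := by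
  rw [mem_centralizer_iff]
  intro x hx
  obtain ⟨a, ha⟩ := IsPGroup.iff_card.1 hQ
  have hbot : Q ⊓ pResidual p G = ⊥ :=
    disjoint_iff.1 <| disjoint_of_coprime_natCard
      (ha ▸ ((hasNormalPComplement_iff_pResidual.1 h).pow_right a).symm)
  have hmem : x * g * x⁻¹ * g⁻¹ ∈ Q ⊓ pResidual p G := by
    refine ⟨?_, (pResidual p G).mul_mem
      (pResidual_normal_inst.conj_mem g (mem_pResidual_of_coprime hg) x)
      ((pResidual p G).inv_mem (mem_pResidual_of_coprime hg))⟩
    have := ((mem_normalizer_iff.1 hgQ) x⁻¹).1 (Q.inv_mem hx)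
    rw [show x * g * x⁻¹ * g⁻¹ = x * (g * x⁻¹ * g⁻¹) by group]
    exact Q.mul_mem hx this
  rw [hbot, mem_bot, mul_inv_eq_one, mul_inv_eq_iff_eq_mul] at hmem
  exact hmem

end CfsgLib.Transfer
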