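import Cfsg.Agent.Lib.PGroup.Basic
import Cfsg.Agent.Lib.PGroup.ElemAbelian
import Mathlib.GroupTheory.Frattini

/-!
Critical subgroups of `p`-groups and the automorphisms fixing them.
-/

namespace CfsgLib.Transfer

open Cfsg Subgroup
open scoped commutatorElement

variable {G : Type*} [Group G] {p : ℕ}

/-- A normal subgroup with elementary abelian quotient contains the Frattini subgroup. -/
theorem frattini_le_of_commutator_pow [Finite G] [hp : Fact p.Prime] (N : Subgroup G)
    (hc : ∀ a b : G, ⁅a, b⁆ ∈ N) (hpow : ∀ a : G, a ^ p ∈ N) : frattini G ≤ N := by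
  intro g hg
  by_contra hgN
  obtain ⟨M, hM, hMmax⟩ := Finite.exists_le_maximal
    (p := fun M : Subgroup G => N ≤ M ∧ g ∉ M) (a := N) ⟨le_rfl, hgN⟩
  have hMn : M.Normal := ⟨fun m hm a => by
    rw [show a * m * a⁻¹ = ⁅a, m⁆ * m by rw [commutatorElement_def]; group]
    exact M.mul_mem (hMmax.1.1 (hc a m)) hm⟩
  refine hMmax.1.2 (frattini_le_coatom (K := M) ⟨fun h => hMmax.1.2 (h ▸ mem_top g), ?_⟩ hg)
  intro L hL
  have hgL : g ∈ L := by
    by_contra hgL
    exact hL.not_ge (hMmax.2 ⟨hMmax.1.1.trans hL.le, hgL⟩ hL.le)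
  refine eq_top_iff.2 fun a _ => ?_
  by_cases haM : a ∈ M
  · exact hL.le haM
  have hga : g ∈ M ⊔ zpowers a := by
    by_contra h
    exact haM (hMmax.2 ⟨hMmax.1.1.trans le_sup_left, h⟩ le_sup_left
      (mem_sup_right (mem_zpowers a)))
  rw [← SetLike.mem_coe, normal_mul, Set.mem_mul] at hga
  obtain ⟨m, hm, _, ⟨i, rfl⟩, hmi⟩ := hga
  change m * a ^ i = g at hmi
  have hap : a ^ (p : ℤ) ∈ M := by rw [zpow_natCast]; exact hMmax.1.1 (hpow a)
  have hai : a ^ i ∈ L := by
    rw [show a ^ i = m⁻¹ * g by rw [← hmi]; group]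
    exact L.mul_mem (L.inv_mem (hL.le hm)) hgL
  by_cases hpi : (p : ℤ) ∣ i
  · obtain ⟨k, rfl⟩ := hpi
    refine absurd ?_ hMmax.1.2
    rw [← hmi, zpow_mul]
    exact M.mul_mem hm (M.zpow_mem hap k)
  · obtain ⟨u, v, huv⟩ := ((Nat.prime_iff_prime_int.1 hp.out).coprime_iff_not_dvd.2 hpi)
    rw [show a = (a ^ (p : ℤ)) ^ u * (a ^ i) ^ v by
      rw [← zpow_mul, ← zpow_mul, ← zpow_add, mul_comm _ u, mul_comm i v, huv, zpow_one]]
    exact L.mul_mem (L.zpow_mem (hL.le hap) u) (L.zpow_mem hai v)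

/-- Thompson's critical subgroup: a characteristic `H` with `[H, G] ≤ Z(H)`, `H^p ≤ Z(H)` and
`C_G(H) ≤ H`. -/
theorem exists_critical [Finite G] [hp : Fact p.Prime] (hG : IsPGroup p G) :
    ∃ H : Subgroup G, H.Characteristic ∧
      (∀ x ∈ H, x ^ p ∈ H ⊓ centralizer (H : Set G)) ∧
      ⁅H, (⊤ : Subgroup G)⁆ ≤ H ⊓ centralizer (H : Set G) ∧
      centralizer (H : Set G) ≤ H := by
  obtain ⟨D, -, ⟨hDc, hDa⟩, hDmax⟩ := Finite.exists_le_maximal
    (p := fun D : Subgroup G => D.Characteristic ∧ IsMulCommutative D) (a := ⊥)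
    ⟨inferInstance, inferInstance⟩
  have hDn : D.Normal := inferInstance
  let C := centralizer (D : Set G)
  have hDC : D ≤ C := le_centralizer (H := D)
  let π := QuotientGroup.mk' D
  let H : Subgroup G := C ⊓ (omegaOne p (center (G ⧸ D))).comap π
  have hcen : ∀ g : G, π g ∈ center (G ⧸ D) ↔ ∀ y : G, ⁅g, y⁆ ∈ D := by
    intro g
    rw [mem_center_iff]
    constructor
    · intro h y
      rw [← QuotientGroup.eq_one_iff]
      show π ⁅g, y⁆ = 1
      rw [map_commutatorElement, commutatorElement_eq_one_iff_mul_comm]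
      exact (h (π y)).symm
    · intro h z
      obtain ⟨y, rfl⟩ := QuotientGroup.mk'_surjective D z
      have : π ⁅g, y⁆ = 1 := (QuotientGroup.eq_one_iff _).2 (h y)
      rw [map_commutatorElement, commutatorElement_eq_one_iff_mul_comm] at this
      exact this.symm
  have hmem : ∀ g, g ∈ H ↔ g ∈ C ∧ (∀ y, ⁅g, y⁆ ∈ D) ∧ g ^ p ∈ D := by
    intro g
    rw [mem_inf, mem_comap, PGroup.mem_omegaOne_iff_of_comm
      (fun a ha b _ => (mem_center_iff.1 ha b).symm), hcen, ← map_pow]
    exact and_congr_right fun _ => and_congr_right fun _ => QuotientGroup.eq_one_iff _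
  have hDH : D ≤ H := fun d hd => (hmem d).2
    ⟨hDC hd, fun y => commutator_le_left D ⊤ (commutator_mem_commutator hd (mem_top y)),
      D.pow_mem hd p⟩
  have hHc : H.Characteristic := by
    rw [characteristic_iff_map_le]
    rintro φ _ ⟨g, hg, rfl⟩
    obtain ⟨h1, h2, h3⟩ := (hmem g).1 hg
    have hC : C.Characteristic := inferInstanceAs (centralizer (D : Set G)).Characteristic
    have hφD : ∀ d ∈ D, φ d ∈ D := fun d hd =>
      characteristic_iff_map_le.1 hDc φ ⟨d, hd, rfl⟩
    refine (hmem _).2 ⟨characteristic_iff_map_le.1 hC φ ⟨g, h1, rfl⟩, fun y => ?_, ?_⟩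
    · obtain ⟨y, rfl⟩ := φ.surjective y
      show ⁅φ g, φ y⁆ ∈ D
      rw [← map_commutatorElement]
      exact hφD _ (h2 y)
    · show (φ g) ^ p ∈ D
      rw [← map_pow]
      exact hφD _ h3
  -- the centre of `H` is `D`
  have hZ : H ⊓ centralizer (H : Set G) ≤ D := by
    have hch : (H ⊓ centralizer (H : Set G)).Characteristic := by
      rw [characteristic_iff_map_le]
      intro φ
      refine (map_inf_le _ _ _).trans (inf_le_inf (characteristic_iff_map_le.1 hHc φ) ?_)
      exact characteristic_iff_map_le.1 inferInstance φ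
    refine hDmax ⟨hch, ⟨⟨fun a b => Subtype.ext ?_⟩⟩⟩ (le_inf hDH fun d hd => ?_)
    · exact (mem_centralizer_iff.1 b.2.2 a a.2.1)
    · exact mem_centralizer_iff.2 fun h hh =>
        (mem_centralizer_iff.1 ((hmem h).1 hh).1 d hd).symm
  have hDZ : D ≤ H ⊓ centralizer (H : Set G) := le_inf hDH fun d hd =>
    mem_centralizer_iff.2 fun h hh => (mem_centralizer_iff.1 ((hmem h).1 hh).1 d hd).symm
  refine ⟨H, hHc, fun x hx => hDZ ((hmem x).1 hx).2.2, ?_, ?_⟩
  · rw [commutator_le]
    exact fun x hx y _ => hDZ (((hmem x).1 hx).2.1 y)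
  · -- otherwise `C(H)` gives a larger piece of `Ω₁(Z(G/D)) ∩ C/D`
    by_contra hle
    have hCH : centralizer (H : Set G) ≤ C := centralizer_le hDH
    let Q : Subgroup (G ⧸ D) := (centralizer (H : Set G)).map π
    have : Q.Normal := (inferInstance : (centralizer (H : Set G)).Normal).map π
      (QuotientGroup.mk'_surjective D)
    have hQ : Q ≠ ⊥ := by
      rw [Ne, Subgroup.map_eq_bot_iff, QuotientGroup.ker_mk']
      exact fun h => hle (h.trans hDH)
    obtain ⟨Z, hZQ, hZc, -, hZp⟩ := PGroup.exists_card_eq_le_center (hG.to_quotient D) Q hQ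
    obtain ⟨⟨z, hz⟩, hzne⟩ : ∃ z : Z, z ≠ 1 := by
      have : Nontrivial Z := Finite.one_lt_card_iff_nontrivial.1 (hZp ▸ hp.out.one_lt)
      exact exists_ne 1
    obtain ⟨g, hg, rfl⟩ := hZQ hz
    have hgH : g ∈ H := (hmem g).2 ⟨hCH hg, (hcen g).1 (hZc hz), by
      rw [← QuotientGroup.eq_one_iff]
      show π (g ^ p) = 1
      rw [map_pow]
      have := congrArg Subtype.val (pow_card_eq_one' (x := (⟨π g, hz⟩ : Z)))
      rwa [hZp] at this⟩
    exact hzne (Subtype.ext ((QuotientGroup.eq_one_iff g).2 (hZ ⟨hgH, hg⟩)))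

/-- An automorphism of order prime to `p` fixing pointwise a self-centralizing normal subgroup of a
`p`-group is trivial. -/
theorem aut_eq_one_of_fix_normal [Finite G] [hp : Fact p.Prime] (hG : IsPGroup p G) (H : Subgroup G)
    [H.Normal] (hC : centralizer (H : Set G) ≤ H) (a : MulAut G) (ha : (orderOf a).Coprime p)
    (h : ∀ x ∈ H, a x = x) : a = 1 := by
  ext g
  set c := g⁻¹ * a g with hc
  have hcH : c ∈ H := by
    refine hC (mem_centralizer_iff.2 fun x hx => ?_)
    have h1 : a g * x * (a g)⁻¹ = g * x * g⁻¹ := by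
      rw [← h _ ((inferInstance : H.Normal).conj_mem x hx g), map_mul, map_mul, map_inv, h x hx]
    calc x * (g⁻¹ * a g) = g⁻¹ * (g * x * g⁻¹) * a g := by group
      _ = g⁻¹ * (a g * x * (a g)⁻¹) * a g := by rw [h1]
      _ = g⁻¹ * a g * x := by group
  have hpow : ∀ n : ℕ, (a ^ n) g = g * c ^ n := by
    intro n
    induction n with
    | zero => simp
    | succ n ih =>
      rw [pow_succ', MulAut.mul_apply, ih, map_mul, map_pow, h c hcH, pow_succ',
        show a g = g * c by rw [hc, mul_inv_cancel_left], mul_assoc]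
  have h2 : c ^ orderOf a = 1 := by
    have := hpow (orderOf a)
    rw [pow_orderOf_eq_one, MulAut.one_apply] at this
    exact left_eq_mul.1 this
  have h3 : c = 1 := (hG.powEquiv ha.symm).injective (show c ^ orderOf a = 1 ^ orderOf a by
    rw [one_pow, h2])
  rw [MulAut.one_apply]
  exact (inv_mul_eq_one.1 h3).symm

/-- For odd `p`, a `p'`-automorphism of a `p`-group fixing all elements of order `p` is trivial. -/
theorem aut_eq_one_of_fix_omega [Finite G] [hp : Fact p.Prime] (hp2 : p ≠ 2) (hG : IsPGroup p G)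
    (a : MulAut G) (ha : (orderOf a).Coprime p) (h : ∀ x : G, x ^ p = 1 → a x = x) : a = 1 := by
  obtain ⟨H, hHc, hpow, hcomm, hC⟩ := exists_critical hG
  have hHn : H.Normal := inferInstance
  refine aut_eq_one_of_fix_normal hG H hC a ha fun x hx => ?_
  have haH : ∀ y ∈ H, a y ∈ H := fun y hy => characteristic_iff_map_le.1 hHc a ⟨y, hy, rfl⟩
  suffices ∀ k, ∀ y ∈ H, y ^ p ^ k = 1 → a y = y by
    obtain ⟨k, hk⟩ := hG x
    exact this k x hx hk
  intro k
  induction k with
  | zero => exact fun y _ hy => by rw [pow_zero, pow_one] at hy; subst hy; exact map_one a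
  | succ k ih =>
    intro y hy hyk
    have hfix : a (y ^ p) = y ^ p :=
      ih _ (H.pow_mem hy p) (by rw [← pow_mul, ← pow_succ', hyk])
    -- `z ↦ z ^ p` is multiplicative on `y⁻¹, a y`
    have hcen : ∀ u ∈ H, ∀ v ∈ H, ∀ w ∈ H, ⁅u, v⁆ * w = w * ⁅u, v⁆ := fun u hu v _ w hw =>
      (mem_centralizer_iff.1 (hcomm (commutator_mem_commutator hu (mem_top v))).2 w hw).symm
    have hp1 : ∀ u ∈ H, ∀ v ∈ H, (u * v) ^ p = u ^ p * v ^ p := by
      intro u hu v hv
      have key : ((⟨u, hu⟩ * ⟨v, hv⟩ : H)) ^ p = ⟨u, hu⟩ ^ p * ⟨v, hv⟩ ^ p := by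
        have hz : ∀ s t : H, ⁅s, t⁆ ∈ center H := fun s t => mem_center_iff.2 fun w =>
          Subtype.ext (by
            push_cast [commutatorElement_def]
            have := hcen s s.2 t t.2 w w.2
            rw [commutatorElement_def] at this
            exact this.symm)
        rw [PGroup.mul_pow_of_comm_mem_center (hz _ _)]
        obtain ⟨j, hj⟩ := (hp.out.dvd_choose_self (by norm_num : (2 : ℕ) ≠ 0)
          (lt_of_le_of_ne hp.out.two_le (Ne.symm hp2)))
        have hpc : (⟨v, hv⟩ : H) ^ p ∈ center H := mem_center_iff.2 fun w =>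
          Subtype.ext (mem_centralizer_iff.1 (hpow v hv).2 w w.2)
        rw [hj, pow_mul, ← PGroup.comm_pow_left (hz _ _),
          commutatorElement_eq_one_iff_mul_comm.2 (mem_center_iff.1 hpc ⟨u, hu⟩).symm,
          one_pow, mul_one]
      exact congrArg Subtype.val key
    set c := y⁻¹ * a y with hc
    have hcp : c ^ p = 1 := by
      rw [hc, hp1 _ (H.inv_mem hy) _ (haH y hy), inv_pow, ← map_pow, hfix, inv_mul_cancel]
    have hn : ∀ n : ℕ, (a ^ n) y = y * c ^ n := by
      intro n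
      induction n with
      | zero => simp
      | succ n ihn =>
        rw [pow_succ', MulAut.mul_apply, ihn, map_mul, map_pow, h c hcp, pow_succ',
          show a y = y * c by rw [hc, mul_inv_cancel_left], mul_assoc]
    have h2 : c ^ orderOf a = 1 := by
      have := hn (orderOf a)
      rw [pow_orderOf_eq_one, MulAut.one_apply] at this
      exact left_eq_mul.1 this
    have h3 : c = 1 := (hG.powEquiv ha.symm).injective (show c ^ orderOf a = 1 ^ orderOf a by
      rw [one_pow, h2])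
    exact (inv_mul_eq_one.1 h3).symm

end CfsgLib.Transfer
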