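import Cfsg.Agent.Lib.Transfer.Basic

/-!
Control of fusion in a Sylow subgroup, and its consequences by transfer.
-/

namespace CfsgLib.Transfer

open Cfsg Subgroup
open scoped Pointwise commutatorElement

variable {G : Type*} [Group G] {p : ℕ}

/-- `H` controls `G`-fusion of elements of `P`. -/
def ControlsFusion (H P : Subgroup G) : Prop :=
  ∀ x ∈ P, ∀ g : G, g * x * g⁻¹ ∈ P → ∃ h ∈ H, h * x * h⁻¹ = g * x * g⁻¹

theorem exists_conj_mem_sylow [Finite G] [Fact p.Prime] (P : Sylow p G) {S : Subgroup G}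
    (hS : IsPGroup p S) : ∃ g : G, ∀ x ∈ S, g * x * g⁻¹ ∈ (P : Subgroup G) := by
  obtain ⟨Q, hQ⟩ := hS.exists_le_sylow
  obtain ⟨g, rfl⟩ := MulAction.exists_smul_eq G Q P
  exact ⟨g, fun x hx => smul_mem_pointwise_smul x (MulAut.conj g) _ (hQ hx)⟩

/-- Inside a subgroup `H` containing the Sylow subgroup `P`, a `p`-subgroup is conjugate into `P`. -/
theorem exists_conj_mem_sylow_of_le [Finite G] [Fact p.Prime] (P : Sylow p G) {H S : Subgroup G}
    (hP : (P : Subgroup G) ≤ H) (hSH : S ≤ H) (hS : IsPGroup p S) :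
    ∃ g ∈ H, ∀ x ∈ S, g * x * g⁻¹ ∈ (P : Subgroup G) := by
  obtain ⟨g, hg⟩ := exists_conj_mem_sylow (P.subtype hP)
    (S := S.subgroupOf H) (hS.of_equiv (subgroupOfEquivOfLe hSH).symm)
  refine ⟨g, g.2, fun x hx => ?_⟩
  have h := hg ⟨x, hSH hx⟩ hx
  rw [Sylow.coe_subtype, mem_subgroupOf] at h
  exact h

theorem exists_conj_mem_of_mem [Finite G] [Fact p.Prime] (P : Sylow p G) {H : Subgroup G}
    (hP : (P : Subgroup G) ≤ H) {x : G} (hxH : x ∈ H) {k : ℕ} (hx : x ^ p ^ k = 1) :
    ∃ g ∈ H, g * x * g⁻¹ ∈ (P : Subgroup G) := by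
  have hzp : IsPGroup p (zpowers x) := by
    obtain ⟨j, -, hj⟩ := (Nat.dvd_prime_pow (Fact.out : p.Prime)).1 (orderOf_dvd_of_pow_eq_one hx)
    exact IsPGroup.of_card (n := j) (by rw [Nat.card_zpowers, hj])
  obtain ⟨g, hg, h⟩ := exists_conj_mem_sylow_of_le P hP ((zpowers_le).2 hxH) hzp
  exact ⟨g, hg, h x (mem_zpowers x)⟩

/-- A form of the focal subgroup theorem for a subgroup controlling fusion. -/
theorem commutator_inf_sylow_eq [Finite G] [Fact p.Prime] (P : Sylow p G) {H : Subgroup G}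
    (hP : (P : Subgroup G) ≤ H) (hctl : ControlsFusion H P) :
    commutator G ⊓ (P : Subgroup G) = ⁅H, H⁆ ⊓ (P : Subgroup G) := by
  refine le_antisymm (le_inf ?_ inf_le_right)
    (inf_le_inf_right _ (Subgroup.commutator_mono le_top le_top))
  rw [commutator_inf_eq_focalSubgroup, focalSubgroup_def, closure_le]
  rintro _ ⟨hmem, x, hx, u, rfl⟩
  have h1 : u * x⁻¹ * u⁻¹ ∈ (P : Subgroup G) := by
    have := (P : Subgroup G).mul_mem ((P : Subgroup G).inv_mem hx) hmem
    rwa [commutatorElement_def, show x⁻¹ * (x * u * x⁻¹ * u⁻¹) = u * x⁻¹ * u⁻¹ by group] at this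
  obtain ⟨h, hh, e⟩ := hctl _ ((P : Subgroup G).inv_mem hx) u h1
  have : (⁅x, u⁆ : G) = ⁅x, h⁆ := by
    rw [commutatorElement_def, commutatorElement_def,
      show x * u * x⁻¹ * u⁻¹ = x * (u * x⁻¹ * u⁻¹) by group, ← e]
    group
  rw [this]
  exact commutator_mem_commutator (hP hx) hh

/-- Transfer to an abelian `p`-group `A` from a subgroup `X` of index prime to `p` in a group `R`
without non-trivial `p`-quotient: an element on which the map is constant on conjugates dies. -/
theorem map_eq_one_of_transfer {R A : Type*} [Group R] [CommGroup A] [Fact p.Prime]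
    (hA : IsPGroup p A) (X : Subgroup R) [X.FiniteIndex] (hX : X.index.Coprime p) (f : X →* A)
    (htriv : ∀ (φ : R →* A) (r : R), φ r = 1) (x : X)
    (hconj : ∀ (k : ℕ) (t : R) (h : t⁻¹ * (x : R) ^ k * t ∈ X), f ⟨_, h⟩ = f x ^ k) :
    f x = 1 := by
  classical
  let := X.fintypeQuotientOfFiniteIndex
  have h1 := MonoidHom.transfer_eq_prod_quotient_orbitRel_zpowers_quot f (x : R)
  rw [htriv, Finset.prod_congr rfl fun q _ => hconj _ _ _, Finset.prod_pow_eq_pow_sum,
    ← index_eq_sum_minimalPeriod] at h1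
  exact (hA.powEquiv hX.symm).injective (show f x ^ X.index = (1 : A) ^ X.index by
    rw [one_pow, ← h1])

theorem map_subtype_pResidual_normal {H : Subgroup G} :
    ∀ h ∈ H, ∀ x ∈ (pResidual p H).map H.subtype,
      h * x * h⁻¹ ∈ (pResidual p H).map H.subtype := by
  rintro h hh _ ⟨x, hx, rfl⟩
  exact ⟨⟨h, hh⟩ * x * ⟨h, hh⟩⁻¹, pResidual_normal_inst.conj_mem x hx _, rfl⟩

/-- If `H` contains `P` and controls fusion in `P`, then `P ∩ O^p(G) = P ∩ O^p(H)`. -/
theorem inf_pResidual_eq [Finite G] [hp : Fact p.Prime] (P : Sylow p G) {H : Subgroup G}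
    (hP : (P : Subgroup G) ≤ H) (hctl : ControlsFusion H P) :
    (P : Subgroup G) ⊓ pResidual p G =
      (P : Subgroup G) ⊓ (pResidual p H).map H.subtype := by
  refine le_antisymm ?_ (inf_le_inf_left _ (map_subtype_pResidual_le H))
  let R : Subgroup G := pResidual p G
  let X : Subgroup H := R.subgroupOf H
  let K : Subgroup H := pResidual p H
  have : X.Normal := pResidual_normal_inst.comap _
  have hKX : K ≤ X := map_le_iff_le_comap.1 (map_subtype_pResidual_le H)
  let π := QuotientGroup.mk' K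
  have : Group.IsNilpotent (H ⧸ K) := isPGroup_quotient_pResidual.isNilpotent
  suffices hX : X ≤ K by
    intro x hx
    exact ⟨hx.1, ⟨x, hP hx.1⟩, hX hx.2, rfl⟩
  by_contra hne
  -- the image of `X` in the `p`-group `H/K` is not contained in `[X, H]K`
  have hne' : X.map π ≠ ⊥ := by
    rw [Ne, Subgroup.map_eq_bot_iff, QuotientGroup.ker_mk']
    exact hne
  have hnormX : (X.map π).Normal := (inferInstance : X.Normal).map π (QuotientGroup.mk'_surjective K)
  let M : Subgroup H := Subgroup.comap π ⁅X.map π, (⊤ : Subgroup (H ⧸ K))⁆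
  have hMX : ¬ X ≤ M := by
    intro hle
    have hle' : X.map π ≤ ⁅X.map π, (⊤ : Subgroup (H ⧸ K))⁆ := map_le_iff_le_comap.2 hle
    have : ∀ n, X.map π ≤ (⊤ : Subgroup (H ⧸ K)).lowerCentralSeries n := by
      intro n
      induction n with
      | zero => exact le_top
      | succ n ih =>
        rw [Subgroup.lowerCentralSeries_succ]
        exact hle'.trans (commutator_mono ih le_rfl)
    obtain ⟨n, hn⟩ := Subgroup.nilpotent_iff_lowerCentralSeries.1
      (inferInstance : Group.IsNilpotent (H ⧸ K))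
    exact hne' (le_bot_iff.1 (hn ▸ this n))
  have hM : M.Normal := inferInstanceAs (Subgroup.comap π ⁅X.map π, (⊤ : Subgroup (H ⧸ K))⁆).Normal
  have hKM : K ≤ M := fun x hx => by
    show π x ∈ ⁅X.map π, (⊤ : Subgroup (H ⧸ K))⁆
    rw [show π x = 1 from (QuotientGroup.eq_one_iff x).2 hx]
    exact one_mem _
  have hcomm : ∀ h : H, ∀ x ∈ X, h * x * h⁻¹ * x⁻¹ ∈ M := by
    intro h x hx
    show π (h * x * h⁻¹ * x⁻¹) ∈ ⁅X.map π, (⊤ : Subgroup (H ⧸ K))⁆
    rw [map_mul, map_mul, map_mul, map_inv, map_inv, ← commutatorElement_def, ← inv_mem_iff,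
      commutatorElement_inv]
    exact commutator_mem_commutator (mem_map_of_mem π hx) (mem_top _)
  let L : Subgroup X := M.subgroupOf X
  have : L.Normal := hM.comap _
  have : IsMulCommutative (X ⧸ L) := by
    refine ⟨⟨fun a b => ?_⟩⟩
    induction a using QuotientGroup.induction_on with
    | H a =>
      induction b using QuotientGroup.induction_on with
      | H b =>
        rw [← QuotientGroup.mk_mul, ← QuotientGroup.mk_mul, QuotientGroup.eq_iff_div_mem]
        show ((a * b / (b * a) : X) : H) ∈ M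
        have := hcomm (a : H) (b : H) b.2
        simpa [div_eq_mul_inv, mul_assoc] using this
  have hA : IsPGroup p (X ⧸ L) := by
    intro a
    induction a using QuotientGroup.induction_on with
    | H a =>
      obtain ⟨k, hk⟩ := isPGroup_quotient_pResidual (G := H) (p := p) ((a : H) : H ⧸ K)
      refine ⟨k, ?_⟩
      rw [← QuotientGroup.mk_pow, QuotientGroup.eq_one_iff]
      exact hKM ((QuotientGroup.eq_one_iff ((a ^ p ^ k : X) : H)).1 hk)
  open scoped IsMulCommutative in
  let : CommGroup (X ⧸ L) := inferInstance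
  let lam : X →* X ⧸ L := QuotientGroup.mk' L
  have lam_conj : ∀ (h : H) (x y : X), (y : H) = h * x * h⁻¹ → lam y = lam x := by
    intro h x y e
    show (y : X ⧸ L) = x
    rw [QuotientGroup.eq_iff_div_mem]
    show ((y / x : X) : H) ∈ M
    rw [div_eq_mul_inv, coe_mul, coe_inv, e]
    exact hcomm h x x.2
  -- transfer from `R ∩ H` to `R`
  let X' : Subgroup R := H.subgroupOf R
  let e : X' →* X :=
    { toFun := fun r => ⟨⟨(r : R), r.2⟩, (r : R).2⟩
      map_one' := rfl
      map_mul' := fun _ _ => rfl }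
  have hX' : X'.index.Coprime p := by
    refine Nat.Coprime.coprime_dvd_left (relIndex_dvd_of_le_left R hP) ?_
    rw [sylow_relIndex_eq_index P (pResidual_sup_sylow P)]
    exact coprime_of_not_dvd P.not_dvd_index
  -- every element of `X` lies in `M` times a `P`-element
  have key : ∀ x : X, ((x : H) : G) ∈ (P : Subgroup G) → lam x = 1 := by
    intro x hxP
    let x' : X' := ⟨⟨((x : H) : G), x.2⟩, (x : H).2⟩
    have := map_eq_one_of_transfer (p := p) hA X' hX' (lam.comp e)
      (fun φ r => hom_pResidual_eq_one hA φ r) x' ?_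
    · exact this
    intro k t ht
    have hyH : ((t : G))⁻¹ * ((x : H) : G) ^ k * (t : G) ∈ H := ht
    obtain ⟨a, ha⟩ := P.2 ⟨_, (P : Subgroup G).pow_mem hxP k⟩
    have ha' : (((x : H) : G) ^ k) ^ p ^ a = 1 := congrArg Subtype.val ha
    obtain ⟨h, hh, hconj⟩ := exists_conj_mem_of_mem P hP hyH (k := a) (by
      have := conj_pow (i := p ^ a) (a := (t : G)⁻¹) (b := ((x : H) : G) ^ k)
      rw [inv_inv] at this
      rw [this, ha', mul_one, inv_mul_cancel])
    obtain ⟨h', hh', e'⟩ := hctl _ ((P : Subgroup G).pow_mem hxP k) (h * (t : G)⁻¹) (by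
      convert hconj using 1; group)
    show lam (e ⟨_, ht⟩) = lam (e x') ^ k
    rw [← map_pow]
    have hyR : ((t : G))⁻¹ * ((x : H) : G) ^ k * (t : G) ∈ R :=
      R.mul_mem (R.mul_mem (R.inv_mem t.2) (R.pow_mem x.2 k)) t.2
    refine lam_conj (⟨h, hh⟩⁻¹ * ⟨h', hh'⟩) _ _ (Subtype.ext ?_)
    show ((t : G))⁻¹ * ((x : H) : G) ^ k * (t : G) =
      h⁻¹ * h' * ((x : H) : G) ^ k * (h⁻¹ * h')⁻¹
    rw [show h⁻¹ * h' * ((x : H) : G) ^ k * (h⁻¹ * h')⁻¹ =
      h⁻¹ * (h' * ((x : H) : G) ^ k * h'⁻¹) * h by group, e']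
    group
  -- the index of `M ∩ X` in `X` is prime to `p` and a power of `p`
  apply hMX
  intro y hy
  have hy1 : lam ⟨y, hy⟩ = 1 := by
    obtain ⟨a, ha⟩ := hA (lam ⟨y, hy⟩)
    -- replace `y` by its `p`-part, conjugate into `P`
    set n := orderOf y with hn
    obtain ⟨b, hb⟩ : ∃ b, p ^ n.factorization p = b := ⟨_, rfl⟩
    have hco : (n / p ^ n.factorization p).Coprime p :=
      (Nat.coprime_ordCompl hp.out (orderOf_pos y).ne').symm
    have hz : (y ^ (n / p ^ n.factorization p)) ^ p ^ n.factorization p = 1 := by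
      rw [← pow_mul, mul_comm, Nat.mul_div_cancel' (Nat.ordProj_dvd _ _), hn, pow_orderOf_eq_one]
    obtain ⟨g, hg, hgP⟩ := exists_conj_mem_of_mem P hP
      (x := ((y ^ (n / p ^ n.factorization p) : H) : G)) (SetLike.coe_mem _)
      (by exact_mod_cast hz)
    let z : X := ⟨⟨g, hg⟩ * y ^ (n / p ^ n.factorization p) * ⟨g, hg⟩⁻¹,
      (inferInstance : X.Normal).conj_mem _ (pow_mem hy _) _⟩
    have h1 := key z hgP
    rw [lam_conj ⟨g, hg⟩ (⟨y, hy⟩ ^ (n / p ^ n.factorization p)) z rfl, map_pow] at h1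
    exact (hA.powEquiv hco.symm).injective (show lam ⟨y, hy⟩ ^ _ = (1 : X ⧸ L) ^ _ by
      rw [one_pow, h1])
  exact (QuotientGroup.eq_one_iff (N := L) (⟨y, hy⟩ : X)).1 hy1

/-- Burnside: normal subsets of `P` conjugate in `G` are conjugate in `N_G(P)`. -/
theorem exists_mem_normalizer_image_eq [Finite G] [Fact p.Prime] (P : Sylow p G) {X Y : Set G}
    (hX : (P : Subgroup G) ≤ normalizer X) (hY : (P : Subgroup G) ≤ normalizer Y) {g : G}
    (hg : MulAut.conj g '' X = Y) :
    ∃ n ∈ normalizer (P : Set G), MulAut.conj n '' X = Y := by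
  have hgP : ((g • P : Sylow p G) : Subgroup G) ≤ normalizer Y := by
    rw [Sylow.coe_subgroup_smul]
    rintro _ ⟨z, hz, rfl⟩
    rw [mem_normalizer_iff_conj_image_eq, ← hg, ← Set.image_comp]
    conv_rhs => rw [← mem_normalizer_iff_conj_image_eq.1 (hX hz), ← Set.image_comp]
    exact Set.image_congr fun w _ => by simp [mul_assoc]
  obtain ⟨c, hc⟩ := MulAction.exists_smul_eq (normalizer Y) ((g • P).subtype hgP) (P.subtype hY)
  simp_rw [Sylow.smul_subtype, Subgroup.smul_def, smul_smul] at hc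
  refine ⟨c * g, Sylow.smul_eq_iff_mem_normalizer.1 (Sylow.subtype_injective hc), ?_⟩
  refine Eq.trans ?_ (mem_normalizer_iff_conj_image_eq.1 c.2)
  rw [show (MulAut.conj (c : G)) '' Y = (MulAut.conj (c : G)) '' (MulAut.conj g '' X) by rw [hg],
    ← Set.image_comp]
  exact Set.image_congr fun w _ => by simp [mul_assoc]

/-- An abelian Sylow subgroup has its fusion controlled by its normalizer. -/
theorem controlsFusion_normalizer [Finite G] [Fact p.Prime] (P : Sylow p G)
    (hP : IsMulCommutative P) : ControlsFusion (normalizer (P : Set G)) (P : Subgroup G) := by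
  intro x hx g hg
  obtain ⟨n, hn, e⟩ :=
    Sylow.conj_eq_normalizer_conj_of_mem P (_hP := hP) x g⁻¹ hx (by rwa [inv_inv])
  rw [inv_inv] at e
  exact ⟨n⁻¹, inv_mem hn, by rw [inv_inv, e]⟩

/-- The normalizer of a weakly closed central subgroup controls fusion. -/
theorem controlsFusion_of_weaklyClosed [Finite G] [Fact p.Prime] (P : Sylow p G) {Z : Subgroup G}
    (hZP : Z ≤ (P : Subgroup G)) (hZ : Z ≤ centralizer (P : Set G))
    (hW : ∀ g : G, (∀ z ∈ Z, g * z * g⁻¹ ∈ (P : Subgroup G)) →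
      g ∈ normalizer (Z : Set G)) :
    ControlsFusion (normalizer (Z : Set G)) (P : Subgroup G) := by
  intro x hx g hy
  let C := centralizer ({g * x * g⁻¹} : Set G)
  have h1 : Z.map (MulAut.conj g).toMonoidHom ≤ C := by
    rintro _ ⟨z, hz, rfl⟩
    refine mem_centralizer_singleton_iff.2 ?_
    have := (mem_centralizer_iff.1 (hZ hz)) x hx
    simp only [MulEquiv.coe_toMonoidHom, MulAut.conj_apply]
    calc g * z * g⁻¹ * (g * x * g⁻¹) = g * (z * x) * g⁻¹ := by group
      _ = g * (x * z) * g⁻¹ := by rw [this]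
      _ = _ := by group
  have h2 : Z ≤ C := fun z hz => mem_centralizer_singleton_iff.2
    ((mem_centralizer_iff.1 (hZ hz)) _ hy).symm
  have hZp : IsPGroup p Z := P.2.to_le hZP
  obtain ⟨S, hS⟩ := ((hZp.map (MulAut.conj g).toMonoidHom).of_equiv
    (subgroupOfEquivOfLe h1).symm).exists_le_sylow
  obtain ⟨T, hT⟩ := (hZp.of_equiv (subgroupOfEquivOfLe h2).symm).exists_le_sylow
  obtain ⟨c, hc⟩ := MulAction.exists_smul_eq C S T
  obtain ⟨d, hd⟩ := exists_conj_mem_sylow P (T.2.map C.subtype)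
  have hdZ : d ∈ normalizer (Z : Set G) :=
    hW d fun z hz => hd z ⟨⟨z, h2 hz⟩, hT hz, rfl⟩
  have hdcg : d * ((c : G) * g) ∈ normalizer (Z : Set G) := by
    refine hW _ fun z hz => ?_
    have hm : (c * ⟨g * z * g⁻¹, h1 ⟨z, hz, rfl⟩⟩ * c⁻¹ : C) ∈ (T : Subgroup C) := by
      rw [← hc, Sylow.coe_subgroup_smul]
      exact smul_mem_pointwise_smul (⟨g * z * g⁻¹, h1 ⟨z, hz, rfl⟩⟩ : C) (MulAut.conj c) _
        (hS ⟨z, hz, rfl⟩)
    have := hd _ ⟨_, hm, rfl⟩
    convert this using 1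
    simp [mul_assoc]
  refine ⟨(c : G) * g, ?_, ?_⟩
  · have := mul_mem (inv_mem hdZ) hdcg
    rwa [inv_mul_cancel_left] at this
  · have := mem_centralizer_singleton_iff.1 c.2
    calc (c : G) * g * x * ((c : G) * g)⁻¹ = (c : G) * (g * x * g⁻¹) * (c : G)⁻¹ := by group
      _ = _ := by rw [this]; group

end CfsgLib.Transfer
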