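import Cfsg.Prelude.Def_PLocal
import Cfsg.Agent.Lib.Transfer.Fusion
import Cfsg.Agent.Lib.Cores.Basic

/-!
Subgroups generated by pieces centralized by the Sylow subgroups, and the largest normal `p`-group
acting on them.
-/

namespace CfsgLib.Transfer

open Cfsg Subgroup

variable {G : Type*} [Group G] {p : ℕ}

/-- The trace of a Sylow subgroup on a normal subgroup is Sylow there. -/
theorem exists_sylow_map_eq_inf [Finite G] [Fact p.Prime] (D : Subgroup G) [hD : D.Normal]
    (S : Sylow p G) : ∃ T : Sylow p D, (T : Subgroup D).map D.subtype = (S : Subgroup G) ⊓ D := by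
  obtain ⟨T, hT⟩ := ((S.2.to_le (inf_le_left : (S : Subgroup G) ⊓ D ≤ _)).of_equiv
    (subgroupOfEquivOfLe (inf_le_right : (S : Subgroup G) ⊓ D ≤ D)).symm).exists_le_sylow
  refine ⟨T, (eq_of_le_of_card_ge (show (S : Subgroup G) ⊓ D ≤ (T : Subgroup D).map D.subtype from
    fun x hx => ⟨⟨x, hx.2⟩, hT hx, rfl⟩) ?_).symm⟩
  obtain ⟨g, hg⟩ := exists_conj_mem_sylow S (T.2.map D.subtype)
  rw [← card_map_of_injective (f := (MulAut.conj g).toMonoidHom) (MulAut.conj g).injective
    (K := (T : Subgroup D).map D.subtype)]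
  refine card_le_of_le ?_
  rintro _ ⟨x, hx, rfl⟩
  exact ⟨hg x hx, hD.conj_mem x (map_subtype_le _ hx) g⟩

/-- If `V` is generated by pieces `f S` with `f S ≤ C(S)` then no normal subgroup properly above
`C(V)` has `p`-power index over it. -/
theorem eq_centralizer_of_iSup [Finite G] [Fact p.Prime] (D : Subgroup G) [hD : D.Normal]
    (f : Sylow p G → Subgroup G) (hf : ∀ S, f S ≤ centralizer ((S : Subgroup G) : Set G))
    {V : Subgroup G} (hV : V = ⨆ S, f S) (hle : centralizer (V : Set G) ≤ D)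
    (hk : ∃ k : ℕ, (centralizer (V : Set G)).relIndex D = p ^ k) :
    D = centralizer (V : Set G) := by
  obtain ⟨k, hk⟩ := hk
  refine le_antisymm (le_centralizer_iff.2 (hV.le.trans (iSup_le fun S => ?_))) hle
  obtain ⟨T, hT⟩ := exists_sylow_map_eq_inf D S
  have h2 := sup_sylow_eq_top T (N := (centralizer (V : Set G)).subgroupOf D) (k := k) hk
  have htop : (⊤ : Subgroup D) ≤ (centralizer (f S : Set G)).subgroupOf D := by
    rw [← h2]
    refine sup_le (fun x hx => centralizer_le (hV.ge.trans' (le_iSup f S)) hx) fun x hx => ?_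
    exact (le_centralizer_iff.1 (hf S)) (hT.le ⟨x, hx, rfl⟩).1
  rw [le_centralizer_iff]
  exact fun d hd => htop (mem_top (⟨d, hd⟩ : D))

/-- Reformulation: `O_p(G / C(V)) = 1`. -/
theorem pCore_quotient_centralizer_eq_bot [Finite G] [Fact p.Prime] (V : Subgroup G) [V.Normal]
    (h : ∀ D : Subgroup G, D.Normal → centralizer (V : Set G) ≤ D →
      (∃ k : ℕ, (centralizer (V : Set G)).relIndex D = p ^ k) → D = centralizer (V : Set G)) :
    pCore p (G ⧸ centralizer (V : Set G)) = ⊥ := by
  set C := centralizer (V : Set G)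
  set π := QuotientGroup.mk' C
  set D := (pCore p (G ⧸ C)).comap π
  have hCD : C ≤ D := fun x hx => by
    show π x ∈ pCore p (G ⧸ C)
    rw [show π x = 1 from (QuotientGroup.eq_one_iff x).2 hx]
    exact one_mem _
  obtain ⟨k, hk⟩ := CfsgLib.Cores.card_pCore_eq_pow (G := G ⧸ C) p
  have hrel : C.relIndex D = p ^ k := by
    conv_lhs => rw [← QuotientGroup.ker_mk' C, ← MonoidHom.comap_bot, relIndex_comap]
    rw [map_comap_eq_self_of_surjective (QuotientGroup.mk'_surjective C), relIndex_bot_left, hk]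
  have hD := h D inferInstance hCD ⟨k, hrel⟩
  rw [eq_bot_iff, ← map_comap_eq_self_of_surjective (QuotientGroup.mk'_surjective C) (pCore p (G ⧸ C))]
  show D.map π ≤ ⊥
  rw [hD, le_bot_iff, Subgroup.map_eq_bot_iff, QuotientGroup.ker_mk']

end CfsgLib.Transfer
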