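import Cfsg.Agent.Lib.Transfer.Abelian
import Mathlib.GroupTheory.Frattini

/-!
The elementary form of Tate's theorem: if `P ∩ O^p(G) ≤ Φ(P)` then there is a normal
`p`-complement.
-/

namespace CfsgLib.Transfer

open Cfsg Subgroup
open scoped commutatorElement

variable {G : Type*} [Group G] {p : ℕ}

theorem hasNormalPComplement_of_le_frattini [Finite G] [hp : Fact p.Prime] (P : Sylow p G)
    (h : (P : Subgroup G) ⊓ pResidual p G ≤ (frattini (P : Subgroup G)).map (P : Subgroup G).subtype) :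
    HasNormalPComplement p G := by
  rw [hasNormalPComplement_iff_inf_sylow P]
  let S : Subgroup (P : Subgroup G) := (pResidual p G).subgroupOf (P : Subgroup G)
  suffices hS : S = ⊥ by
    rw [inf_comm, ← subgroupOf_map_subtype, show (pResidual p G).subgroupOf (P : Subgroup G) = S
      from rfl, hS, Subgroup.map_bot]
  by_contra hne
  have hSN : S.Normal := pResidual_normal_inst.comap _
  have hSΦ : S ≤ frattini (P : Subgroup G) := by
    intro x hx
    obtain ⟨y, hy, e⟩ := h ⟨x.2, hx⟩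
    exact Subtype.ext e ▸ hy
  let L : Subgroup (P : Subgroup G) := ⁅S, (⊤ : Subgroup (P : Subgroup G))⁆
  have hLS : L ≤ S := commutator_le_left _ _
  have hnot : ¬ S ≤ L := by
    intro hle
    have : ∀ n, S ≤ (⊤ : Subgroup (P : Subgroup G)).lowerCentralSeries n := by
      intro n
      induction n with
      | zero => exact le_top
      | succ n ih =>
        rw [Subgroup.lowerCentralSeries_succ]
        exact hle.trans (commutator_mono ih le_rfl)
    obtain ⟨n, hn⟩ := Subgroup.nilpotent_iff_lowerCentralSeries.1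
      (P.2.isNilpotent : Group.IsNilpotent (P : Subgroup G))
    exact hne (le_bot_iff.1 (hn ▸ this n))
  have hLN : L.Normal := inferInstanceAs (⁅S, (⊤ : Subgroup (P : Subgroup G))⁆).Normal
  let π := QuotientGroup.mk' L
  let Z : Subgroup ((P : Subgroup G) ⧸ L) := S.map π
  have hZc : ∀ z ∈ Z, ∀ e, e * z = z * e := by
    rintro _ ⟨s, hs, rfl⟩ e
    obtain ⟨x, rfl⟩ := QuotientGroup.mk'_surjective L e
    rw [← map_mul, ← map_mul]
    refine (QuotientGroup.eq_iff_div_mem.2 ?_).symm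
    rw [show s * x / (x * s) = ⁅s, x⁆ by rw [commutatorElement_def, div_eq_mul_inv]; group]
    exact commutator_mem_commutator hs (mem_top _)
  have : IsMulCommutative Z := ⟨⟨fun a b => Subtype.ext (hZc b b.2 a)⟩⟩
  have hZp : IsPGroup p Z := (P.2.to_quotient L).to_subgroup Z
  let q : (P : Subgroup G) ⧸ L →* G ⧸ pResidual p G :=
    QuotientGroup.lift L ((QuotientGroup.mk' (pResidual p G)).comp (P : Subgroup G).subtype)
      fun x hx => (QuotientGroup.eq_one_iff (N := pResidual p G) ((x : G))).2 (hLS hx)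
  have hq : ∀ x : (P : Subgroup G), q (π x) = ((x : G) : G ⧸ pResidual p G) := fun x => rfl
  have hqZ : ∀ e, q e = 1 → e ∈ Z := by
    intro e he
    obtain ⟨x, rfl⟩ := QuotientGroup.mk'_surjective L e
    exact mem_map_of_mem π ((QuotientGroup.eq_one_iff (x : G)).1 he)
  let W : Subgroup (((P : Subgroup G) ⧸ L) × G) :=
    { carrier := {w | q w.1 = (w.2 : G ⧸ pResidual p G)}
      mul_mem' := fun {a b} (ha : q a.1 = _) (hb : q b.1 = _) =>
        show q (a.1 * b.1) = _ by rw [map_mul, ha, hb, ← QuotientGroup.mk_mul, Prod.snd_mul]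
      one_mem' := show q 1 = _ by rw [map_one, Prod.snd_one, QuotientGroup.mk_one]
      inv_mem' := fun {a} (ha : q a.1 = _) =>
        show q a.1⁻¹ = _ by rw [map_inv, ha, ← QuotientGroup.mk_inv, Prod.snd_inv] }
  let snd : W →* G := (MonoidHom.snd _ _).comp W.subtype
  have hsnd : Function.Surjective snd := by
    intro g
    have hg : g ∈ pResidual p G ⊔ (P : Subgroup G) := pResidual_sup_sylow P ▸ mem_top g
    rw [← SetLike.mem_coe, normal_mul] at hg
    obtain ⟨r, hr, x, hx, rfl⟩ := hg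
    refine ⟨⟨(π ⟨x, hx⟩, r * x), ?_⟩, rfl⟩
    show q (π ⟨x, hx⟩) = _
    rw [hq, QuotientGroup.mk_mul, (QuotientGroup.eq_one_iff r).2 hr, one_mul]
  let X : Subgroup W := (P : Subgroup G).comap snd
  have hXi : X.index.Coprime p := by
    rw [index_comap_of_surjective _ hsnd]
    exact coprime_of_not_dvd P.not_dvd_index
  let σ : X →* (P : Subgroup G) ⧸ L := π.comp ((snd.comp X.subtype).codRestrict (P : Subgroup G) fun w => w.2)
  let fst : X →* (P : Subgroup G) ⧸ L := (MonoidHom.fst _ _).comp (W.subtype.comp X.subtype)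
  have hfZ : ∀ w : X, (σ w)⁻¹ * fst w ∈ Z := by
    intro w
    refine hqZ _ ?_
    rw [map_mul, map_inv, show q (fst w) = _ from (w : W).2, inv_mul_eq_one]
    rfl
  open scoped IsMulCommutative in
  let f : X →* Z :=
    { toFun := fun w => ⟨(σ w)⁻¹ * fst w, hfZ w⟩
      map_one' := Subtype.ext (show (σ 1)⁻¹ * fst 1 = 1 by
        rw [map_one, map_one, inv_one, one_mul])
      map_mul' := fun a b => Subtype.ext (show (σ (a * b))⁻¹ * fst (a * b) =
          (σ a)⁻¹ * fst a * ((σ b)⁻¹ * fst b) by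
        rw [map_mul, map_mul, mul_inv_rev,
          show (σ b)⁻¹ * (σ a)⁻¹ * (fst a * fst b) = (σ b)⁻¹ * ((σ a)⁻¹ * fst a) * fst b by
            group,
          hZc _ (hfZ a) (σ b)⁻¹, mul_assoc]) }
  open scoped IsMulCommutative in
  let τ : W →* Z := MonoidHom.transfer f
  have hτR : ∀ (r : G) (hr : r ∈ pResidual p G) (h1 : ((1, r) : _ × G) ∈ W),
      τ ⟨(1, r), h1⟩ = 1 := by
    intro r hr h1
    let ι : pResidual p G →* W :=
      { toFun := fun r => ⟨(1, (r : G)),
          show q 1 = _ by rw [map_one]; exact ((QuotientGroup.eq_one_iff (r : G)).2 r.2).symm⟩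
        map_one' := rfl
        map_mul' := fun a b => Subtype.ext (Prod.ext (one_mul 1).symm rfl) }
    exact hom_pResidual_eq_one hZp (τ.comp ι) ⟨r, hr⟩
  have hτZ : ∀ (z : Z) (hz : (((z : (P : Subgroup G) ⧸ L), 1) : _ × G) ∈ W),
      τ ⟨(z, 1), hz⟩ = z ^ X.index := by
    intro z hz
    open scoped IsMulCommutative in
    have hzX : (⟨(z, 1), hz⟩ : W) ∈ X := one_mem (P : Subgroup G)
    have hcent : ∀ w : W, w * ⟨(z, 1), hz⟩ = ⟨(z, 1), hz⟩ * w := fun w =>
      Subtype.ext (Prod.ext (hZc z z.2 w.1.1) (by simp))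
    have key : ∀ (k : ℕ) (g₀ : W), g₀⁻¹ * (⟨(z, 1), hz⟩ : W) ^ k * g₀ ∈ X →
        g₀⁻¹ * (⟨(z, 1), hz⟩ : W) ^ k * g₀ = (⟨(z, 1), hz⟩ : W) ^ k := fun k g₀ _ => by
      rw [mul_assoc, ← (Commute.pow_right (hcent g₀) k).eq, inv_mul_cancel_left]
    open scoped IsMulCommutative in
    have h2 : τ ⟨(z, 1), hz⟩ = f ⟨_, _⟩ := MonoidHom.transfer_eq_pow f _ key
    rw [h2, show (⟨(⟨(z, 1), hz⟩ : W) ^ X.index, _⟩ : X) = ⟨_, hzX⟩ ^ X.index from Subtype.ext rfl,
      map_pow]
    refine congrArg (· ^ X.index) (Subtype.ext ?_)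
    show (σ ⟨_, hzX⟩)⁻¹ * (z : (P : Subgroup G) ⧸ L) = z
    rw [show σ ⟨_, hzX⟩ = 1 from map_one π, inv_one, one_mul]
  let B : Subgroup ((P : Subgroup G) ⧸ L) :=
    (τ.ker).map ((MonoidHom.fst _ _).comp W.subtype)
  have hB : B ⊔ Z = ⊤ := by
    rw [eq_top_iff]
    intro e _
    obtain ⟨x, rfl⟩ := QuotientGroup.mk'_surjective L e
    have hw : ((π x, (x : G)) : _ × G) ∈ W := hq x
    obtain ⟨z, hz⟩ := (hZp.powEquiv hXi.symm).surjective (τ ⟨_, hw⟩)
    have hzW : (((z : (P : Subgroup G) ⧸ L), 1) : _ × G) ∈ W := by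
      obtain ⟨s, hs, hse⟩ := z.2
      show q z = _
      rw [← hse, hq, QuotientGroup.mk_one]
      exact (QuotientGroup.eq_one_iff (s : G)).2 hs
    have hker : (⟨_, hw⟩ : W) * ⟨_, hzW⟩⁻¹ ∈ τ.ker := by
      rw [MonoidHom.mem_ker, map_mul, map_inv, hτZ, mul_inv_eq_one]
      exact hz.symm
    have h3 := mul_mem (mem_sup_left (T := Z) (mem_map_of_mem ((MonoidHom.fst _ _).comp W.subtype) hker))
      (mem_sup_right (S := B) z.2)
    simpa [π] using h3
  have hZΦ : Z ≤ frattini ((P : Subgroup G) ⧸ L) := by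
    rw [map_le_iff_le_comap]
    exact hSΦ.trans (frattini_le_comap_frattini_of_surjective (QuotientGroup.mk'_surjective L))
  have hBtop : B = ⊤ :=
    frattini_nongenerating (top_le_iff.1 (hB ▸ sup_le_sup_left hZΦ B))
  apply hnot
  intro s hs
  obtain ⟨⟨⟨e, r⟩, hw⟩, hker, he⟩ := hBtop ▸ mem_top (π s)
  replace he : e = π s := he
  subst he
  have hr : r ∈ pResidual p G := by
    rw [← QuotientGroup.eq_one_iff, ← show q (π s) = (r : G ⧸ pResidual p G) from hw, hq,
      QuotientGroup.eq_one_iff]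
    exact hs
  have hzW : ((π s, 1) : _ × G) ∈ W := by
    show q (π s) = _
    rw [hq, QuotientGroup.mk_one, QuotientGroup.eq_one_iff]; exact hs
  have hrW : ((1, r) : _ × G) ∈ W := by
    show q 1 = _
    rw [map_one, eq_comm, QuotientGroup.eq_one_iff]; exact hr
  rw [SetLike.mem_coe, MonoidHom.mem_ker,
    show (⟨(π s, r), hw⟩ : W) = ⟨_, hzW⟩ * ⟨_, hrW⟩ from
      Subtype.ext (Prod.ext (mul_one _).symm (one_mul r).symm),
    map_mul, hτR r hr, mul_one, hτZ ⟨π s, mem_map_of_mem π hs⟩] at hker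
  have : (⟨π s, mem_map_of_mem π hs⟩ : Z) = 1 :=
    (hZp.powEquiv hXi.symm).injective (show (⟨π s, mem_map_of_mem π hs⟩ : Z) ^ X.index = 1 ^ X.index by
      rw [hker, one_pow])
  exact (QuotientGroup.eq_one_iff s).1 (congrArg Subtype.val this)

end CfsgLib.Transfer
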