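import Cfsg.Agent.Lib.Transfer.Frobenius

/-!
Transfer to abelian Hall and Sylow subgroups.
-/

namespace CfsgLib.Transfer

open Cfsg Subgroup
open scoped commutatorElement

variable {G : Type*} [Group G] {p : ℕ}

theorem map_pow_index_eq_one {A : Type*} [CommGroup A] (X : Subgroup G) [X.FiniteIndex]
    (f : X →* A) {z : G} (hzX : z ∈ X) (hzZ : z ∈ center G) (hz' : z ∈ commutator G) :
    f ⟨z, hzX⟩ ^ X.index = 1 := by
  rw [← map_pow]
  have key : ∀ (k : ℕ) (g₀ : G), g₀⁻¹ * z ^ k * g₀ ∈ X → g₀⁻¹ * z ^ k * g₀ = z ^ k := by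
    intro k g₀ _
    rw [mul_assoc, ← (mem_center_iff.1 (pow_mem hzZ k) g₀), inv_mul_cancel_left]
  have h := MonoidHom.transfer_eq_pow f z key
  have h1 : MonoidHom.transfer f z = 1 :=
    Abelianization.commutator_subset_ker (MonoidHom.transfer f) hz'
  rw [h1] at h
  exact h.symm

/-- An abelian subgroup of index prime to its order meets `G' ∩ Z(G)` trivially. -/
theorem inf_commutator_inf_center [Finite G] (H : Subgroup G) (hc : IsMulCommutative H)
    (hco : (Nat.card H).Coprime H.index) : H ⊓ commutator G ⊓ center G = ⊥ := by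
  rw [eq_bot_iff]
  rintro z ⟨⟨hzH, hz'⟩, hzZ⟩
  open scoped IsMulCommutative in
  have h := map_pow_index_eq_one (A := H) H (MonoidHom.id H) hzH hzZ hz'
  have h1 : ((⟨z, hzH⟩ : H) : G) = 1 := by
    have := (Nat.Coprime.coprime_dvd_left (orderOf_dvd_natCard (⟨z, hzH⟩ : H)) hco).eq_one_of_dvd
      (orderOf_dvd_of_pow_eq_one (by simpa using h))
    rw [orderOf_eq_one_iff] at this
    rw [this, coe_one]
  exact h1

theorem inf_pResidual_le_focalSubgroup [Finite G] [Fact p.Prime] (P : Sylow p G) :
    (P : Subgroup G) ⊓ pResidual p G ≤ (P : Subgroup G).focalSubgroup := by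
  rw [← ker_transferFocal_inf_eq_focalSubgroup P, inf_comm]
  exact inf_le_inf_right _ (pResidual_le_ker (P.2.to_quotient _) _)

theorem focalSubgroup_le_commutator_of_controlsFusion {P H : Subgroup G}
    (hctl : ControlsFusion H P) : P.focalSubgroup ≤ ⁅P, H⁆ := by
  rw [focalSubgroup_def, closure_le]
  rintro _ ⟨hmem, x, hx, u, rfl⟩
  have h1 : u * x⁻¹ * u⁻¹ ∈ P := by
    have := P.mul_mem (P.inv_mem hx) hmem
    rwa [commutatorElement_def, show x⁻¹ * (x * u * x⁻¹ * u⁻¹) = u * x⁻¹ * u⁻¹ by group] at this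
  obtain ⟨h, hh, e⟩ := hctl _ (P.inv_mem hx) u h1
  have : (⁅x, u⁆ : G) = ⁅x, h⁆ := by
    rw [commutatorElement_def, commutatorElement_def,
      show x * u * x⁻¹ * u⁻¹ = x * (u * x⁻¹ * u⁻¹) by group, ← e]
    group
  rw [this]
  exact commutator_mem_commutator hx hh

theorem commutator_le_pResidual_of_abelian_sylow [Finite G] [Fact p.Prime] (P : Sylow p G)
    (hP : IsMulCommutative P) : commutator G ≤ pResidual p G := by
  rw [← Normal.quotient_commutative_iff_commutator_le]
  refine ⟨⟨fun a b => ?_⟩⟩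
  have hsurj : ∀ a : G ⧸ pResidual p G, ∃ x : (P : Subgroup G), ((x : G) : G ⧸ pResidual p G) = a := by
    intro a
    induction a using QuotientGroup.induction_on with
    | H g =>
      have hg : g ∈ pResidual p G ⊔ (P : Subgroup G) := pResidual_sup_sylow P ▸ mem_top g
      rw [← SetLike.mem_coe, normal_mul] at hg
      obtain ⟨r, hr, x, hx, rfl⟩ := hg
      refine ⟨⟨x, hx⟩, ?_⟩
      rw [QuotientGroup.mk_mul, (QuotientGroup.eq_one_iff r).2 hr, one_mul]
  obtain ⟨x, rfl⟩ := hsurj a
  obtain ⟨y, rfl⟩ := hsurj b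
  rw [← QuotientGroup.mk_mul, ← QuotientGroup.mk_mul]
  exact congrArg _ (congrArg Subtype.val (hP.is_comm.comm x y))

/-- For an abelian Sylow subgroup `P`, `P ∩ O^p(G) = [P, N_G(P)]`. -/
theorem inf_pResidual_eq_commutator [Finite G] [Fact p.Prime] (P : Sylow p G)
    (hP : IsMulCommutative P) :
    (P : Subgroup G) ⊓ pResidual p G = ⁅(P : Subgroup G), normalizer (P : Set G)⁆ := by
  refine le_antisymm ((inf_pResidual_le_focalSubgroup P).trans
    (focalSubgroup_le_commutator_of_controlsFusion (controlsFusion_normalizer P hP)))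
    (le_inf ?_ ((commutator_mono le_top le_top).trans
      (commutator_le_pResidual_of_abelian_sylow P hP)))
  rw [commutator_le]
  intro x hx n hn
  rw [commutatorElement_def, show x * n * x⁻¹ * n⁻¹ = x * (n * x⁻¹ * n⁻¹) by group]
  exact (P : Subgroup G).mul_mem hx
    ((mem_normalizer_iff.1 hn _).1 ((P : Subgroup G).inv_mem hx))

/-- An abelian normal Hall subgroup `A` is `[A, G] · (A ∩ Z(G))`. -/
theorem le_commutator_sup_center [Finite G] (A : Subgroup G) [A.Normal] (hc : IsMulCommutative A)
    (hco : (Nat.card A).Coprime A.index) :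
    A ≤ ⁅A, (⊤ : Subgroup G)⁆ ⊔ (center G ⊓ A) := by
  classical
  have : Fintype (G ⧸ A) := Fintype.ofFinite _
  open scoped IsMulCommutative in
  let conjA : G → A → A := fun g a => ⟨g * a * g⁻¹, (inferInstance : A.Normal).conj_mem a a.2 g⟩
  open scoped IsMulCommutative in
  let N : A → A := fun a => ∏ q : G ⧸ A, conjA q.out a
  have hindep : ∀ (g : G) (a : A), conjA ((g : G ⧸ A)).out a = conjA g a := by
    intro g a
    obtain ⟨b, hb⟩ := QuotientGroup.mk_out_eq_mul A g
    rw [hb]
    refine Subtype.ext ?_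
    show g * b * a * (g * b)⁻¹ = g * a * g⁻¹
    rw [show g * (b : G) * a * (g * b)⁻¹ = g * ((b * a * b⁻¹ : A) : G) * g⁻¹ by push_cast; group,
      hc.is_comm.comm b a, mul_inv_cancel_right]
  have hcenter : ∀ a, ((N a : A) : G) ∈ center G := by
    intro a
    rw [mem_center_iff]
    intro g
    open scoped IsMulCommutative in
    let φ : A →* A :=
      { toFun := conjA g
        map_one' := Subtype.ext (by simp [conjA])
        map_mul' := fun x y => Subtype.ext (by simp [conjA, mul_assoc]) }
    have : φ (N a) = N a := by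
      open scoped IsMulCommutative in
      calc φ (∏ q : G ⧸ A, conjA q.out a) = ∏ q : G ⧸ A, φ (conjA q.out a) := map_prod φ _ _
        _ = ∏ q : G ⧸ A, conjA (g • q).out a := Finset.prod_congr rfl fun q _ => by
            conv_rhs => rw [← QuotientGroup.out_eq' q, MulAction.Quotient.smul_coe, hindep]
            exact Subtype.ext (by simp [φ, conjA, mul_assoc])
        _ = ∏ q : G ⧸ A, conjA q.out a :=
            Equiv.prod_comp (MulAction.toPerm g : Equiv.Perm (G ⧸ A)) fun q : G ⧸ A => conjA q.out a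
    have h : g * (N a : G) * g⁻¹ = N a := congrArg Subtype.val this
    calc g * (N a : G) = g * (N a : G) * g⁻¹ * g := by group
      _ = N a * g := by rw [h]
  intro a ha
  let C : Subgroup G := ⁅A, (⊤ : Subgroup G)⁆
  have hCN : C.Normal := inferInstanceAs (⁅A, (⊤ : Subgroup G)⁆).Normal
  let π := QuotientGroup.mk' C
  have hmul : π (N ⟨a, ha⟩ : G) = π a ^ A.index := by
    open scoped IsMulCommutative in
    calc π (N ⟨a, ha⟩ : G) = (π.comp A.subtype) (∏ q : G ⧸ A, conjA q.out ⟨a, ha⟩) := rfl
      _ = (((Finset.univ : Finset (G ⧸ A)).toList.map fun q => π.comp A.subtype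
            (conjA q.out ⟨a, ha⟩))).prod := by
          rw [← Finset.prod_map_toList, map_list_prod, List.map_map]
          rfl
      _ = (((Finset.univ : Finset (G ⧸ A)).toList.map fun _ => π a)).prod := by
          congr 2
          funext q
          show π (q.out * a * q.out⁻¹) = π a
          refine (QuotientGroup.eq_iff_div_mem).2 ?_
          rw [div_eq_mul_inv, ← inv_mem_iff,
            show (q.out * a * q.out⁻¹ * a⁻¹)⁻¹ = ⁅a, q.out⁆ by rw [commutatorElement_def]; group]
          exact commutator_mem_commutator ha (mem_top _)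
      _ = π a ^ A.index := by
          rw [List.map_const', List.prod_replicate, Finset.length_toList, Finset.card_univ,
            index_eq_card, Nat.card_eq_fintype_card]
  have hpow : a ^ A.index ∈ C ⊔ (center G ⊓ A) := by
    have : a ^ A.index * (N ⟨a, ha⟩ : G)⁻¹ ∈ C := by
      rw [← QuotientGroup.eq_one_iff]
      show π _ = 1
      rw [map_mul, map_inv, hmul, map_pow, mul_inv_cancel]
    have h2 : (N ⟨a, ha⟩ : G) ∈ center G ⊓ A := ⟨hcenter _, SetLike.coe_mem _⟩
    simpa using mul_mem (mem_sup_left this) (mem_sup_right (S := C) h2)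
  have hord : (orderOf a).Coprime A.index :=
    Nat.Coprime.coprime_dvd_left (orderOf_dvd_natCard A ha) hco
  obtain ⟨m, hm⟩ := exists_pow_eq_self_of_coprime hord.symm
  rw [← hm]
  exact pow_mem hpow m

end CfsgLib.Transfer
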