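import Cfsg.Agent.Lib.PGroup.Basic
import Cfsg.Agent.Lib.PGroup.ElemAbelian
import Mathlib.NumberTheory.Multiplicity

/-!
`p`-groups with a cyclic subgroup of index `p`; normal subgroups of type `(p, p)`.
-/

namespace CfsgLib.Transfer

open Subgroup Cfsg
open scoped commutatorElement

variable {G : Type*} [Group G] {p : ℕ}

/-- For odd `p`, `r ^ p ≡ 1 mod p ^ n` forces `r ≡ 1 mod p ^ (n - 1)` and, for `n ≥ 1`, `r ≡ 1 mod p`. -/
theorem int_dvd_sub_one_of_pow_prime (hp : p.Prime) (hp2 : p ≠ 2) {r : ℤ} {n : ℕ}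
    (h : (p : ℤ) ^ (n + 1) ∣ r ^ p - 1) : (p : ℤ) ∣ r - 1 ∧ (p : ℤ) ^ n ∣ r - 1 := by
  have := Fact.mk hp
  have h1 : (p : ℤ) ∣ r - 1 := by
    rw [← ZMod.intCast_zmod_eq_zero_iff_dvd]
    have h2 : ((r ^ p - 1 : ℤ) : ZMod p) = 0 :=
      (ZMod.intCast_zmod_eq_zero_iff_dvd _ _).2 ((dvd_pow_self _ n.succ_ne_zero).trans h)
    push_cast [ZMod.pow_card] at h2 ⊢
    exact h2
  refine ⟨h1, ?_⟩
  have hr : ¬ (p : ℤ) ∣ r := fun hd => by
    have : (p : ℤ) ∣ 1 := (dvd_sub hd h1).trans (by simp)
    exact hp.ne_one (by exact_mod_cast Int.eq_one_of_dvd_one (by positivity) this)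
  have h3 := Int.emultiplicity_pow_sub_pow hp (hp.odd_of_ne_two hp2) (x := r) (y := 1) h1 hr p
  rw [one_pow, hp.emultiplicity_self] at h3
  rw [pow_dvd_iff_le_emultiplicity] at h ⊢
  rw [h3, Nat.cast_add, Nat.cast_one] at h
  exact (ENat.add_le_add_iff_right (by simp)).1 h

section
variable [Finite G] [hp : Fact p.Prime]

/-- A subgroup of index `p` in a finite `p`-group is normal. -/
theorem normal_of_index_eq (hG : IsPGroup p G) {A : Subgroup G} (hA : A.index = p) : A.Normal := by
  obtain ⟨n, hn⟩ := IsPGroup.iff_card.1 hG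
  rcases Nat.eq_zero_or_pos n with rfl | hn0
  · have : A.index = 1 := Nat.dvd_one.1 (by have := A.index_dvd_card; rwa [hn, pow_zero] at this)
    exact absurd (hA.symm.trans this) hp.out.ne_one
  · refine normal_of_index_eq_minFac_card ?_
    rw [hA, hn, Nat.pow_minFac hn0.ne', hp.out.minFac_eq]

theorem exists_conj_pow (hG : IsPGroup p G) {a : G} (hA : (zpowers a).index = p) (b : G) :
    ∃ r : ℕ, b * a * b⁻¹ = a ^ r ∧ orderOf a ∣ (((r : ℤ) ^ p - 1)).natAbs := by
  have hn := normal_of_index_eq hG hA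
  obtain ⟨r, hr⟩ : b * a * b⁻¹ ∈ Submonoid.powers a :=
    mem_powers_iff_mem_zpowers.2 (hn.conj_mem _ (mem_zpowers a) b)
  simp only at hr
  refine ⟨r, hr.symm, ?_⟩
  have hbp : b ^ p ∈ zpowers a := hA ▸ (zpowers a).pow_index_mem b
  have hiter : ∀ k : ℕ, b ^ k * a * (b ^ k)⁻¹ = a ^ (r ^ k) := by
    intro k
    induction k with
    | zero => simp
    | succ k ih =>
      rw [pow_succ', pow_succ, pow_mul, show b * b ^ k * a * (b * b ^ k)⁻¹ = b * (b ^ k * a * (b ^ k)⁻¹) * b⁻¹ by group,
        ih, ← conj_pow, ← hr, ← pow_mul, ← pow_mul, mul_comm]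
  have h1 : a ^ (r ^ p) = a := by
    rw [← hiter p]
    obtain ⟨j, hj⟩ := hbp
    simp only at hj
    rw [← hj]
    group
  rw [← Int.natCast_dvd, orderOf_dvd_iff_zpow_eq_one, zpow_sub, zpow_one, ← Nat.cast_pow,
    zpow_natCast, h1, mul_inv_cancel]

/-- For odd `p`, commutators in a `p`-group with a cyclic subgroup of index `p` are central of order dividing `p`. -/
theorem commutator_central_of_cyclic_index (hG : IsPGroup p G) (hp2 : p ≠ 2) {a : G}
    (hA : (zpowers a).index = p) (x y : G) : ⁅x, y⁆ ∈ center G ∧ ⁅x, y⁆ ^ p = 1 := by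
  obtain ⟨b, hb⟩ : ∃ b, b ∉ zpowers a := by
    by_contra hcon
    push Not at hcon
    rw [(eq_top_iff' _).2 hcon, index_top] at hA
    exact hp.out.ne_one hA.symm
  obtain ⟨r, hr, hdvd⟩ := exists_conj_pow hG hA b
  obtain ⟨m, hm⟩ := IsPGroup.iff_orderOf.1 hG a
  set c : G := a ^ ((r : ℤ) - 1) with hc
  have hcA : c ∈ zpowers a := zpow_mem (mem_zpowers a) _
  have hc1 : c = ⁅b, a⁆ := by rw [hc, zpow_sub, zpow_natCast, zpow_one, commutatorElement_def, hr]
  have hcp : c ^ p = 1 ∧ b * c * b⁻¹ = c := by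
    cases m with
    | zero =>
      rw [pow_zero, orderOf_eq_one_iff] at hm
      simp [hc, hm]
    | succ m =>
      rw [hm, ← Int.natCast_dvd, Nat.cast_pow] at hdvd
      obtain ⟨h1, h2⟩ := int_dvd_sub_one_of_pow_prime hp.out hp2 hdvd
      have hcp : c ^ p = 1 := by
        rw [hc, ← zpow_natCast, ← zpow_mul, ← orderOf_dvd_iff_zpow_eq_one, hm, Nat.cast_pow, pow_succ]
        exact mul_dvd_mul_right h2 _
      refine ⟨hcp, ?_⟩
      rw [hc, ← conj_zpow, hr, ← zpow_natCast, ← zpow_mul, mul_comm, zpow_mul, ← hc]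
      obtain ⟨k, hk⟩ := h1
      rw [show (r : ℤ) = (p : ℤ) * k + 1 by omega, zpow_add, zpow_mul, zpow_natCast, hcp, one_zpow, one_mul, zpow_one]
  have htop : closure {a, b} = (⊤ : Subgroup G) := by
    have hle : zpowers a ≤ closure {a, b} := zpowers_le.2 (subset_closure (by simp))
    have h1 : (closure {a, b}).index ∣ p := hA ▸ index_dvd_of_le hle
    rcases (Nat.dvd_prime hp.out).1 h1 with h | h
    · exact index_eq_one.1 h
    · have heq : zpowers a = closure {a, b} := eq_of_le_of_card_ge hle (le_of_eq (by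
        have e1 := (zpowers a).card_mul_index
        have e2 := (closure {a, b}).card_mul_index
        rw [hA, ← e2, h] at e1
        exact (Nat.eq_of_mul_eq_mul_right hp.out.pos e1).symm))
      exact absurd (heq ▸ subset_closure (by simp)) hb
  have hcc : c ∈ center G := by
    have : closure {a, b} ≤ centralizer ({c} : Set G) := by
      rw [closure_le]
      rintro z (rfl | rfl) <;> rw [SetLike.mem_coe, mem_centralizer_singleton_iff]
      · exact (Commute.self_zpow z _).eq
      · exact mul_inv_eq_iff_eq_mul.1 hcp.2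
    rw [htop] at this
    exact mem_center_iff.2 fun z => mem_centralizer_singleton_iff.1 (this (mem_top z))
  set Z := zpowers c
  have hZn : Z.Normal := ⟨fun z hz g => by
    rwa [mem_center_iff.1 (zpowers_le.2 hcc hz) g, mul_inv_cancel_right]⟩
  have hπ : ⁅QuotientGroup.mk' Z b, QuotientGroup.mk' Z a⁆ = 1 := by
    rw [← map_commutatorElement, ← hc1]
    exact (QuotientGroup.eq_one_iff _).2 (mem_zpowers c)
  have hgen : closure {QuotientGroup.mk' Z a, QuotientGroup.mk' Z b} = ⊤ := by
    rw [← Set.image_pair, ← MonoidHom.map_closure, htop,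
      map_top_of_surjective _ (QuotientGroup.mk'_surjective Z)]
  have hab : ∀ u v : G ⧸ Z, u * v = v * u := by
    have hc' : IsMulCommutative (closure {QuotientGroup.mk' Z a, QuotientGroup.mk' Z b}) :=
      isMulCommutative_closure (by
        have := commutatorElement_eq_one_iff_mul_comm.1 hπ
        rintro u (rfl | rfl) v (rfl | rfl) <;> first | rfl | exact this | exact this.symm)
    intro u v
    exact congrArg Subtype.val (hc'.is_comm.comm ⟨u, hgen ▸ mem_top u⟩ ⟨v, hgen ▸ mem_top v⟩)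
  have hxy : ⁅x, y⁆ ∈ Z := by
    rw [← QuotientGroup.eq_one_iff, ← QuotientGroup.mk'_apply, map_commutatorElement,
      commutatorElement_eq_one_iff_mul_comm]
    exact hab _ _
  refine ⟨zpowers_le.2 hcc hxy, ?_⟩
  obtain ⟨i, hi⟩ := hxy
  simp only at hi
  rw [← hi, ← zpow_natCast, ← zpow_mul, mul_comm, zpow_mul, zpow_natCast, hcp.1, one_zpow]

theorem dvd_choose_two (hp2 : p ≠ 2) : p ∣ p.choose 2 :=
  hp.out.dvd_choose_self (by norm_num) (lt_of_le_of_ne hp.out.two_le (Ne.symm hp2))

/-- For odd `p`, in a non-cyclic `p`-group with a cyclic subgroup of index `p` the elements killed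
by `p` form a subgroup of type `(p, p)`. -/
theorem omega_of_cyclic_index (hG : IsPGroup p G) (hp2 : p ≠ 2) (hnc : ¬ IsCyclic G)
    {C : Subgroup G} (hC : IsCyclic C) (hCi : C.index = p) :
    IsElementaryAbelian p (closure {x : G | x ^ p = 1}) ∧
      Nat.card (closure {x : G | x ^ p = 1}) = p ^ 2 ∧ ∀ x ∈ closure {x : G | x ^ p = 1}, x ^ p = 1 := by
  obtain ⟨a, rfl⟩ : ∃ a : G, zpowers a = C := (Subgroup.isCyclic_iff_exists_zpowers_eq_top C).1 hC
  have hn := normal_of_index_eq hG hCi
  have hhom : ∀ x y : G, (x * y) ^ p = x ^ p * y ^ p := by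
    intro x y
    obtain ⟨h1, h2⟩ := commutator_central_of_cyclic_index hG hp2 hCi y x
    obtain ⟨k, hk⟩ := dvd_choose_two (p := p) hp2
    rw [PGroup.mul_pow_of_comm_mem_center h1, hk, pow_mul, h2, one_pow, mul_one]
  let f : G →* G := MonoidHom.mk' (· ^ p) hhom
  have hker : closure {x : G | x ^ p = 1} = f.ker := by
    refine le_antisymm ((closure_le _).2 fun x hx => MonoidHom.mem_ker.2 hx) fun x hx =>
      subset_closure (MonoidHom.mem_ker.1 hx)
  rw [hker]
  obtain ⟨m, hm⟩ := IsPGroup.iff_orderOf.1 hG a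
  have hcard : Nat.card G = p ^ (m + 1) := by
    rw [← (zpowers a).card_mul_index, hCi, Nat.card_zpowers, hm, pow_succ]
  cases m with
  | zero => exact absurd (isCyclic_of_prime_card (p := p) (by simpa using hcard)) hnc
  | succ m =>
    have hrange : f.range = zpowers (a ^ p) := by
      refine le_antisymm ?_ (zpowers_le.2 ⟨a, rfl⟩)
      rintro _ ⟨x, rfl⟩
      show x ^ p ∈ zpowers (a ^ p)
      obtain ⟨i, hi⟩ : x ^ p ∈ zpowers a := hCi ▸ (zpowers a).pow_index_mem x
      simp only at hi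
      by_cases hpi : (p : ℤ) ∣ i
      · obtain ⟨j, rfl⟩ := hpi
        exact ⟨j, by rw [← hi, zpow_mul, zpow_natCast]⟩
      · exfalso
        have hord : orderOf (x ^ p) = p ^ (m + 1) := by
          rw [← hi, ← hm]
          obtain ⟨u, v, huv⟩ : IsCoprime i ((p : ℤ) ^ (m + 1)) :=
            ((Nat.prime_iff_prime_int.1 hp.out).coprime_iff_not_dvd.2 hpi).symm.pow_right
          have hmem : a ∈ zpowers (a ^ i) := by
            refine ⟨u, ?_⟩
            have h1 : a ^ (v * (p : ℤ) ^ (m + 1)) = 1 := by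
              rw [← orderOf_dvd_iff_zpow_eq_one, hm, Nat.cast_pow]
              exact dvd_mul_left _ _
            show (a ^ i) ^ u = a
            conv_rhs => rw [← zpow_one a, ← huv, zpow_add, h1, mul_one]
            rw [← zpow_mul, mul_comm]
          refine Nat.dvd_antisymm ?_ ?_
          · exact orderOf_dvd_of_mem_zpowers (zpow_mem (mem_zpowers a) _)
          · exact orderOf_dvd_of_mem_zpowers hmem
        have hp0 : p ≠ 0 := hp.out.ne_zero
        obtain ⟨k, hk⟩ := IsPGroup.iff_orderOf.1 hG x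
        rw [orderOf_pow' x hp0, hk] at hord
        cases k with
        | zero => simp at hord; exact absurd hord.symm (Nat.one_lt_pow (by omega) hp.out.one_lt).ne'
        | succ k =>
          rw [Nat.gcd_eq_right (dvd_pow_self p k.succ_ne_zero), pow_succ,
            Nat.mul_div_cancel _ hp.out.pos] at hord
          exact hnc (isCyclic_of_orderOf_eq_card x (by rw [hk, hcard, pow_succ, hord, ← pow_succ]))
    have hcr : Nat.card f.range = p ^ m := by
      rw [hrange, Nat.card_zpowers, orderOf_pow' a hp.out.ne_zero, hm,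
        Nat.gcd_eq_right (dvd_pow_self p m.succ_ne_zero), pow_succ, Nat.mul_div_cancel _ hp.out.pos]
    have hck : Nat.card f.ker = p ^ 2 := by
      have h1 := f.ker.card_mul_index
      rw [index_ker, hcr, hcard, show m + 1 + 1 = 2 + m by omega, pow_add] at h1
      exact Nat.eq_of_mul_eq_mul_right (pow_pos hp.out.pos m) h1
    have hexp : ∀ x ∈ f.ker, x ^ p = 1 := fun x hx => hx
    exact ⟨⟨IsPGroup.isMulCommutative_of_card_eq_prime_sq hck, hexp⟩, hck, hexp⟩

/-- An abelian `p`-subgroup with at most `p` elements killed by `p` is cyclic. -/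
theorem isCyclic_of_omega_le (hG : IsPGroup p G) {A : Subgroup G}
    (hA : ∀ a ∈ A, ∀ b ∈ A, a * b = b * a) (h : Nat.card (omegaOne p A) ≤ p) : IsCyclic A := by
  classical
  let inst : CommGroup A :=
    { (inferInstance : Group A) with mul_comm := fun a b => Subtype.ext (hA a a.2 b b.2) }
  have := Fintype.ofFinite A
  refine isCyclic_of_card_pow_eq_one_le fun n hn => ?_
  obtain ⟨k, hk⟩ := IsPGroup.iff_card.1 (hG.to_subgroup A)
  let e : {x : A // x ^ p = 1} → omegaOne p A := fun x =>
    ⟨(x : A), PGroup.mem_omegaOne (x : A).2 (congrArg Subtype.val x.2)⟩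
  have he : Function.Injective e := fun x y hxy =>
    Subtype.ext (Subtype.ext (congrArg (fun z : omegaOne p A => (z : G)) hxy))
  have hp1 : Nat.card {x : A // x ^ p = 1} ≤ p := (Nat.card_le_card_of_injective e he).trans h
  have key : ∀ j : ℕ, Nat.card {x : A // x ^ p ^ j = 1} ≤ p ^ j := by
    intro j
    induction j with
    | zero =>
      have hone : ∀ x : {x : A // x ^ p ^ 0 = 1}, (x : A) = 1 := fun x => by simpa using x.2
      rw [pow_zero]
      exact Finite.card_le_one_iff_subsingleton.2 ⟨fun x y => Subtype.ext ((hone x).trans (hone y).symm)⟩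
    | succ j ih =>
      have hle : Nat.card {x : A // x ^ p ^ (j + 1) = 1} =
          Nat.card (powMonoidHom (α := A) (p ^ (j + 1))).ker := rfl
      have hle1 : Nat.card (powMonoidHom (α := A) p).ker ≤ p := hp1
      have hlej : Nat.card (powMonoidHom (α := A) (p ^ j)).ker ≤ p ^ j := ih
      rw [hle]
      set K := (powMonoidHom (α := A) (p ^ (j + 1))).ker
      let f : K →* A := (powMonoidHom (α := A) p).comp K.subtype
      have hr : f.range ≤ (powMonoidHom (α := A) (p ^ j)).ker := by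
        rintro _ ⟨x, rfl⟩
        show ((x : A) ^ p) ^ p ^ j = 1
        rw [← pow_mul, ← pow_succ']
        exact x.2
      have hk' : Nat.card f.ker ≤ p := le_trans (Nat.card_le_card_of_injective
        (fun x : f.ker => (⟨((x : K) : A), x.2⟩ : (powMonoidHom (α := A) p).ker))
        (fun x y hxy => Subtype.ext (Subtype.ext (congrArg (fun z : (powMonoidHom (α := A) p).ker => (z : A)) hxy)))) hle1
      rw [← f.ker.card_mul_index, index_ker, pow_succ']
      exact Nat.mul_le_mul hk' ((card_le_of_le hr).trans hlej)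
  obtain ⟨j, hj, hg⟩ := (Nat.dvd_prime_pow hp.out).1 (hk ▸ Nat.gcd_dvd_right n (Nat.card A))
  rw [← Fintype.card_subtype, ← Nat.card_eq_fintype_card]
  refine le_trans (Nat.card_le_card_of_injective (fun x : {a : A // a ^ n = 1} =>
    (⟨x.1, ?_⟩ : {a : A // a ^ p ^ j = 1})) (fun x y hxy => Subtype.ext (by simpa using hxy))) ?_
  · rw [← hg, pow_gcd_eq_one]
    exact ⟨x.2, hk ▸ pow_card_eq_one'⟩
  · exact (key j).trans (Nat.le_of_dvd hn (hg ▸ Nat.gcd_dvd_left n _))

/-- A nonabelian `p`-group with cyclic maximal subgroup, `p` odd, in generators and relations. -/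
theorem exists_generators_of_cyclic_index (hp2 : p ≠ 2) {n : ℕ} (hn : 3 ≤ n) (hcard : Nat.card G = p ^ n)
    {C : Subgroup G} (hC : IsCyclic C) (hCi : C.index = p) (hna : ∃ x y : G, x * y ≠ y * x) :
    ∃ a b : G, orderOf a = p ^ (n - 1) ∧ orderOf b = p ∧ b ∉ zpowers a ∧
      b * a * b⁻¹ = a ^ (1 + p ^ (n - 2)) := by
  have hG : IsPGroup p G := IsPGroup.of_card hcard
  have hnc : ¬ IsCyclic G := fun h => by
    obtain ⟨x, y, hxy⟩ := hna
    exact hxy ((IsMulCommutative.is_comm (M := G)).comm x y)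
  obtain ⟨-, hΩ, hΩp⟩ := omega_of_cyclic_index hG hp2 hnc hC hCi
  obtain ⟨a, rfl⟩ : ∃ a : G, zpowers a = C := (Subgroup.isCyclic_iff_exists_zpowers_eq_top C).1 hC
  obtain ⟨m, rfl⟩ : ∃ m, n = m + 2 := ⟨n - 2, by omega⟩
  simp only [show m + 2 - 1 = m + 1 by omega, show m + 2 - 2 = m by omega]
  have hoa : orderOf a = p ^ (m + 1) := by
    have h1 := (zpowers a).card_mul_index
    rw [hCi, hcard, Nat.card_zpowers, pow_succ] at h1
    exact Nat.eq_of_mul_eq_mul_right hp.out.pos h1
  set d := a ^ p ^ m with hd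
  have hod : orderOf d = p := by
    rw [hd, orderOf_pow' a (pow_ne_zero _ hp.out.ne_zero), hoa,
      Nat.gcd_eq_right (pow_dvd_pow p (Nat.le_succ m)), Nat.pow_div (Nat.le_succ m) hp.out.pos,
      show m + 1 - m = 1 by omega, pow_one]
  have hunique : ∀ x ∈ zpowers a, x ^ p = 1 → x ∈ zpowers d := by
    rintro _ ⟨i, rfl⟩ hx
    simp only at hx
    rw [← zpow_natCast, ← zpow_mul, ← orderOf_dvd_iff_zpow_eq_one, hoa, Nat.cast_pow, pow_succ] at hx
    obtain ⟨k, rfl⟩ := Int.dvd_of_mul_dvd_mul_right (by exact_mod_cast hp.out.ne_zero) hx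
    exact ⟨k, by simp only [hd]; rw [← zpow_natCast, ← zpow_mul, Nat.cast_pow]⟩
  obtain ⟨b, hb, hbA⟩ : ∃ b, b ∈ closure {x : G | x ^ p = 1} ∧ b ∉ zpowers a := by
    by_contra hcon
    push Not at hcon
    have := card_le_of_le (fun x hx => hunique x (hcon x hx) (hΩp x hx) :
      closure {x : G | x ^ p = 1} ≤ zpowers d)
    rw [hΩ, Nat.card_zpowers, hod] at this
    nlinarith [hp.out.two_le]
  set c := ⁅b, a⁆ with hc
  obtain ⟨hcc, hcp⟩ := commutator_central_of_cyclic_index hG hp2 hCi b a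
  have hn := normal_of_index_eq hG hCi
  have hcA : c ∈ zpowers a := by
    rw [hc, commutatorElement_def]
    exact mul_mem (hn.conj_mem _ (mem_zpowers a) b) (inv_mem (mem_zpowers a))
  have hc1 : c ≠ 1 := by
    intro h
    rw [hc, commutatorElement_eq_one_iff_mul_comm] at h
    obtain ⟨x, y, hxy⟩ := hna
    refine hxy ?_
    have hcl : closure {a, b} = (⊤ : Subgroup G) := by
      have hle : zpowers a ≤ closure {a, b} := zpowers_le.2 (subset_closure (by simp))
      have h1 : (closure {a, b}).index ∣ p := hCi ▸ index_dvd_of_le hle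
      rcases (Nat.dvd_prime hp.out).1 h1 with h | h
      · exact index_eq_one.1 h
      · have heq : zpowers a = closure {a, b} := eq_of_le_of_card_ge hle (le_of_eq (by
          have e1 := (zpowers a).card_mul_index
          have e2 := (closure {a, b}).card_mul_index
          rw [hCi, ← e2, h] at e1
          exact (Nat.eq_of_mul_eq_mul_right hp.out.pos e1).symm))
        exact absurd (heq ▸ subset_closure (by simp)) hbA
    have hc' : IsMulCommutative (closure {a, b}) := isMulCommutative_closure (by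
      rintro u (rfl | rfl) v (rfl | rfl) <;> first | rfl | exact h | exact h.symm)
    exact congrArg Subtype.val (hc'.is_comm.comm ⟨x, hcl ▸ mem_top x⟩ ⟨y, hcl ▸ mem_top y⟩)
  obtain ⟨j, hj⟩ : d ∈ Submonoid.powers c := by
    rw [mem_powers_iff_mem_zpowers]
    have hle : zpowers c ≤ zpowers d := zpowers_le.2 (hunique c hcA hcp)
    have : zpowers c = zpowers d := eq_of_le_of_card_ge hle (by
      rw [Nat.card_zpowers, Nat.card_zpowers, hod, orderOf_eq_prime hcp hc1])
    exact this ▸ mem_zpowers d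
  simp only at hj
  have hrel : b ^ j * a * (b ^ j)⁻¹ = a ^ (1 + p ^ m) := by
    have h1 : ⁅b ^ j, a⁆ = d := by rw [PGroup.comm_pow_left hcc, ← hc, hj]
    rw [pow_add, pow_one, ← hd, ← h1, mem_center_iff.1 (h1 ▸ hj ▸ pow_mem hcc j) a, commutatorElement_def]
    group
  have hbj : b ^ j ∉ zpowers a := fun h => by
    obtain ⟨i, hi⟩ := h
    simp only at hi
    rw [← hi, pow_add, pow_one, ← hd, (Commute.zpow_self a i).eq, mul_inv_cancel_right, left_eq_mul] at hrel
    rw [hrel, orderOf_one] at hod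
    exact hp.out.ne_one hod.symm
  refine ⟨a, b ^ j, hoa, orderOf_eq_prime ?_ fun h => hbj (h ▸ one_mem _), hbj, hrel⟩
  rw [← pow_mul, mul_comm, pow_mul, hΩp b hb, one_pow]

/-- A non-trivial normal subgroup of order at least `p ^ 2` contains a normal subgroup of order `p ^ 2`. -/
theorem exists_normal_card_sq (hG : IsPGroup p G) {K : Subgroup G} [hKn : K.Normal]
    (hK : p ^ 2 ∣ Nat.card K) : ∃ A : Subgroup G, A ≤ K ∧ A.Normal ∧ Nat.card A = p ^ 2 := by
  have hK1 : K ≠ ⊥ := fun h => by
    rw [h, card_bot, Nat.dvd_one, sq] at hK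
    exact hp.out.ne_one (Nat.eq_one_of_mul_eq_one_right hK)
  obtain ⟨Z, hZK, -, hZn, hZ⟩ := PGroup.exists_card_eq_le_center hG K hK1
  set π := QuotientGroup.mk' Z
  have hKn' : (K.map π).Normal := hKn.map π (QuotientGroup.mk'_surjective Z)
  have hK2 : K.map π ≠ ⊥ := fun h => by
    rw [Subgroup.map_eq_bot_iff, QuotientGroup.ker_mk'] at h
    rw [le_antisymm h hZK, hZ] at hK
    have := Nat.le_of_dvd hp.out.pos hK
    nlinarith [hp.out.two_le]
  obtain ⟨W, hWK, -, hWn, hW⟩ := PGroup.exists_card_eq_le_center (hG.to_quotient Z) (K.map π) hK2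
  refine ⟨W.comap π, ?_, hWn.comap π, ?_⟩
  · refine (comap_mono hWK).trans (le_of_eq ?_)
    rw [comap_map_eq, QuotientGroup.ker_mk', sup_eq_left.2 hZK]
  · have hle : Z ≤ W.comap π := (QuotientGroup.ker_mk' Z).ge.trans (MonoidHom.ker_le_comap π W)
    rw [← card_mul_index (Z.subgroupOf (W.comap π)),
      Nat.card_congr (subgroupOfEquivOfLe hle).toEquiv, hZ, sq]
    congr 1
    show Z.relIndex (W.comap π) = p
    rw [show Z.relIndex (W.comap π) = π.ker.relIndex (W.comap π) by rw [QuotientGroup.ker_mk'], relIndex_ker,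
      map_comap_eq_self_of_surjective (QuotientGroup.mk'_surjective Z), hW]

/-- For odd `p` a non-cyclic normal subgroup of a `p`-group contains a normal subgroup of type `(p, p)`. -/
theorem exists_normal_elemAb_sq (hG : IsPGroup p G) (hp2 : p ≠ 2) {S : Subgroup G} [hSn : S.Normal]
    (hS : ¬ IsCyclic S) :
    ∃ A : Subgroup G, A ≤ S ∧ A.Normal ∧ IsElementaryAbelian p A ∧ Nat.card A = p ^ 2 := by
  obtain ⟨A, ⟨hAn, hAS, hAc⟩, hmax⟩ := Set.Finite.exists_maximal
    (s := {A : Subgroup G | A.Normal ∧ A ≤ S ∧ ∀ a ∈ A, ∀ b ∈ A, a * b = b * a}) (Set.toFinite _)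
    ⟨⊥, inferInstance, bot_le, by simp⟩
  have hfin : ∀ {K : Subgroup G}, K.Normal → K ≤ S → IsElementaryAbelian p K → p ^ 2 ∣ Nat.card K →
      ∃ A : Subgroup G, A ≤ S ∧ A.Normal ∧ IsElementaryAbelian p A ∧ Nat.card A = p ^ 2 := by
    intro K hKn hKS hKe hd
    obtain ⟨B, hBK, hBn, hB⟩ := exists_normal_card_sq hG hd
    exact ⟨B, hBK.trans hKS, hBn, PGroup.elemAb_mono hKe hBK, hB⟩
  by_cases hcyc : IsCyclic A
  · obtain ⟨B, hBn, hAB, hBS, hBA⟩ : ∃ B : Subgroup G, B.Normal ∧ A ≤ B ∧ B ≤ S ∧ A.relIndex B = p := by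
      set π := QuotientGroup.mk' A
      have hSn' : (S.map π).Normal := hSn.map π (QuotientGroup.mk'_surjective A)
      have hne : S.map π ≠ ⊥ := fun h => by
        rw [Subgroup.map_eq_bot_iff, QuotientGroup.ker_mk'] at h
        exact hS (le_antisymm h hAS ▸ hcyc)
      obtain ⟨W, hWS, -, hWn, hW⟩ := PGroup.exists_card_eq_le_center (hG.to_quotient A) (S.map π) hne
      refine ⟨W.comap π, hWn.comap π, (QuotientGroup.ker_mk' A).ge.trans (MonoidHom.ker_le_comap π W),
        (comap_mono hWS).trans (le_of_eq ?_), ?_⟩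
      · rw [comap_map_eq, QuotientGroup.ker_mk', sup_eq_left.2 hAS]
      · rw [show A.relIndex (W.comap π) = π.ker.relIndex (W.comap π) by rw [QuotientGroup.ker_mk'], relIndex_ker,
          map_comap_eq_self_of_surjective (QuotientGroup.mk'_surjective A), hW]
    have hBnc : ¬ IsCyclic B := fun h => by
      have hBc : ∀ a ∈ B, ∀ b ∈ B, a * b = b * a := fun a ha b hb => congrArg Subtype.val
        ((IsMulCommutative.is_comm (M := B)).comm ⟨a, ha⟩ ⟨b, hb⟩)
      have := le_antisymm hAB (hmax ⟨hBn, hBS, hBc⟩ hAB)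
      rw [← this, relIndex_self] at hBA
      exact hp.out.ne_one hBA.symm
    have hCcyc : IsCyclic (A.subgroupOf B) :=
      isCyclic_of_surjective _ (subgroupOfEquivOfLe hAB).symm.surjective
    obtain ⟨hΩe, hΩ, hΩp⟩ := omega_of_cyclic_index (hG.to_subgroup B) hp2 hBnc hCcyc hBA
    set Ω := closure {x : B | x ^ p = 1}
    have hΩc : Ω.Characteristic := by
      rw [characteristic_iff_map_le]
      intro e
      rw [MonoidHom.map_closure]
      refine closure_mono ?_
      rintro _ ⟨x, hx, rfl⟩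
      show e x ^ p = 1
      rw [← map_pow, hx, map_one]
    refine hfin (K := Ω.map B.subtype) inferInstance ((map_subtype_le Ω).trans hBS)
      (PGroup.elemAb_map hΩe _) ?_
    rw [card_map_of_injective B.subtype_injective, hΩ]
  · have hΩn : (omegaOne p A).Normal := PGroup.omegaOne_normal p A
    refine hfin hΩn ((PGroup.omegaOne_le p A).trans hAS) (PGroup.elemAb_omegaOne_of_comm hAc) ?_
    obtain ⟨k, hk⟩ := IsPGroup.iff_card.1 (hG.to_subgroup (omegaOne p A))
    rw [hk]
    refine pow_dvd_pow p ?_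
    by_contra hlt
    apply hcyc
    refine isCyclic_of_omega_le hG hAc ?_
    rw [hk]
    exact (Nat.pow_le_pow_right hp.out.pos (by omega)).trans (pow_one p).le

end

/-- The elements killed by `p`, generated. -/
def omegaPow (Q : Type*) [Group Q] (p : ℕ) : Subgroup Q := closure {x : Q | x ^ p = 1}

theorem mem_omegaPow {Q : Type*} [Group Q] {p : ℕ} {x : Q} (h : x ^ p = 1) : x ∈ omegaPow Q p :=
  subset_closure h

/-- A finite cyclic group has at most `p` elements killed by `p`. -/
theorem card_omegaPow_le (Q : Type*) [Group Q] [Finite Q] [IsCyclic Q] {p : ℕ} (hp : 0 < p) :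
    Nat.card (omegaPow Q p) ≤ p := by
  classical
  let inst : CommGroup Q := IsCyclic.commGroup
  have := Fintype.ofFinite Q
  have h : omegaPow Q p ≤ (powMonoidHom (α := Q) p).ker := (closure_le _).2 fun x hx => hx
  refine (card_le_of_le h).trans ?_
  have h2 := IsCyclic.card_pow_eq_one_le (α := Q) hp
  rw [← Fintype.card_subtype, ← Nat.card_eq_fintype_card] at h2
  exact h2

end CfsgLib.Transfer
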