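import Mathlib.LinearAlgebra.Matrix.SpecialLinearGroup
import Mathlib.Algebra.CharP.Basic
import Mathlib.GroupTheory.OrderOfElement
import Mathlib.Tactic

/-!
Two transvections with parameter a square root of `-1` do not generate `SL(2,9)`.
-/

namespace CfsgLib.Transfer

open Matrix
open scoped MatrixGroups

/-- Codes of the elements of the group of order `120`. -/
def nineCodes : List ℕ := [603, 3519, 6435, 693, 4338, 5796, 387, 4032, 5490, 477, 3393, 6309, 730, 811, 892, 757, 3025, 5293, 784, 5239, 3133, 1460, 1541, 1622, 1487, 5942, 3836, 1514, 3782, 6050, 4377, 4620, 4863, 4386, 5358, 6330, 4395, 6096, 5610, 5197, 6250, 4873, 5287, 4639, 6421, 841, 3352, 5620, 3118, 6115, 607, 949, 5404, 3541, 3073, 481, 6394, 5927, 4631, 5765, 6017, 5450, 4883, 1652, 4001, 6350, 3776, 5396, 698, 1598, 6134, 4352, 3875, 392, 5657, 2193, 2436, 2679, 2202, 3903, 3417, 2211, 3183, 4155, 3013, 2446, 4309, 3103, 3994, 2698, 925, 5461, 3436, 5236, 3940, 700, 871, 3220, 5812, 5335, 394, 4201, 3743, 3338, 2690, 3833,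 2456, 3509, 1574, 6272, 4166, 6038, 3203, 611, 1682, 3950, 6461, 5993, 485, 3482]

/-- Product of two coded elements of the field of order nine. -/
def nineMul (x y : ℕ) : ℕ :=
  (x % 3 * (y % 3) + 2 * (x / 3 % 3 * (y / 3 % 3))) % 3 +
    3 * ((x % 3 * (y / 3 % 3) + x / 3 % 3 * (y % 3)) % 3)

/-- Sum of two coded elements of the field of order nine. -/
def nineAdd (x y : ℕ) : ℕ := (x % 3 + y % 3) % 3 + 3 * ((x / 3 % 3 + y / 3 % 3) % 3)

/-- Left product with the upper transvection. -/
def nineUpper (m : ℕ) : ℕ :=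
  nineAdd (m % 9) (nineMul 3 (m / 81 % 9)) + 9 * nineAdd (m / 9 % 9) (nineMul 3 (m / 729 % 9)) +
    81 * (m / 81 % 9) + 729 * (m / 729 % 9)

/-- Left product with the lower transvection. -/
def nineLower (m : ℕ) : ℕ :=
  m % 9 + 9 * (m / 9 % 9) + 81 * nineAdd (m % 9) (m / 81 % 9) +
    729 * nineAdd (m / 9 % 9) (m / 729 % 9)

theorem nineCodes_closed :
    (nineCodes.all fun m => nineCodes.contains (nineUpper m) && nineCodes.contains (nineLower m)) = true := by
  decide +kernel

variable {F : Type*} [Field F] [CharP F 3]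

/-- The field element of a code. -/
def nineVal (lam : F) (x : ℕ) : F := ((x % 3 : ℕ) : F) + ((x / 3 % 3 : ℕ) : F) * lam

theorem natCast_mod_three (x : ℕ) : ((x % 3 : ℕ) : F) = (x : F) := by
  conv_rhs => rw [← Nat.mod_add_div x 3]
  rw [Nat.cast_add, Nat.cast_mul, CharP.cast_eq_zero F 3, zero_mul, add_zero]

theorem nineVal_mk (lam : F) (a b : ℕ) :
    nineVal lam (a % 3 + 3 * (b % 3)) = (a : F) + (b : F) * lam := by
  unfold nineVal
  rw [show (a % 3 + 3 * (b % 3)) % 3 = a % 3 by omega,
    show (a % 3 + 3 * (b % 3)) / 3 % 3 = b % 3 by omega, natCast_mod_three, natCast_mod_three]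

theorem nineVal_mul {lam : F} (h : lam ^ 2 = -1) (x y : ℕ) :
    nineVal lam (nineMul x y) = nineVal lam x * nineVal lam y := by
  rw [nineMul, nineVal_mk]
  unfold nineVal
  have h30 : (3 : F) = 0 := by simpa using CharP.cast_eq_zero F 3
  push_cast
  linear_combination (((x / 3 % 3 : ℕ) : F) * ((y / 3 % 3 : ℕ) : F)) * h30 -
    (((x / 3 % 3 : ℕ) : F) * ((y / 3 % 3 : ℕ) : F)) * h

theorem nineVal_add (lam : F) (x y : ℕ) :
    nineVal lam (nineAdd x y) = nineVal lam x + nineVal lam y := by
  rw [nineAdd, nineVal_mk]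
  unfold nineVal
  push_cast
  ring

theorem nineVal_mod (lam : F) (x : ℕ) : nineVal lam (x % 9) = nineVal lam x := by
  unfold nineVal
  rw [show x % 9 % 3 = x % 3 by omega, show x % 9 / 3 % 3 = x / 3 % 3 by omega]

/-- The matrix of a code. -/
def nineMat (lam : F) (m : ℕ) : Matrix (Fin 2) (Fin 2) F :=
  !![nineVal lam m, nineVal lam (m / 9); nineVal lam (m / 81), nineVal lam (m / 729)]

theorem nineMat_mk (lam : F) {a b c d : ℕ} (ha : a < 9) (hb : b < 9) (hc : c < 9) (hd : d < 9) :
    nineMat lam (a + 9 * b + 81 * c + 729 * d) =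
      !![nineVal lam a, nineVal lam b; nineVal lam c, nineVal lam d] := by
  unfold nineMat
  have e : ∀ x y : ℕ, x % 9 = y % 9 → nineVal lam x = nineVal lam y := fun x y h => by
    rw [← nineVal_mod lam x, h, nineVal_mod]
  rw [e (a + 9 * b + 81 * c + 729 * d) a (by omega),
    e ((a + 9 * b + 81 * c + 729 * d) / 9) b (by omega),
    e ((a + 9 * b + 81 * c + 729 * d) / 81) c (by omega),
    e ((a + 9 * b + 81 * c + 729 * d) / 729) d (by omega)]

theorem nineAdd_lt (x y : ℕ) : nineAdd x y < 9 := by unfold nineAdd; omega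

theorem nineVal_three (lam : F) : nineVal lam 3 = lam := by simp [nineVal]

/-- The group generated by the two transvections has at most `120` elements. -/
theorem card_closure_le_of_sq [Finite F] (lam : F) (h : lam ^ 2 = -1) (u l : SL(2, F))
    (hu : u.1 = !![1, lam; 0, 1]) (hl : l.1 = !![1, 0; 1, 1]) :
    Nat.card (Subgroup.closure ({l, u} : Set SL(2, F))) ≤ 120 := by
  classical
  set W : Finset (Matrix (Fin 2) (Fin 2) F) := (nineCodes.map (nineMat lam)).toFinset with hW
  have h1 : (1 : Matrix (Fin 2) (Fin 2) F) ∈ W := by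
    rw [hW, List.mem_toFinset, List.mem_map]
    refine ⟨730, by decide, ?_⟩
    simp [nineMat, nineVal, Matrix.one_fin_two]
  have hstep : ∀ g : SL(2, F), g = l ∨ g = u → ∀ M ∈ W, g.1 * M ∈ W := by
    intro g hg M hM
    rw [hW, List.mem_toFinset, List.mem_map] at hM ⊢
    obtain ⟨m, hm, rfl⟩ := hM
    have hcl := List.all_eq_true.1 nineCodes_closed m hm
    simp only [Bool.and_eq_true, List.contains_iff_mem] at hcl
    rcases hg with rfl | rfl
    · refine ⟨_, hcl.2, ?_⟩
      rw [nineLower, nineMat_mk lam (Nat.mod_lt _ (by norm_num)) (Nat.mod_lt _ (by norm_num))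
        (nineAdd_lt _ _) (nineAdd_lt _ _), hl, nineVal_add, nineVal_add]
      simp only [nineVal_mod, nineMat]
      simp
    · refine ⟨_, hcl.1, ?_⟩
      rw [nineUpper, nineMat_mk lam (nineAdd_lt _ _) (nineAdd_lt _ _)
        (Nat.mod_lt _ (by norm_num)) (Nat.mod_lt _ (by norm_num)), hu, nineVal_add, nineVal_add,
        nineVal_mul h, nineVal_mul h, nineVal_three]
      simp only [nineVal_mod, nineMat]
      simp
  have hmem : ∀ g ∈ Subgroup.closure ({l, u} : Set SL(2, F)), g.1 ∈ W := by
    intro g hg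
    have hfin : Finite SL(2, F) := inferInstance
    rw [← Subgroup.mem_toSubmonoid, Subgroup.closure_toSubmonoid_of_finite] at hg
    have key : ∀ M ∈ W, g.1 * M ∈ W := by
      induction hg using Submonoid.closure_induction with
      | mem x hx => exact hstep x hx
      | one => intro M hM; rwa [Matrix.SpecialLinearGroup.coe_one, one_mul]
      | mul x y _ _ hx hy =>
        intro M hM
        rw [Matrix.SpecialLinearGroup.coe_mul, mul_assoc]
        exact hx _ (hy M hM)
    simpa using key 1 h1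
  calc Nat.card (Subgroup.closure ({l, u} : Set SL(2, F))) ≤ Nat.card W :=
        Nat.card_le_card_of_injective (fun g => ⟨g.1.1, hmem g.1 g.2⟩) fun a b hab =>
          by simp only [Subtype.mk.injEq] at hab; exact Subtype.ext (Subtype.ext hab)
    _ = W.card := by simp
    _ ≤ (nineCodes.map (nineMat lam)).length := List.toFinset_card_le _
    _ = 120 := by rw [List.length_map]; rfl

theorem not_closure_eq_top_of_sq [Finite F] (hF : Nat.card F = 9) (lam : F) (h : lam ^ 2 = -1)
    (u l : SL(2, F)) (hu : u.1 = !![1, lam; 0, 1]) (hl : l.1 = !![1, 0; 1, 1]) :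
    Subgroup.closure ({l, u} : Set SL(2, F)) ≠ ⊤ := by
  intro htop
  have h1 := card_closure_le_of_sq lam h u l hu hl
  rw [htop, Subgroup.card_top] at h1
  classical
  have := Fintype.ofFinite F
  let f : Fˣ × F × F → SL(2, F) := fun x =>
    ⟨!![(x.1 : F), x.2.1; x.2.2, (x.1 : F)⁻¹ * (1 + x.2.1 * x.2.2)], by
      rw [Matrix.det_fin_two_of, ← mul_assoc, mul_inv_cancel₀ x.1.ne_zero]; ring⟩
  have hf : Function.Injective f := by
    intro x y e
    have e' := congrArg (fun M : SL(2, F) => M.1) e
    refine Prod.ext (Units.ext (congrFun (congrFun e' 0) 0)) (Prod.ext ?_ ?_)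
    · exact congrFun (congrFun e' 0) 1
    · exact congrFun (congrFun e' 1) 0
  have h2 := Nat.card_le_card_of_injective f hf
  rw [Nat.card_prod, Nat.card_prod, Nat.card_units, hF] at h2
  omega

end CfsgLib.Transfer
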