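import Cfsg.Agent.Lib.Transfer.Dickson

/-!
Copies of `SL(2,p)` from two transvections, and sections `SL(2,p)` from standard pairs.
-/

namespace CfsgLib.Transfer

open Matrix
open scoped MatrixGroups

variable {p : ℕ} [hp : Fact p.Prime]

local notation "KK" => AlgebraicClosure (ZMod p)

theorem exists_base_change_hom {k : ℕ} (ι : ZMod k →+* KK) (P : Matrix (Fin 2) (Fin 2) KK)
    (hP : P.det ≠ 0) (hι : Function.Injective ι) :
    ∃ Θ : SL(2, ZMod k) →* SL(2, KK), Function.Injective Θ ∧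
      ∀ M, (Θ M).1 * P = P * (Matrix.SpecialLinearGroup.map ι M).1 := by
  let Θ : SL(2, ZMod k) →* SL(2, KK) :=
    { toFun := fun M => ⟨P * (Matrix.SpecialLinearGroup.map ι M : Matrix (Fin 2) (Fin 2) KK) * P⁻¹, by
        rw [Matrix.det_mul, Matrix.det_mul, Matrix.SpecialLinearGroup.det_coe, mul_one,
          Matrix.det_nonsing_inv, Ring.mul_inverse_cancel _ hP.isUnit]⟩
      map_one' := Subtype.ext (by simp [Matrix.mul_nonsing_inv P hP.isUnit])
      map_mul' := fun M N => Subtype.ext (by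
        show P * (Matrix.SpecialLinearGroup.map ι (M * N)).1 * P⁻¹ =
          P * (Matrix.SpecialLinearGroup.map ι M).1 * P⁻¹ * (P * (Matrix.SpecialLinearGroup.map ι N).1 * P⁻¹)
        simp only [map_mul, Matrix.SpecialLinearGroup.coe_mul]
        calc _ = P * (Matrix.SpecialLinearGroup.map ι M).1 * (P⁻¹ * P) *
              (Matrix.SpecialLinearGroup.map ι N).1 * P⁻¹ := by
              rw [Matrix.nonsing_inv_mul P hP.isUnit]; simp [mul_assoc]
          _ = _ := by simp only [mul_assoc]) }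
  have hΘv : ∀ M, (Θ M).1 * P = P * (Matrix.SpecialLinearGroup.map ι M).1 := fun M => by
    show P * (Matrix.SpecialLinearGroup.map ι M).1 * P⁻¹ * P = _
    rw [mul_assoc, Matrix.nonsing_inv_mul P hP.isUnit, mul_one]
  refine ⟨Θ, fun M N h => ?_, hΘv⟩
  have h1 : P * (Matrix.SpecialLinearGroup.map ι M).1 = P * (Matrix.SpecialLinearGroup.map ι N).1 := by
    rw [← hΘv, ← hΘv, h]
  have h2 := congrArg (fun Z => P⁻¹ * Z) h1
  simp only [← mul_assoc, Matrix.nonsing_inv_mul P hP.isUnit, one_mul] at h2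
  ext i j
  exact hι (congrFun (congrFun h2 i) j)

/-- The exceptional group contains `SL(2,3)`. -/
theorem exists_sl23_exceptional (h3 : p = 3) {X : Subgroup SL(2, KK)} {c : KK}
    (hc : c ≠ 0) (hgen : X = Subgroup.closure {upperU c, lowerU 1}) (hc2 : c ^ 2 = -1) :
    ∃ f : SL(2, ZMod 3) →* SL(2, KK), Function.Injective f ∧ f.range ≤ X := by
  have : CharP KK 3 := h3 ▸ (inferInstance : CharP KK p)
  have : Fact (Nat.Prime 3) := ⟨Nat.prime_three⟩
  have hu : upperU c ∈ X := hgen ▸ Subgroup.subset_closure (Or.inl rfl)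
  have hl : lowerU 1 ∈ X := hgen ▸ Subgroup.subset_closure (Or.inr rfl)
  have h30 : (3 : KK) = 0 := by
    have := CharP.cast_eq_zero KK 3
    simpa using this
  set g : SL(2, KK) := lowerU 1 * (upperU c)⁻¹ * (lowerU 1)⁻¹ with hg
  have hgX : g ∈ X := mul_mem (mul_mem hl (inv_mem hu)) (inv_mem hl)
  have hgv : g.1 = !![1 + c, -c; c, 1 - c] := by
    rw [hg, upperU_inv]
    simp [Matrix.adjugate_fin_two]
    ring
  have hy : (g * upperU c * g⁻¹).1 = !![c - 1, 1; c, -c] := by
    rw [sl2_coe_conj, upperU_coe, conj_unipotent g.2, hgv]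
    simp
    refine ⟨⟨?_, ?_⟩, ?_, ?_⟩
    · linear_combination (-c - 1) * hc2 + h30
    · linear_combination (c + 2) * hc2 - (c + 1) * h30 + c * h30
    · linear_combination -c * hc2
    · linear_combination (1 + c) * hc2
  obtain ⟨Θ, hΘi, hΘ⟩ := exists_base_change_hom (ZMod.castHom (dvd_refl 3) KK) !![1, 1 + c; 0, c]
    (by simpa [Matrix.det_fin_two] using hc) (RingHom.injective _)
  have hPu : IsUnit (!![1, 1 + c; 0, c] : Matrix (Fin 2) (Fin 2) KK).det :=
    (show (!![1, 1 + c; 0, c] : Matrix (Fin 2) (Fin 2) KK).det ≠ 0 by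
      simpa [Matrix.det_fin_two] using hc).isUnit
  have hinj : ∀ A B : Matrix (Fin 2) (Fin 2) KK,
      A * !![1, 1 + c; 0, c] = B * !![1, 1 + c; 0, c] → A = B := fun A B h => by
    have h2 := congrArg (fun Z => Z * (!![1, 1 + c; 0, c] : Matrix (Fin 2) (Fin 2) KK)⁻¹) h
    simp only [mul_assoc, Matrix.mul_nonsing_inv _ hPu, mul_one] at h2
    exact h2
  refine ⟨Θ, hΘi, ?_⟩
  have h1 : Θ gen₁ ∈ X := by
    have e : Θ gen₁ = upperU c := by
      refine Subtype.ext (hinj _ _ ?_)
      have eM : (Matrix.SpecialLinearGroup.map (ZMod.castHom (dvd_refl 3) KK) gen₁).1 =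
          !![1, -1; 0, 1] := by
        show (ZMod.castHom (dvd_refl 3) KK).mapMatrix gen₁.1 = _
        simp [gen₁, RingHom.mapMatrix_apply, ← Matrix.ext_iff, Fin.forall_fin_two]
      rw [hΘ, eM, upperU_coe]
      simp
      linear_combination -hc2
    rw [e]; exact hu
  have h2 : Θ gen₂ ∈ X := by
    have e : Θ gen₂ = g * upperU c * g⁻¹ := by
      refine Subtype.ext (hinj _ _ ?_)
      have eM : (Matrix.SpecialLinearGroup.map (ZMod.castHom (dvd_refl 3) KK) gen₂).1 =
          !![1, 0; 1, 1] := by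
        show (ZMod.castHom (dvd_refl 3) KK).mapMatrix gen₂.1 = _
        simp [gen₂, RingHom.mapMatrix_apply, ← Matrix.ext_iff, Fin.forall_fin_two]
      rw [hΘ, hy, eM]
      simp
      refine ⟨⟨?_, ?_⟩, ?_⟩ <;> first
        | linear_combination h30
        | linear_combination -hc2 + h30
        | linear_combination hc2
        | linear_combination -hc2
        | ring
    rw [e]; exact mul_mem (mul_mem hgX hu) (inv_mem hgX)
  rintro _ ⟨M, rfl⟩
  obtain ⟨i, j, k, l, m, rfl⟩ := sl23_word M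
  simp only [map_mul, map_pow]
  exact mul_mem (mul_mem (mul_mem (mul_mem (pow_mem h1 _) (pow_mem h2 _)) (pow_mem h1 _))
    (pow_mem h2 _)) (pow_mem h1 _)

/-- The group generated by two transvections in odd characteristic contains a copy of `SL(2,p)`. -/
theorem exists_sl2_le_of_transvections (hp2 : p ≠ 2) {X : Subgroup SL(2, KK)} [Finite X] {c : KK}
    (hc : c ≠ 0) (hgen : X = Subgroup.closure {upperU c, lowerU 1}) :
    ∃ f : SL(2, ZMod p) →* SL(2, KK), Function.Injective f ∧ f.range ≤ X := by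
  rcases dickson hp2 hc hgen with ⟨S, -, -, hX⟩ | ⟨h3, hc2, -⟩
  · refine ⟨Matrix.SpecialLinearGroup.map (algebraMap (ZMod p) KK), fun M N h => ?_, ?_⟩
    · ext i j
      exact (algebraMap (ZMod p) KK).injective (congrFun (congrFun (congrArg Subtype.val h) i) j)
    · have hS : ∀ x : ZMod p, algebraMap (ZMod p) KK x ∈ S := fun x => by
        rw [← ZMod.natCast_zmod_val x, map_natCast]; exact natCast_mem S _
      rintro _ ⟨M, rfl⟩
      rw [hX]
      exact ⟨Matrix.SpecialLinearGroup.map ((algebraMap (ZMod p) KK).codRestrict S hS) M, rfl⟩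
  · obtain rfl : p = 3 := h3
    exact exists_sl23_exceptional rfl hc hgen hc2

variable {Y : Type*} [Group Y] [Finite Y]

/-- A standard pair gives a section `SL(2,p)`. -/
theorem StdPair.exists_sl2_section {ρ : Y →* Matrix (Fin 2) (Fin 2) KK} {A B : Y} {c : KK}
    (hp2 : p ≠ 2) (h : StdPair ρ A B c) :
    ∃ (S : Subgroup Y) (f : S →* SL(2, ZMod p)), Function.Surjective f ∧
      (Function.Injective ρ → Function.Injective f) := by
  set φ := toSL2 ρ h.det_eq_one with hφ
  have : Finite φ.range := Finite.of_surjective φ.rangeRestrict φ.rangeRestrict_surjective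
  have hA : φ A = upperU c := Subtype.ext h.mapA
  have hB : φ B = lowerU 1 := Subtype.ext h.mapB
  have hgen : φ.range = Subgroup.closure {upperU c, lowerU 1} := by
    rw [MonoidHom.range_eq_map, ← h.gen, MonoidHom.map_closure, Set.image_pair, hA, hB]
  obtain ⟨f, hf, hle⟩ := exists_sl2_le_of_transvections hp2 h.ne hgen
  let e : SL(2, ZMod p) ≃* f.range := MonoidHom.ofInjective hf
  let r : ↥(f.range.comap φ) →* SL(2, ZMod p) :=
    e.symm.toMonoidHom.comp (φ.subgroupComap f.range)
  refine ⟨f.range.comap φ, r, ?_, fun hρ => ?_⟩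
  · intro M
    obtain ⟨y, hy⟩ := hle ⟨M, rfl⟩
    refine ⟨⟨y, ⟨M, hy.symm⟩⟩, ?_⟩
    show e.symm _ = M
    rw [MulEquiv.symm_apply_eq]
    exact Subtype.ext hy
  · intro a b hab
    have hab' := congrArg Subtype.val (e.symm.injective hab)
    exact Subtype.ext (hρ (congrArg Subtype.val hab'))

/-- A faithful standard pair gives a copy of `SL(2,p)`. -/
theorem StdPair.exists_sl2_copy {ρ : Y →* Matrix (Fin 2) (Fin 2) KK} {A B : Y} {c : KK}
    (hp2 : p ≠ 2) (h : StdPair ρ A B c) (hρ : Function.Injective ρ) :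
    ∃ f : SL(2, ZMod p) →* Y, Function.Injective f := by
  obtain ⟨S, f, hf, hi⟩ := h.exists_sl2_section hp2
  exact ⟨S.subtype.comp (MulEquiv.ofBijective f ⟨hi hρ, hf⟩).symm.toMonoidHom,
    S.subtype_injective.comp (MulEquiv.ofBijective f ⟨hi hρ, hf⟩).symm.injective⟩

end CfsgLib.Transfer
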