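import Cfsg.Agent.Lib.Transfer.Plane
import Cfsg.Agent.Lib.Transfer.DicksonSL
import Cfsg.Agent.Lib.Transfer.DicksonNine
import Mathlib.FieldTheory.IsAlgClosed.Basic

/-!
Dickson's theorem over finite fields of odd characteristic.
-/

namespace CfsgLib.Transfer

open Matrix
open scoped MatrixGroups

variable {p : ℕ} [hp : Fact p.Prime]

local notation "KK" => AlgebraicClosure (ZMod p)

variable {F : Type*} [Field F] [Finite F]

theorem exists_embedding_algClosure [CharP F p] : Nonempty (F →+* AlgebraicClosure (ZMod p)) := by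
  letI := ZMod.algebra F p
  have : Module.Finite (ZMod p) F := Module.Finite.of_finite
  exact ⟨(IsAlgClosed.lift : F →ₐ[ZMod p] KK).toRingHom⟩

/-- Two distinct Sylow `p`-subgroups give a faithful standard pair. -/
theorem exists_stdPair_of_sylow [CharP F p] (H : Subgroup SL(2, F)) (hH : 1 < Nat.card (Sylow p H)) :
    ∃ (S : Subgroup H) (ρ : S →* Matrix (Fin 2) (Fin 2) KK) (A B : S) (c : KK),
      StdPair ρ A B c ∧ Function.Injective ρ := by
  obtain ⟨ι⟩ := exists_embedding_algClosure (p := p) (F := F)
  let ρ : H →* Matrix (Fin 2) (Fin 2) KK :=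
    { toFun := fun g => (Matrix.SpecialLinearGroup.map ι (g : SL(2, F))).1
      map_one' := by simp
      map_mul' := fun a b => by simp }
  have hρ : Function.Injective ρ := fun a b h => by
    refine Subtype.ext (Subtype.ext (Matrix.ext fun i j => ι.injective ?_))
    exact congrFun (congrFun h i) j
  obtain ⟨h, hord⟩ : ∃ h : H, orderOf h = p := by
    refine exists_prime_orderOf_dvd_card' p ?_
    by_contra hnd
    have hsub : Subsingleton (Sylow p H) := ⟨fun P Q => Sylow.ext (by
      have hbot : ∀ T : Sylow p H, (T : Subgroup H) = ⊥ := fun T => by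
        obtain ⟨e, he⟩ := T.2.exists_card_eq
        rcases e with _ | e
        · exact Subgroup.card_eq_one.1 (by rw [he, pow_zero])
        · exact absurd ((dvd_pow_self p e.succ_ne_zero).trans
            (he ▸ Subgroup.card_subgroup_dvd_card _)) hnd
      rw [hbot P, hbot Q])⟩
    rw [Nat.card_unique] at hH
    exact lt_irrefl _ hH
  have hne : ρ h ≠ 1 := fun e => by
    have : h = 1 := hρ (by rw [map_one]; exact e)
    rw [this, orderOf_one] at hord
    exact hp.out.ne_one hord.symm
  have hhp : ρ (h ^ p) = 1 := by rw [orderOf_dvd_iff_pow_eq_one.1 hord.dvd, map_one]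
  obtain ⟨S, P, hP, A, B, c, hstd⟩ := exists_stdPair_of_no_eigen ρ hne hhp (fun v hv => by
    by_contra hcon
    push Not at hcon
    refine absurd hH (not_lt.2 ?_)
    let N : Subgroup H :=
      { carrier := {g | ρ g *ᵥ v = v}
        one_mem' := by
          show ρ 1 *ᵥ v = v
          rw [map_one, Matrix.one_mulVec]
        mul_mem' := fun {a b} ha hb => by
          show ρ (a * b) *ᵥ v = v
          rw [map_mul, ← Matrix.mulVec_mulVec, show ρ b *ᵥ v = v from hb, show ρ a *ᵥ v = v from ha]
        inv_mem' := fun {a} ha => by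
          show ρ a⁻¹ *ᵥ v = v
          conv_lhs => rw [← show ρ a *ᵥ v = v from ha]
          rw [Matrix.mulVec_mulVec, ← map_mul, inv_mul_cancel, map_one, Matrix.one_mulVec] }
    have hNp : IsPGroup p N := by
      intro ⟨g, hg⟩
      refine ⟨1, Subtype.ext (hρ ?_)⟩
      show ρ (g ^ p ^ 1) = ρ 1
      set M := Matrix.SpecialLinearGroup.map ι (g : SL(2, F))
      have hMv : M.1 *ᵥ v = (1 : KK) • v := by rw [one_smul]; exact hg
      have hq := eigen_quadratic hv hMv
      have hd := det_eq_sl2 M
      unfold trSL at hq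
      have hsq : (M.1 - 1) ^ 2 = 0 := by
        rw [pow_two]
        ext i j
        fin_cases i <;> fin_cases j <;> simp [Matrix.mul_apply, Fin.sum_univ_two]
        · linear_combination -(M.1 0 0) * hq - hd
        · linear_combination -(M.1 0 1) * hq
        · linear_combination -(M.1 1 0) * hq
        · linear_combination -(M.1 1 1) * hq - hd
      have h1 : (M.1 - 1) ^ p = 0 := pow_eq_zero_of_le hp.out.two_le hsq
      rw [sub_pow_char_of_commute _ (Commute.one_right _), one_pow, sub_eq_zero] at h1
      rw [pow_one, map_pow, map_one]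
      exact h1
    have hall : ∀ T : Sylow p H, (T : Subgroup H) ≤ N := by
      intro T g hg
      obtain ⟨a, ha⟩ := hcon g
      obtain ⟨k, hk⟩ := T.2 ⟨g, hg⟩
      have hk' : g ^ p ^ k = 1 := congrArg Subtype.val hk
      have hpw : ∀ i : ℕ, ρ (g ^ i) *ᵥ v = a ^ i • v := by
        intro i
        induction i with
        | zero => simp
        | succ i ih =>
          rw [pow_succ, map_mul, ← Matrix.mulVec_mulVec, ha, Matrix.mulVec_smul, ih, smul_smul,
            pow_succ']
      have h1 := hpw (p ^ k)
      rw [hk', map_one, Matrix.one_mulVec] at h1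
      obtain ⟨j, hj⟩ : ∃ j, v j ≠ 0 := by
        by_contra hall
        push Not at hall
        exact hv (funext hall)
      have hj' := congrFun h1 j
      simp only [Pi.smul_apply, smul_eq_mul] at hj'
      have ha1 : a ^ p ^ k = 1 := mul_right_cancel₀ hj (by rw [one_mul]; exact hj'.symm)
      have h2 : (a - 1) ^ p ^ k = 0 := by rw [sub_pow_char_pow, ha1, one_pow, sub_self]
      show ρ g *ᵥ v = v
      rw [ha, sub_eq_zero.1 (pow_eq_zero_iff (pow_ne_zero _ hp.out.ne_zero) |>.1 h2), one_smul]
    have : Subsingleton (Sylow p H) := ⟨fun T U => Sylow.ext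
      ((T.3 hNp (hall T)).symm.trans (U.3 hNp (hall U)))⟩
    rw [Nat.card_unique])
  exact ⟨S, _, A, B, c, hstd, conjRep_injective (ρ := ρ.comp S.subtype) (hρ.comp S.subtype_injective) P hP⟩

/-- **Dickson's theorem** over a finite field. -/
theorem dickson_finite [CharP F p] (hp2 : p ≠ 2) (lam : F) (hlam : lam ≠ 0)
    (hgen : Subfield.closure ({lam} : Set F) = ⊤) :
    (Subgroup.closure ({lowerU 1, upperU lam} : Set SL(2, F)) = ⊤ ∧
        ¬ (Nat.card F = 9 ∧ lam ^ 2 = -1)) ∨
      (Nat.card F = 9 ∧ lam ^ 2 = -1 ∧
        Nat.card (Subgroup.closure ({lowerU 1, upperU lam} : Set SL(2, F))) = 120) := by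
  obtain ⟨ι⟩ := exists_embedding_algClosure (p := p) (F := F)
  set φ := Matrix.SpecialLinearGroup.map (n := Fin 2) ι
  have hφ : Function.Injective φ := fun a b h =>
    Subtype.ext (Matrix.ext fun i j => ι.injective (congrFun (congrFun (congrArg Subtype.val h) i) j))
  set Y := Subgroup.closure ({lowerU 1, upperU lam} : Set SL(2, F)) with hY
  have : Finite SL(2, F) := inferInstance
  have hX : Y.map φ = Subgroup.closure {upperU (ι lam), lowerU 1} := by
    rw [hY, MonoidHom.map_closure, Set.image_pair, Set.pair_comm]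
    have e1 : φ (upperU lam) = upperU (ι lam) := by
      refine Subtype.ext ?_
      show ι.mapMatrix (upperU lam).1 = _
      simp [RingHom.mapMatrix_apply, ← Matrix.ext_iff, Fin.forall_fin_two]
    have e2 : φ (lowerU 1) = lowerU 1 := by
      refine Subtype.ext ?_
      show ι.mapMatrix (lowerU 1).1 = _
      simp [RingHom.mapMatrix_apply, ← Matrix.ext_iff, Fin.forall_fin_two]
    rw [e1, e2]
  have : Finite (Y.map φ) :=
    Finite.of_surjective _ (φ.subgroupMap_surjective Y)
  have hc : ι lam ≠ 0 := (map_ne_zero ι).2 hlam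
  rcases dickson hp2 hc hX with ⟨S, -, hcS, hS⟩ | ⟨h3, hc2, hcard⟩
  · left
    have hall : ∀ x : F, ι x ∈ S := by
      intro x
      have : Subfield.closure ({lam} : Set F) ≤ S.comap ι :=
        Subfield.closure_le.2 (by rintro _ rfl; exact hcS)
      exact this (hgen ▸ Subfield.mem_top x)
    have htop : Y = ⊤ := by
      refine eq_top_iff.2 fun g _ => ?_
      have : φ g ∈ Y.map φ := by
        rw [hS]
        exact ⟨Matrix.SpecialLinearGroup.map (ι.codRestrict S hall) g, rfl⟩
      obtain ⟨g', hg', he⟩ := this
      exact hφ he ▸ hg'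
    refine ⟨htop, fun ⟨h9, hsq⟩ => ?_⟩
    have hp3 : p = 3 := by
      have := Fintype.ofFinite F
      obtain ⟨n, -, hn⟩ := FiniteField.card F p
      rw [← Nat.card_eq_fintype_card, h9] at hn
      have : p ∣ 3 ^ 2 := by
        rw [show (3 : ℕ) ^ 2 = p ^ (n : ℕ) from hn]
        exact dvd_pow_self p n.pos.ne'
      exact (Nat.prime_dvd_prime_iff_eq hp.out Nat.prime_three).1 (hp.out.dvd_of_dvd_pow this)
    have : CharP F 3 := hp3 ▸ (inferInstance : CharP F p)
    exact not_closure_eq_top_of_sq h9 lam hsq (upperU lam) (lowerU 1) rfl rfl htop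
  · right
    have : CharP F 3 := h3 ▸ (inferInstance : CharP F p)
    have : Fact (Nat.Prime 3) := ⟨Nat.prime_three⟩
    have hsq : lam ^ 2 = -1 := ι.injective (by rw [map_pow, map_neg, map_one, hc2])
    refine ⟨?_, hsq, by rw [← hcard, ← Nat.card_congr (Y.equivMapOfInjective φ hφ).toEquiv]⟩
    -- every element is fixed by the ninth power map
    classical
    have := Fintype.ofFinite F
    have h9 : ∀ x : F, x ^ 9 = x := by
      intro x
      have : Subfield.closure ({lam} : Set F) ≤
          (iterateFrobenius F 3 2).eqLocusField (RingHom.id F) := by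
        refine Subfield.closure_le.2 ?_
        intro y hy
        rw [Set.mem_singleton_iff.1 hy]
        show lam ^ (3 ^ 2) = lam
        rw [show (3 : ℕ) ^ 2 = 2 * 4 + 1 by norm_num, pow_add, pow_mul, hsq]
        norm_num
      exact this (hgen ▸ Subfield.mem_top x)
    have hle : Fintype.card F ≤ 9 := by
      have hdeg : (Polynomial.X ^ 9 - Polynomial.X : Polynomial F).natDegree = 9 :=
        FiniteField.X_pow_card_sub_X_natDegree_eq F (by norm_num)
      have hne : (Polynomial.X ^ 9 - Polynomial.X : Polynomial F) ≠ 0 := fun h => by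
        rw [h, Polynomial.natDegree_zero] at hdeg; norm_num at hdeg
      have hsub : (Finset.univ : Finset F) ⊆ (Polynomial.X ^ 9 - Polynomial.X : Polynomial F).roots.toFinset := by
        intro x _
        rw [Multiset.mem_toFinset, Polynomial.mem_roots hne]
        simp [h9 x]
      calc Fintype.card F ≤ _ := Finset.card_le_card hsub
        _ ≤ _ := Multiset.toFinset_card_le _
        _ ≤ 9 := (Polynomial.card_roots' _).trans hdeg.le
    obtain ⟨n, -, hn⟩ := FiniteField.card F 3
    have hn2 : (n : ℕ) ≤ 2 := by
      by_contra hlt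
      have := Nat.pow_le_pow_right (show 1 ≤ 3 by norm_num) (show 3 ≤ (n : ℕ) by omega)
      omega
    rcases (show (n : ℕ) = 1 ∨ (n : ℕ) = 2 by have := n.pos; omega) with h1 | h1
    · exfalso
      have h30 : (3 : F) = 0 := by simpa using CharP.cast_eq_zero F 3
      have hx := FiniteField.pow_card lam
      rw [hn, h1, pow_one] at hx
      have hl2 : lam * (lam ^ 2 - 1) = 0 := by linear_combination hx
      have hl3 := (mul_eq_zero.1 hl2).resolve_left hlam
      have h20 : (2 : F) = 0 := by linear_combination hsq - hl3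
      exact one_ne_zero (α := F) (by linear_combination h30 - h20)
    · rw [Nat.card_eq_fintype_card, hn, h1]; norm_num

end CfsgLib.Transfer
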