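import Cfsg.Agent.Lib.PGroup.Basic
import Cfsg.Agent.Lib.PGroupExtra.AbelianPrimeIndex
import Mathlib.GroupTheory.Nilpotent
import Mathlib.GroupTheory.SpecificGroups.KleinFour

/-!
`p`-groups of maximal class.
-/

namespace CfsgLib.Transfer

open Subgroup
open scoped commutatorElement

variable {X : Type*} [Group X] [Finite X] {p : ℕ} [hp : Fact p.Prime]

theorem prime_mul_card_le (hX : IsPGroup p X) {H K : Subgroup X} (h : H < K) :
    p * Nat.card H ≤ Nat.card K := by
  rw [← (H.subgroupOf K).card_mul_index, Nat.card_congr (subgroupOfEquivOfLe h.le).toEquiv,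
    mul_comm]
  refine Nat.mul_le_mul_left _ ?_
  obtain ⟨n, hn⟩ := (hX.to_subgroup K).index (H.subgroupOf K)
  rw [hn]
  refine Nat.le_self_pow (fun h0 => ?_) p
  rw [h0, pow_zero, index_eq_one, subgroupOf_eq_top] at hn
  exact h.ne (le_antisymm h.le hn)

theorem lowerCentralSeries_succ_lt (hX : IsPGroup p X) {i : ℕ}
    (h : (⊤ : Subgroup X).lowerCentralSeries i ≠ ⊥) :
    (⊤ : Subgroup X).lowerCentralSeries (i + 1) < (⊤ : Subgroup X).lowerCentralSeries i := by
  refine lt_of_le_of_ne (Subgroup.lowerCentralSeries_antitone _ (Nat.le_succ i)) fun he => h ?_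
  have hstat : ∀ j, (⊤ : Subgroup X).lowerCentralSeries (i + j) = (⊤ : Subgroup X).lowerCentralSeries i := by
    intro j
    induction j with
    | zero => rfl
    | succ j ih =>
      rw [← add_assoc, Subgroup.lowerCentralSeries_succ, ih, ← Subgroup.lowerCentralSeries_succ, he]
  have := hX.isNilpotent
  obtain ⟨c, hc⟩ := Subgroup.nilpotent_iff_lowerCentralSeries.1 this
  rw [← hstat c, eq_bot_iff, ← hc]
  exact Subgroup.lowerCentralSeries_antitone _ (Nat.le_add_left c i)

theorem prime_sq_le_index_commutator (hX : IsPGroup p X) (h : p ^ 2 ≤ Nat.card X) :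
    p ^ 2 ≤ (commutator X).index := by
  obtain ⟨n, hn⟩ := hX.index (commutator X)
  rw [hn]
  refine Nat.pow_le_pow_right hp.out.pos ?_
  by_contra hlt
  have hQ : IsCyclic (X ⧸ frattini X) := by
    have hdvd : (frattini X).index ∣ p ^ 1 :=
      (index_dvd_of_le (PGroup.commutator_le_frattini hX)).trans (hn ▸ pow_dvd_pow p (by omega))
    obtain ⟨k, hk, hk'⟩ := (Nat.dvd_prime_pow hp.out).1 hdvd
    rcases Nat.eq_zero_or_pos k with rfl | hk0
    · have : Subsingleton (X ⧸ frattini X) :=
        Finite.card_le_one_iff_subsingleton.1 (le_of_eq (by rw [← index_eq_card, hk', pow_zero]))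
      exact isCyclic_of_subsingleton
    · exact isCyclic_of_prime_card (p := p) (by rw [← index_eq_card, hk', show k = 1 by omega, pow_one])
  have hc := PGroup.isCyclic_of_frattini_quotient hQ
  have hcomm : commutator X = ⊥ := by
    rw [_root_.commutator_def, eq_bot_iff, commutator_le]
    exact fun x _ y _ => commutatorElement_eq_one_iff_mul_comm.2 ((IsMulCommutative.is_comm (M := X)).comm x y)
  rw [hcomm, index_bot] at hn
  rw [hn] at h
  have := (Nat.pow_le_pow_iff_right hp.out.one_lt).1 h
  omega

theorem card_lowerCentralSeries_mul_le (hX : IsPGroup p X) (h2 : p ^ 2 ≤ Nat.card X) :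
    ∀ {i : ℕ}, 1 ≤ i → (⊤ : Subgroup X).lowerCentralSeries i ≠ ⊥ →
      Nat.card ((⊤ : Subgroup X).lowerCentralSeries i) * p ^ (i + 1) ≤ Nat.card X := by
  intro i hi
  induction i, hi using Nat.le_induction with
  | base =>
    intro _
    rw [Subgroup.top_lowerCentralSeries_one]
    calc Nat.card (commutator X) * p ^ (1 + 1) ≤ Nat.card (commutator X) * (commutator X).index :=
          Nat.mul_le_mul_left _ (prime_sq_le_index_commutator hX h2)
      _ = Nat.card X := card_mul_index _
  | succ i hi ih =>
    intro hne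
    have hne' : (⊤ : Subgroup X).lowerCentralSeries i ≠ ⊥ := fun h => hne (by
      rw [eq_bot_iff, ← h]; exact Subgroup.lowerCentralSeries_antitone _ (Nat.le_succ i))
    calc Nat.card ((⊤ : Subgroup X).lowerCentralSeries (i + 1)) * p ^ (i + 1 + 1)
        = (p * Nat.card ((⊤ : Subgroup X).lowerCentralSeries (i + 1))) * p ^ (i + 1) := by ring
      _ ≤ Nat.card ((⊤ : Subgroup X).lowerCentralSeries i) * p ^ (i + 1) :=
          Nat.mul_le_mul_right _ (prime_mul_card_le hX (lowerCentralSeries_succ_lt hX hne'))
      _ ≤ Nat.card X := ih hne'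

theorem lowerCentralSeries_eq_bot {n : ℕ} (hX : Nat.card X = p ^ n) (hn : 2 ≤ n) :
    (⊤ : Subgroup X).lowerCentralSeries (n - 1) = ⊥ := by
  by_contra hne
  have h := card_lowerCentralSeries_mul_le (IsPGroup.of_card hX) (hX ▸ Nat.pow_le_pow_right hp.out.pos hn)
    (show 1 ≤ n - 1 by omega) hne
  rw [show n - 1 + 1 = n by omega, hX] at h
  have : Nat.card ((⊤ : Subgroup X).lowerCentralSeries (n - 1)) ≤ 1 :=
    Nat.le_of_mul_le_mul_right (by linarith) (pow_pos hp.out.pos n)
  exact hne (eq_bot_of_card_le _ this)

theorem nilpotencyClass_le_of_card {n : ℕ} (hX : Nat.card X = p ^ n) (hn : 2 ≤ n) :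
    Group.nilpotencyClass X ≤ n - 1 := by
  have := (IsPGroup.of_card hX).isNilpotent
  exact Subgroup.lowerCentralSeries_eq_bot_iff_nilpotencyClass_le.1 (lowerCentralSeries_eq_bot hX hn)

/-- The orders of the terms of the lower central series of a group of maximal class. -/
theorem card_lowerCentralSeries {n : ℕ} (hX : Nat.card X = p ^ n) (hn : 2 ≤ n)
    (hc : Group.nilpotencyClass X = n - 1) {i : ℕ} (hi : 1 ≤ i) (hin : i ≤ n - 1) :
    Nat.card ((⊤ : Subgroup X).lowerCentralSeries i) = p ^ (n - 1 - i) := by
  have hXp := IsPGroup.of_card hX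
  have := hXp.isNilpotent
  have hlow : ∀ k, k ≤ n - 1 - i → p ^ k ≤ Nat.card ((⊤ : Subgroup X).lowerCentralSeries (n - 1 - k)) := by
    intro k hk
    induction k with
    | zero => simpa using Nat.one_le_iff_ne_zero.2 Nat.card_pos.ne'
    | succ k ih =>
      have hne : (⊤ : Subgroup X).lowerCentralSeries (n - 1 - (k + 1)) ≠ ⊥ := fun h => by
        have := Subgroup.lowerCentralSeries_eq_bot_iff_nilpotencyClass_le.1 h
        omega
      have := prime_mul_card_le hXp (lowerCentralSeries_succ_lt hXp hne)
      rw [show n - 1 - (k + 1) + 1 = n - 1 - k by omega] at this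
      rw [pow_succ']
      exact le_trans (Nat.mul_le_mul_left p (ih (by omega))) this
  have h1 := hlow (n - 1 - i) le_rfl
  rw [show n - 1 - (n - 1 - i) = i by omega] at h1
  refine le_antisymm ?_ h1
  rcases eq_or_ne ((⊤ : Subgroup X).lowerCentralSeries i) ⊥ with hb | hb
  · rw [hb, card_bot]; exact Nat.one_le_pow _ _ hp.out.pos
  · have h2 := card_lowerCentralSeries_mul_le hXp (hX ▸ Nat.pow_le_pow_right hp.out.pos hn) hi hb
    rw [hX, show p ^ n = p ^ (n - 1 - i) * p ^ (i + 1) by rw [← pow_add]; congr 1; omega] at h2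
    exact Nat.le_of_mul_le_mul_right h2 (pow_pos hp.out.pos _)

theorem index_commutator_eq_sq {n : ℕ} (hX : Nat.card X = p ^ n) (hn : 2 ≤ n)
    (hc : Group.nilpotencyClass X = n - 1) : (commutator X).index = p ^ 2 := by
  have h1 := card_lowerCentralSeries hX hn hc le_rfl (by omega)
  rw [Subgroup.top_lowerCentralSeries_one] at h1
  have h2 := (commutator X).card_mul_index
  rw [h1, hX, show p ^ n = p ^ (n - 1 - 1) * p ^ 2 by rw [← pow_add]; congr 1; omega] at h2
  exact Nat.eq_of_mul_eq_mul_left (pow_pos hp.out.pos _) h2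

theorem pow_prime_mem_commutator (hX : IsPGroup p X) (hnc : ¬ IsCyclic X)
    (h : (commutator X).index = p ^ 2) (x : X) :
    x ^ p ∈ commutator X := by
  by_contra hx
  have hc : IsCyclic (X ⧸ commutator X) := by
    refine isCyclic_of_orderOf_eq_card (QuotientGroup.mk' (commutator X) x) ?_
    rw [← index_eq_card, h]
    obtain ⟨k, hk, hk'⟩ : ∃ k ≤ 2, orderOf (QuotientGroup.mk' (commutator X) x) = p ^ k := by
      refine (Nat.dvd_prime_pow hp.out).1 ?_
      rw [← h, index_eq_card]
      exact orderOf_dvd_natCard _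
    rw [hk']
    congr 1
    by_contra hk2
    refine hx ((QuotientGroup.eq_one_iff _).1 ?_)
    show QuotientGroup.mk' (commutator X) (x ^ p) = 1
    rw [map_pow, ← orderOf_dvd_iff_pow_eq_one, hk']
    exact (pow_dvd_pow p (show k ≤ 1 by omega)).trans (pow_one p).dvd
  have hQ : IsCyclic (X ⧸ frattini X) :=
    isCyclic_of_surjective (QuotientGroup.map (commutator X) (frattini X) (MonoidHom.id X)
      (by rw [comap_id]; exact PGroup.commutator_le_frattini hX)) (fun q => by
      obtain ⟨g, rfl⟩ := QuotientGroup.mk'_surjective _ q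
      exact ⟨QuotientGroup.mk' _ g, rfl⟩)
  exact hnc (PGroup.isCyclic_of_frattini_quotient hQ)

theorem normal_eq_lowerCentralSeries {n : ℕ} (hX : Nat.card X = p ^ n) (hc : Group.nilpotencyClass X = n - 1)
    (hn : 2 ≤ n) (N : Subgroup X) [N.Normal] {r : ℕ} (hr : 2 ≤ r) (hN : N.index = p ^ r) :
    N = (⊤ : Subgroup X).lowerCentralSeries (r - 1) := by
  have hrn : r ≤ n := (Nat.pow_le_pow_iff_right hp.out.one_lt).1
    (hN ▸ hX ▸ Nat.le_of_dvd Nat.card_pos N.index_dvd_card)
  have hle : (⊤ : Subgroup X).lowerCentralSeries (r - 1) ≤ N := by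
    rw [← QuotientGroup.ker_mk' N, ← Subgroup.map_eq_bot_iff, eq_bot_iff,
      ← lowerCentralSeries_eq_bot (X := X ⧸ N) (by rw [← index_eq_card, hN]) hr]
    rw [Subgroup.map_lowerCentralSeries, map_top_of_surjective _ (QuotientGroup.mk'_surjective N)]
  refine (eq_of_le_of_card_ge hle (le_of_eq ?_)).symm
  rw [card_lowerCentralSeries hX hn hc (by omega) (by omega)]
  have h2 := N.card_mul_index
  rw [hN, hX, show p ^ n = p ^ (n - 1 - (r - 1)) * p ^ r by rw [← pow_add]; congr 1; omega] at h2
  exact Nat.eq_of_mul_eq_mul_right (pow_pos hp.out.pos _) h2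

/-- A group of order `p ^ 2` and exponent `p` has exactly `p + 1` subgroups of order `p`. -/
theorem card_subgroups_of_exponent {Q : Type*} [Group Q] [Finite Q] (hQ : Nat.card Q = p ^ 2)
    (he : ∀ x : Q, x ^ p = 1) : Nat.card {H : Subgroup Q // Nat.card H = p} = p + 1 := by
  classical
  have := Fintype.ofFinite Q
  let S := {H : Subgroup Q // Nat.card H = p}
  have hord : ∀ x : {x : Q // x ≠ 1}, Nat.card (zpowers (x : Q)) = p := fun x => by
    rw [Nat.card_zpowers, orderOf_eq_prime (he _) x.2]
  let f : {x : Q // x ≠ 1} → S := fun x => ⟨zpowers (x : Q), hord x⟩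
  have hfib : ∀ H : S, Nat.card {x // f x = H} = p - 1 := by
    intro H
    have e : {x // f x = H} ≃ {y : H.1 // y ≠ 1} :=
      { toFun := fun x => ⟨⟨((x : {x : Q // x ≠ 1}) : Q), by
            have := congrArg Subtype.val x.2
            exact this.le (mem_zpowers _)⟩, fun h => x.1.2 (congrArg Subtype.val h)⟩
        invFun := fun y => ⟨⟨((y : H.1) : Q), fun h => y.2 (Subtype.ext h)⟩, Subtype.ext
          (eq_of_le_of_card_ge (zpowers_le.2 (y : H.1).2)
            (le_of_eq (H.2.trans (hord ⟨_, fun h => y.2 (Subtype.ext h)⟩).symm)))⟩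
        left_inv := fun x => rfl
        right_inv := fun y => rfl }
    rw [Nat.card_congr e, Nat.card_eq_fintype_card, Fintype.card_subtype_compl,
      Fintype.card_subtype_eq, ← Nat.card_eq_fintype_card, H.2]
  have hcount : Nat.card {x : Q // x ≠ 1} = Nat.card S * (p - 1) := by
    have := Fintype.ofFinite S
    rw [Nat.card_congr (Equiv.sigmaFiberEquiv f).symm, Nat.card_sigma, Finset.sum_congr rfl
      (fun H _ => hfib H), Finset.sum_const, Finset.card_univ, ← Nat.card_eq_fintype_card, smul_eq_mul]
  rw [Nat.card_eq_fintype_card, Fintype.card_subtype_compl, Fintype.card_subtype_eq,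
    ← Nat.card_eq_fintype_card, hQ] at hcount
  obtain ⟨q, hq⟩ : ∃ q, p = q + 2 := ⟨p - 2, by have := hp.out.two_le; omega⟩
  have e1 : p ^ 2 - 1 = (p + 1) * (p - 1) := by
    subst hq
    rw [show q + 2 - 1 = q + 1 by omega, show (q + 2) ^ 2 = (q + 3) * (q + 1) + 1 by ring,
      show q + 2 + 1 = q + 3 by omega, Nat.add_sub_cancel]
  rw [e1] at hcount
  exact (Nat.eq_of_mul_eq_mul_right (by have := hp.out.two_le; omega) hcount).symm

theorem card_normal_index_prime (hX : IsPGroup p X) (hnc : ¬ IsCyclic X) (h : (commutator X).index = p ^ 2) :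
    Nat.card {N : Subgroup X // N.Normal ∧ N.index = p} = p + 1 := by
  set π := QuotientGroup.mk' (commutator X) with hπ
  have hQ : Nat.card (X ⧸ commutator X) = p ^ 2 := by rw [← index_eq_card, h]
  have he : ∀ x : X ⧸ commutator X, x ^ p = 1 := fun x => by
    obtain ⟨g, rfl⟩ := QuotientGroup.mk'_surjective _ x
    rw [← map_pow]
    exact (QuotientGroup.eq_one_iff _).2 (pow_prime_mem_commutator hX hnc h g)
  have hle : ∀ N : {N : Subgroup X // N.Normal ∧ N.index = p}, commutator X ≤ N.1 := by
    intro N
    have := N.2.1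
    have hcyc : IsCyclic (X ⧸ N.1) := isCyclic_of_prime_card (p := p) (by rw [← index_eq_card, N.2.2])
    rw [_root_.commutator_def, commutator_le]
    intro x _ y _
    rw [← QuotientGroup.eq_one_iff, ← QuotientGroup.mk'_apply, map_commutatorElement,
      commutatorElement_eq_one_iff_mul_comm]
    exact (IsMulCommutative.is_comm (M := X ⧸ N.1)).comm _ _
  have hcard : ∀ H : Subgroup (X ⧸ commutator X), (H.comap π).index = H.index := fun H =>
    index_comap_of_surjective _ (QuotientGroup.mk'_surjective _)
  rw [← card_subgroups_of_exponent hQ he]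
  refine Nat.card_congr
    { toFun := fun N => ⟨N.1.map π, ?_⟩
      invFun := fun H => ⟨H.1.comap π, ?_, ?_⟩
      left_inv := fun N => Subtype.ext (by
        show (N.1.map π).comap π = N.1
        rw [comap_map_eq, QuotientGroup.ker_mk', sup_eq_left.2 (hle N)])
      right_inv := fun H => Subtype.ext (map_comap_eq_self_of_surjective (QuotientGroup.mk'_surjective _) _) }
  · have h1 := (N.1.map π).card_mul_index
    rw [index_map_eq _ (QuotientGroup.mk'_surjective _) (by rw [QuotientGroup.ker_mk']; exact hle N),
      N.2.2, hQ, sq] at h1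
    exact Nat.eq_of_mul_eq_mul_right hp.out.pos h1
  · exact Normal.comap ⟨fun x hx g => by
      have hcm : g * x = x * g := by
        obtain ⟨a, rfl⟩ := QuotientGroup.mk'_surjective _ g
        obtain ⟨b, rfl⟩ := QuotientGroup.mk'_surjective _ x
        rw [← map_mul, ← map_mul, QuotientGroup.mk'_eq_mk']
        exact ⟨⁅b⁻¹, a⁻¹⁆, commutator_mem_commutator (mem_top _) (mem_top _), by
          rw [commutatorElement_def]; group⟩
      rwa [hcm, mul_inv_cancel_right]⟩ π
  · have h1 := H.1.card_mul_index
    rw [H.2, hQ, sq] at h1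
    rw [hcard]
    exact Nat.eq_of_mul_eq_mul_left hp.out.pos h1

/-- A `p`-group with a self-centralizing subgroup of order `p ^ 2` has maximal class. -/
theorem nilpotencyClass_of_self_centralizing : ∀ {n : ℕ} {X : Type*} [Group X] [Finite X],
    Nat.card X = p ^ n → ∀ A : Subgroup X, Nat.card A = p ^ 2 → centralizer (A : Set X) = A →
      Group.nilpotencyClass X = n - 1 := by
  intro n
  induction n using Nat.strong_induction_on with
  | _ n ih =>
    intro X _ _ hX A hA hC
    have hXp : IsPGroup p X := IsPGroup.of_card hX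
    have := hXp.isNilpotent
    have hn2 : 2 ≤ n := (Nat.pow_le_pow_iff_right hp.out.one_lt).1
      (hA ▸ hX ▸ card_le_card_group A)
    refine le_antisymm (nilpotencyClass_le_of_card hX hn2) ?_
    have hnt : Nontrivial X := Finite.one_lt_card_iff_nontrivial.1 (hX ▸ Nat.one_lt_pow (by omega) hp.out.one_lt)
    rcases eq_or_lt_of_le hn2 with rfl | hn3
    · rw [Group.nilpotencyClass_eq_quotient_center_plus_one]
      omega
    have hZA : center X ≤ A := hC ▸ center_le_centralizer (A : Set X)
    have hAc : ∀ a ∈ A, ∀ b ∈ A, a * b = b * a := fun a ha b hb =>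
      mem_centralizer_iff.1 (hC.ge hb) a ha
    have hZlt : center X ≠ A := fun h => by
      have : centralizer (A : Set X) = ⊤ := centralizer_eq_top_iff_subset.2 (by rw [h])
      rw [hC] at this
      rw [this, card_top, hX] at hA
      exact absurd (Nat.pow_right_injective hp.out.two_le hA) (by omega)
    have hZ : Nat.card (center X) = p := by
      obtain ⟨k, hk, hk'⟩ := (Nat.dvd_prime_pow hp.out).1 (hA ▸ card_dvd_of_le hZA)
      have hk1 : k ≠ 0 := fun h0 => by
        rw [h0, pow_zero] at hk'
        exact Group.IsNilpotent.center_ne_bot (G := X) (eq_bot_of_card_eq _ hk')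
      have hk2 : k ≠ 2 := fun h2 => hZlt (eq_of_le_of_card_ge hZA (by rw [hk', h2, hA]))
      rw [hk', show k = 1 by omega, pow_one]
    obtain ⟨a, haA, haZ⟩ : ∃ a ∈ A, a ∉ center X := by
      by_contra hcon
      push Not at hcon
      exact hZlt (le_antisymm hZA hcon)
    set N := normalizer (A : Set X) with hN
    set π := QuotientGroup.mk' (center X) with hπ
    have hAbar : Nat.card (A.map π) = p := by
      have h1 := (A.map π).card_mul_index
      have h2 := A.card_mul_index
      have h3 := (center X).card_mul_index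
      rw [index_map_eq _ (QuotientGroup.mk'_surjective _) (by rw [QuotientGroup.ker_mk']; exact hZA),
        ← index_eq_card] at h1
      rw [← h2, hA, hZ, sq, mul_assoc] at h3
      rw [Nat.eq_of_mul_eq_mul_left hp.out.pos h3] at h1
      exact Nat.eq_of_mul_eq_mul_right (Nat.pos_of_ne_zero A.index_ne_zero_of_finite) h1
    have hcomm : ∀ g ∈ N, ∀ x ∈ A, ⁅g, x⁆ ∈ center X := by
      intro g hg x hx
      have hn' : ((A.map π).subgroupOf (N.map π)).Normal := by
        rw [normal_subgroupOf_iff_le_normalizer (map_mono le_normalizer)]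
        exact le_normalizer_map π
      have hle := PGroup.le_center_of_card_eq ((hXp.to_quotient (center X)).to_subgroup (N.map π))
        ((A.map π).subgroupOf (N.map π))
        (by rw [Nat.card_congr (subgroupOfEquivOfLe (map_mono (le_normalizer : A ≤ N))).toEquiv, hAbar])
      have h1 := mem_center_iff.1 (hle (show (⟨π x, mem_map_of_mem π (le_normalizer hx)⟩ : N.map π) ∈ _ from
        mem_map_of_mem π hx)) ⟨π g, mem_map_of_mem π hg⟩
      rw [← QuotientGroup.eq_one_iff, ← QuotientGroup.mk'_apply, map_commutatorElement,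
        commutatorElement_eq_one_iff_mul_comm]
      exact congrArg Subtype.val h1
    let f : N →* center X := MonoidHom.mk' (fun g => ⟨⁅(g : X), a⁆, hcomm g g.2 a haA⟩)
      (fun g h => Subtype.ext (PGroup.comm_mul_left (hcomm h h.2 a haA)))
    have hker : f.ker.map N.subtype ≤ A := by
      rintro _ ⟨g, hg, rfl⟩
      refine hC.le (mem_centralizer_iff.2 fun x hx => ?_)
      have hga : ⁅(g : X), a⁆ = 1 := congrArg Subtype.val hg
      have htop : zpowers a ⊔ center X = A := by
        refine eq_of_le_of_card_ge (sup_le (zpowers_le.2 haA) hZA) ?_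
        have hlt : center X < zpowers a ⊔ center X :=
          lt_of_le_of_ne le_sup_right fun h => haZ (h.ge (mem_sup_left (mem_zpowers a)))
        have := prime_mul_card_le hXp hlt
        rw [hZ] at this
        rw [hA, sq]
        exact this
      have hmem : x ∈ centralizer ({(g : X)} : Set X) := by
        have : zpowers a ⊔ center X ≤ centralizer ({(g : X)} : Set X) := by
          refine sup_le (zpowers_le.2 (mem_centralizer_singleton_iff.2 ?_)) (center_le_centralizer _)
          exact (commutatorElement_eq_one_iff_mul_comm.1 hga).symm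
        exact this (htop.ge hx)
      exact mem_centralizer_singleton_iff.1 hmem
    have hNle : Nat.card N ≤ p ^ 3 := by
      rw [← f.ker.card_mul_index, index_ker, pow_succ]
      refine Nat.mul_le_mul ?_ (hZ ▸ card_le_card_group f.range)
      rw [← card_map_of_injective N.subtype_injective, ← hA]
      exact card_le_of_le hker
    have hNge : p ^ 3 ≤ Nat.card N := by
      have hlt : A < N := lt_of_le_of_ne le_normalizer fun h => by
        have h2 := Group.normalizerCondition_of_isNilpotent A (lt_top_iff_ne_top.2 fun ht => by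
          rw [ht, card_top, hX] at hA
          exact absurd (Nat.pow_right_injective hp.out.two_le hA) (by omega))
        exact h2.ne h
      rw [pow_succ', ← hA]
      exact prime_mul_card_le hXp hlt
    set Ab := N.map π with hAb
    have hAbc : Nat.card Ab = p ^ 2 := by
      have h1 := (N.map π).card_mul_index
      have h2 := N.card_mul_index
      have h3 := (center X).card_mul_index
      rw [index_map_eq _ (QuotientGroup.mk'_surjective _) (by rw [QuotientGroup.ker_mk']; exact hZA.trans le_normalizer),
        ← index_eq_card] at h1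
      rw [← h2, le_antisymm hNle hNge, hZ, pow_succ', mul_assoc] at h3
      rw [Nat.eq_of_mul_eq_mul_left hp.out.pos h3] at h1
      exact Nat.eq_of_mul_eq_mul_right (Nat.pos_of_ne_zero N.index_ne_zero_of_finite) h1
    have hCb : centralizer (Ab : Set (X ⧸ center X)) = Ab := by
      refine le_antisymm ?_ ?_
      · refine (centralizer_le (map_mono (le_normalizer : A ≤ N))).trans ?_
        intro q hq
        obtain ⟨g, rfl⟩ := QuotientGroup.mk'_surjective _ q
        refine ⟨g, ?_, rfl⟩
        have hsub : ∀ h : X, π h ∈ centralizer ((A.map π : Subgroup _) : Set (X ⧸ center X)) → ∀ x ∈ A, h * x * h⁻¹ ∈ A := by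
          intro h hh x hx
          have h1 : π x * π h = π h * π x := mem_centralizer_iff.1 hh _ (mem_map_of_mem π hx)
          rw [← map_mul, ← map_mul, QuotientGroup.mk'_eq_mk'] at h1
          obtain ⟨z, hz, hz'⟩ := h1
          rw [← hz', show x * h * z * h⁻¹ = x * h * z * h⁻¹ from rfl, mul_assoc (x * h), ← mem_center_iff.1 hz h⁻¹]
          rw [show x * h * (h⁻¹ * z) = x * z by group]
          exact mul_mem hx (hZA hz)
        refine mem_normalizer_iff.2 fun x => ⟨hsub g hq x, fun hx => ?_⟩
        have := hsub g⁻¹ (by rw [map_inv]; exact inv_mem hq) _ hx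
        simpa [mul_assoc] using this
      · intro u hu
        rw [mem_centralizer_iff]
        intro v hv
        have := IsPGroup.isMulCommutative_of_card_eq_prime_sq hAbc
        exact congrArg Subtype.val (this.is_comm.comm ⟨v, hv⟩ ⟨u, hu⟩)
    have hQ : Nat.card (X ⧸ center X) = p ^ (n - 1) := by
      have h3 := (center X).card_mul_index
      rw [hZ, hX, index_eq_card, show p ^ n = p * p ^ (n - 1) by rw [← pow_succ']; congr 1; omega] at h3
      exact Nat.eq_of_mul_eq_mul_left hp.out.pos h3
    have hrec := ih (n - 1) (by omega) hQ Ab hAbc hCb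
    rw [Group.nilpotencyClass_eq_quotient_center_plus_one, hrec]
    omega

/-- A `2`-group with commutator index `4` and squares in the commutator subgroup has maximal class and
a cyclic subgroup of index `2`. -/
theorem maximalClass_two : ∀ {n : ℕ} {X : Type*} [Group X] [Finite X],
    Nat.card X = 2 ^ n → (commutator X).index = 4 → (∀ x : X, x ^ 2 ∈ commutator X) →
      Group.nilpotencyClass X = n - 1 ∧ ∃ C : Subgroup X, IsCyclic C ∧ C.index = 2 := by
  have := Fact.mk Nat.prime_two
  intro n
  induction n using Nat.strong_induction_on with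
  | _ n ih =>
    intro X _ _ hX hidx hsq
    have hXp : IsPGroup 2 X := IsPGroup.of_card hX
    have := hXp.isNilpotent
    have hn2 : 2 ≤ n := by
      have : 2 ^ 2 ≤ 2 ^ n := by
        have h := Nat.le_of_dvd Nat.card_pos (commutator X).index_dvd_card
        rw [hidx, hX] at h
        exact h
      exact (Nat.pow_le_pow_iff_right (by norm_num)).1 this
    have hnt : Nontrivial X := Finite.one_lt_card_iff_nontrivial.1 (hX ▸ Nat.one_lt_pow (by omega) (by norm_num))
    rcases eq_or_lt_of_le hn2 with rfl | hn3
    · refine ⟨le_antisymm (nilpotencyClass_le_of_card hX le_rfl) ?_, ?_⟩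
      · rw [Group.nilpotencyClass_eq_quotient_center_plus_one]
        omega
      · obtain ⟨x, hx⟩ := exists_prime_orderOf_dvd_card' (G := X) 2 (hX ▸ dvd_pow_self 2 two_ne_zero)
        refine ⟨zpowers x, inferInstance, ?_⟩
        have := (zpowers x).card_mul_index
        rw [Nat.card_zpowers, hx, hX] at this
        omega
    have hne : commutator X ≠ ⊥ := fun h => by
      rw [h, index_bot, hX] at hidx
      exact absurd (Nat.pow_right_injective (le_refl 2) (hidx.trans (by norm_num : 4 = 2 ^ 2))) (by omega)
    obtain ⟨Z, hZle, hZc, hZn, hZ⟩ := PGroup.exists_card_eq_le_center hXp (commutator X) hne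
    set π := QuotientGroup.mk' Z with hπ
    have hπs : Function.Surjective π := QuotientGroup.mk'_surjective Z
    have hQ : Nat.card (X ⧸ Z) = 2 ^ (n - 1) := by
      have h3 := Z.card_mul_index
      rw [hZ, hX, index_eq_card, show 2 ^ n = 2 * 2 ^ (n - 1) by rw [← pow_succ']; congr 1; omega] at h3
      exact Nat.eq_of_mul_eq_mul_left (by norm_num) h3
    have hcom : commutator (X ⧸ Z) = (commutator X).map π := by
      rw [_root_.commutator_def, _root_.commutator_def, map_commutator, map_top_of_surjective π hπs]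
    obtain ⟨hcl, D, hD, hDi⟩ := ih (n - 1) (by omega) hQ
      (by rw [hcom, index_map_eq _ hπs (by rw [QuotientGroup.ker_mk']; exact hZle), hidx])
      (fun q => by
        obtain ⟨x, rfl⟩ := hπs q
        rw [hcom, ← map_pow]
        exact mem_map_of_mem π (hsq x))
    obtain ⟨d, hd⟩ := (Subgroup.isCyclic_iff_exists_zpowers_eq_top D).1 hD
    obtain ⟨c, rfl⟩ := hπs d
    set C := D.comap π with hC
    have hCi : C.index = 2 := by rw [hC, index_comap_of_surjective _ hπs, hDi]
    have hZC : Z ≤ C := (QuotientGroup.ker_mk' Z).ge.trans (MonoidHom.ker_le_comap π D)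
    have hCdec : ∀ x ∈ C, ∃ (i : ℤ) (z : X), z ∈ Z ∧ x = c ^ i * z := by
      intro x hx
      obtain ⟨i, hi⟩ := hd.ge (mem_comap.1 hx)
      simp only at hi
      rw [← map_zpow, QuotientGroup.mk'_eq_mk'] at hi
      obtain ⟨z, hz, hz'⟩ := hi
      exact ⟨i, z, hz, hz'.symm⟩
    have hCab : ∀ a ∈ C, ∀ b ∈ C, a * b = b * a := by
      intro a ha b hb
      obtain ⟨i, z, hz, rfl⟩ := hCdec a ha
      obtain ⟨j, w, hw, rfl⟩ := hCdec b hb
      have c1 : Commute z (c ^ j * w) := (mem_center_iff.1 (hZc hz) _).symm
      have c2 : Commute (c ^ i) w := mem_center_iff.1 (hZc hw) _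
      exact ((((Commute.refl c).zpow_zpow i j).mul_right c2).mul_left c1).eq
    have hCn : C.Normal := normal_of_index_eq_two hCi
    have hna : ¬ center X = ⊤ := fun h => hne (by
      rw [_root_.commutator_def, eq_bot_iff, commutator_le]
      exact fun x _ y _ => commutatorElement_eq_one_iff_mul_comm.2 (mem_center_iff.1 (h.ge (mem_top y)) x))
    obtain ⟨x, hx⟩ : ∃ x, x ∉ C := by
      by_contra hcon
      push Not at hcon
      rw [(eq_top_iff' _).2 hcon, index_top] at hCi
      omega
    have hZcard : Nat.card (center X) = 2 := by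
      have h1 := PGroupExtra.card_commutator_mul_card_centralizer C hCab (hCi ▸ Nat.prime_two) x hx
      rw [← PGroupExtra.center_eq_inf_centralizer C hCab (hCi ▸ Nat.prime_two) x hx hna] at h1
      have h2 := C.card_mul_index
      have h3 := (commutator X).card_mul_index
      rw [hCi] at h2
      rw [hidx] at h3
      nlinarith [Nat.card_pos (α := commutator X)]
    have hZeq : Z = center X := eq_of_le_of_card_ge hZc (by rw [hZ, hZcard])
    refine ⟨?_, ?_⟩
    · subst hZeq
      rw [Group.nilpotencyClass_eq_quotient_center_plus_one, hcl]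
      omega
    rcases eq_or_lt_of_le (show 3 ≤ n by omega) with rfl | hn4
    · -- order eight
      obtain ⟨y, hy⟩ : ∃ y : X, y ^ 2 ≠ 1 := by
        by_contra hcon
        push Not at hcon
        refine hna (eq_top_iff.2 fun a _ => mem_center_iff.2 fun b => ?_)
        have h1 : ∀ g : X, g⁻¹ = g := fun g => inv_eq_of_mul_eq_one_right (by rw [← sq]; exact hcon g)
        rw [← h1 (b * a), mul_inv_rev, h1, h1]
      refine ⟨zpowers y, inferInstance, ?_⟩
      obtain ⟨k, hk, hk'⟩ := (Nat.dvd_prime_pow Nat.prime_two).1 (hX ▸ orderOf_dvd_natCard y)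
      have hk2 : 2 ≤ k := by
        by_contra h
        exact hy (orderOf_dvd_iff_pow_eq_one.1 (hk' ▸ (pow_dvd_pow 2 (show k ≤ 1 by omega))))
      have hk3 : k ≠ 3 := fun h => by
        subst h
        have hcy : IsCyclic X := isCyclic_of_orderOf_eq_card y (hk'.trans hX.symm)
        exact hna (eq_top_iff.2 fun a _ => mem_center_iff.2 fun b => (IsMulCommutative.is_comm (M := X)).comm b a)
      have h4 := (zpowers y).card_mul_index
      rw [Nat.card_zpowers, hk', show k = 2 by omega, hX] at h4
      norm_num at h4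
      omega
    · -- the preimage is cyclic
      refine ⟨C, ?_, hCi⟩
      have hoD : orderOf (π c) = 2 ^ (n - 2) := by
        have h1 := D.card_mul_index
        rw [← hd, Nat.card_zpowers] at h1
        rw [hd, hDi, hQ, show 2 ^ (n - 1) = 2 ^ (n - 2) * 2 by rw [← pow_succ]; congr 1; omega] at h1
        exact Nat.eq_of_mul_eq_mul_right (by norm_num) h1
      by_contra hncyc
      -- the squares of `C` form a nontrivial normal subgroup missing the centre
      set K := zpowers (c ^ 2) with hK
      have hcC : c ∈ C := mem_comap.2 (hd.le (mem_zpowers _))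
      have hsqC : ∀ a ∈ C, a ^ 2 ∈ K := by
        intro a ha
        obtain ⟨i, z, hz, rfl⟩ := hCdec a ha
        refine ⟨i, ?_⟩
        have hc' : Commute (c ^ i) z := mem_center_iff.1 (hZc hz) _
        have hz2 : z ^ 2 = 1 := by
          have := congrArg Subtype.val (pow_card_eq_one' (x := (⟨z, hz⟩ : Z)))
          rwa [hZ] at this
        show (c ^ 2) ^ i = _
        rw [hc'.mul_pow, hz2, mul_one, ← zpow_natCast, ← zpow_mul, mul_comm, zpow_mul, zpow_natCast]
      have hKn : K.Normal := ⟨fun u hu g => by
        obtain ⟨j, rfl⟩ := hu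
        have hm := hsqC _ (hCn.conj_mem _ (zpow_mem hcC j) g)
        simp only
        rw [conj_pow, ← zpow_natCast, ← zpow_mul, mul_comm, zpow_mul, zpow_natCast] at hm
        exact hm⟩
      have hK1 : K ≠ ⊥ := fun h => by
        rw [hK, zpowers_eq_bot] at h
        have h1 : orderOf (π c) ∣ 2 := orderOf_dvd_of_pow_eq_one (by rw [← map_pow, h, map_one])
        rw [hoD] at h1
        have := Nat.le_of_dvd (by norm_num) h1
        have : 2 ^ 2 ≤ 2 ^ (n - 2) := Nat.pow_le_pow_right (by norm_num) (by omega)
        omega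
      have hKZ : Z ≤ K := by
        obtain ⟨W, hWK, hWc, -, hW⟩ := PGroup.exists_card_eq_le_center hXp K hK1
        exact hZeq.le.trans ((eq_of_le_of_card_ge hWc (by rw [hW, hZcard])).ge.trans hWK)
      apply hncyc
      have : C = zpowers c := by
        refine le_antisymm (fun a ha => ?_) (zpowers_le.2 hcC)
        obtain ⟨i, z, hz, rfl⟩ := hCdec a ha
        exact mul_mem (zpow_mem (mem_zpowers c) i) (zpowers_le.2 (pow_mem (mem_zpowers c) 2) (hKZ hz))
      rw [this]
      infer_instance

theorem squares_mem_commutator {n : ℕ} {X : Type*} [Group X] [Finite X] (hn : 3 ≤ n)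
    (hX : Nat.card X = 2 ^ n) (hc : Group.nilpotencyClass X = n - 1) :
    (commutator X).index = 4 ∧ ∀ x : X, x ^ 2 ∈ commutator X := by
  have := Fact.mk Nat.prime_two
  have h4 := index_commutator_eq_sq hX (by omega) hc
  refine ⟨h4.trans (by norm_num), pow_prime_mem_commutator (IsPGroup.of_card hX) (fun hcy => ?_) h4⟩
  have := (IsPGroup.of_card hX : IsPGroup 2 X).isNilpotent
  have h1 := Group.IsNilpotent.nilpotencyClass_le_one_iff (G := X)
  have : Group.nilpotencyClass X ≤ 1 := h1.2 inferInstance
  omega

end CfsgLib.Transfer
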