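import Cfsg.Agent.Lib.Transfer.Frobenius
import Cfsg.Agent.Lib.Solvable.SchurZassenhaus

/-!
A Hall subgroup that is central in its normalizer has a normal complement.
-/

namespace CfsgLib.Transfer

open Cfsg Subgroup
open scoped Pointwise commutatorElement

universe u

theorem le_of_coprime_index' {G : Type*} [Group G] [Finite G] {N A : Subgroup G} [N.Normal]
    (h : (Nat.card A).Coprime N.index) : A ≤ N := by
  rw [← QuotientGroup.ker_mk' N, ← Subgroup.map_eq_bot_iff, ← card_eq_one]
  refine Nat.eq_one_of_dvd_coprimes h (card_map_dvd _ _) ?_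
  rw [index_eq_card]
  exact card_subgroup_dvd_card _

theorem characteristic_of_coprime_index {G : Type*} [Group G] [Finite G] {N : Subgroup G} [N.Normal]
    (h : (Nat.card N).Coprime N.index) : N.Characteristic :=
  characteristic_iff_map_le.2 fun e => le_of_coprime_index' (by
    rwa [card_map_of_injective e.injective])

theorem normal_map_of_coprime_index {G : Type*} [Group G] [Finite G] {T : Subgroup G} [T.Normal]
    {R : Subgroup T} [R.Normal] (h : (Nat.card R).Coprime R.index) : (R.map T.subtype).Normal := by
  have := characteristic_of_coprime_index h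
  infer_instance

theorem commutator_eq_bot_of_disjoint {G : Type*} [Group G] {A B : Subgroup G}
    (hA : B ≤ normalizer (A : Set G)) (hB : A ≤ normalizer (B : Set G)) (hd : A ⊓ B = ⊥) :
    A ≤ centralizer (B : Set G) := by
  rw [← commutator_eq_bot_iff_le_centralizer, eq_bot_iff, ← hd, commutator_le]
  intro a ha b hb
  rw [commutatorElement_def]
  refine mem_inf.2 ⟨?_, mul_mem ((mem_normalizer_iff.1 (hB ha) b).1 hb) (inv_mem hb)⟩
  rw [show a * b * a⁻¹ * b⁻¹ = a * (b * a⁻¹ * b⁻¹) by group]
  exact mul_mem ha ((mem_normalizer_iff.1 (hA hb) _).1 (inv_mem ha))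

theorem exists_normal_complement_of_central_hall : ∀ {G : Type u} [Group G] [Finite G]
    (H : Subgroup G), (Nat.card H).Coprime H.index →
      normalizer (H : Set G) ≤ centralizer (H : Set G) → ∃ N : Subgroup G, N.Normal ∧ N.IsComplement' H := by
  intro G _ _
  induction h : Nat.card G using Nat.strong_induction_on generalizing G with
  | _ n ih =>
    subst h
    intro H hcop hNC
    classical
    -- the induction hypothesis inside a proper subgroup
    have hsub : ∀ M : Subgroup G, H ≤ M → M ≠ ⊤ → ∃ K : Subgroup G, K ≤ M ∧ M ≤ normalizer (K : Set G) ∧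
        K ⊓ H = ⊥ ∧ (Nat.card K).Coprime (Nat.card H) ∧ ∀ x ∈ M, ∃ k ∈ K, ∃ y ∈ H, k * y = x := by
      intro M hHM hM
      have hlt : Nat.card M < Nat.card G :=
        lt_of_le_of_ne (card_le_card_group M) fun e => hM (eq_top_of_card_eq M e)
      obtain ⟨K, hKn, hK⟩ := ih _ hlt rfl (H.subgroupOf M) (by
          rw [Nat.card_congr (subgroupOfEquivOfLe hHM).toEquiv]
          exact hcop.coprime_dvd_right (relIndex_dvd_index_of_le hHM))
        (fun g hg => mem_centralizer_iff.2 fun y hy => Subtype.ext <| by
          have hg' : (g : G) ∈ normalizer (H : Set G) := by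
            refine mem_normalizer_iff.2 fun z => ⟨fun hz => (mem_normalizer_iff.1 hg ⟨z, hHM hz⟩).1 hz, fun hz => ?_⟩
            have hzM : z ∈ M := by
              simpa [mul_assoc] using mul_mem (mul_mem (inv_mem g.2) (hHM hz)) g.2
            exact (mem_normalizer_iff.1 hg ⟨z, hzM⟩).2 hz
          exact mem_centralizer_iff.1 (hNC hg') _ hy)
      refine ⟨K.map M.subtype, map_subtype_le K, ?_, ?_, ?_, ?_⟩
      · refine le_trans (le_of_eq ?_) (le_normalizer_map M.subtype)
        rw [normalizer_eq_top, ← MonoidHom.range_eq_map, range_subtype]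
      · rw [eq_bot_iff]
        rintro _ ⟨⟨k, hk, rfl⟩, hkH⟩
        have : k ∈ K ⊓ H.subgroupOf M := ⟨hk, hkH⟩
        rw [hK.disjoint.eq_bot, mem_bot] at this
        rw [this]
        exact one_mem _
      · rw [card_map_of_injective M.subtype_injective, ← hK.index_eq_card]
        exact (hcop.coprime_dvd_right (relIndex_dvd_index_of_le hHM)).symm
      · intro x hx
        obtain ⟨⟨k, y⟩, hky⟩ := hK.2 ⟨x, hx⟩
        exact ⟨(k : M), mem_map_of_mem _ k.2, ((y : M) : G), y.2, congrArg Subtype.val hky⟩
    have hab : ∀ a ∈ H, ∀ b ∈ H, a * b = b * a := fun a ha b hb =>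
      (mem_centralizer_iff.1 (hNC (le_normalizer hb)) a ha)
    have : IsMulCommutative H := ⟨⟨fun a b => Subtype.ext (hab a a.2 b b.2)⟩⟩
    have hsolv : Group.IsSolvable H := Group.isSolvable_of_comm fun a b => Subtype.ext (hab a a.2 b b.2)
    by_cases hA : ∃ (q : ℕ) (_ : Fact q.Prime) (P : Sylow q G),
        (P : Subgroup G) ≤ H ∧ (P : Subgroup G).Normal ∧ (P : Subgroup G) ≠ ⊥
    · obtain ⟨q, _, P, hPH, hPn, hP1⟩ := hA
      have hHC : H ≤ centralizer ((P : Subgroup G) : Set G) := fun y hy =>
        mem_centralizer_iff.2 fun z hz => hab z (hPH hz) y hy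
      have hCtop : centralizer ((P : Subgroup G) : Set G) = ⊤ := by
        by_contra hne
        obtain ⟨K, hKC, hCK, hKH, hKco, hdec⟩ := hsub _ hHC hne
        refine hne (eq_top_iff.2 fun g _ => ?_)
        have hgC : MulAut.conj g • H ≤ K ⊔ H := by
          rintro _ ⟨y, hy, rfl⟩
          have hc := (inferInstance : (centralizer ((P : Subgroup G) : Set G)).Normal).conj_mem y (hHC hy) g
          obtain ⟨k, hk, z, hz, hkz⟩ := hdec _ hc
          show g * y * g⁻¹ ∈ K ⊔ H
          rw [← hkz]
          exact mul_mem (mem_sup_left hk) (mem_sup_right hz)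
        have hcard : Nat.card (MulAut.conj g • H : Subgroup G) = Nat.card H :=
          (Nat.card_congr (equivSMul (MulAut.conj g) H).toEquiv).symm
        obtain ⟨k, hk, hkle⟩ := Solvable.exists_conj_le K H (MulAut.conj g • H) (hHC.trans hCK) hKH hgC
          (by rwa [hcard]) (Or.inr ((Group.isSolvable_of_surjective
            (equivSMul (MulAut.conj g) H).surjective (f := (equivSMul (MulAut.conj g) H).toMonoidHom))))
        rw [smul_smul, ← map_mul] at hkle
        have hmem : ∀ y ∈ H, k * g * y * (k * g)⁻¹ ∈ H := fun y hy =>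
          hkle (smul_mem_pointwise_smul y (MulAut.conj (k * g)) H hy)
        have hkg : k * g ∈ normalizer (H : Set G) := mem_normalizer_fintype hmem
        have h1 : k * g ∈ centralizer ((P : Subgroup G) : Set G) := centralizer_le hPH (hNC hkg)
        simpa using mul_mem (inv_mem (hKC hk)) h1
      have hPc : (P : Subgroup G) ≤ center G := by
        intro z hz
        exact mem_center_iff.2 fun g => (mem_centralizer_iff.1 (hCtop.ge (mem_top g)) z hz).symm
      set π := QuotientGroup.mk' (P : Subgroup G)
      have hker : π.ker = (P : Subgroup G) := QuotientGroup.ker_mk' _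
      have hcomap : (H.map π).comap π = H := by rw [comap_map_eq, hker, sup_eq_left.2 hPH]
      have hidx : (H.map π).index = H.index :=
        index_map_eq _ (QuotientGroup.mk'_surjective _) (by rw [hker]; exact hPH)
      obtain ⟨Kb, hKbn, hKb⟩ := ih (Nat.card (G ⧸ (P : Subgroup G))) (by
          rw [← index_eq_card]
          have h2 := (P : Subgroup G).card_mul_index
          have h3 : 1 < Nat.card (P : Subgroup G) := (one_lt_card_iff_ne_bot _).2 hP1
          nlinarith [Nat.pos_of_ne_zero (P : Subgroup G).index_ne_zero_of_finite]) rfl (H.map π)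
        (by rw [hidx]; exact hcop.coprime_dvd_left (card_map_dvd _ _))
        (by
          intro q hq
          obtain ⟨g, rfl⟩ := QuotientGroup.mk'_surjective _ q
          have hgn : g ∈ normalizer (H : Set G) := by
            rw [← hcomap]
            refine mem_normalizer_iff.2 fun y => ?_
            rw [mem_comap, mem_comap, map_mul, map_mul, map_inv]
            exact mem_normalizer_iff.1 hq (π y)
          rw [mem_centralizer_iff]
          rintro _ ⟨y, hy, rfl⟩
          rw [← map_mul, ← map_mul, mem_centralizer_iff.1 (hNC hgn) y hy])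
      set K1 := Kb.comap π
      have hPK : (P : Subgroup G) ≤ K1 := hker.ge.trans (MonoidHom.ker_le_comap π Kb)
      have hKbcard : Nat.card Kb = H.index := by rw [← hidx, hKb.index_eq_card]
      have hPidx : ((P : Subgroup G).subgroupOf K1).index = H.index := by
        show (P : Subgroup G).relIndex K1 = _
        rw [show (P : Subgroup G).relIndex K1 = π.ker.relIndex K1 by rw [hker], relIndex_ker,
          map_comap_eq_self_of_surjective (QuotientGroup.mk'_surjective _), hKbcard]
      have hPcard : Nat.card ((P : Subgroup G).subgroupOf K1) = Nat.card (P : Subgroup G) :=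
        Nat.card_congr (subgroupOfEquivOfLe hPK).toEquiv
      have hPco : (Nat.card ((P : Subgroup G).subgroupOf K1)).Coprime ((P : Subgroup G).subgroupOf K1).index := by
        rw [hPcard, hPidx]; exact hcop.coprime_dvd_left (card_dvd_of_le hPH)
      have : ((P : Subgroup G).subgroupOf K1).Normal := hPn.comap _
      obtain ⟨K, hK⟩ := exists_right_complement'_of_coprime hPco
      have hKn : K.Normal := ⟨fun x hx g => by
        obtain ⟨⟨z, y⟩, rfl⟩ := hK.2 g
        have hzc : ∀ w : K1, w * (z : K1) = (z : K1) * w := fun w =>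
          Subtype.ext (mem_center_iff.1 (hPc z.2) w)
        simp only [mul_inv_rev]
        rw [show (z : K1) * (y : K1) * x * ((y : K1)⁻¹ * (z : K1)⁻¹) =
          (z : K1) * ((y : K1) * x * (y : K1)⁻¹) * (z : K1)⁻¹ by group, ← hzc, mul_inv_cancel_right]
        exact mul_mem (mul_mem y.2 hx) (inv_mem y.2)⟩
      have hKcard : Nat.card K = H.index := by rw [← hPidx, hK.symm.index_eq_card]
      have hKidx : K.index = Nat.card (P : Subgroup G) := by rw [← hPcard, hK.index_eq_card]
      have hK1n : K1.Normal := hKbn.comap π
      refine ⟨K.map K1.subtype, normal_map_of_coprime_index (by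
        rw [hKcard, hKidx]; exact (hcop.coprime_dvd_left (card_dvd_of_le hPH)).symm),
        isComplement'_of_coprime ?_ ?_⟩
      · rw [card_map_of_injective K1.subtype_injective, hKcard, mul_comm, card_mul_index]
      · rw [card_map_of_injective K1.subtype_injective, hKcard]; exact hcop.symm
    · rcases eq_or_ne H ⊥ with rfl | hH
      · exact ⟨⊤, inferInstance, isComplement'_top_bot⟩
      obtain ⟨p, hp, hpd⟩ := Nat.exists_prime_and_dvd (fun h => hH (eq_bot_of_card_eq H h))
      have := Fact.mk hp
      obtain ⟨PH⟩ : Nonempty (Sylow p H) := inferInstance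
      have hPp : IsPGroup p ((PH : Subgroup H).map H.subtype) := PH.2.map _
      have hPidx : ¬ p ∣ ((PH : Subgroup H).map H.subtype).index := by
        rw [index_map_subtype, hp.dvd_mul, not_or]
        exact ⟨PH.not_dvd_index, fun h => hp.one_lt.ne' (Nat.eq_one_of_dvd_coprimes hcop hpd h)⟩
      obtain ⟨P, hP⟩ : ∃ P : Sylow p G, (P : Subgroup G) = (PH : Subgroup H).map H.subtype :=
        ⟨hPp.toSylow hPidx, IsPGroup.toSylow_coe hPp hPidx⟩
      have hPH : (P : Subgroup G) ≤ H := hP.le.trans (map_subtype_le _)
      have hP1 : (P : Subgroup G) ≠ ⊥ := fun h => P.ne_bot_of_dvd_card (hpd.trans (card_subgroup_dvd_card H)) h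
      have hNP : normalizer ((P : Subgroup G) : Set G) ≠ ⊤ := fun h =>
        hA ⟨p, inferInstance, P, hPH, normalizer_eq_top_iff.1 h, hP1⟩
      have hHN : H ≤ normalizer ((P : Subgroup G) : Set G) := by
        intro y hy
        refine centralizer_le_normalizer _ (mem_centralizer_iff.2 fun z hz => hab z (hPH hz) y hy)
      obtain ⟨K, hKM, hMK, hKH, -, hdec⟩ := hsub _ hHN hNP
      have hPC : normalizer ((P : Subgroup G) : Set G) ≤ centralizer ((P : Subgroup G) : Set G) := by
        intro x hx
        obtain ⟨k, hk, y, hy, rfl⟩ := hdec x hx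
        refine mul_mem ?_ (mem_centralizer_iff.2 fun z hz => hab z (hPH hz) y hy)
        refine commutator_eq_bot_of_disjoint (le_normalizer.trans hMK) hKM ?_ hk
        rw [eq_bot_iff, ← hKH]
        exact inf_le_inf_left _ hPH
      obtain ⟨T, hTn, hT⟩ := (hasNormalPComplement_iff_sylow P).1
        (hasNormalPComplement_of_normalizer_le_centralizer P hPC)
      have hTidx : T.index = Nat.card (P : Subgroup G) := hT.symm.index_eq_card
      set H' := H ⊓ T with hH'
      have hH'card : Nat.card H = Nat.card H' * Nat.card (P : Subgroup G) := by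
        rw [← (H'.subgroupOf H).card_mul_index,
          Nat.card_congr (subgroupOfEquivOfLe (inf_le_left : H' ≤ H)).toEquiv]
        congr 1
        show H'.relIndex H = _
        rw [hH', inf_relIndex_left]
        refine Nat.dvd_antisymm (hTidx ▸ relIndex_dvd_index_of_normal T H) ?_
        have h1 : T.relIndex (P : Subgroup G) = Nat.card (P : Subgroup G) := by
          rw [← inf_relIndex_right, hT.disjoint.eq_bot, relIndex_bot_left]
        rw [← h1, ← relIndex_subgroupOf hPH]
        exact relIndex_dvd_index_of_normal (T.subgroupOf H) _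
      rcases eq_or_ne H' ⊥ with hb | hb
      · refine ⟨T, hTn, ?_⟩
        rw [hb, card_bot, one_mul] at hH'card
        rwa [← eq_of_le_of_card_ge hPH hH'card.le]
      have hTidx' : H'.relIndex T = H.index := by
        have e1 := T.card_mul_index
        have e2 := H.card_mul_index
        have e3 := (H'.subgroupOf T).card_mul_index
        rw [Nat.card_congr (subgroupOfEquivOfLe (inf_le_right : H' ≤ T)).toEquiv] at e3
        rw [hTidx, ← e3] at e1
        rw [hH'card, ← e1] at e2
        refine Nat.eq_of_mul_eq_mul_left (Nat.mul_pos (Nat.card_pos (α := H')) (Nat.card_pos (α := (P : Subgroup G)))) ?_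
        rw [e2]
        show Nat.card H' * Nat.card (P : Subgroup G) * (H'.subgroupOf T).index = _
        ring
      have hHN' : H ≤ normalizer (H' : Set G) := fun y hy =>
        centralizer_le_normalizer _ (mem_centralizer_iff.2 fun z hz => hab z hz.1 y hy)
      have hN' : normalizer (H' : Set G) ≠ ⊤ := by
        intro htop
        have hH'n : H'.Normal := normalizer_eq_top_iff.1 htop
        obtain ⟨q, hq, hqd⟩ := Nat.exists_prime_and_dvd (fun h => hb (eq_bot_of_card_eq H' h))
        have := Fact.mk hq
        obtain ⟨Q⟩ : Nonempty (Sylow q H') := inferInstance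
        have : IsMulCommutative H' := ⟨⟨fun a b => Subtype.ext (hab a a.2.1 b b.2.1)⟩⟩
        have hQc : (Q : Subgroup H').Characteristic := Q.characteristic_of_normal inferInstance
        have hQn : ((Q : Subgroup H').map H'.subtype).Normal := inferInstance
        have hQp : IsPGroup q ((Q : Subgroup H').map H'.subtype) := Q.2.map _
        have hqP : q ≠ p := by
          rintro rfl
          exact not_dvd_of_coprime (coprime_card_of_isComplement' P hT) (hqd.trans (card_dvd_of_le inf_le_right))
        have hidx : ¬ q ∣ ((Q : Subgroup H').map H'.subtype).index := by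
          rw [index_map_subtype, hq.dvd_mul, not_or]
          refine ⟨Q.not_dvd_index, fun h => ?_⟩
          rw [← relIndex_mul_index (inf_le_right : H' ≤ T), hTidx', hTidx, hq.dvd_mul] at h
          rcases h with h | h
          · exact hq.one_lt.ne' (Nat.eq_one_of_dvd_coprimes hcop (hqd.trans (card_dvd_of_le inf_le_left)) h)
          · obtain ⟨k, hk⟩ := IsPGroup.iff_card.1 P.2
            rw [hk] at h
            exact hqP ((Nat.prime_dvd_prime_iff_eq hq hp).1 (hq.dvd_of_dvd_pow h))
        have hcoe := IsPGroup.toSylow_coe hQp hidx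
        refine hA ⟨q, inferInstance, hQp.toSylow hidx, ?_, by rw [hcoe]; exact hQn, ?_⟩
        · rw [hcoe]; exact (map_subtype_le _).trans inf_le_left
        · rw [hcoe, Ne, Subgroup.map_eq_bot_iff_of_injective _ H'.subtype_injective]
          exact Q.ne_bot_of_dvd_card hqd
      obtain ⟨K', hKM', hMK', hKH', -, hdec'⟩ := hsub _ hHN' hN'
      have hC' : normalizer (H' : Set G) ≤ centralizer (H' : Set G) := by
        intro x hx
        obtain ⟨k, hk, y, hy, rfl⟩ := hdec' x hx
        refine mul_mem ?_ (mem_centralizer_iff.2 fun z hz => hab z hz.1 y hy)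
        refine commutator_eq_bot_of_disjoint (le_normalizer.trans hMK') hKM' ?_ hk
        rw [eq_bot_iff, ← hKH']
        exact inf_le_inf_left _ inf_le_left
      have hTlt : Nat.card T < Nat.card G := by
        have e1 := T.card_mul_index
        have h3 : 1 < Nat.card (P : Subgroup G) := (one_lt_card_iff_ne_bot _).2 hP1
        rw [hTidx] at e1
        nlinarith [Nat.card_pos (α := T)]
      obtain ⟨R, hRn, hR⟩ := ih _ hTlt rfl (H'.subgroupOf T) (by
          show (Nat.card (H'.subgroupOf T)).Coprime (H'.relIndex T)
          rw [Nat.card_congr (subgroupOfEquivOfLe (inf_le_right : H' ≤ T)).toEquiv, hTidx']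
          exact hcop.coprime_dvd_left (card_dvd_of_le inf_le_left))
        (fun g hg => mem_centralizer_iff.2 fun y hy => Subtype.ext <| by
          have hg' : (g : G) ∈ normalizer (H' : Set G) := by
            refine mem_normalizer_iff.2 fun z => ⟨fun hz => (mem_normalizer_iff.1 hg ⟨z, hz.2⟩).1 hz, fun hz => ?_⟩
            have hzT : z ∈ T := by
              simpa [mul_assoc] using mul_mem (mul_mem (inv_mem g.2) hz.2) g.2
            exact (mem_normalizer_iff.1 hg ⟨z, hzT⟩).2 hz
          exact mem_centralizer_iff.1 (hC' hg') _ hy)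
      have hRcard : Nat.card R = H.index := by rw [← hTidx', ← hR.index_eq_card]; rfl
      refine ⟨R.map T.subtype, normal_map_of_coprime_index (by
        rw [hRcard, hR.symm.index_eq_card, Nat.card_congr (subgroupOfEquivOfLe (inf_le_right : H' ≤ T)).toEquiv]
        exact (hcop.coprime_dvd_left (card_dvd_of_le inf_le_left)).symm), isComplement'_of_coprime ?_ ?_⟩
      · rw [card_map_of_injective T.subtype_injective, hRcard, mul_comm, card_mul_index]
      · rw [card_map_of_injective T.subtype_injective, hRcard]; exact hcop.symm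

end CfsgLib.Transfer
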