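import Cfsg.Agent.Lib.Transfer.Frobenius
import Mathlib.Data.Nat.Factorization.Induction

/-!
Counting fixed points of prime-power elements on a small Sylow subgroup.
-/

namespace CfsgLib.Transfer

open Cfsg Subgroup

variable {G : Type*} [Group G] {p : ℕ}

/-- A subgroup containing every prime-power order power of `g` contains `g`. -/
theorem mem_of_prime_pow_powers {G : Type*} [Group G] (H : Subgroup G) {g : G}
    (hg : IsOfFinOrder g)
    (h : ∀ x ∈ zpowers g, ∀ q k : ℕ, q.Prime → 0 < k → orderOf x = q ^ k → x ∈ H) : g ∈ H := by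
  suffices ∀ n, 0 < n → ∀ x ∈ zpowers g, orderOf x = n → x ∈ H from
    this _ hg.orderOf_pos g (mem_zpowers g) rfl
  intro n
  induction n using Nat.recOnPosPrimePosCoprime with
  | prime_pow q k hq hk => exact fun _ x hx ho => h x hx q k hq hk ho
  | zero => exact fun h0 => absurd h0 (lt_irrefl 0)
  | one =>
    intro _ x _ ho
    rw [orderOf_eq_one_iff.1 ho]
    exact H.one_mem
  | coprime a b ha hb hab iha ihb =>
    intro _ x hx ho
    have h1 : x ^ b ∈ H := iha (by omega) _ (pow_mem hx b) (by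
      rw [orderOf_pow_of_dvd (by omega) (ho ▸ Dvd.intro_left a rfl), ho, Nat.mul_div_cancel _ (by omega)])
    have h2 : x ^ a ∈ H := ihb (by omega) _ (pow_mem hx a) (by
      rw [orderOf_pow_of_dvd (by omega) (ho ▸ Dvd.intro b rfl), ho, Nat.mul_div_cancel_left _ (by omega)])
    have hbez := Nat.gcd_eq_gcd_ab a b
    rw [hab.gcd_eq_one, Nat.cast_one] at hbez
    rw [show x = (x ^ a) ^ Nat.gcdA a b * (x ^ b) ^ Nat.gcdB a b by
      rw [← zpow_natCast, ← zpow_natCast, ← zpow_mul, ← zpow_mul, ← zpow_add, ← hbez, zpow_one]]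
    exact H.mul_mem (H.zpow_mem h2 _) (H.zpow_mem h1 _)

theorem card_modEq_inf_centralizer [Finite G] {q : ℕ} [Fact q.Prime] (Q : Subgroup G) {g : G}
    (hg : g ∈ normalizer (Q : Set G)) {k : ℕ} (hk : orderOf g = q ^ k) :
    Nat.card Q ≡ Nat.card (Q ⊓ centralizer ({g} : Set G) : Subgroup G) [MOD q] := by
  let : MulAction (zpowers g) Q :=
    { smul := fun z x => ⟨(z : G) * x * (z : G)⁻¹,
        (mem_normalizer_iff.1 ((zpowers_le).2 hg z.2) _).1 x.2⟩
      one_smul := fun x => Subtype.ext (show (1 : G) * x * (1 : G)⁻¹ = x by group)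
      mul_smul := fun a b x => Subtype.ext (show ((a * b : zpowers g) : G) * x * ((a * b : zpowers g) : G)⁻¹ =
        a * (b * x * (b : G)⁻¹) * (a : G)⁻¹ by rw [coe_mul]; group) }
  refine (IsPGroup.card_modEq_card_fixedPoints
    (IsPGroup.of_card (G := zpowers g) (n := k) (by rw [Nat.card_zpowers, hk])) Q).trans ?_
  refine congrArg (· % q) (Nat.card_congr
    { toFun := fun x => ⟨x.1, x.1.2, mem_centralizer_singleton_iff.2 ?_⟩
      invFun := fun x => ⟨⟨x.1, x.2.1⟩, fun z => ?_⟩
      left_inv := fun x => rfl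
      right_inv := fun x => rfl })
  · have := congrArg Subtype.val (x.2 ⟨g, mem_zpowers g⟩)
    change g * x.1 * g⁻¹ = x.1 at this
    exact (mul_inv_eq_iff_eq_mul.1 this).symm
  · refine Subtype.ext ?_
    show (z : G) * x.1 * (z : G)⁻¹ = x.1
    obtain ⟨z, i, rfl⟩ := z
    have hc : Commute (x.1) g := mem_centralizer_singleton_iff.1 x.2.2
    show g ^ i * (x : G) * (g ^ i)⁻¹ = x
    rw [← (hc.zpow_right i).eq, mul_inv_cancel_right]

/-- If for every prime-power order `q^k`, with `q ≠ p`, of an element of `N(P)` no proper divisor of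
`|P| = p^a` is congruent to it mod `q`, then `N(P)` acts as `P` does: abelian case of Burnside. -/
theorem hasNormalPComplement_of_forall_modEq [Finite G] [hp : Fact p.Prime] (P : Sylow p G)
    (hP : IsMulCommutative P) {a : ℕ} (ha : Nat.card (P : Subgroup G) = p ^ a)
    (h : ∀ q : ℕ, q.Prime → q ∣ Nat.card G → q ≠ p → ∀ j < a, ¬ p ^ a ≡ p ^ j [MOD q]) :
    HasNormalPComplement p G := by
  refine hasNormalPComplement_of_abelian_sylow P hP fun g hg hco => ?_
  refine mem_of_prime_pow_powers _ (isOfFinOrder_of_finite g) fun x hx q k hq hk ho => ?_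
  have := Fact.mk hq
  have hqG : q ∣ Nat.card G := (dvd_pow_self q hk.ne').trans (ho ▸ orderOf_dvd_natCard x)
  have hqp : q ≠ p := by
    rintro rfl
    have h1 : q ∣ orderOf g := (dvd_pow_self q hk.ne').trans (ho ▸ orderOf_dvd_of_mem_zpowers hx)
    exact not_dvd_of_coprime hco h1
  have hmod := card_modEq_inf_centralizer (P : Subgroup G) ((zpowers_le).2 hg hx) ho
  obtain ⟨j, hj, hj'⟩ := (Nat.dvd_prime_pow hp.out).1 (ha ▸ card_dvd_of_le
    (inf_le_left : (P : Subgroup G) ⊓ centralizer ({x} : Set G) ≤ (P : Subgroup G)))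
  rcases lt_or_eq_of_le hj with hlt | rfl
  · rw [ha, hj'] at hmod
    exact absurd hmod (h q hq hqG hqp j hlt)
  · have heq := eq_of_le_of_card_ge (inf_le_left : (P : Subgroup G) ⊓ centralizer ({x} : Set G) ≤ _)
      (by rw [hj', ha])
    rw [mem_centralizer_iff]
    intro y hy
    have : y ∈ (P : Subgroup G) ⊓ centralizer ({x} : Set G) := heq.symm ▸ hy
    exact (mem_centralizer_singleton_iff.1 this.2)

end CfsgLib.Transfer
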