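import Cfsg.Agent.Lib.Transfer.PlaneSL2
import Cfsg.Agent.Lib.PStab.QuadLinear
import Cfsg.Agent.Lib.PStab.Stable

/-!
Quadratic pairs and standard planes: tameness from the absence of standard pairs, and standard planes
detecting a given element.
-/

namespace CfsgLib.Transfer

open Matrix
open scoped commutatorElement MatrixGroups

section Linear

variable {K : Type*} [Field K] {X : Type*} [Group X]

/-- A representation in another basis. -/
noncomputable def conjRep (ρ : X →* Matrix (Fin 2) (Fin 2) K) (P : Matrix (Fin 2) (Fin 2) K)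
    (hP : P.det ≠ 0) : X →* Matrix (Fin 2) (Fin 2) K where
  toFun x := P⁻¹ * ρ x * P
  map_one' := by rw [map_one, mul_one, Matrix.nonsing_inv_mul P hP.isUnit]
  map_mul' a b := by
    rw [map_mul]
    calc P⁻¹ * (ρ a * ρ b) * P = P⁻¹ * ρ a * (P * P⁻¹) * ρ b * P := by
          rw [Matrix.mul_nonsing_inv P hP.isUnit]; simp only [mul_assoc, one_mul]
      _ = _ := by simp only [mul_assoc]

theorem conjRep_eq {ρ : X →* Matrix (Fin 2) (Fin 2) K} {P : Matrix (Fin 2) (Fin 2) K} (hP : P.det ≠ 0)
    {x : X} {M : Matrix (Fin 2) (Fin 2) K} (h : ρ x * P = P * M) : conjRep ρ P hP x = M := by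
  show P⁻¹ * ρ x * P = M
  rw [mul_assoc, h, ← mul_assoc, Matrix.nonsing_inv_mul P hP.isUnit, one_mul]

variable [Finite X]

/-- If an element is not unipotent under two quadratic generators it is seen on some standard plane. -/
theorem exists_plane_of_elem {p : ℕ} [Fact p.Prime] [CharP K p] {A B : X}
    (hgen : Subgroup.closure ({A, B} : Set X) = ⊤) (h : X) :
    ∀ (n : ℕ) (W : Type*) [AddCommGroup W] [Module K W] [FiniteDimensional K W]
      (φ : X →* Module.End K W), Module.finrank K W = n →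
      (φ A - 1) * (φ A - 1) = 0 → (φ B - 1) * (φ B - 1) = 0 →
      (∃ f : Polynomial K, f ≠ 0 ∧ f.Splits ∧
        Polynomial.aeval ((φ A - 1) * (φ B - 1) + (φ B - 1) * (φ A - 1)) f = 0) →
      (∀ k : ℕ, φ (h ^ p ^ k) ≠ 1) →
      ∃ (ρ : X →* Matrix (Fin 2) (Fin 2) K) (c : K), StdPair ρ A B c ∧ ∀ k : ℕ, ρ (h ^ p ^ k) ≠ 1 := by
  classical
  intro n
  induction n using Nat.strong_induction_on with
  | _ n ih =>
  intro W _ _ _ φ hn hA hB hz hh
  set α := φ A - 1 with hα
  set β := φ B - 1 with hβ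
  set z := α * β + β * α with hzd
  obtain ⟨f, hf0, hfs, hfz⟩ := hz
  have : Nontrivial W := by
    rw [← not_subsingleton_iff_nontrivial]
    intro hs
    exact hh 0 (LinearMap.ext fun w => Subsingleton.elim _ _)
  -- `z` has an eigenvalue
  obtain ⟨c, hc⟩ : ∃ c : K, Module.End.HasEigenvalue z c := by
    have hdvd := minpoly.dvd K z hfz
    have hint : IsIntegral K z := Algebra.IsIntegral.isIntegral z
    have hs : (minpoly K z).Splits := hfs.of_dvd hf0 hdvd
    obtain ⟨c, hc⟩ := hs.exists_eval_eq_zero (minpoly.degree_pos hint).ne'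
    exact ⟨c, Module.End.hasEigenvalue_iff_isRoot.2 hc⟩
  set E := Module.End.eigenspace z c with hE
  have hza : z * α = α * z := by
    simp only [hzd, add_mul, mul_add, ← mul_assoc]
    rw [mul_assoc β α α, hA, mul_zero, add_zero, zero_mul, zero_add]
  have hzb : z * β = β * z := by
    simp only [hzd, add_mul, mul_add, ← mul_assoc]
    rw [mul_assoc α β β, hB, mul_zero, zero_add, zero_mul, add_zero]
  have hEα : ∀ v ∈ E, α v ∈ E := fun v hv => by
    rw [hE, Module.End.mem_eigenspace_iff] at hv ⊢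
    rw [← Module.End.mul_apply, hza, Module.End.mul_apply, hv, map_smul]
  have haa : ∀ v, α (α v) = 0 := fun v => by rw [← Module.End.mul_apply, hA, LinearMap.zero_apply]
  have hbb : ∀ v, β (β v) = 0 := fun v => by rw [← Module.End.mul_apply, hB, LinearMap.zero_apply]
  obtain ⟨v, hvE, hv0, hαv⟩ : ∃ v ∈ E, v ≠ 0 ∧ α v = 0 := by
    obtain ⟨u, hu⟩ := hc.exists_hasEigenvector
    by_cases h0 : α u = 0
    · exact ⟨u, hu.1, hu.2, h0⟩
    · exact ⟨α u, hEα u hu.1, h0, haa u⟩
  have hzv : α (β v) = c • v := by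
    have := Module.End.mem_eigenspace_iff.1 hvE
    rwa [hzd, LinearMap.add_apply, Module.End.mul_apply, Module.End.mul_apply, hαv, map_zero,
      add_zero] at this
  -- a nonzero invariant submodule: a trivial line or a standard plane
  obtain ⟨U, hU0, hUα, hUβ, hUcase⟩ : ∃ U : Submodule K W, U ≠ ⊥ ∧ (∀ u ∈ U, α u ∈ U) ∧
      (∀ u ∈ U, β u ∈ U) ∧ ((∀ u ∈ U, α u = 0 ∧ β u = 0) ∨
        (c ≠ 0 ∧ U = Submodule.span K {v, β v} ∧ β v ≠ 0)) := by
    have line : ∀ w : W, w ≠ 0 → α w = 0 → β w = 0 → ∃ U : Submodule K W, U ≠ ⊥ ∧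
        (∀ u ∈ U, α u ∈ U) ∧ (∀ u ∈ U, β u ∈ U) ∧ ((∀ u ∈ U, α u = 0 ∧ β u = 0) ∨
          (c ≠ 0 ∧ U = Submodule.span K {v, β v} ∧ β v ≠ 0)) := by
      intro w hw0 h1 h2
      have h3 : ∀ u ∈ Submodule.span K {w}, α u = 0 ∧ β u = 0 := by
        intro u hu
        obtain ⟨a, rfl⟩ := Submodule.mem_span_singleton.1 hu
        exact ⟨by rw [map_smul, h1, smul_zero], by rw [map_smul, h2, smul_zero]⟩
      exact ⟨Submodule.span K {w}, by simpa using hw0, fun u hu => by rw [(h3 u hu).1]; exact zero_mem _,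
        fun u hu => by rw [(h3 u hu).2]; exact zero_mem _, Or.inl h3⟩
    by_cases hβv : β v = 0
    · exact line v hv0 hαv hβv
    by_cases hc0 : c = 0
    · exact line (β v) hβv (by rw [hzv, hc0, zero_smul]) (hbb v)
    refine ⟨Submodule.span K {v, β v}, ?_, ?_, ?_, Or.inr ⟨hc0, rfl, hβv⟩⟩
    · intro h0
      exact hv0 ((Submodule.eq_bot_iff _).1 h0 v (Submodule.subset_span (Or.inl rfl)))
    · intro u hu
      obtain ⟨a, b, rfl⟩ := Submodule.mem_span_pair.1 hu
      rw [map_add, map_smul, map_smul, hαv, hzv, smul_zero, zero_add]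
      exact Submodule.smul_mem _ _ (Submodule.smul_mem _ _ (Submodule.subset_span (Or.inl rfl)))
    · intro u hu
      obtain ⟨a, b, rfl⟩ := Submodule.mem_span_pair.1 hu
      rw [map_add, map_smul, map_smul, hbb, smul_zero, add_zero]
      exact Submodule.smul_mem _ _ (Submodule.subset_span (Or.inr rfl))
  have hUinv : ∀ g : X, U ≤ U.comap (φ g) := by
    refine PStab.forall_of_closure_pair (P := fun g => U ≤ U.comap (φ g)) hgen ?_ ?_ ?_ ?_
    · intro u hu; simpa using hu
    · intro u hu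
      show φ A u ∈ U
      have := add_mem (hUα u hu) hu
      simpa [hα] using this
    · intro u hu
      show φ B u ∈ U
      have := add_mem (hUβ u hu) hu
      simpa [hβ] using this
    · intro x y hx hy u hu
      show φ (x * y) u ∈ U
      rw [map_mul, Module.End.mul_apply]
      exact hx (hy hu)
  let ψ : X →* Module.End K (W ⧸ U) :=
    { toFun := fun g => Submodule.mapQ U U (φ g) (hUinv g)
      map_one' := LinearMap.ext fun x => by
        obtain ⟨x, rfl⟩ := Submodule.Quotient.mk_surjective U x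
        simp
      map_mul' := fun a b => LinearMap.ext fun x => by
        obtain ⟨x, rfl⟩ := Submodule.Quotient.mk_surjective U x
        simp }
  have ψapp : ∀ g x, ψ g (Submodule.Quotient.mk x) = Submodule.Quotient.mk (φ g x) := fun g x => rfl
  by_cases hq : ∃ k, ψ (h ^ p ^ k) = 1
  swap
  · push Not at hq
    refine ih (Module.finrank K (W ⧸ U)) ?_ (W ⧸ U) ψ rfl ?_ ?_ ⟨f, hf0, hfs, ?_⟩ hq
    · have h1 := Submodule.finrank_quotient_add_finrank U
      have h2 : Module.finrank K U ≠ 0 := fun h0 => hU0 (Submodule.finrank_eq_zero.1 h0)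
      omega
    · refine LinearMap.ext fun x => ?_
      obtain ⟨x, rfl⟩ := Submodule.Quotient.mk_surjective U x
      simp only [Module.End.mul_apply, LinearMap.sub_apply, Module.End.one_apply, ψapp,
        ← Submodule.Quotient.mk_sub, LinearMap.zero_apply]
      rw [show φ A (φ A x - x) - (φ A x - x) = α (α x) by simp [hα], haa]
      simp
    · refine LinearMap.ext fun x => ?_
      obtain ⟨x, rfl⟩ := Submodule.Quotient.mk_surjective U x
      simp only [Module.End.mul_apply, LinearMap.sub_apply, Module.End.one_apply, ψapp,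
        ← Submodule.Quotient.mk_sub, LinearMap.zero_apply]
      rw [show φ B (φ B x - x) - (φ B x - x) = β (β x) by simp [hβ], hbb]
      simp
    · have hcomm : ∀ x, ((ψ A - 1) * (ψ B - 1) + (ψ B - 1) * (ψ A - 1)) (Submodule.Quotient.mk x) =
          Submodule.Quotient.mk (z x) := by
        intro x
        simp [hzd, hα, hβ, ψapp, Module.End.mul_apply]
      have hev : ∀ (g : Polynomial K) x,
          Polynomial.aeval ((ψ A - 1) * (ψ B - 1) + (ψ B - 1) * (ψ A - 1)) g (Submodule.Quotient.mk x) =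
            Submodule.Quotient.mk (Polynomial.aeval z g x) := by
        intro g
        induction g using Polynomial.induction_on' with
        | add g₁ g₂ h₁ h₂ => intro x; simp [h₁, h₂]
        | monomial i a =>
          intro x
          simp only [Polynomial.aeval_monomial, Module.algebraMap_end_apply, Module.End.mul_apply]
          rw [Submodule.Quotient.mk_smul]
          congr 1
          induction i generalizing x with
          | zero => simp
          | succ i ihi => rw [pow_succ, pow_succ, Module.End.mul_apply, Module.End.mul_apply, hcomm, ihi]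
      refine LinearMap.ext fun x => ?_
      obtain ⟨x, rfl⟩ := Submodule.Quotient.mk_surjective U x
      rw [hev, hfz]
      simp
  obtain ⟨k, hk⟩ := hq
  -- `h ^ p ^ k` is nontrivial on `U`
  have hchar : ((p : ℕ) : Module.End K W) = 0 := by
    rw [← map_natCast (algebraMap K _), CharP.cast_eq_zero, map_zero]
  have hnotU : ∀ j, ∃ u ∈ U, φ (h ^ p ^ j) u ≠ u := by
    intro j
    by_contra hcon
    push Not at hcon
    -- then some power of `h` is unipotent
    set g := h ^ p ^ (k + j)
    have hgU : ∀ u ∈ U, φ g u = u := by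
      intro u hu
      have : ∀ m : ℕ, φ ((h ^ p ^ j) ^ m) u = u := by
        intro m
        induction m with
        | zero => simp
        | succ m ihm => rw [pow_succ, map_mul, Module.End.mul_apply, hcon u hu, ihm]
      have e : g = (h ^ p ^ j) ^ p ^ k := by rw [← pow_mul, ← pow_add, add_comm]
      rw [e]; exact this _
    have hgQ : ∀ x, φ g x - x ∈ U := by
      intro x
      have e : g = (h ^ p ^ k) ^ p ^ j := by rw [← pow_mul, ← pow_add]
      have h1 : ψ g = 1 := by rw [e, map_pow, hk, one_pow]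
      have h2 := LinearMap.congr_fun h1 (Submodule.Quotient.mk x)
      rw [ψapp, Module.End.one_apply] at h2
      exact (Submodule.Quotient.eq U).1 h2
    have hnil : IsNilpotent (φ g - 1) := ⟨2, LinearMap.ext fun x => by
      rw [pow_two, Module.End.mul_apply]
      simp only [LinearMap.sub_apply, Module.End.one_apply, LinearMap.zero_apply]
      rw [hgU _ (hgQ x), sub_self]⟩
    obtain ⟨i, hi⟩ := PStab.pow_eq_one_of_isNilpotent_sub_one (Fact.out : p.Prime) hchar hnil
    refine hh (k + j + i) ?_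
    rw [pow_add, pow_mul, map_pow]
    exact hi
  rcases hUcase with hT | ⟨hc0, hUspan, hβv⟩
  · exfalso
    obtain ⟨u, hu, hne⟩ := hnotU 0
    apply hne
    refine PStab.forall_of_closure_pair (P := fun g => ∀ u ∈ U, φ g u = u) hgen ?_ ?_ ?_ ?_ _ u hu
    · intro u _; simp
    · intro u hu; simpa [hα, sub_eq_zero] using (hT u hu).1
    · intro u hu; simpa [hβ, sub_eq_zero] using (hT u hu).2
    · intro x y hx hy u hu; rw [map_mul, Module.End.mul_apply, hy u hu, hx u hu]
  -- the plane
  let L : (Fin 2 → K) →ₗ[K] W :=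
    (LinearMap.proj (R := K) (φ := fun _ : Fin 2 => K) 0).smulRight v +
      (LinearMap.proj (R := K) (φ := fun _ : Fin 2 => K) 1).smulRight (β v)
  have hL : ∀ x : Fin 2 → K, L x = x 0 • v + x 1 • β v := fun x => by simp [L]
  have hinj : Function.Injective L := by
    refine LinearMap.ker_eq_bot.1 (LinearMap.ker_eq_bot'.2 fun x hx => ?_)
    rw [hL] at hx
    have h1 : x 1 = 0 := by
      have := congrArg α hx
      rw [map_add, map_smul, map_smul, hαv, hzv, smul_zero, zero_add, map_zero, smul_smul,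
        smul_eq_zero] at this
      rcases this with h | h
      · exact (mul_eq_zero.1 h).resolve_right hc0
      · exact absurd h hv0
    rw [h1, zero_smul, add_zero, smul_eq_zero] at hx
    have h0 : x 0 = 0 := hx.resolve_right hv0
    ext i; fin_cases i <;> simp [h0, h1]
  have eA : ∀ x, φ A (L x) = L (Matrix.toLin' !![1, c; 0, 1] x) := fun x => by
    have e : φ A (L x) = α (L x) + L x := by simp [hα]
    rw [e, hL, hL, map_add, map_smul, map_smul, hαv, hzv]
    simp [dotProduct, Fin.sum_univ_two]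
    module
  have eB : ∀ x, φ B (L x) = L (Matrix.toLin' !![1, 0; 1, 1] x) := fun x => by
    have e : φ B (L x) = β (L x) + L x := by simp [hβ]
    rw [e, hL, hL, map_add, map_smul, map_smul, hbb]
    simp [dotProduct, Fin.sum_univ_two]
    module
  have step : ∀ g : X, ∃ m : Matrix (Fin 2) (Fin 2) K, ∀ x, φ g (L x) = L (Matrix.toLin' m x) := by
    intro g
    refine PStab.forall_of_closure_pair (P := fun g => ∃ m : Matrix (Fin 2) (Fin 2) K,
      ∀ x, φ g (L x) = L (Matrix.toLin' m x)) hgen ⟨1, fun x => by simp⟩ ⟨_, eA⟩ ⟨_, eB⟩ ?_ g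
    rintro x y ⟨m, hm⟩ ⟨m', hm'⟩
    exact ⟨m * m', fun w => by rw [map_mul, Module.End.mul_apply, hm', hm, Matrix.toLin'_mul_apply]⟩
  choose ρ hρ using step
  have huniq : ∀ g m, (∀ x, φ g (L x) = L (Matrix.toLin' m x)) → ρ g = m := by
    intro g m hm
    apply Matrix.toLin'.injective
    exact LinearMap.ext fun x => hinj ((hρ g x).symm.trans (hm x))
  have hone : ρ 1 = 1 := huniq 1 1 fun x => by simp
  have hmul : ∀ x y, ρ (x * y) = ρ x * ρ y := fun x y => huniq _ _ fun w => by
    rw [map_mul, Module.End.mul_apply, hρ y, hρ x, Matrix.toLin'_mul_apply]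
  refine ⟨{ toFun := ρ, map_one' := hone, map_mul' := hmul }, c,
    ⟨hc0, hgen, huniq A _ eA, huniq B _ eB⟩, fun j hj => ?_⟩
  obtain ⟨u, hu, hne⟩ := hnotU j
  apply hne
  rw [hUspan] at hu
  obtain ⟨a, b, rfl⟩ := Submodule.mem_span_pair.1 hu
  have : a • v + b • β v = L ![a, b] := by simp [hL]
  rw [this, hρ]
  have hj' : ρ (h ^ p ^ j) = 1 := hj
  rw [hj']
  simp

end Linear

variable {p : ℕ} [hp : Fact p.Prime]

local notation "KK" => AlgebraicClosure (ZMod p)

/-- No subgroup has a standard pair over the algebraic closure. -/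
def StdFree (p : ℕ) [Fact p.Prime] (H : Type*) [Group H] : Prop :=
  ∀ (S : Subgroup H) (ρ : S →* Matrix (Fin 2) (Fin 2) (AlgebraicClosure (ZMod p))) (A B : S)
    (c : AlgebraicClosure (ZMod p)), ¬ StdPair ρ A B c

/-- An element of order `p` and a representation without invariant line give a standard pair. -/
theorem exists_stdPair_of_no_eigen {H : Type*} [Group H] (ρ : H →* Matrix (Fin 2) (Fin 2) KK) {h : H}
    (hne : ρ h ≠ 1) (hhp : ρ (h ^ p) = 1)
    (hcon : ∀ v : Fin 2 → KK, v ≠ 0 → ∃ g : H, ∀ c : KK, ρ g *ᵥ v ≠ c • v) :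
    ∃ (S : Subgroup H) (P : Matrix (Fin 2) (Fin 2) KK) (hP : P.det ≠ 0) (A B : S) (c : KK),
      StdPair (conjRep (ρ.comp S.subtype) P hP) A B c := by
  set x := ρ h with hx
  have hxp : x ^ p = 1 := by rw [hx, ← map_pow, hhp]
  have hdetx : x.det = 1 := by
    have h1 : (x.det - 1) ^ p = 0 := by
      rw [sub_pow_char_of_commute _ (Commute.one_right _), ← Matrix.det_pow, hxp, Matrix.det_one,
        one_pow, sub_self]
    exact sub_eq_zero.1 (pow_eq_zero_iff hp.out.ne_zero |>.1 h1)
  have hnil : (x - 1) ^ p = 0 := by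
    rw [sub_pow_char_of_commute _ (Commute.one_right x), hxp, one_pow, sub_self]
  obtain ⟨v, hv0, hv⟩ := Matrix.exists_mulVec_eq_zero_iff.2
    (show (x - 1).det = 0 from pow_eq_zero_iff hp.out.ne_zero |>.1
      (by rw [← Matrix.det_pow, hnil, Matrix.det_zero]))
  have hxv : x *ᵥ v = v := by rwa [Matrix.sub_mulVec, Matrix.one_mulVec, sub_eq_zero] at hv
  obtain ⟨g, hg⟩ := hcon v hv0
  set w := ρ g *ᵥ v with hw
  have hd : v 0 * w 1 - v 1 * w 0 ≠ 0 := fun hd => by
    obtain ⟨c, hc⟩ := PStab.exists_eq_smul_of_det_eq_zero hv0 hd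
    exact hg c hc
  set y := ρ (g * h * g⁻¹) with hy
  have hyw : y *ᵥ w = w := by
    rw [hy, hw, Matrix.mulVec_mulVec, ← map_mul, inv_mul_cancel_right, map_mul, ← Matrix.mulVec_mulVec,
      hxv]
  have hy1 : y ≠ 1 := fun e => hne (by
    have : ρ (g⁻¹ * (g * h * g⁻¹) * g) = 1 := by
      rw [map_mul, map_mul, ← hy, e, mul_one, ← map_mul, inv_mul_cancel, map_one]
    rwa [show g⁻¹ * (g * h * g⁻¹) * g = h by group] at this)
  have hdety : y.det = 1 := by
    have hgg : (ρ g).det * (ρ g⁻¹).det = 1 := by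
      rw [← Matrix.det_mul, ← map_mul, mul_inv_cancel, map_one, Matrix.det_one]
    rw [hy, map_mul, map_mul, Matrix.det_mul, Matrix.det_mul, ← hx, hdetx, mul_one, hgg]
  set P₀ : Matrix (Fin 2) (Fin 2) KK := !![v 0, w 0; v 1, w 1] with hP₀
  have hP₀d : P₀.det ≠ 0 := by
    rw [hP₀, Matrix.det_fin_two_of]
    intro h0
    exact hd (by linear_combination h0)
  set x' := P₀⁻¹ * x * P₀ with hx'
  set y' := P₀⁻¹ * y * P₀ with hy'
  have hxP : x * P₀ = P₀ * x' := by
    rw [hx', ← mul_assoc, ← mul_assoc, Matrix.mul_nonsing_inv _ hP₀d.isUnit, one_mul]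
  have hyP : y * P₀ = P₀ * y' := by
    rw [hy', ← mul_assoc, ← mul_assoc, Matrix.mul_nonsing_inv _ hP₀d.isUnit, one_mul]
  have hcol0 : P₀ *ᵥ ![1, 0] = v := by
    rw [hP₀]; ext i; fin_cases i <;> simp [Matrix.mulVec, dotProduct, Fin.sum_univ_two]
  have hcol1 : P₀ *ᵥ ![0, 1] = w := by
    rw [hP₀]; ext i; fin_cases i <;> simp [Matrix.mulVec, dotProduct, Fin.sum_univ_two]
  have hcancel : ∀ u, P₀⁻¹ *ᵥ (P₀ *ᵥ u) = u := fun u => by
    rw [Matrix.mulVec_mulVec, Matrix.nonsing_inv_mul _ hP₀d.isUnit, Matrix.one_mulVec]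
  have hx0 : x' *ᵥ ![1, 0] = ![1, 0] := by
    rw [hx', ← Matrix.mulVec_mulVec, ← Matrix.mulVec_mulVec, hcol0, hxv]
    nth_rw 1 [← hcol0]
    exact hcancel _
  have hy0 : y' *ᵥ ![0, 1] = ![0, 1] := by
    rw [hy', ← Matrix.mulVec_mulVec, ← Matrix.mulVec_mulVec, hcol1, hyw]
    nth_rw 1 [← hcol1]
    exact hcancel _
  have hdetc : ∀ M : Matrix (Fin 2) (Fin 2) KK, (P₀⁻¹ * M * P₀).det = M.det := fun M => by
    rw [Matrix.det_mul, Matrix.det_mul, Matrix.det_nonsing_inv, mul_comm, ← mul_assoc,
      Ring.mul_inverse_cancel _ hP₀d.isUnit, one_mul]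
  have ex00 := congrFun hx0 0
  have ex10 := congrFun hx0 1
  have ey01 := congrFun hy0 0
  have ey11 := congrFun hy0 1
  simp [Matrix.mulVec, dotProduct, Fin.sum_univ_two] at ex00 ex10 ey01 ey11
  have ex11 : x' 1 1 = 1 := by
    have := hdetc x
    rw [← hx', hdetx, Matrix.det_fin_two, ex00, ex10] at this
    linear_combination this
  have ey00 : y' 0 0 = 1 := by
    have := hdetc y
    rw [← hy', hdety, Matrix.det_fin_two, ey01, ey11] at this
    linear_combination this
  set t := x' 0 1 with ht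
  set s := y' 1 0 with hs
  have hx'e : x' = !![1, t; 0, 1] := by
    rw [Matrix.eta_fin_two x', ex00, ex10, ex11]
  have hy'e : y' = !![1, 0; s, 1] := by
    rw [Matrix.eta_fin_two y', ey00, ey01, ey11]
  have ht0 : t ≠ 0 := fun h0 => hne (by
    have h1 : x * P₀ = 1 * P₀ := by
      rw [hxP, hx'e, h0, ← Matrix.one_fin_two, mul_one, one_mul]
    have h2 := congrArg (fun M => M * P₀⁻¹) h1
    simpa [mul_assoc, Matrix.mul_nonsing_inv _ hP₀d.isUnit] using h2)
  have hs0 : s ≠ 0 := fun h0 => hy1 (by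
    have h1 : y * P₀ = 1 * P₀ := by
      rw [hyP, hy'e, h0, ← Matrix.one_fin_two, mul_one, one_mul]
    have h2 := congrArg (fun M => M * P₀⁻¹) h1
    simpa [mul_assoc, Matrix.mul_nonsing_inv _ hP₀d.isUnit] using h2)
  set P := P₀ * !![1, 0; 0, s] with hP
  have hPd : P.det ≠ 0 := by
    rw [hP, Matrix.det_mul]
    refine mul_ne_zero hP₀d ?_
    rw [Matrix.det_fin_two_of]
    simpa using hs0
  set S := Subgroup.closure ({h, g * h * g⁻¹} : Set H) with hS
  refine ⟨S, P, hPd, ⟨h, Subgroup.subset_closure (Or.inl rfl)⟩,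
    ⟨g * h * g⁻¹, Subgroup.subset_closure (Or.inr rfl)⟩, t * s, ⟨mul_ne_zero ht0 hs0, ?_, ?_, ?_⟩⟩
  · apply Subgroup.map_injective S.subtype_injective
    rw [MonoidHom.map_closure, ← MonoidHom.range_eq_map, Subgroup.range_subtype]
    simp [Set.image_insert_eq, hS]
  · refine conjRep_eq hPd ?_
    show x * P = _
    rw [hP, ← mul_assoc, hxP, hx'e, mul_assoc, mul_assoc]
    congr 1
    simp
  · refine conjRep_eq hPd ?_
    show y * P = _
    rw [hP, ← mul_assoc, hyP, hy'e, mul_assoc, mul_assoc]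
    congr 1
    simp

theorem conjRep_injective {H : Type*} [Group H] {ρ : H →* Matrix (Fin 2) (Fin 2) KK}
    (hρ : Function.Injective ρ) (P : Matrix (Fin 2) (Fin 2) KK) (hP : P.det ≠ 0) :
    Function.Injective (conjRep ρ P hP) := by
  intro a b h
  change P⁻¹ * ρ a * P = P⁻¹ * ρ b * P at h
  have h' := congrArg (fun Z => P * Z * P⁻¹) h
  simp only [← mul_assoc, Matrix.mul_nonsing_inv P hP.isUnit, one_mul] at h'
  simp only [mul_assoc, Matrix.mul_nonsing_inv P hP.isUnit, mul_one] at h'
  exact hρ h'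

/-- Without standard pairs a group is tame. -/
theorem planeTame_of_stdFree {H : Type*} [Group H] [Finite H] (hfree : StdFree p H) :
    PStab.PlaneTame p H := by
  rintro ρ ⟨h, hne, hhp⟩
  by_contra hcon
  push Not at hcon
  obtain ⟨S, P, hP, A, B, c, hstd⟩ := exists_stdPair_of_no_eigen ρ hne hhp fun v hv => hcon v hv
  exact hfree S _ A B c hstd

/-- Abelian Sylow `2`-subgroups give tameness. -/
theorem stdFree_of_abelian_two (hp2 : p ≠ 2) {H : Type*} [Group H] [Finite H]
    (hab : ∀ T : Sylow 2 H, IsMulCommutative (T : Subgroup H)) : StdFree p H := by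
  intro S ρ A B c hstd
  refine hstd.false_of_abelian_two hp2 fun T => ?_
  obtain ⟨T', hT'⟩ := (T.2.map S.subtype).exists_le_sylow
  refine ⟨⟨fun a b => Subtype.ext (Subtype.ext ?_)⟩⟩
  simp only [Subgroup.coe_mul]
  exact congrArg Subtype.val ((hab T').is_comm.comm ⟨_, hT' (Subgroup.mem_map_of_mem _ a.2)⟩
    ⟨_, hT' (Subgroup.mem_map_of_mem _ b.2)⟩)

/-- A standard pair in a `p`-soluble group: `p = 3` and `SL(2,3)` is involved. -/
theorem eq_three_of_not_stdFree (hp2 : p ≠ 2) {H : Type*} [Group H] [Finite H]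
    (hsol : Cfsg.IsPSolvable p H) (h : ¬ StdFree p H) : p = 3 ∧ HasSL23 H := by
  simp only [StdFree, not_forall, not_not] at h
  obtain ⟨S, ρ, A, B, c, hstd⟩ := h
  obtain ⟨h3, hsl⟩ := hstd.eq_three_of_isPSolvable hp2 (isPSolvable_subgroup hsol S)
  exact ⟨h3, hsl.of_subgroup⟩

theorem stdFree_of_isPSolvable (hp5 : 5 ≤ p) {H : Type*} [Group H] [Finite H]
    (hsol : Cfsg.IsPSolvable p H) : StdFree p H := by
  by_contra h
  have := (eq_three_of_not_stdFree (by omega) hsol h).1
  omega

theorem StdFree.subgroup {H : Type*} [Group H] (h : StdFree p H) (N : Subgroup H) : StdFree p N := by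
  intro S ρ A B c hstd
  let e := (S.equivMapOfInjective _ N.subtype_injective)
  refine h (S.map N.subtype) (ρ.comp e.symm.toMonoidHom) (e A) (e B) c ⟨hstd.ne, ?_, ?_, ?_⟩
  · rw [← Set.image_pair]
    show Subgroup.closure (e.toMonoidHom '' _) = ⊤
    rw [← MonoidHom.map_closure, hstd.gen]
    exact Subgroup.map_top_of_surjective _ e.surjective
  · simpa using hstd.mapA
  · simpa using hstd.mapB

/-- Without standard pairs every quadratic element lies in the `p`-core of its automiser. -/
theorem stableAll_of_stdFree {G : Type*} [Group G] [Finite G] (h : StdFree p G) : PStab.StableAll p G :=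
  fun _ hP _ ha hq => PStab.inCoreAct_of_tame hP le_rfl ha hq fun _ _ =>
    planeTame_of_stdFree (h.subgroup _)

end CfsgLib.Transfer
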