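import Cfsg.Agent.Lib.Techniques.Functor.ConjFamily
import Cfsg.Agent.Lib.Solvable.Basic

/-!
Alperin's theorem with tame intersections of Sylow subgroups.
-/

namespace CfsgLib.Transfer

open Subgroup Cfsg
open CfsgLib.Fusion (conjSub mem_conjSub conjSub_conjSub conjSub_one conjSub_mono card_conjSub
  conjSub_eq_iff_mem_normalizer conj_mem_conjSub)
open CfsgLib.Techniques.Functor

variable {G : Type*} [Group G] [Finite G] {p : ℕ} [Fact p.Prime]

/-- The tame intersections with `P`. -/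
def tameInter (P : Sylow p G) : Set (Subgroup G) :=
  {T | ∃ Q : Sylow p G, T = (P : Subgroup G) ⊓ Q ∧ Full p (P : Subgroup G) T ∧ Full p (Q : Subgroup G) T}

theorem exists_sylow_full {X D : Subgroup G} (hX : IsPGroup p X) (hXD : X ≤ normalizer (D : Set G)) :
    ∃ T : Sylow p G, X ≤ (T : Subgroup G) ∧ Full p (T : Subgroup G) D := by
  set N := normalizer (D : Set G)
  obtain ⟨R, hR⟩ := (hX.comap_subtype (K := N)).exists_le_sylow
  obtain ⟨T, hT⟩ := (R.2.map N.subtype).exists_le_sylow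
  refine ⟨T, fun x hx => hT ⟨⟨x, hXD hx⟩, hR hx, rfl⟩, ?_⟩
  have : ((T : Subgroup G) ⊓ N).subgroupOf N = (R : Subgroup N) := by
    refine R.3 ((T.2.to_le inf_le_left).comap_subtype) fun y hy => ?_
    exact ⟨hT ⟨y, hy, rfl⟩, y.2⟩
  show ¬ p ∣ (((T : Subgroup G) ⊓ N).subgroupOf N).index
  rw [this]
  exact R.not_dvd_index

theorem full_conjSub {T D : Subgroup G} (h : Full p T D) (u : G) :
    Full p (conjSub u T) (conjSub u D) := by
  unfold Full at h ⊢
  rw [← conjSub_normalizer, ← conjSub_inf]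
  rwa [conjSub, conjSub, relIndex_map_map_of_injective _ _ (MulAut.conj u).injective]

theorem exists_fam_tame (P : Sylow p G) : ∀ Q : Sylow p G,
    ∃ x, Fam (tameInter P) ((P : Subgroup G) ⊓ Q) x ∧ conjSub x⁻¹ (Q : Subgroup G) = P := by
  classical
  by_contra hne
  obtain ⟨Q, hQ, hmax⟩ := Set.exists_max_image
    {Q : Sylow p G | ¬ ∃ x, Fam (tameInter P) ((P : Subgroup G) ⊓ Q) x ∧ conjSub x⁻¹ (Q : Subgroup G) = P}
    (fun Q => Nat.card ↥((P : Subgroup G) ⊓ Q)) (Set.toFinite _) (by simpa [Set.Nonempty] using not_forall.1 hne)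
  have ind : ∀ (R : Sylow p G) (D : Subgroup G), D ≤ (P : Subgroup G) ⊓ R →
      Nat.card ↥((P : Subgroup G) ⊓ Q) < Nat.card D →
      ∃ x, Fam (tameInter P) ((P : Subgroup G) ⊓ R) x ∧ conjSub x⁻¹ (R : Subgroup G) = P := by
    intro R D hD hlt
    by_contra hR
    have := hmax R hR
    have := card_le_of_le hD
    omega
  -- composition
  have comp : ∀ (Q : Sylow p G) (x : G), Fam (tameInter P) ((P : Subgroup G) ⊓ Q) x →
      conjSub x⁻¹ ((P : Subgroup G) ⊓ Q) ≤ P →
      (∃ z, Fam (tameInter P) ((P : Subgroup G) ⊓ (x⁻¹ • Q : Sylow p G)) z ∧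
        conjSub z⁻¹ ((x⁻¹ • Q : Sylow p G) : Subgroup G) = P) →
      ∃ z, Fam (tameInter P) ((P : Subgroup G) ⊓ Q) z ∧ conjSub z⁻¹ (Q : Subgroup G) = P := by
    intro Q x hx hxP ⟨z, hz, hzQ⟩
    have hco : ((x⁻¹ • Q : Sylow p G) : Subgroup G) = conjSub x⁻¹ (Q : Subgroup G) := by
      rw [Sylow.coe_subgroup_smul]; exact CfsgLib.Solvable.conj_smul_eq_map _ _
    refine ⟨x * z, hx.append (hz.restrict (le_inf hxP ?_)), ?_⟩
    · rw [hco]; exact conjSub_mono _ inf_le_right
    · rw [mul_inv_rev, ← conjSub_conjSub, ← hco, hzQ]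
  -- the main step
  have main : ∀ Q' : Sylow p G, Nat.card ↥((P : Subgroup G) ⊓ Q') = Nat.card ↥((P : Subgroup G) ⊓ Q) →
      Full p (P : Subgroup G) ((P : Subgroup G) ⊓ Q') →
      ∃ x, Fam (tameInter P) ((P : Subgroup G) ⊓ Q') x ∧ conjSub x⁻¹ (Q' : Subgroup G) = P := by
    intro Q' hcard hfull
    set D := (P : Subgroup G) ⊓ Q' with hD
    by_cases hDQ : D = Q'
    · have : (Q' : Subgroup G) = P := (Q'.3 P.2 (hDQ.ge.trans inf_le_left)).symm
      exact ⟨1, Fam.nil _, by rw [inv_one, conjSub_one, this]⟩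
    have hlt : D < (Q' : Subgroup G) := lt_of_le_of_ne inf_le_right hDQ
    set X := (Q' : Subgroup G) ⊓ normalizer (D : Set G)
    have hX : D < X := lt_norm Q'.2 hlt
    have hXc : Nat.card ↥((P : Subgroup G) ⊓ Q) < Nat.card X := hcard ▸ card_lt_of_lt hX
    obtain ⟨T, hXT, hT⟩ := exists_sylow_full (p := p) (X := X) (D := D) (Q'.2.to_le inf_le_left) inf_le_right
    have hDT : D ≤ (P : Subgroup G) ⊓ T := le_inf inf_le_left (hX.le.trans hXT)
    rcases eq_or_lt_of_le hDT with heq | hgt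
    · -- `P ∩ T` is tame
      obtain ⟨y, hy, hye⟩ := exists_conjSub_eq (T.2.to_le inf_le_left) inf_le_right hT
        (isPGroup_norm P D) inf_le_right hfull
      have hyD : conjSub y D = D := conjSub_eq_iff_mem_normalizer.2 hy
      have hfam : Fam (tameInter P) D y⁻¹ :=
        Fam.single ⟨T, heq, hfull, hT⟩ le_rfl (inv_mem hy)
      refine comp Q' y⁻¹ hfam (by rw [inv_inv, hyD]; exact inf_le_left) (ind _ (conjSub y X) (le_inf ?_ ?_)
        (by rwa [card_conjSub]))
      · exact (conjSub_mono y (le_inf hXT inf_le_right)).trans (hye.le.trans inf_le_left)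
      · rw [inv_inv, Sylow.coe_subgroup_smul, CfsgLib.Solvable.conj_smul_eq_map]
        exact conjSub_mono y inf_le_left
    · obtain ⟨z, hz, hzT⟩ := ind T _ le_rfl (hcard ▸ card_lt_of_lt hgt)
      refine comp Q' z (hz.restrict hDT) ((conjSub_mono _ (hX.le.trans hXT)).trans hzT.le)
        (ind _ (conjSub z⁻¹ X) (le_inf ?_ ?_) (by rwa [card_conjSub]))
      · exact (conjSub_mono _ hXT).trans hzT.le
      · rw [Sylow.coe_subgroup_smul, CfsgLib.Solvable.conj_smul_eq_map]
        exact conjSub_mono _ inf_le_left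
  refine hQ ?_
  set D := (P : Subgroup G) ⊓ Q with hD
  by_cases hDP : D = P
  · have : (Q : Subgroup G) = P := P.3 Q.2 (hDP.ge.trans inf_le_right)
    exact ⟨1, Fam.nil _, by rw [inv_one, conjSub_one, this]⟩
  have hY : D < (P : Subgroup G) ⊓ normalizer (D : Set G) :=
    lt_norm P.2 (lt_of_le_of_ne inf_le_left hDP)
  obtain ⟨R, hYR, hR⟩ := exists_sylow_full (p := p) (isPGroup_norm P D) inf_le_right
  obtain ⟨x, hx, hxR⟩ := ind R _ (le_inf inf_le_left hYR) (card_lt_of_lt hY)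
  have hDR : D ≤ (P : Subgroup G) ⊓ R := le_inf inf_le_left (hY.le.trans hYR)
  have hxD : conjSub x⁻¹ D ≤ P := (conjSub_mono _ (hDR.trans inf_le_right)).trans hxR.le
  refine comp Q x (hx.restrict hDR) hxD ?_
  set Q' : Sylow p G := x⁻¹ • Q with hQ'
  have hD' : conjSub x⁻¹ D ≤ (P : Subgroup G) ⊓ Q' := le_inf hxD (by
    rw [hQ', Sylow.coe_subgroup_smul, CfsgLib.Solvable.conj_smul_eq_map]
    exact conjSub_mono _ inf_le_right)
  rcases eq_or_lt_of_le hD' with heq | hgt
  · refine main Q' (by rw [← heq, card_conjSub]) ?_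
    rw [← heq, ← hxR]
    exact full_conjSub hR _
  · exact ind Q' _ le_rfl (by have := card_lt_of_lt hgt; rwa [card_conjSub] at this)

/-- Alperin's fusion theorem. -/
theorem fam_tame (P : Sylow p G) {A : Subgroup G} {g : G} (hA : A ≤ (P : Subgroup G))
    (hAg : conjSub g⁻¹ A ≤ (P : Subgroup G)) : Fam (tameInter P) A g := by
  set Q : Sylow p G := g • P with hQ
  have hco : (Q : Subgroup G) = conjSub g (P : Subgroup G) := by
    rw [hQ, Sylow.coe_subgroup_smul]; exact CfsgLib.Solvable.conj_smul_eq_map _ _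
  have hAQ : A ≤ (P : Subgroup G) ⊓ Q := le_inf hA (by
    have := conjSub_mono g hAg
    rw [conjSub_conjSub, mul_inv_cancel, conjSub_one] at this
    rwa [hco])
  obtain ⟨x, hx, hxQ⟩ := exists_fam_tame P Q
  rw [hco, conjSub_conjSub] at hxQ
  have hn : x⁻¹ * g ∈ normalizer ((P : Subgroup G) : Set G) := conjSub_eq_iff_mem_normalizer.1 hxQ
  have htame : ((P : Subgroup G)) ∈ tameInter P :=
    ⟨P, inf_idem _ |>.symm, full_of_le P le_normalizer, full_of_le P le_normalizer⟩
  have h := (hx.restrict hAQ).append (Fam.single (A := conjSub x⁻¹ A) htame ?_ hn)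
  · rwa [mul_inv_cancel_left] at h
  · refine (conjSub_mono _ hAQ).trans ((conjSub_mono _ inf_le_right).trans ?_)
    rw [hco, conjSub_conjSub]
    exact hxQ.le

end CfsgLib.Transfer
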