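import Cfsg.Agent.Lib.PStab.Stable
import Cfsg.Agent.Lib.PStab.ZJ
import Cfsg.Agent.Lib.Cores.PConstrained
import Cfsg.Agent.Lib.Cores.Coprime

/-!
`p`-stability (acting `p`-subgroup form) and passage to `G / O_{p'}(G)`.
-/

namespace CfsgLib.Transfer

open Cfsg Subgroup
open scoped commutatorElement

variable {G : Type*} [Group G] [Finite G] {p : ℕ} [hp : Fact p.Prime]

/-- A `p`-group image lifts to a `p`-subgroup with the same image. -/
theorem exists_pGroup_map_eq {H : Type*} [Group H] (f : G →* H) {M : Subgroup G}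
    (h : IsPGroup p (M.map f)) : ∃ R ≤ M, IsPGroup p R ∧ R.map f = M.map f := by
  set g : ↥M →* H := f.comp M.subtype with hg
  have hgr : g.range = M.map f := by rw [hg, MonoidHom.range_comp, range_subtype]
  obtain ⟨S⟩ : Nonempty (Sylow p M) := inferInstance
  let Sr := S.mapSurjective (f := g.rangeRestrict) g.rangeRestrict_surjective
  have htop : (Sr : Subgroup g.range) = ⊤ := by
    have hpg : IsPGroup p g.range := by rw [hgr]; exact h
    exact (Sr.3 (hpg.to_subgroup ⊤) le_top).symm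
  refine ⟨(S : Subgroup M).map M.subtype, map_subtype_le _, S.2.map _,
    le_antisymm (map_mono (map_subtype_le _)) ?_⟩
  rintro _ ⟨x, hx, rfl⟩
  have hmem : g.rangeRestrict ⟨x, hx⟩ ∈ (Sr : Subgroup g.range) := htop ▸ mem_top _
  obtain ⟨y, hy, hyx⟩ := hmem
  exact ⟨(y : G), ⟨y, hy, rfl⟩, congrArg Subtype.val hyx⟩

/-- Stability on normal `p`-subgroups, with an acting `p`-subgroup. -/
def NormalStable (p : ℕ) (Q : Type*) [Group Q] : Prop :=
  ∀ A P : Subgroup Q, IsPGroup p A → IsPGroup p P → P.Normal → ⁅⁅P, A⁆, A⁆ = ⊥ →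
    ∀ a ∈ A, PStab.InCoreAct p ⊤ P a

theorem mk_mem_pCore_of_inCoreAct_top {P : Subgroup G} [P.Normal] {a : G}
    (h : PStab.InCoreAct p ⊤ P a) :
    (QuotientGroup.mk a : G ⧸ centralizer (P : Set G)) ∈ pCore p (G ⧸ centralizer (P : Set G)) := by
  obtain ⟨K, -, hNK, haK, hK⟩ := h
  rw [top_le_iff, normalizer_eq_top_iff] at hNK
  have : (K.map (QuotientGroup.mk' (centralizer (P : Set G)))).Normal :=
    hNK.map _ (QuotientGroup.mk'_surjective _)
  refine Cores.le_pCore (N := K.map (QuotientGroup.mk' (centralizer (P : Set G)))) ?_ ⟨a, haK, rfl⟩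
  rintro ⟨_, y, hy, rfl⟩
  obtain ⟨n, hn⟩ := hK y hy
  refine ⟨n, Subtype.ext ?_⟩
  rw [SubmonoidClass.coe_pow, ← map_pow, Subgroup.coe_one]
  exact (QuotientGroup.eq_one_iff _).2 hn

/-- A quadratic `p'`-element of the normalizer centralizes a `p`-group. -/
theorem mem_centralizer_of_isQuad_coprime {P : Subgroup G} (hP : IsPGroup p P) {c : G}
    (hc : c ∈ normalizer (P : Set G)) (hcop : (orderOf c).Coprime p) (hq : PStab.IsQuad P c) :
    c ∈ centralizer (P : Set G) := by
  refine mem_centralizer_iff.2 fun x hx => ?_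
  set t := ⁅x, c⁆ with ht
  have htc : t * c = c * t := commutatorElement_eq_one_iff_mul_comm.1 (hq x hx)
  have htP : t ∈ P := by
    rw [ht, commutatorElement_def, mul_assoc, mul_assoc]
    exact mul_mem hx (by rw [← mul_assoc]; exact (mem_normalizer_iff.1 hc _).1 (inv_mem hx))
  have key : ∀ m : ℕ, c ^ m * x⁻¹ * (c ^ m)⁻¹ = x⁻¹ * t ^ m := by
    intro m
    induction m with
    | zero => simp
    | succ m ih =>
      calc c ^ (m + 1) * x⁻¹ * (c ^ (m + 1))⁻¹ = c * (c ^ m * x⁻¹ * (c ^ m)⁻¹) * c⁻¹ := by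
            rw [pow_succ']; group
        _ = c * (x⁻¹ * t ^ m) * c⁻¹ := by rw [ih]
        _ = c * x⁻¹ * c⁻¹ * (c * t ^ m * c⁻¹) := by group
        _ = x⁻¹ * t * t ^ m := by
          have h1 : c * x⁻¹ * c⁻¹ = x⁻¹ * t := by rw [ht, commutatorElement_def]; group
          have h2 : c * t ^ m = t ^ m * c := (Commute.pow_right (show Commute c t from htc.symm) m).eq
          rw [h1, h2, mul_inv_cancel_right]
        _ = x⁻¹ * t ^ (m + 1) := by rw [pow_succ', mul_assoc]
  have h1 := key (orderOf c)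
  rw [pow_orderOf_eq_one, one_mul, inv_one, mul_one, left_eq_mul] at h1
  obtain ⟨k, hk⟩ := IsPGroup.iff_orderOf.1 hP ⟨t, htP⟩
  rw [orderOf_mk] at hk
  have ht1 : t = 1 :=
    orderOf_eq_one_iff.1 (Nat.eq_one_of_dvd_coprimes (hcop.pow_right k) (orderOf_dvd_of_pow_eq_one h1) hk.dvd)
  exact commutatorElement_eq_one_iff_mul_comm.1 ht1

theorem isPStableOn_of_normalStable (h : NormalStable p G) (P : Subgroup G) [P.Normal]
    (hP : IsPGroup p P) : IsPStableOn p P := by
  intro a hq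
  obtain ⟨b, c, rfl, hb, hc', ⟨j, hj⟩, hcop⟩ := Cores.exists_pow_mul_pow p a
  have hbq : ⁅⁅P, zpowers b⁆, zpowers b⁆ = ⊥ := le_bot_iff.1 (hq ▸
    commutator_mono (commutator_mono le_rfl (zpowers_le.2 hb)) (zpowers_le.2 hb))
  have hcC : c ∈ centralizer (P : Set G) := by
    refine mem_centralizer_of_isQuad_coprime hP (by rw [normalizer_eq_top]; exact mem_top _) hcop ?_
    exact PStab.isQuad_of_commutator_eq_bot hq hc'
  have hbp : IsPGroup p (zpowers b) := IsPGroup.of_card (n := j) (by rw [Nat.card_zpowers, hj])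
  have h1 := mk_mem_pCore_of_inCoreAct_top (h _ P hbp hP inferInstance hbq b (mem_zpowers b))
  rwa [QuotientGroup.mk_mul, (QuotientGroup.eq_one_iff c).2 hcC, mul_one]

theorem isPStable_iff_of_core_eq_bot (hO : pPrimeCore p G = ⊥) :
    IsPStable p G ↔ Odd p ∧ pCore p G ≠ ⊥ ∧ NormalStable p G := by
  refine and_congr Iff.rfl (and_congr Iff.rfl ⟨fun h A P hA hP hPn hq a ha => ?_,
    fun h A P hA hP hAP hPle hn hq => ?_⟩)
  · have hPle : P ≤ pPrimePCore p G := by
      rw [pPrimePCore, ← map_le_iff_le_comap]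
      have := hPn.map _ (QuotientGroup.mk'_surjective (pPrimeCore p G))
      exact Cores.le_pCore (hP.map _)
    have haN : a ∈ normalizer (P : Set G) := by rw [normalizer_eq_top]; exact mem_top _
    have := h A P hA hP (fun a _ x hx => hPn.conj_mem x hx a) hPle
      (by rw [hO, bot_sup_eq]; exact hPn) hq (mem_map_of_mem _ (show (⟨a, haN⟩ : normalizer (P : Set G)) ∈
        A.subgroupOf _ from ha))
    have := PStab.inCoreAct_of_mk_mem_pCore haN this
    rwa [normalizer_eq_top] at this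
  · rw [hO, bot_sup_eq] at hn
    rintro _ ⟨⟨a, haN⟩, ha, rfl⟩
    refine PStab.mk_mem_pCore_of_inCoreAct haN ?_
    have := h A P hA hP hn hq a ha
    rwa [normalizer_eq_top]

theorem isPStable_iff_quotient :
    IsPStable p G ↔ Odd p ∧ pCore p G ≠ ⊥ ∧ NormalStable p (G ⧸ pPrimeCore p G) := by
  set N := pPrimeCore p G with hN
  set π := QuotientGroup.mk' N with hπ
  have hNcop := Cores.coprime_card_pPrimeCore (G := G) p
  refine and_congr Iff.rfl (and_congr Iff.rfl ⟨fun h A P hA hP hPn hq => ?_,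
    fun h A P hA hP hAP hPle hn hq => ?_⟩)
  · -- lift `P` and `A`
    obtain ⟨P₀, hP₀, hP₀p, hP₀e⟩ := exists_pGroup_map_eq π (M := P.comap π) (p := p)
      (by rwa [map_comap_eq_self_of_surjective (QuotientGroup.mk'_surjective N)])
    rw [map_comap_eq_self_of_surjective (QuotientGroup.mk'_surjective N)] at hP₀e
    have hnorm : (normalizer (P₀ : Set G)).map π = ⊤ := by
      rw [Cores.map_mk'_normalizer_of_coprime hP₀p hNcop, hP₀e, normalizer_eq_top]
    have hAe' : (A.comap π ⊓ normalizer (P₀ : Set G)).map π = A := by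
      refine le_antisymm ((map_mono inf_le_left).trans (map_comap_le _ _)) fun a ha => ?_
      obtain ⟨y, hy, rfl⟩ := hnorm.ge (mem_top a)
      exact ⟨y, ⟨ha, hy⟩, rfl⟩
    obtain ⟨A₀, hA₀, hA₀p, hA₀e⟩ := exists_pGroup_map_eq π (M := A.comap π ⊓ normalizer (P₀ : Set G))
      (p := p) (by rwa [hAe'])
    rw [hAe'] at hA₀e
    have hA₀N : A₀ ≤ normalizer (P₀ : Set G) := hA₀.trans inf_le_right
    have hPle : P₀ ≤ pPrimePCore p G := by
      rw [pPrimePCore, ← map_le_iff_le_comap, hP₀e]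
      exact Cores.le_pCore hP
    have hn : (N ⊔ P₀).Normal := by
      have : N ⊔ P₀ = P.comap π := by
        rw [← hP₀e, comap_map_eq, hπ, QuotientGroup.ker_mk', sup_comm]
      rw [this]
      exact hPn.comap π
    have hq₀ : ⁅⁅P₀, A₀⁆, A₀⁆ = ⊥ := by
      refine le_bot_iff.1 ?_
      have h1 : ⁅P₀, A₀⁆ ≤ P₀ := by
        rw [commutator_le]
        intro x hx a ha
        rw [commutatorElement_def, mul_assoc, mul_assoc]
        exact mul_mem hx (by rw [← mul_assoc]; exact (mem_normalizer_iff.1 (hA₀N ha) _).1 (inv_mem hx))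
      have h2 : ⁅⁅P₀, A₀⁆, A₀⁆ ≤ P₀ := by
        refine le_trans (commutator_mono h1 le_rfl) ?_
        rw [commutator_le]
        intro x hx a ha
        rw [commutatorElement_def, mul_assoc, mul_assoc]
        exact mul_mem hx (by rw [← mul_assoc]; exact (mem_normalizer_iff.1 (hA₀N ha) _).1 (inv_mem hx))
      have h3 : ⁅⁅P₀, A₀⁆, A₀⁆ ≤ N := by
        have : (⁅⁅P₀, A₀⁆, A₀⁆).map π = ⊥ := by
          rw [map_commutator, map_commutator, hP₀e, hA₀e, hq]
        rwa [Subgroup.map_eq_bot_iff, hπ, QuotientGroup.ker_mk'] at this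
      refine (le_inf h2 h3).trans (le_of_eq ?_)
      rw [inf_eq_bot_of_coprime]
      obtain ⟨k, hk⟩ := hP₀p.exists_card_eq
      rw [hk]
      exact (hNcop.pow_right k).symm
    intro a ha
    obtain ⟨a₀, ha₀, rfl⟩ := hA₀e.ge ha
    have := h A₀ P₀ hA₀p hP₀p (fun b hb x hx => (mem_normalizer_iff.1 (hA₀N hb) x).1 hx) hPle hn hq₀
      (mem_map_of_mem _ (show (⟨a₀, hA₀N ha₀⟩ : normalizer (P₀ : Set G)) ∈ A₀.subgroupOf _ from ha₀))
    obtain ⟨K, hKN, hNK, haK, hK⟩ := PStab.inCoreAct_of_mk_mem_pCore (hA₀N ha₀) this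
    refine ⟨K.map π, le_top, ?_, mem_map_of_mem π haK, ?_⟩
    · rw [← hnorm]
      exact (map_mono hNK).trans (le_normalizer_map π)
    · rintro _ ⟨k, hk, rfl⟩
      obtain ⟨n, hn'⟩ := hK k hk
      refine ⟨n, ?_⟩
      rw [← map_pow, ← hP₀e]
      refine mem_centralizer_iff.2 ?_
      rintro _ ⟨x, hx, rfl⟩
      rw [← map_mul, ← map_mul, mem_centralizer_iff.1 hn' x hx]
  · -- project `P` and `A`
    have hPn' : (P.map π).Normal := by
      have h1 := hn.map π (QuotientGroup.mk'_surjective N)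
      rwa [Subgroup.map_sup, hπ, QuotientGroup.map_mk'_self, bot_sup_eq] at h1
    have hq' : ⁅⁅P.map π, A.map π⁆, A.map π⁆ = ⊥ := by
      rw [← map_commutator, ← map_commutator, hq, Subgroup.map_bot]
    rintro _ ⟨⟨a, haN⟩, ha, rfl⟩
    refine PStab.mk_mem_pCore_of_inCoreAct haN ?_
    obtain ⟨K, -, hNK, haK, hK⟩ := h _ _ (hA.map π) (hP.map π) hPn' hq' _ (mem_map_of_mem π ha)
    refine ⟨K.comap π ⊓ normalizer (P : Set G), inf_le_right, ?_, ⟨haK, haN⟩, ?_⟩
    · intro g hg
      refine Solvable.mem_normalizer_of_conj_mem fun x hx => ⟨?_, mul_mem (mul_mem hg hx.2) (Subgroup.inv_mem _ hg)⟩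
      show π (g * x * g⁻¹) ∈ K
      rw [map_mul, map_mul, map_inv]
      exact (mem_normalizer_iff.1 (hNK (mem_top (π g))) _).1 hx.1
    · rintro k ⟨hk, hkN⟩
      obtain ⟨n, hn'⟩ := hK (π k) hk
      refine ⟨n, mem_centralizer_iff.2 fun x hx => ?_⟩
      rw [← map_pow] at hn'
      have hkn : k ^ p ^ n ∈ normalizer (P : Set G) := pow_mem hkN _
      have h1 : π (⁅k ^ p ^ n, x⁆) = 1 := by
        rw [map_commutatorElement, commutatorElement_eq_one_iff_mul_comm]
        exact (mem_centralizer_iff.1 hn' _ (mem_map_of_mem π hx)).symm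
      have h2 : ⁅k ^ p ^ n, x⁆ ∈ P ⊓ N := ⟨by
        rw [commutatorElement_def]
        exact mul_mem ((mem_normalizer_iff.1 hkn x).1 hx) (Subgroup.inv_mem _ hx),
        (QuotientGroup.eq_one_iff _).1 h1⟩
      have h3 : P ⊓ N = ⊥ := by
        rw [inf_eq_bot_of_coprime]
        obtain ⟨k', hk'⟩ := hP.exists_card_eq
        rw [hk']
        exact (hNcop.pow_right k').symm
      rw [h3, mem_bot, commutatorElement_eq_one_iff_mul_comm] at h2
      exact h2.symm

theorem pCore_quotient_ne_bot (h : pCore p G ≠ ⊥) : pCore p (G ⧸ pPrimeCore p G) ≠ ⊥ := by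
  intro hb
  apply h
  have h1 : (pCore p G).map (QuotientGroup.mk' (pPrimeCore p G)) = ⊥ :=
    le_bot_iff.1 (le_trans (Cores.map_pCore_le _ (QuotientGroup.mk'_surjective _)) hb.le)
  rw [Subgroup.map_eq_bot_iff, QuotientGroup.ker_mk'] at h1
  rw [← inf_eq_left.2 h1]
  exact Cores.pCore_inf_pPrimeCore p

/-- `p`-stability is invariant under factoring out the `p'`-core. -/
theorem isPStable_quotient_iff (hO : pCore p G ≠ ⊥) :
    IsPStable p G ↔ IsPStable p (G ⧸ pPrimeCore p G) := by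
  rw [isPStable_iff_quotient, isPStable_iff_of_core_eq_bot (Cores.pPrimeCore_quotient_self p)]
  exact and_congr Iff.rfl (and_congr_left' (iff_of_true hO (pCore_quotient_ne_bot hO)))

/-- The ZJ theorem with the factorization `G = O_{p'}(G) N(Z(J(P)))`. -/
theorem pPrimeCore_sup_normalizer_centerThompsonAOf (hp2 : p ≠ 2) (hc : IsPConstrained p G)
    (hs : IsPStable p G) (P : Sylow p G) :
    pPrimeCore p G ⊔ normalizer (centerThompsonAOf (P : Subgroup G) : Set G) = ⊤ := by
  set N := pPrimeCore p G with hN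
  set π := QuotientGroup.mk' N with hπ
  have hc' := Cores.isPConstrained_iff.1 hc
  have hst : ∀ (V : Subgroup (G ⧸ N)) [V.Normal], IsPGroup p V → IsPStableOn p V :=
    fun V _ hV => isPStableOn_of_normalStable (isPStable_iff_quotient.1 hs).2.2 V hV
  have hn := PStab.zjGen_normal (e := 0) hp2 hst (Or.inl rfl)
    (P.mapSurjective (f := π) (QuotientGroup.mk'_surjective N))
    (D := (P : Subgroup G).map π) ⟨le_rfl, fun _ _ _ h => h⟩ hc'
  have hinj : Set.InjOn π (P : Subgroup G) := by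
    intro x hx y hy hxy
    have h1 : x⁻¹ * y ∈ (P : Subgroup G) ⊓ N :=
      ⟨mul_mem (Subgroup.inv_mem _ hx) hy, QuotientGroup.eq.1 hxy⟩
    have h2 : (P : Subgroup G) ⊓ N = ⊥ := by
      rw [inf_eq_bot_of_coprime]
      obtain ⟨k', hk'⟩ := P.2.exists_card_eq
      rw [hk']
      exact ((Cores.coprime_card_pPrimeCore p).pow_right k').symm
    rw [h2, mem_bot, inv_mul_eq_one] at h1
    exact h1
  have hmap := PStab.zjGen_map_of_injective_restrict (e := 0) (f := π) (D := (P : Subgroup G))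
  rw [PStab.centerThompsonAOf_eq_zjGen]
  have hZp : IsPGroup p (PStab.zjGen 0 (P : Subgroup G)) := P.2.to_le (PStab.zjGen_le _ _)
  rw [hmap (fun x y hxy => Subtype.ext (hinj x.2 y.2 hxy))] at hn
  have h3 : (normalizer (PStab.zjGen 0 (P : Subgroup G) : Set G)).map π = ⊤ := by
    rw [hπ, Cores.map_mk'_normalizer_of_coprime hZp (Cores.coprime_card_pPrimeCore p), normalizer_eq_top_iff]
    exact hn
  refine eq_top_iff.2 fun g _ => ?_
  obtain ⟨y, hy, hye⟩ := h3.ge (mem_top (π g))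
  have : g * y⁻¹ ∈ N := by
    rw [← QuotientGroup.eq_one_iff]
    show π (g * y⁻¹) = 1
    rw [map_mul, map_inv, hye, mul_inv_cancel]
  rw [← inv_mul_cancel_right g y]
  exact mul_mem (mem_sup_left this) (mem_sup_right hy)

end CfsgLib.Transfer
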