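import Cfsg.Agent.Lib.Fusion.NormalizerSat
import Cfsg.Agent.Lib.Fusion.Inner

/-!
Normalizer systems whose automizers are `p`-groups.
-/

set_option autoImplicit false

open Cfsg Cfsg.FusionSystem

namespace CfsgLib.Transfer

open CfsgLib.Fusion

variable {Ω : Type*} [Group Ω] {S : Subgroup Ω}

/-- All automizers are `p`-groups. -/
def PAut (p : ℕ) (F : FusionSystem S) : Prop :=
  ∀ P : Subgroup Ω, P ≤ S → IsPGroup p (F.autGroup P)

/-- Automorphisms in the system stabilising `X` have `p`-power order. -/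
def PLocal (p : ℕ) (F : FusionSystem S) (X : Subgroup Ω) : Prop :=
  ∀ M : Subgroup Ω, X ≤ M → M ≤ S → M ≤ Subgroup.normalizer (X : Set Ω) →
    ∀ β ∈ F.autGroup M, (∀ x : M, (x : Ω) ∈ X → ((β x : M) : Ω) ∈ X) → ∃ k : ℕ, β ^ p ^ k = 1

variable {p : ℕ} {F : FusionSystem S}

theorem PAut.pLocal (h : PAut p F) (X : Subgroup Ω) : PLocal p F X := fun M _ hM _ β hβ _ => by
  obtain ⟨k, hk⟩ := h M hM ⟨β, hβ⟩
  exact ⟨k, congrArg Subtype.val hk⟩

theorem autGroup_mono {T : Subgroup Ω} {E : FusionSystem T} (h : ∀ P, E.Hom P ⊆ F.Hom P)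
    (P : Subgroup Ω) : E.autGroup P ≤ F.autGroup P :=
  Subgroup.closure_mono fun _ hα => h P hα

theorem normSys_hom_le {Q T : Subgroup Ω} (hT : T = normalizerIn S Q) (hQ : Q ≤ S) (P : Subgroup Ω) :
    (normSys F Q hT hQ).Hom P ⊆ F.Hom P := fun _ hφ => hφ.1

theorem PLocal.mono {T : Subgroup Ω} {E : FusionSystem T} (hTS : T ≤ S)
    (h : ∀ P, E.Hom P ⊆ F.Hom P) {X : Subgroup Ω} (hF : PLocal p F X) : PLocal p E X :=
  fun M hXM hMT hMX β hβ => hF M hXM (hMT.trans hTS) hMX β (autGroup_mono h M hβ)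

variable [Finite S]

/-- An injective map permutes a subgroup it maps into itself. -/
theorem img_eq_of_apply_mem {M X : Subgroup Ω} {ψ : M →* Ω} (hi : Function.Injective ψ)
    (hXM : X ≤ M) (hXS : X ≤ S) (h : ∀ x : M, (x : Ω) ∈ X → ψ x ∈ X) : img ψ X = X := by
  have := finite_of_le hXS
  refine Subgroup.eq_of_le_of_card_ge ?_ (card_img hi hXM).ge
  rintro y hy
  obtain ⟨x, hx, rfl⟩ := mem_img.1 hy
  exact h x hx

/-- If the automizers of the normalizer system of `X` are `p`-groups then `X` is `p`-local. -/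
theorem pLocal_of_pAut {X T : Subgroup Ω} (hT : T = normalizerIn S X) (hX : X ≤ S)
    (h : PAut p (normSys F X hT hX)) : PLocal p F X := by
  intro M hXM hMS hMX β hβ hinv
  have hMN : M ≤ normalizerIn S X := le_inf hMS hMX
  have h1 : β ∈ (normSys F X hT hX).autGroup M := by
    refine Subgroup.subset_closure ?_
    have hβ' := (mem_autGroup_iff F hMS).1 hβ
    refine ⟨hβ', hMN, fun x => hMN (β x).2, ?_⟩
    obtain ⟨ψ, hψ, hψe⟩ := mem_of_eq_sup (sup_eq_left.2 hXM).symm hβ'.mem
    refine ⟨ψ, hψ, fun x => hψe _,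
      img_eq_of_apply_mem (F.injective_of_mem hψ) le_sup_right hX fun x hx => ?_⟩
    rw [hψe]
    exact hinv _ hx
  obtain ⟨k, hk⟩ := h M (hT.symm ▸ hMN) ⟨β, h1⟩
  exact ⟨k, congrArg Subtype.val hk⟩

/-- The converse. -/
theorem pAut_of_pLocal {X T : Subgroup Ω} (hT : T = normalizerIn S X) (hX : X ≤ S)
    (h : PLocal p F X) : PAut p (normSys F X hT hX) := by
  intro P hP α
  obtain ⟨α, hα⟩ := α
  obtain ⟨hαF, -, -, ψ, hψ, hψe, hψX⟩ := (mem_autGroup_iff _ hP).1 hα
  have hPT : P ≤ normalizerIn S X := hT ▸ hP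
  have hrange : ψ.range = P ⊔ X :=
    (range_ext_eq hψe).trans (by rw [range_subtype_comp, show img ψ X = X from hψX])
  obtain ⟨β, hβ, hβe⟩ := exists_iso_of_range hψ hrange
  have hM : P ⊔ X ≤ S := sup_le (hPT.trans (normalizerIn_le X)) hX
  obtain ⟨k, hk⟩ := h (P ⊔ X) le_sup_right hM
    (sup_le (hPT.trans inf_le_right) Subgroup.le_normalizer) β
    ((mem_autGroup_iff F hM).2 hβ) fun x hx => by
      rw [hβe]; exact (show img ψ X = X from hψX).le (apply_mem_img ψ hx)
  refine ⟨k, Subtype.ext (MulEquiv.ext fun x => Subtype.ext ?_)⟩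
  have key : ∀ n : ℕ, Subgroup.inclusion le_sup_left ((α ^ n) x) =
      (β ^ n) (Subgroup.inclusion (le_sup_left : P ≤ P ⊔ X) x) := by
    intro n
    induction n with
    | zero => simp
    | succ n ih =>
      rw [pow_succ', pow_succ', MulAut.mul_apply, MulAut.mul_apply, ← ih]
      exact Subtype.ext ((hψe _).symm.trans (hβe _).symm)
  have h2 := key (p ^ k)
  rw [hk, MulAut.one_apply] at h2
  rw [SubgroupClass.coe_pow, OneMemClass.coe_one, MulAut.one_apply]
  exact (congrArg Subtype.val h2 :)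

/-- Locality is pulled back along a map of the system defined on the normalizer. -/
theorem PLocal.pullback {X X' : Subgroup Ω} {χ : normalizerIn S X →* Ω}
    (hχ : χ ∈ F.Hom (normalizerIn S X)) (hX : img χ X = X') (h : PLocal p F X') : PLocal p F X := by
  intro M hXM hMS hMX β hβ hinv
  have hMN : M ≤ normalizerIn S X := le_inf hMS hMX
  set M' := (χ.comp (Subgroup.inclusion hMN)).range with hM'
  obtain ⟨e, he, hee⟩ : ∃ e : M ≃* M', IsIso F e ∧
      ∀ x, (e x : Ω) = χ (Subgroup.inclusion hMN x) := exists_iso_of_mem (res_mem F hχ hMN)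
  have hmem : ∀ y : M', (y : Ω) ∈ X' ↔ ((e.symm y : M) : Ω) ∈ X := by
    intro y
    have hy : (y : Ω) = χ (Subgroup.inclusion hMN (e.symm y)) := by
      have h1 := hee (e.symm y)
      rwa [MulEquiv.apply_symm_apply] at h1
    rw [hy, ← hX]
    constructor
    · intro h1
      obtain ⟨z, hz, hze⟩ := mem_img.1 h1
      rw [F.injective_of_mem hχ hze] at hz
      exact hz
    · exact fun h1 => apply_mem_img χ (x := Subgroup.inclusion hMN (e.symm y)) h1
  have hXM' : X' ≤ M' := by
    rw [← hX]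
    intro y hy
    obtain ⟨z, hz, rfl⟩ := mem_img.1 hy
    exact ⟨⟨z, hXM hz⟩, rfl⟩
  have hnorm : M' ≤ Subgroup.normalizer (X' : Set Ω) := by
    intro y hy
    have hX'S : X' ≤ S := hXM'.trans (range_le_S F (res_mem F hχ hMN))
    have := finite_of_le hX'S
    refine mem_normalizer_of_forall fun x hx => ?_
    rw [← hX] at hx ⊢
    obtain ⟨z, hz, rfl⟩ := mem_img.1 hx
    obtain ⟨w, rfl⟩ := hy
    change χ (Subgroup.inclusion hMN w) * χ z * (χ (Subgroup.inclusion hMN w))⁻¹ ∈ _
    rw [← map_inv, ← map_mul, ← map_mul]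
    refine apply_mem_img χ ?_
    exact conj_mem_of_mem_normalizer (hMX w.2) hz
  obtain ⟨k, hk⟩ := h M' hXM' (range_le_S F (res_mem F hχ hMN)) hnorm (MulAut.congr e β)
    (congr_mem_autGroup he hβ) fun y hy => by
      rw [hmem]
      change ((e.symm (e (β (e.symm y))) : M) : Ω) ∈ X
      rw [MulEquiv.symm_apply_apply]
      exact hinv _ ((hmem y).1 hy)
  refine ⟨k, (MulAut.congr e).injective ?_⟩
  rw [map_pow, hk, map_one]

variable [Fact p.Prime]

/-- A saturated system all of whose automizers are `p`-groups has only conjugations as maps. -/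
theorem hom_eq_inner_of_pAut (hS : IsPGroup p S) (hF : F.IsSaturated p) (h : PAut p F)
    (P : Subgroup Ω) : F.Hom P = (innerFusionSystem S).Hom P :=
  hom_eq_inner_of_isPGroup hS hF (h S le_rfl) (fun Q hQ => h Q hQ.1.1) P

/-- The automizers of the inner system are `p`-groups. -/
theorem pAut_of_hom_subset_inner (hS : IsPGroup p S)
    (h : ∀ P, F.Hom P ⊆ (innerFusionSystem S).Hom P) : PAut p F := by
  intro P hP
  refine (isPGroup_autInducedBy hS P).to_le fun α hα => ?_
  obtain ⟨-, g, hg, hge⟩ := h P ((mem_autGroup_iff F hP).1 hα).mem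
  exact mem_autInducedBy_iff.2 ⟨g, hg, hge⟩

/-- `p`-locality from the inner normalizer system. -/
theorem pLocal_of_inner (hS : IsPGroup p S) {X : Subgroup Ω} (hX : X ≤ S)
    (h : ∀ P, (normSys F X rfl hX).Hom P = (innerFusionSystem (normalizerIn S X)).Hom P) :
    PLocal p F X := by
  have : Finite (normalizerIn S X) := finite_of_le (normalizerIn_le X)
  exact pLocal_of_pAut rfl hX (pAut_of_hom_subset_inner (hS.to_le (normalizerIn_le X)) fun P => (h P).le)

end CfsgLib.Transfer
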