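import Cfsg.Agent.Lib.Fusion.FactorHat
import Cfsg.Agent.Lib.Transfer.FusionLocal

/-!
Saturation of the target of a surjective morphism of fusion systems, in particular of factor systems.
-/

set_option autoImplicit false

open Cfsg Cfsg.FusionSystem

namespace CfsgLib.Transfer

open CfsgLib.Fusion

variable {Ω Ω' : Type*} [Group Ω] [Group Ω'] {S : Subgroup Ω} {S' : Subgroup Ω'}
  {F : FusionSystem S} {E : FusionSystem S'} {θ : S →* Ω'} {p : ℕ}

/-- A map and the map induced by it, pointwise. -/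
theorem induced_apply {P : Subgroup Ω} {φ : P →* Ω} {P' : Subgroup Ω'} {φ' : P' →* Ω'}
    (h : InducedAlong θ φ φ') (x : P) (hx : (x : Ω) ∈ S) (hφ : φ x ∈ S)
    (hθ : θ ⟨x, hx⟩ ∈ P') : φ' ⟨θ ⟨x, hx⟩, hθ⟩ = θ ⟨φ x, hφ⟩ := by
  obtain ⟨_, _, _, he⟩ := h
  exact he x

theorem apply_mem_bot_preimage (hmor : F.IsMorphism E θ) {P : Subgroup Ω} {φ : P →* Ω}
    (hφ : φ ∈ F.Hom P) {x : P} (hx : (x : Ω) ∈ preimageAlong θ (⊥ : Subgroup Ω')) :
    φ x ∈ preimageAlong θ (⊥ : Subgroup Ω') := by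
  obtain ⟨φ', -, hind⟩ := hmor.2 P φ hφ
  have hxS := le_S F hφ x.2
  have hy := apply_mem_S F hφ x
  refine (mem_preimageAlong (θ := θ) (s := ⟨φ x, hy⟩)).2 (Subgroup.mem_bot.2 ?_)
  have h1 : θ ⟨x, hxS⟩ = 1 := Subgroup.mem_bot.1 ((mem_preimageAlong (θ := θ) (s := ⟨x, hxS⟩)).1 hx)
  rw [← induced_apply hind x hxS hy ⟨⟨x, hxS⟩, x.2, rfl⟩]
  rw [show (⟨θ ⟨x, hxS⟩, ⟨⟨x, hxS⟩, x.2, rfl⟩⟩ : imageAlong θ P) = 1 from Subtype.ext h1, map_one]

theorem bot_preimage_le {P' : Subgroup Ω'} : preimageAlong θ (⊥ : Subgroup Ω') ≤ preimageAlong θ P' :=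
  Subgroup.map_mono (Subgroup.comap_mono bot_le)

theorem preimageAlong_imageAlong {R : Subgroup Ω} (hR : R ≤ S)
    (hK : preimageAlong θ (⊥ : Subgroup Ω') ≤ R) : preimageAlong θ (imageAlong θ R) = R := by
  refine le_antisymm ?_ fun y hy => ⟨⟨y, hR hy⟩, ⟨_, hy, rfl⟩, rfl⟩
  rintro _ ⟨s, ⟨z, hz, hzs⟩, rfl⟩
  have h1 : θ (z⁻¹ * s) = 1 := by rw [map_mul, map_inv, hzs, inv_mul_cancel]
  have h2 := R.mul_mem hz (hK ((mem_preimageAlong (θ := θ) (s := z⁻¹ * s)).2 (Subgroup.mem_bot.2 h1)))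
  simpa using h2

theorem imageAlong_preimageAlong {P' : Subgroup Ω'} (hP' : P' ≤ θ.range) :
    imageAlong θ (preimageAlong θ P') = P' := by
  refine le_antisymm ?_ fun y hy => ?_
  · rintro _ ⟨s, hs, rfl⟩
    exact mem_preimageAlong.1 hs
  · obtain ⟨s, rfl⟩ := hP' hy
    exact ⟨s, mem_preimageAlong.2 hy, rfl⟩

variable [Finite S]

/-- A lift of a map between full preimages is onto. -/
theorem range_lift_eq (hmor : F.IsMorphism E θ) {A' : Subgroup Ω'} (hA' : A' ≤ θ.range)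
    {χ : preimageAlong θ A' →* Ω} (hχ : χ ∈ F.Hom _) {χ' : A' →* Ω'} (hind : InducedAlong θ χ χ') :
    χ.range = preimageAlong θ χ'.range := by
  refine le_antisymm ?_ ?_
  · rintro _ ⟨x, rfl⟩
    have hxS := preimageAlong_le θ A' x.2
    have hθ : θ ⟨x, hxS⟩ ∈ A' := (mem_preimageAlong (θ := θ) (s := ⟨x, hxS⟩)).1 x.2
    exact (mem_preimageAlong (θ := θ) (s := ⟨χ x, apply_mem_S F hχ x⟩)).2
      ⟨_, induced_apply hind x hxS (apply_mem_S F hχ x) hθ⟩
  · rintro _ ⟨y, ⟨⟨a, ha⟩, hay⟩, rfl⟩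
    obtain ⟨s, rfl⟩ := hA' ha
    set x : preimageAlong θ A' := ⟨s, mem_preimageAlong.2 ha⟩ with hx
    have h1 : θ ((⟨χ x, apply_mem_S F hχ x⟩ : S)⁻¹ * y) = 1 := by
      rw [map_mul, map_inv, ← induced_apply hind x s.2 (apply_mem_S F hχ x) ha, inv_mul_eq_one]
      exact hay
    have hK : preimageAlong θ (⊥ : Subgroup Ω') ≤ preimageAlong θ A' := bot_preimage_le
    obtain ⟨z, -, hz⟩ := mem_img.1 ((img_eq_of_apply_mem (F.injective_of_mem hχ) hK
      (preimageAlong_le θ _) fun w hw => apply_mem_bot_preimage hmor hχ hw).ge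
      ((mem_preimageAlong (θ := θ) (s := (⟨χ x, apply_mem_S F hχ x⟩ : S)⁻¹ * y)).2 (Subgroup.mem_bot.2 h1)))
    refine ⟨x * z, ?_⟩
    rw [map_mul, hz]
    exact mul_inv_cancel_left (χ x) (y : Ω)

variable [Fact p.Prime]

/-- **The target of a surjective morphism from a saturated system is saturated.** -/
theorem isSaturated_of_isSurjectiveMorphism (hS : IsPGroup p S) (hF : F.IsSaturated p)
    (hθ : F.IsSurjectiveMorphism E θ) : E.IsSaturated p := by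
  classical
  obtain ⟨hmor, hrange, hsurj⟩ := hθ
  have : Finite S' := Finite.of_surjective (θ.codRestrict S' fun x => hrange.le ⟨x, rfl⟩) fun y => by
    obtain ⟨x, hx⟩ := hrange.ge y.2; exact ⟨x, Subtype.ext hx⟩
  have hS' : IsPGroup p S' := hS.of_surjective (θ.codRestrict S' fun x => hrange.le ⟨x, rfl⟩) fun y => by
    obtain ⟨x, hx⟩ := hrange.ge y.2; exact ⟨x, Subtype.ext hx⟩
  intro P' hP'
  set P := preimageAlong θ P' with hPdef
  obtain ⟨R, ⟨φ, hφ, hφR⟩, hRn⟩ := exists_fullyNormalized F (preimageAlong_le θ P')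
  obtain ⟨hRa, hRr⟩ := fullyAutomized_receptive_of_fullyNormalized hS hF hRn
  have hRS := hRn.1
  have hKR : preimageAlong θ (⊥ : Subgroup Ω') ≤ R := by
    rw [← hφR, ← img_eq_of_apply_mem (F.injective_of_mem hφ) bot_preimage_le (preimageAlong_le θ _)
      fun w hw => apply_mem_bot_preimage hmor hφ hw]
    exact img_le_range _ _
  set Q' := imageAlong θ R with hQ'
  have hQ'S : Q' ≤ S' := hrange ▸ Subgroup.map_le_range _ _
  have hpre : preimageAlong θ Q' = R := preimageAlong_imageAlong hRS hKR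
  have := finite_of_le hRS
  have := finite_of_le hQ'S
  -- conjugacy
  have hconj : E.IsConj P' Q' := by
    obtain ⟨φ', hφ', hind⟩ := hmor.2 P φ hφ
    have hP'e : imageAlong θ P = P' := imageAlong_preimageAlong (hP'.trans hrange.ge)
    let φ'' : P' →* Ω' := φ'.comp (Subgroup.inclusion hP'e.ge)
    refine ⟨φ'', mem_of_eq hP'e hφ' fun _ => rfl, ?_⟩
    ext y
    constructor
    · rintro ⟨⟨a, ha⟩, rfl⟩
      obtain ⟨s, rfl⟩ := hrange.ge (hP' ha)
      refine ⟨⟨φ ⟨s, mem_preimageAlong.2 ha⟩, apply_mem_S F hφ _⟩, hφR.le ⟨_, rfl⟩, ?_⟩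
      exact (induced_apply hind ⟨s, mem_preimageAlong.2 ha⟩ s.2 (apply_mem_S F hφ _)
        (hP'e.ge ha)).symm
    · rintro ⟨t, ht, rfl⟩
      obtain ⟨x, hx⟩ := hφR.ge ht
      have hxS := preimageAlong_le θ P' x.2
      have hθP' : θ ⟨x, hxS⟩ ∈ P' := (mem_preimageAlong (θ := θ) (s := ⟨x, hxS⟩)).1 x.2
      refine ⟨⟨θ ⟨x, hxS⟩, hθP'⟩, ?_⟩
      exact (induced_apply hind x hxS (hx.symm ▸ t.2) (hP'e.ge hθP')).trans
        (congrArg θ (Subtype.ext hx))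
  -- restriction of automorphisms
  have hind' : ∀ α : F.autGroup R, ∃ α' : MulAut Q', α' ∈ E.autGroup Q' ∧
      ∀ x : R, ((α' ⟨θ ⟨x, hRS x.2⟩, ⟨_, x.2, rfl⟩⟩ : Q') : Ω') =
        θ ⟨((α : MulAut R) x : R), hRS ((α : MulAut R) x).2⟩ := by
    intro α
    have hα := ((mem_autGroup_iff F hRS).1 α.2).mem
    obtain ⟨α', hα', hind⟩ := hmor.2 R _ hα
    have hr : α'.range = Q' := by
      ext y
      constructor
      · rintro ⟨⟨_, z, hz, rfl⟩, rfl⟩
        exact ⟨⟨((α : MulAut R) ⟨z, hz⟩ : R), hRS ((α : MulAut R) ⟨z, hz⟩).2⟩, ((α : MulAut R) ⟨z, hz⟩).2,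
          (induced_apply hind ⟨z, hz⟩ z.2 (apply_mem_S F hα _) ⟨z, hz, rfl⟩).symm⟩
      · rintro ⟨t, ht, rfl⟩
        set x := (α : MulAut R).symm ⟨t, ht⟩ with hx
        refine ⟨⟨θ ⟨x, hRS x.2⟩, ⟨_, x.2, rfl⟩⟩,
          (induced_apply hind x (hRS x.2) (apply_mem_S F hα _) ⟨_, x.2, rfl⟩).trans (congrArg θ (Subtype.ext ?_))⟩
        simp [hx]
    obtain ⟨e, he, hee⟩ := exists_iso_of_range hα' hr
    exact ⟨e, (mem_autGroup_iff E hQ'S).2 he, fun x =>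
      (hee _).trans (induced_apply hind x (hRS x.2) (apply_mem_S F hα _) ⟨_, x.2, rfl⟩)⟩
  choose r hrmem hre using hind'
  have hQel : ∀ y : Q', ∃ x : R, y = ⟨θ ⟨x, hRS x.2⟩, ⟨_, x.2, rfl⟩⟩ := by
    rintro ⟨_, t, ht, rfl⟩
    exact ⟨⟨t, ht⟩, rfl⟩
  have huniq : ∀ (α : F.autGroup R) (a : MulAut Q'),
      (∀ x : R, ((a ⟨θ ⟨x, hRS x.2⟩, ⟨_, x.2, rfl⟩⟩ : Q') : Ω') =
        θ ⟨((α : MulAut R) x : R), hRS ((α : MulAut R) x).2⟩) → r α = a := by
    intro α a ha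
    refine MulEquiv.ext fun y => Subtype.ext ?_
    obtain ⟨x, rfl⟩ := hQel y
    rw [hre, ha]
  let res : F.autGroup R →* MulAut Q' := MonoidHom.mk' r fun α β => huniq _ _ fun x => by
    rw [MulAut.mul_apply, show r β ⟨θ ⟨x, hRS x.2⟩, ⟨_, x.2, rfl⟩⟩ =
      ⟨θ ⟨((β : MulAut R) x : R), hRS ((β : MulAut R) x).2⟩, ⟨_, ((β : MulAut R) x).2, rfl⟩⟩
      from Subtype.ext (hre β x), hre]
    rfl
  set T : Subgroup (F.autGroup R) := (autInducedBy S R).subgroupOf (F.autGroup R) with hT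
  have hTidx : ¬ p ∣ T.index := ((isFullyAutomized_iff hS).1 hRa).2
  have hTp : IsPGroup p T := (isPGroup_autInducedBy hS R).comap_subtype
  have hresT : T.map res = autInducedBy S' Q' := by
    refine le_antisymm ?_ ?_
    · rintro _ ⟨α, hα, rfl⟩
      obtain ⟨g, hg, hge⟩ := mem_autInducedBy_iff.1 hα
      refine mem_autInducedBy_iff.2 ⟨θ ⟨g, hg⟩, hrange.le ⟨_, rfl⟩, fun y => ?_⟩
      obtain ⟨x, rfl⟩ := hQel y
      refine (hre α x).trans ?_
      rw [← map_inv, ← map_mul, ← map_mul]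
      exact congrArg θ (Subtype.ext (hge x))
    · intro a ha
      obtain ⟨g', hg', hge⟩ := mem_autInducedBy_iff.1 ha
      obtain ⟨g, rfl⟩ := hrange.ge hg'
      have hgn : (g : Ω) ∈ Subgroup.normalizer (R : Set Ω) := by
        refine mem_normalizer_of_forall fun x hx => ?_
        rw [← hpre]
        refine (mem_preimageAlong (θ := θ) (s := g * ⟨x, hRS hx⟩ * g⁻¹)).2 ?_
        rw [map_mul, map_mul, map_inv, ← hge ⟨θ ⟨x, hRS hx⟩, ⟨_, hx, rfl⟩⟩]
        exact (a _).2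
      refine ⟨⟨normAut (g : Ω) hgn, autInducedBy_le_autGroup hRS
        (mem_autInducedBy_iff.2 ⟨g, g.2, fun _ => rfl⟩)⟩,
        mem_autInducedBy_iff.2 ⟨g, g.2, fun _ => rfl⟩, huniq _ _ fun x => ?_⟩
      refine (hge _).trans ?_
      rw [← map_inv, ← map_mul, ← map_mul]
      exact congrArg θ (Subtype.ext rfl)
  have hressurj : res.range = E.autGroup Q' := by
    refine le_antisymm ?_ fun a ha => ?_
    · rintro _ ⟨α, rfl⟩; exact hrmem α
    · obtain ⟨ψ, hψ, hind⟩ := hsurj Q' hQ'S _ ((mem_autGroup_iff E hQ'S).1 ha).mem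
      have hψR := range_lift_eq hmor (hQ'S.trans hrange.ge) hψ hind
      rw [range_subtype_comp] at hψR
      obtain ⟨e, he, hee⟩ := exists_iso_of_range
        (res_mem F hψ hpre.ge) (Q := R) ((range_comp_inclusion ψ hpre.ge).trans
          (le_antisymm ((img_le_range _ _).trans (hψR.trans hpre).le) fun y hy => by
            obtain ⟨x, hx⟩ := (hψR.trans hpre).ge hy
            exact mem_img.2 ⟨x, hpre.le x.2, hx⟩))
      refine ⟨⟨e, (mem_autGroup_iff F hRS).2 he⟩, huniq _ _ fun x => ?_⟩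
      exact (induced_apply hind ⟨x, hpre.ge x.2⟩ (hRS x.2) (apply_mem_S F hψ _) ⟨_, x.2, rfl⟩).trans
        (congrArg θ (Subtype.ext (hee x).symm))
  refine ⟨Q', hconj, (isFullyAutomized_iff hS').2 ⟨hQ'S, ?_⟩, hQ'S, fun A' χ' hχ' hχr => ?_⟩
  · rw [← hresT, ← hressurj, MonoidHom.range_eq_map]
    exact not_dvd_relIndex_map res le_top (by rwa [Subgroup.relIndex_top_right])
  -- receptive
  have hA' : A' ≤ S' := le_S E hχ'
  set A := preimageAlong θ A' with hA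
  obtain ⟨χ, hχ, hind⟩ : ∃ χ ∈ F.Hom A, InducedAlong θ χ χ' := hsurj A' hA' χ' hχ'
  have hχR : χ.range = R := by rw [range_lift_eq hmor (hA'.trans hrange.ge) hχ hind, hχr, hpre]
  obtain ⟨e, he, hee⟩ := exists_iso_of_range hχ hχR
  have hAS : A ≤ S := preimageAlong_le θ A'
  set N' := extender S' A' χ' with hN'
  have hN'S : N' ≤ S' := (extender_le_normalizerIn A' χ').trans (normalizerIn_le A')
  set N := preimageAlong θ N' with hN
  have hNA : ∀ g : N, (g : Ω) ∈ Subgroup.normalizer (A : Set Ω) := fun g => by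
    have := finite_of_le hAS
    refine mem_normalizer_of_forall fun x hx => ?_
    have hgS := preimageAlong_le θ N' g.2
    have h1 : θ ⟨g, hgS⟩ ∈ N' := (mem_preimageAlong (θ := θ) (s := ⟨g, hgS⟩)).1 g.2
    obtain ⟨-, hgn, -⟩ := mem_extender_iff.1 h1
    refine (mem_preimageAlong (θ := θ) (s := ⟨g, hgS⟩ * ⟨x, hAS hx⟩ * ⟨g, hgS⟩⁻¹)).2 ?_
    rw [map_mul, map_mul, map_inv]
    exact conj_mem_of_mem_normalizer hgn ((mem_preimageAlong (θ := θ) (s := ⟨x, hAS hx⟩)).1 hx)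
  set U₀ : Subgroup (MulAut R) := (autInducedBy N A).map (MulAut.congr e).toMonoidHom with hU₀
  have hU₀F : U₀ ≤ F.autGroup R := by
    rintro _ ⟨a, ha, rfl⟩
    exact congr_mem_autGroup he (autInducedBy_le_autGroup hAS (autInducedBy_mono (preimageAlong_le θ N') ha))
  set U : Subgroup (F.autGroup R) := U₀.subgroupOf (F.autGroup R) with hU
  set W : Subgroup (F.autGroup R) := (autInducedBy S' Q').comap res with hW
  have hUW : U ≤ W := by
    rintro ⟨_, hu⟩ ⟨a, ha, rfl⟩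
    obtain ⟨g, hg, hge⟩ := mem_autInducedBy_iff.1 ha
    have hgS := preimageAlong_le θ N' hg
    have h1 : θ ⟨g, hgS⟩ ∈ N' := (mem_preimageAlong (θ := θ) (s := ⟨g, hgS⟩)).1 hg
    obtain ⟨-, hgn, h, hhS, hhe⟩ := mem_extender_iff.1 h1
    refine mem_autInducedBy_iff.2 ⟨h, hhS, fun y => ?_⟩
    obtain ⟨x, rfl⟩ := hQel y
    refine (hre _ x).trans ?_
    set z := e.symm x with hz
    have hzx : χ z = x := by rw [← hee, hz, MulEquiv.apply_symm_apply]
    have hzθ : θ ⟨z, hAS z.2⟩ ∈ A' := (mem_preimageAlong (θ := θ) (s := ⟨z, hAS z.2⟩)).1 z.2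
    have e1 : θ ⟨x, hRS x.2⟩ = χ' ⟨θ ⟨z, hAS z.2⟩, hzθ⟩ :=
      (congrArg θ (Subtype.ext hzx.symm)).trans
        (induced_apply hind z (hAS z.2) (hzx ▸ hRS x.2) hzθ).symm
    change θ ⟨(e (a z) : R), _⟩ = h * θ ⟨x, hRS x.2⟩ * h⁻¹
    rw [e1, ← hhe]
    have hazθ : θ ⟨a z, hAS (a z).2⟩ ∈ A' := (mem_preimageAlong (θ := θ) (s := ⟨a z, hAS (a z).2⟩)).1 (a z).2
    refine (congrArg θ (Subtype.ext (hee _))).trans
      ((induced_apply hind (a z) (hAS (a z).2) (apply_mem_S F hχ _) hazθ).symm.trans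
        (congrArg χ' (Subtype.ext ?_)))
    change θ ⟨a z, _⟩ = θ ⟨g, hgS⟩ * θ ⟨z, hAS z.2⟩ * (θ ⟨g, hgS⟩)⁻¹
    rw [← map_inv, ← map_mul, ← map_mul]
    exact congrArg θ (Subtype.ext (hge z))
  have hUp : IsPGroup p U := ((isPGroup_autInducedBy (hS.to_le (preimageAlong_le θ N')) A).map _).comap_subtype
  have hTW : T ≤ W := fun a ha => hresT.le ⟨a, ha, rfl⟩
  obtain ⟨w, hwW, hw⟩ := exists_conj_mem_of_le hUp hTp hUW hTW
    fun hd => hTidx (hd.trans (Dvd.intro _ (Subgroup.relIndex_mul_index hTW)))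
  obtain ⟨t, htT, hte⟩ := hresT.ge hwW
  set k := t⁻¹ * w with hk
  have hkres : res k = 1 := by rw [hk, map_mul, map_inv, hte, inv_mul_cancel]
  have hkU : ∀ u ∈ U, k * u * k⁻¹ ∈ T := fun u hu => by
    have : k * u * k⁻¹ = t⁻¹ * (w * u * w⁻¹) * t := by rw [hk]; group
    rw [this]
    exact mul_mem (mul_mem (inv_mem htT) (hw u hu)) htT
  have he2 : IsIso F (e.trans (k : MulAut R)) := he.trans ((mem_autGroup_iff F hRS).1 k.2)
  have hAN : A ≤ N := Subgroup.map_mono (Subgroup.comap_mono (le_extender hχ'))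
  have hNext : N ≤ extender S A (R.subtype.comp (e.trans (k : MulAut R)).toMonoidHom) := by
    intro g hg
    refine mem_extender_iso_iff.2 ⟨preimageAlong_le θ N' hg, hNA ⟨g, hg⟩, ?_⟩
    have hu : MulAut.congr e (normAut g (hNA ⟨g, hg⟩)) ∈ U₀ :=
      ⟨_, mem_autInducedBy_iff.2 ⟨g, hg, fun _ => rfl⟩, rfl⟩
    have h2 : ((k * ⟨_, hU₀F hu⟩ * k⁻¹ : F.autGroup R) : MulAut R) ∈ autInducedBy S R := hkU _ hu
    convert h2 using 1
    exact MulEquiv.ext fun y => rfl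
  obtain ⟨ψ, hψ, hψe⟩ := exists_extension hRr he2 hAN hNext
  obtain ⟨ψ', hψ', hindψ⟩ := hmor.2 N ψ hψ
  have hN'e : imageAlong θ N = N' := imageAlong_preimageAlong (hN'S.trans hrange.ge)
  refine ⟨ψ'.comp (Subgroup.inclusion hN'e.ge), mem_of_eq hN'e hψ' fun _ => rfl, fun y hy hyN => ?_⟩
  obtain ⟨s, rfl⟩ := hrange.ge (hA' hy)
  have hsA : (s : Ω) ∈ A := mem_preimageAlong.2 hy
  refine (induced_apply hindψ ⟨s, hAN hsA⟩ s.2 (apply_mem_S F hψ _) (hN'e.ge hyN)).trans ?_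
  have h1 : ψ ⟨s, hAN hsA⟩ = ((k : MulAut R) (e ⟨s, hsA⟩) : R) := hψe ⟨s, hsA⟩
  have h2 := hre k (e ⟨s, hsA⟩)
  rw [show r k = 1 from hkres, MulAut.one_apply] at h2
  refine (congrArg θ (Subtype.ext h1)).trans (h2.symm.trans ?_)
  refine (congrArg θ (Subtype.ext (hee ⟨s, hsA⟩))).trans
    (induced_apply hind ⟨s, hsA⟩ s.2 (apply_mem_S F hχ _) hy).symm

/-- A factor system of a saturated system is saturated. -/
theorem isSaturated_of_isFactorSystem (hS : IsPGroup p S) (hF : F.IsSaturated p) {S₀ : Subgroup Ω}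
    (h₀ : F.StronglyClosed S₀) (hE : F.IsFactorSystem S₀ θ E) : E.IsSaturated p :=
  isSaturated_of_isSurjectiveMorphism hS hF (isSurjectiveMorphism_of_isFactorSystem hS hF h₀ hE)

end CfsgLib.Transfer
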