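import Cfsg.Agent.Lib.Transfer.FusionInner
import Cfsg.Agent.Lib.Transfer.Frobenius
import Cfsg.Agent.Lib.PStab.Complement

/-!
The normal `p`-complement theorems of Thompson and of Glauberman and Thompson for fusion systems.
-/

set_option autoImplicit false

open Cfsg Cfsg.FusionSystem

namespace CfsgLib.Transfer

open CfsgLib.Fusion CfsgLib.PStab

universe u

section Char

variable {Ω : Type u} [Group Ω] {p e : ℕ} [Fact p.Prime]

omit [Fact p.Prime] in
theorem eq_map_top (D : Subgroup Ω) : (⊤ : Subgroup D).map D.subtype = D := by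
  rw [← MonoidHom.range_eq_map, Subgroup.range_subtype]

omit [Fact p.Prime] in
theorem zjGen_eq_map (D : Subgroup Ω) :
    (zjGen e (⊤ : Subgroup D)).map D.subtype = zjGen e D := by
  rw [← zjGen_map D.subtype_injective, eq_map_top]

omit [Fact p.Prime] in
theorem jGen_eq_map (D : Subgroup Ω) : (jGen e (⊤ : Subgroup D)).map D.subtype = jGen e D := by
  rw [← jGen_map D.subtype_injective, eq_map_top]

omit [Fact p.Prime] in
theorem zjGen_subgroupOf_characteristic (D : Subgroup Ω) :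
    ((zjGen e D).subgroupOf D).Characteristic := by
  rw [← zjGen_eq_map, Subgroup.subgroupOf, Subgroup.comap_map_eq_self_of_injective D.subtype_injective]
  exact Subgroup.characteristic_iff_map_eq.2 fun φ => by
    rw [← zjGen_map (f := φ.toMonoidHom) φ.injective, Subgroup.map_top_of_surjective _ φ.surjective]

omit [Fact p.Prime] in
theorem jGen_subgroupOf_characteristic (D : Subgroup Ω) :
    ((jGen e D).subgroupOf D).Characteristic := by
  rw [← jGen_eq_map, Subgroup.subgroupOf, Subgroup.comap_map_eq_self_of_injective D.subtype_injective]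
  exact Subgroup.characteristic_iff_map_eq.2 fun φ => by
    rw [← jGen_map (f := φ.toMonoidHom) φ.injective, Subgroup.map_top_of_surjective _ φ.surjective]

theorem zjGen_ne_bot_of_finite (he : e = 0 ∨ e = p) {D : Subgroup Ω} [Finite D] (hD : IsPGroup p D)
    (hne : D ≠ ⊥) : zjGen e D ≠ ⊥ := by
  rw [← zjGen_eq_map, Ne, Subgroup.map_eq_bot_iff_of_injective _ D.subtype_injective]
  refine zjGen_ne_bot he (hD.to_subgroup _) ?_
  have := (Subgroup.nontrivial_iff_ne_bot D).2 hne
  exact top_ne_bot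

theorem jGen_ne_bot_of_finite (he : e = 0 ∨ e = p) {D : Subgroup Ω} [Finite D] (hD : IsPGroup p D)
    (hne : D ≠ ⊥) : jGen e D ≠ ⊥ := by
  rw [← jGen_eq_map, Ne, Subgroup.map_eq_bot_iff_of_injective _ D.subtype_injective]
  refine jGen_ne_bot he (hD.to_subgroup _) ?_
  have := (Subgroup.nontrivial_iff_ne_bot D).2 hne
  exact top_ne_bot

end Char

section Realized

variable {Ω : Type u} [Group Ω] {S : Subgroup Ω} {F : FusionSystem S} {p : ℕ}
  {G : Type*} [Group G] {ι : S →* G}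

/-- An element of a realizing group normalising the image of a subgroup induces an automorphism. -/
theorem exists_aut_of_conj (hι : F.IsRealizedBy ι) {M : Subgroup Ω} (hM : M ≤ S) {g : G}
    (hg : g ∈ Subgroup.normalizer ((M.subgroupOf S).map ι : Set G)) :
    ∃ β ∈ F.autGroup M, ∀ x : M,
      ι ⟨(β x : M), hM (β x).2⟩ = g * ι ⟨x, hM x.2⟩ * g⁻¹ := by
  obtain ⟨hinj, hreal⟩ := hι
  let e : M ≃* ((M.subgroupOf S).map ι : Subgroup G) :=
    (Subgroup.subgroupOfEquivOfLe hM).symm.trans (Subgroup.equivMapOfInjective _ ι hinj)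
  have he : ∀ x : M, (e x : G) = ι ⟨x, hM x.2⟩ := fun x => rfl
  let β : MulAut M := MulAut.congr e.symm (normAut g hg)
  have hβ : ∀ x : M, ι ⟨(β x : M), hM (β x).2⟩ = g * ι ⟨x, hM x.2⟩ * g⁻¹ := by
    intro x
    rw [← he]
    change ((e (e.symm (normAut g hg (e x)))) : G) = _
    rw [e.apply_symm_apply, ← he]
    rfl
  refine ⟨β, (mem_autGroup_iff F hM).2 ?_, hβ⟩
  exact (hreal M hM (M.subtype.comp β.toMonoidHom) fun x => hM (β x).2).2 ⟨g, hβ⟩

/-- In a group realizing a system, a subgroup around the image of `S` normalising the image of `X`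
has a normal `p`-complement if the automorphisms it induces over `X` have `p`-power order. -/
theorem hasNormalPComplement_of_realized [Finite G] [hp : Fact p.Prime] (hι : F.IsRealizedBy ι)
    (T : Sylow p G) (hT : (T : Subgroup G) = ι.range) {H : Subgroup G} (hTH : ι.range ≤ H)
    {X : Subgroup Ω} (hX : X ≤ S) (hHX : H ≤ Subgroup.normalizer ((X.subgroupOf S).map ι : Set G))
    (hloc : ∀ M : Subgroup Ω, X ≤ M → ∀ hM : M ≤ S, ∀ h ∈ H, ∀ β ∈ F.autGroup M,
      (∀ x : M, ι ⟨(β x : M), hM (β x).2⟩ = h * ι ⟨x, hM x.2⟩ * h⁻¹) → ∃ k : ℕ, β ^ p ^ k = 1) :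
    HasNormalPComplement p H := by
  classical
  refine hasNormalPComplement_of_frobeniusCond fun Q hQ g hg hgo => ?_
  set X' : Subgroup G := (X.subgroupOf S).map ι with hX'
  have hX'T : X' ≤ (T : Subgroup G) := hT.symm ▸ Subgroup.map_le_range _ _
  have hX'H : X' ≤ H := hX'T.trans (hT.le.trans hTH)
  have : (X'.subgroupOf H).Normal := (Subgroup.normal_subgroupOf_iff_le_normalizer hX'H).2 hHX
  set R : Subgroup H := Q ⊔ X'.subgroupOf H with hR
  have hRp : IsPGroup p R :=
    IsPGroup.to_sup_of_normal_right hQ ((T.2.to_le hX'T).comap_of_injective H.subtype H.subtype_injective)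
  obtain ⟨P₁, hP₁⟩ := hRp.exists_le_sylow
  obtain ⟨c, hc⟩ := MulAction.exists_smul_eq H P₁ (T.subtype (hT.le.trans hTH))
  -- conjugating into the image
  set R' : Subgroup H := R.map (MulAut.conj c).toMonoidHom with hR'
  have hR'T : R'.map H.subtype ≤ ι.range := by
    rintro _ ⟨y, ⟨r, hr, rfl⟩, rfl⟩
    rw [← hT]
    have h1 : c * r * c⁻¹ ∈ ((c • P₁ : Sylow p H) : Subgroup H) := by
      rw [Sylow.coe_subgroup_smul]
      exact Subgroup.smul_mem_pointwise_smul r (MulAut.conj c) _ (hP₁ hr)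
    rw [hc, Sylow.coe_subtype] at h1
    exact h1
  set M : Subgroup Ω := ((R'.map H.subtype).comap ι).map S.subtype with hMdef
  have hMS : M ≤ S := Subgroup.map_subtype_le _
  have hMι : (M.subgroupOf S).map ι = R'.map H.subtype := by
    rw [hMdef, Subgroup.subgroupOf, Subgroup.comap_map_eq_self_of_injective S.subtype_injective,
      Subgroup.map_comap_eq_self hR'T]
  have hXM : X ≤ M := by
    intro x hx
    refine ⟨⟨x, hX hx⟩, ?_, rfl⟩
    have hxX' : ι ⟨x, hX hx⟩ ∈ X' := ⟨_, hx, rfl⟩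
    refine ⟨⟨ι ⟨x, hX hx⟩, hX'H hxX'⟩, ?_, rfl⟩
    refine ⟨c⁻¹ * ⟨ι ⟨x, hX hx⟩, hX'H hxX'⟩ * c, (le_sup_right : X'.subgroupOf H ≤ R) ?_, by
      simp [mul_assoc]⟩
    have h := (Subgroup.mem_normalizer_iff''.1 (hHX c.2) _).1 hxX'
    exact h
  set g' : H := c * g * c⁻¹ with hg'
  have hgR : ∀ r ∈ R, g * r * g⁻¹ ∈ R := by
    intro r hr
    have h1 : R.map (MulAut.conj g).toMonoidHom ≤ R := by
      rw [hR, Subgroup.map_sup]
      refine sup_le_sup ?_ ?_
      · rintro _ ⟨q, hq, rfl⟩; exact (Subgroup.mem_normalizer_iff.1 hg q).1 hq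
      · rintro _ ⟨q, hq, rfl⟩; exact ‹(X'.subgroupOf H).Normal›.conj_mem q hq g
    exact h1 ⟨r, hr, rfl⟩
  have hgn : (g' : G) ∈ Subgroup.normalizer ((M.subgroupOf S).map ι : Set G) := by
    rw [hMι]
    refine mem_normalizer_of_forall ?_
    rintro _ ⟨y, ⟨r, hr, rfl⟩, rfl⟩
    refine ⟨c * (g * r * g⁻¹) * c⁻¹, ⟨_, hgR r hr, rfl⟩, ?_⟩
    simp only [hg', MulEquiv.coe_toMonoidHom, MulAut.conj_apply, Subgroup.coe_subtype,
      Subgroup.coe_mul, Subgroup.coe_inv]
    group
  have : Finite (R'.map H.subtype) := inferInstance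
  obtain ⟨β, hβ, hβe⟩ := exists_aut_of_conj hι hMS hgn
  obtain ⟨k, hk⟩ := hloc M hXM hMS g' g'.2 β hβ hβe
  have key : ∀ (n : ℕ) (x : M), ι ⟨((β ^ n) x : M), hMS ((β ^ n) x).2⟩ =
      (g' : G) ^ n * ι ⟨x, hMS x.2⟩ * ((g' : G) ^ n)⁻¹ := by
    intro n
    induction n with
    | zero => intro x; simp
    | succ n ih =>
      intro x
      rw [show ((β ^ (n + 1)) x : M) = β ((β ^ n) x) by rw [pow_succ', MulAut.mul_apply], hβe, ih,
        pow_succ']
      group
  refine Subgroup.mem_centralizer_iff.2 fun q hq => ?_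
  have hcom : Commute q (g ^ p ^ k) := by
    have hqM : ((c * q * c⁻¹ : H) : G) ∈ (M.subgroupOf S).map ι := by
      rw [hMι]
      exact ⟨_, ⟨q, (le_sup_left : Q ≤ R) hq, rfl⟩, rfl⟩
    obtain ⟨s, hs, hse⟩ := hqM
    have h1 := key (p ^ k) ⟨s, hs⟩
    simp only [hk, MulAut.one_apply] at h1
    rw [show (⟨(s : Ω), hMS hs⟩ : S) = s from rfl, hse] at h1
    have h2 : c * q * c⁻¹ = g' ^ p ^ k * (c * q * c⁻¹) * (g' ^ p ^ k)⁻¹ := Subtype.ext (by
      simpa using h1)
    rw [hg', conj_pow] at h2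
    show q * g ^ p ^ k = g ^ p ^ k * q
    have h3 : c * q * c⁻¹ = c * (g ^ p ^ k * q * (g ^ p ^ k)⁻¹) * c⁻¹ := by
      rw [h2]; group
    have h4 := mul_left_cancel (mul_right_cancel h3)
    calc q * g ^ p ^ k = g ^ p ^ k * q * (g ^ p ^ k)⁻¹ * g ^ p ^ k := by rw [← h4]
      _ = g ^ p ^ k * q := by group
  obtain ⟨m, hm⟩ := exists_pow_eq_self_of_coprime (hgo.symm.pow_left k)
  exact (hm ▸ hcom.pow_right m).eq

/-- A model with a normal `p`-complement has only `p`-groups as automizers. -/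
theorem pAut_of_isModel_of_npc [hp : Fact p.Prime] (hM : F.IsModel p G ι)
    (hnpc : HasNormalPComplement p G) : PAut p F := by
  obtain ⟨hG, ⟨hinj, hreal⟩, -, hC⟩ := hM
  obtain ⟨N, hN, hNc, k, hk⟩ := hasNormalPComplement_iff.1 hnpc
  have hdisj : Disjoint N (pCore p G) := by
    rw [disjoint_iff, ← Subgroup.card_eq_one]
    obtain ⟨j, hj⟩ := (IsPGroup.iff_card).1 (CfsgLib.Cores.isPGroup_pCore p (G := G))
    have h1 := Subgroup.card_dvd_of_le (inf_le_left : N ⊓ pCore p G ≤ N)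
    have h2 := Subgroup.card_dvd_of_le (inf_le_right : N ⊓ pCore p G ≤ pCore p G)
    rw [hj] at h2
    exact Nat.eq_one_of_dvd_coprimes (hNc.pow_right j) h1 h2
  have hNbot : N = ⊥ := by
    refine disjoint_self.1 (hdisj.mono_right fun x hx => hC (Subgroup.mem_centralizer_iff.2 fun y hy => ?_))
    exact (Subgroup.commute_of_normal_of_disjoint N (pCore p G) hN inferInstance hdisj x y hx hy).symm
  have hGp : IsPGroup p G := by
    refine IsPGroup.iff_card.2 ⟨k, ?_⟩
    rw [← hk, hNbot, Subgroup.index_bot]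
  intro P hP α
  obtain ⟨α, hα⟩ := α
  have hαm := ((mem_autGroup_iff F hP).1 hα).mem
  obtain ⟨g, hg⟩ := (hreal P hP _ fun x => hP (α x).2).1 hαm
  obtain ⟨j, hj⟩ := hGp g
  have key : ∀ (n : ℕ) (x : P), ι ⟨((α ^ n) x : P), hP ((α ^ n) x).2⟩ =
      g ^ n * ι ⟨x, hP x.2⟩ * (g ^ n)⁻¹ := by
    intro n
    induction n with
    | zero => intro x; simp
    | succ n ih =>
      intro x
      rw [show ((α ^ (n + 1)) x : P) = α ((α ^ n) x) by rw [pow_succ', MulAut.mul_apply],
        show ι ⟨(α ((α ^ n) x) : P), hP (α ((α ^ n) x)).2⟩ =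
          g * ι ⟨((α ^ n) x : P), hP ((α ^ n) x).2⟩ * g⁻¹ from hg _, ih, pow_succ']
      group
  refine ⟨j, Subtype.ext (MulEquiv.ext fun x => Subtype.ext ?_)⟩
  have h1 := key (p ^ j) x
  rw [hj, one_mul, inv_one, mul_one] at h1
  rw [SubgroupClass.coe_pow, OneMemClass.coe_one, MulAut.one_apply]
  exact congrArg (fun y : S => (y : Ω)) (hinj h1)

end Realized

section Glauberman

variable {p : ℕ} [hp : Fact p.Prime]

/-- The centre of the Thompson subgroup of some strongly closed subgroup is local. -/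
def ZJGood (p : ℕ) (Ω : Type u) [Group Ω] (S : Subgroup Ω) (F : FusionSystem S) : Prop :=
  ∃ D : Subgroup Ω, F.StronglyClosed D ∧ PLocal p F (zjGen 0 D)

theorem innerCriterion_zjGood (hp2 : p ≠ 2) :
    InnerCriterion.{u} p (fun _ _ _ _ => True) (ZJGood p) where
  ambNormalizer := fun _ _ _ _ _ _ _ _ _ => trivial
  ambFactor := fun _ _ _ _ _ _ _ _ _ _ _ _ _ => trivial
  sub := by
    rintro Ω _ S _ E F hEF ⟨D, hD, hloc⟩
    exact ⟨D, ⟨hD.1, fun R hR φ hφ => hD.2 R hR φ (hEF R hφ)⟩, hloc.mono le_rfl hEF⟩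
  ofLocal := by
    intro Ω _ S _ F hS _ hne hloc
    refine ⟨S, ⟨le_rfl, fun R _ φ hφ x => apply_mem_S F hφ x⟩, hloc _ (zjGen_le 0 S) ?_
      (zjGen_subgroupOf_characteristic S)⟩
    exact zjGen_ne_bot_of_finite (Or.inl rfl) hS hne
  constrained := by
    rintro Ω _ S _ F hS hF - ⟨D, hD, hloc⟩
    obtain ⟨G, _, ι, hM⟩ := exists_model hS hF
    obtain ⟨hG, ⟨hinj, hreal⟩, ⟨T, hT⟩, -⟩ := id hM
    refine pAut_of_isModel_of_npc hM ?_
    set D' : Subgroup G := (D.subgroupOf S).map ι with hD'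
    have hDT : D' ≤ (T : Subgroup G) := hT.symm ▸ Subgroup.map_le_range _ _
    have hsc : IsStronglyClosed D' (T : Subgroup G) := by
      refine ⟨hDT, ?_⟩
      rintro _ ⟨s, hs, rfl⟩ g hgT
      rw [hT] at hgT
      obtain ⟨t, ht⟩ := hgT
      have hR : Subgroup.zpowers (s : Ω) ≤ S := Subgroup.zpowers_le.2 s.2
      have hconj : ∀ x : Subgroup.zpowers (s : Ω),
          ((MulAut.conj g).toMonoidHom.comp (ι.comp (Subgroup.inclusion hR))) x ∈ ι.range := by
        rintro ⟨x, hx⟩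
        obtain ⟨n, rfl⟩ := Subgroup.mem_zpowers_iff.1 hx
        refine ⟨t ^ n, ?_⟩
        rw [map_zpow, ht, conj_zpow]
        simp only [MonoidHom.comp_apply, MulEquiv.coe_toMonoidHom, MulAut.conj_apply, ← map_zpow]
        rfl
      let φ : Subgroup.zpowers (s : Ω) →* Ω :=
        (S.subtype.comp (MonoidHom.ofInjective hinj).symm.toMonoidHom).comp
          (((MulAut.conj g).toMonoidHom.comp (ι.comp (Subgroup.inclusion hR))).codRestrict ι.range hconj)
      have hφS : ∀ x, φ x ∈ S := fun x => ((MonoidHom.ofInjective hinj).symm _).2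
      have hφe : ∀ x, ι ⟨φ x, hφS x⟩ = g * ι ⟨x, hR x.2⟩ * g⁻¹ := fun x =>
        congrArg Subtype.val ((MonoidHom.ofInjective hinj).apply_symm_apply _)
      have hmem := hD.2 _ (Subgroup.zpowers_le.2 hs) φ ((hreal _ hR φ hφS).2 ⟨g, hφe⟩)
        ⟨s, Subgroup.mem_zpowers _⟩
      refine ⟨⟨_, hφS ⟨s, Subgroup.mem_zpowers _⟩⟩, hmem, ?_⟩
      exact hφe _
    refine hasNormalPComplement_of_normalizer_zjGen hp2 (Or.inl rfl) T hsc ?_
    have hZ : zjGen 0 D' = ((zjGen 0 D).subgroupOf S).map ι := by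
      rw [hD', zjGen_map hinj]
      congr 1
      rw [Subgroup.subgroupOf, Subgroup.subgroupOf]
      refine Subgroup.map_injective S.subtype_injective ?_
      rw [← zjGen_map S.subtype_injective, Subgroup.map_comap_eq_self (by simpa using hD.1),
        Subgroup.map_comap_eq_self (by simpa using (zjGen_le 0 D).trans hD.1)]
    rw [hZ]
    refine hasNormalPComplement_of_realized ⟨hinj, hreal⟩ T hT ?_ ((zjGen_le 0 D).trans hD.1) le_rfl
      fun M hXM hMS h hh β hβ hβe => ?_
    · rw [← hZ, ← hT]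
      intro y hy
      refine mem_normalizer_of_forall fun x hx => conj_mem_zjGen ?_ hx
      refine mem_normalizer_of_forall fun z hz => hsc.2 z hz y ?_
      exact mul_mem (mul_mem hy (hDT hz)) (inv_mem hy)
    · have := finite_of_le ((zjGen_le 0 D).trans hD.1)
      have hn : M ≤ Subgroup.normalizer (zjGen 0 D : Set Ω) := fun y hy =>
        mem_normalizer_of_forall fun x hx => conj_mem_zjGen
          (le_normalizer_of_stronglyClosed hD (hMS hy)) hx
      refine hloc M hXM hMS hn β hβ fun x hx => ?_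
      have h1 : ι ⟨(β x : M), hMS (β x).2⟩ ∈ ((zjGen 0 D).subgroupOf S).map ι := by
        rw [hβe]
        exact (Subgroup.mem_normalizer_iff.1 hh _).1 ⟨_, hx, rfl⟩
      obtain ⟨w, hw, hwe⟩ := h1
      rw [hinj hwe] at hw
      exact hw

/-- Glauberman–Thompson for fusion systems. -/
theorem hom_eq_inner_iff_zjGen {Ω : Type u} [Group Ω] {S : Subgroup Ω} [Finite S] (hS : IsPGroup p S)
    {F : FusionSystem S} (hF : F.IsSaturated p) (hp2 : p ≠ 2) {D : Subgroup Ω}
    (hD : F.StronglyClosed D) :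
    (∀ P : Subgroup Ω, F.Hom P = (innerFusionSystem S).Hom P) ↔
      ∀ N : FusionSystem (normalizerIn S (centerThompsonAOf D)),
        F.IsNormalizerSystem (centerThompsonAOf D) N →
          ∀ P : Subgroup Ω, N.Hom P =
            (innerFusionSystem (normalizerIn S (centerThompsonAOf D))).Hom P := by
  rw [centerThompsonAOf_eq_zjGen]
  have hZS : zjGen 0 D ≤ S := (zjGen_le 0 D).trans hD.1
  have := finite_of_le hZS
  have hn : S ≤ Subgroup.normalizer (zjGen 0 D : Set Ω) := fun y hy =>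
    mem_normalizer_of_forall fun x hx => conj_mem_zjGen (le_normalizer_of_stronglyClosed hD hy) hx
  have hT : normalizerIn S (zjGen 0 D) = S := (normalizerIn_normal hn).symm
  constructor
  · intro h N hN P
    refine Set.Subset.antisymm (fun φ hφ => ?_) ?_
    · rw [hN P] at hφ
      obtain ⟨hP, g, hg, hge⟩ := (h P).le hφ.1
      exact ⟨hφ.2.1, g, hT.symm ▸ hg, hge⟩
    · rintro φ ⟨hP, g, hg, hge⟩
      rw [show φ = conjHom P g from MonoidHom.ext hge]
      exact N.conj_mem hP hg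
  · intro h P
    have h1 := h (normSys F (zjGen 0 D) rfl hZS) fun _ => rfl
    have := finite_of_le (S := S) (normalizerIn_le (zjGen 0 D))
    have h2 : PAut p (normSys F (zjGen 0 D) rfl hZS) :=
      pAut_of_hom_subset_inner (hS.to_le (normalizerIn_le _)) fun P => (h1 P).le
    exact hom_eq_inner_of_pAut hS hF ((innerCriterion_zjGood hp2).pAut hS hF trivial
      ⟨D, hD, pLocal_of_pAut rfl hZS h2⟩) P

end Glauberman

end CfsgLib.Transfer
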