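import Cfsg.Agent.Lib.Transfer.SubModel
import Cfsg.Agent.Lib.LocalEven.S4Section
import Cfsg.Agent.Lib.Fusion.Alperin

/-!
Freeness of a section passes to normalizer systems; it may be tested on centric radical subgroups.
-/

set_option autoImplicit false

open Cfsg Cfsg.FusionSystem

namespace CfsgLib.Transfer

open CfsgLib.Fusion

universe u v

variable {Ω : Type u} [Group Ω] {S : Subgroup Ω} [Finite S] {F : FusionSystem S} {p : ℕ}
  [hp : Fact p.Prime] {H : Type v} [Group H]

theorem involves_of_equiv {G : Type*} [Group G] {G' : Type*} [Group G'] (e : G ≃* G')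
    (h : Involves H G) : Involves H G' :=
  CfsgLib.LocalEven.Offender.involves_of_injective e.toMonoidHom e.injective h

omit [Finite S] hp in
theorem isCentric_normSys_self' {P T : Subgroup Ω} (hT : T = normalizerIn S P) (hP : P ≤ S)
    (hc : F.IsCentric P) : (normSys F P hT hP).IsCentric P := by
  refine ⟨hT ▸ le_normalizerIn hP, fun R hR y hy => ?_⟩
  obtain ⟨φ, hφ, rfl⟩ := hR
  exact hc.2 _ ⟨φ, hφ.1, rfl⟩ ⟨(hT.le hy.1).1, hy.2⟩

omit [Finite S] hp in
theorem isNormal_normSys_self {P T : Subgroup Ω} (hT : T = normalizerIn S P) (hP : P ≤ S) :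
    (normSys F P hT hP).IsNormal P := by
  subst hT
  exact isNormal_normalizerSystem hP fun _ => rfl

/-- The chosen data around a centric subgroup: a fully normalized conjugate and a model there. -/
theorem exists_transport_data (hS : IsPGroup p S) (hF : F.IsSaturated p) {P₁ : Subgroup Ω}
    (hc : F.IsCentric P₁) :
    ∃ (P'' : Subgroup Ω) (hP'' : P'' ≤ S) (L : Type u) (_ : Group L) (ι : normalizerIn S P'' →* L)
      (χ : normalizerIn S P₁ →* Ω), F.IsFullyNormalized P'' ∧ F.IsConj P₁ P'' ∧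
        (normSys F P'' (rfl : normalizerIn S P'' = _) hP'').IsModel p L ι ∧
        χ ∈ F.Hom (normalizerIn S P₁) ∧ (∀ x, χ x ∈ normalizerIn S P'') ∧ img χ P₁ = P'' := by
  obtain ⟨P'', hconj, hn⟩ := exists_fullyNormalized F hc.1
  have hP'' := hn.1
  obtain ⟨e, h, he, χ, hχ, hχe, hχN⟩ := exists_hom_normalizerIn_of_fullyNormalized hS hF hn hconj
  have : Finite (normalizerIn S P'') := finite_of_le (normalizerIn_le P'')
  obtain ⟨L, _, ι, hM⟩ := exists_model_of_normal_centric (hS.to_le (normalizerIn_le P''))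
    (isSaturated_normSys hS hF rfl hP'' hn) (isNormal_normSys_self rfl hP'')
    (isCentric_normSys_self' rfl hP'' (CfsgLib.Fusion.isCentric_of_isConj hc hconj))
  refine ⟨P'', hP'', L, inferInstance, ι, χ, hn, hconj, hM, hχ, hχN, ?_⟩
  ext y
  constructor
  · intro hy
    obtain ⟨x, hx, rfl⟩ := mem_img.1 hy
    rw [show x = Subgroup.inclusion h ⟨x, hx⟩ from rfl, hχe]
    exact (e _).2
  · intro hy
    exact mem_img.2 ⟨Subgroup.inclusion h (e.symm ⟨y, hy⟩), (e.symm ⟨y, hy⟩).2, by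
      rw [hχe, MulEquiv.apply_symm_apply]⟩

/-- Two models of the same normalizer system involve the same groups. -/
theorem involves_of_isModel (hS : IsPGroup p S) {P T : Subgroup Ω} (hT : T = normalizerIn S P)
    (hP : P ≤ S) (hc : (normSys F P hT hP).IsCentric P) {L L' : Type u} [Group L] [Group L']
    {ι : T →* L} {ι' : T →* L'} (h : (normSys F P hT hP).IsModel p L ι)
    (h' : (normSys F P hT hP).IsModel p L' ι') (hi : Involves H L) : Involves H L' := by
  have : Finite T := finite_of_le (hT ▸ normalizerIn_le P)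
  obtain ⟨e, -⟩ := exists_equiv_of_isModel (hS.to_le (hT ▸ normalizerIn_le P))
    (isNormal_normSys_self hT hP) hc h h'
  exact involves_of_equiv e hi

/-- Freeness passes to normalizer systems of fully normalized subgroups. -/
theorem isSectionFree_normalizer (hS : IsPGroup p S) (hF : F.IsSaturated p)
    (hfree : F.IsSectionFree p H) {Q : Subgroup Ω} (hQ : F.IsFullyNormalized Q)
    {N : FusionSystem (normalizerIn S Q)} (hN : F.IsNormalizerSystem Q N) : N.IsSectionFree p H := by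
  obtain rfl : N = normSys F Q rfl hQ.1 := ext_hom hN
  intro P hPn hPc N' hN' L₀ _ ι₀ hM₀ hinv
  have hPT : P ≤ (normalizerIn S Q) := hPc.1
  have hTS : (normalizerIn S Q) ≤ S := normalizerIn_le Q
  obtain rfl : N' = normSys (normSys F Q rfl hQ.1) P rfl hPT := ext_hom hN'
  set P₁ := P ⊔ Q with hP₁
  have hP₁T : P₁ ≤ (normalizerIn S Q) := sup_le hPT (le_normalizerIn hQ.1)
  have hP₁S : P₁ ≤ S := hP₁T.trans hTS
  have := finite_of_le hP₁S
  have hT₁n : normalizerIn (normalizerIn S Q) P ≤ normalizerIn S P₁ := fun y hy => ⟨hTS hy.1, by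
    refine mem_normalizer_of_forall fun x hx => ?_
    have h1 : P₁ ≤ P₁.comap (MulAut.conj y).toMonoidHom := sup_le
      (fun z hz => (le_sup_left : P ≤ P₁) ((Subgroup.mem_normalizer_iff.1 hy.2 z).1 hz))
      (fun z hz => (le_sup_right : Q ≤ P₁) ((Subgroup.mem_normalizer_iff.1 hy.1.2 z).1 hz))
    exact h1 hx⟩
  have hc : F.IsCentric P₁ := by
    refine ⟨hP₁S, fun R hR c hcR => ?_⟩
    obtain ⟨φ, hφ, rfl⟩ := hR
    set Q' := img φ Q with hQ'
    have hQ'c : F.IsConj Q' Q :=
      isConj_symm ⟨_, res_mem F hφ le_sup_right, range_comp_inclusion φ le_sup_right⟩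
    obtain ⟨eQ, hQ'N, -, ψ, hψ, hψe, hψN⟩ := exists_hom_normalizerIn_of_fullyNormalized hS hF hQ hQ'c
    have hQ'S : Q' ≤ S := le_left_of_isConj hQ'c
    have hφN : ∀ x, φ x ∈ normalizerIn S Q' := fun x => ⟨apply_mem_S F hφ x, by
      have := finite_of_le hQ'S
      refine mem_normalizer_of_forall fun w hw => ?_
      obtain ⟨z, hz, rfl⟩ := mem_img.1 hw
      exact mem_img.2 ⟨x * z * x⁻¹,
        (Subgroup.mem_normalizer_iff.1 (hP₁T x.2).2 _).1 hz, by simp⟩⟩
    have hcN : c ∈ normalizerIn S Q' := ⟨hcR.1, by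
      refine Subgroup.centralizer_le_normalizer _ (Subgroup.mem_centralizer_iff.2 fun w hw => ?_)
      exact hcR.2 w (img_le_range _ _ hw)⟩
    set ν : P₁ →* Ω := ψ.comp (φ.codRestrict _ hφN) with hν
    have hνm : ν ∈ F.Hom P₁ := F.comp_mem hφ hψ hφN
    have hνQ : img ν Q = Q := img_eq_of_apply_mem (F.injective_of_mem hνm) le_sup_right hQ.1
      fun x hx => by
        show ψ ⟨φ x, hφN x⟩ ∈ Q
        rw [show (⟨φ x, hφN x⟩ : normalizerIn S Q') = Subgroup.inclusion hQ'N ⟨φ x, apply_mem_img φ hx⟩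
          from rfl, hψe]
        exact (eQ _).2
    have hνT : ∀ x, ν x ∈ (normalizerIn S Q) := fun x => hψN _
    have hconj : (normSys F Q (rfl : (normalizerIn S Q) = _) hQ.1).IsConj P (img ν P) :=
      ⟨ν.comp (Subgroup.inclusion le_sup_left),
        mem_normalizerHom_of_img hνm le_sup_left le_sup_right hνQ (fun _ => rfl) hPT fun x => hνT _,
        range_comp_inclusion ν le_sup_left⟩
    have h1 : ψ ⟨c, hcN⟩ ∈ centralizerIn (normalizerIn S Q) (img ν P) := ⟨hψN _, fun w hw => by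
      obtain ⟨x, -, rfl⟩ := mem_img.1 hw
      show ψ ⟨φ x, hφN x⟩ * ψ ⟨c, hcN⟩ = ψ ⟨c, hcN⟩ * ψ ⟨φ x, hφN x⟩
      rw [← map_mul, ← map_mul]
      exact congrArg ψ (Subtype.ext (hcR.2 _ ⟨x, rfl⟩))⟩
    obtain ⟨x, -, hxe⟩ := mem_img.1 (hPc.2 _ hconj h1)
    have h2 : (⟨φ x, hφN x⟩ : normalizerIn S Q') = ⟨c, hcN⟩ := F.injective_of_mem hψ hxe
    exact ⟨x, congrArg Subtype.val h2⟩
  obtain ⟨P'', hP'', L, _, ι, χ, hn, hconj, hM, hχ, hχN, hχP⟩ := exists_transport_data hS hF hc
  have hext : ∀ M : Subgroup Ω, ∀ φ ∈ (normSys F Q (rfl : (normalizerIn S Q) = _) hQ.1).normalizerHom P M,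
      ∃ W : Subgroup Ω, ∃ hMW : M ≤ W, P₁ ≤ W ∧ ∃ ψ ∈ F.Hom W,
        (∀ x : M, ψ (Subgroup.inclusion hMW x) = φ x) ∧
          img ψ P₁ = P₁ ∧ img ψ P = P ∧ img ψ Q = Q := by
    rintro M φ ⟨-, -, -, ψ₁, hψ₁, hψ₁e, hψ₁P⟩
    obtain ⟨-, -, -, ψ, hψ, hψe, hψQ⟩ := hψ₁
    have hψ₁P' : img ψ₁ P = P := hψ₁P
    have hψQ' : img ψ Q = Q := hψQ
    have hψP : img ψ P = P := by
      refine img_eq_of_apply_mem (F.injective_of_mem hψ) (le_sup_right.trans le_sup_left)
        (hPT.trans hTS) fun x hx => ?_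
      rw [show x = Subgroup.inclusion le_sup_left ⟨(x : Ω), (le_sup_right : P ≤ M ⊔ P) hx⟩ from rfl, hψe]
      exact hψ₁P'.le (apply_mem_img ψ₁ hx)
    refine ⟨(M ⊔ P) ⊔ Q, le_sup_left.trans le_sup_left,
      sup_le_sup_right le_sup_right Q, ψ, hψ, fun x => ?_, ?_, hψP, hψQ'⟩
    · exact (hψe (Subgroup.inclusion le_sup_left x)).trans (hψ₁e x)
    · rw [hP₁, img_sup ψ (le_sup_right.trans le_sup_left) le_sup_right, hψP, hψQ']
  obtain ⟨K, j, hj⟩ := exists_submodel hS hF (rfl : (normalizerIn S Q) = _) hQ.1 hQ rfl hPT hPc hPn le_sup_right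
    le_sup_left hP₁T hT₁n hc hext hM hχ hχN hχP
  have hfin : Finite (normalizerIn S Q) := finite_of_le hTS
  have hK : Involves H K := involves_of_isModel (hS.to_le hTS) rfl hPT
    (isCentric_normSys_self' rfl hPT hPc) hM₀ hj hinv
  exact hfree P'' hn (CfsgLib.Fusion.isCentric_of_isConj hc hconj) _ (fun _ => rfl) L ι hM
    (CfsgLib.LocalEven.Offender.involves_of_injective K.subtype K.subtype_injective hK)

omit hp in
theorem normSys_bot_eq (hT : S = normalizerIn S (⊥ : Subgroup Ω)) :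
    normSys F ⊥ hT bot_le = F := by
  refine ext_hom fun P => Set.Subset.antisymm (fun φ hφ => hφ.1) fun φ hφ => ?_
  exact mem_normalizerHom_of_img hφ le_rfl bot_le
    (img_eq_of_apply_mem (S := S) (F.injective_of_mem hφ) bot_le bot_le fun x hx => by
      rw [Subgroup.mem_bot] at hx ⊢
      rw [show x = 1 from Subtype.ext hx, map_one]) (fun _ => rfl)
    (hT ▸ le_S F hφ) (hT ▸ apply_mem_S F hφ)

/-- Freeness may be tested on centric radical subgroups. -/
theorem isSectionFree_of_radical (hS : IsPGroup p S) (hF : F.IsSaturated p)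
    (h : ∀ Q : Subgroup Ω, F.IsFullyNormalized Q → F.IsCentric Q → F.IsRadical p Q →
      ∀ N : FusionSystem (normalizerIn S Q), F.IsNormalizerSystem Q N →
        ∀ (L : Type u) [Group L] (ι : ↥(normalizerIn S Q) →* L), N.IsModel p L ι → ¬ Involves H L) :
    F.IsSectionFree p H := by
  suffices hind : ∀ (n : ℕ) (Q : Subgroup Ω), Nat.card S - Nat.card Q ≤ n → F.IsFullyNormalized Q →
      F.IsCentric Q → ∀ N : FusionSystem (normalizerIn S Q), F.IsNormalizerSystem Q N →
        ∀ (L : Type u) [Group L] (ι : ↥(normalizerIn S Q) →* L), N.IsModel p L ι → ¬ Involves H L from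
    fun Q hQn hQc => hind _ Q le_rfl hQn hQc
  intro n
  induction n using Nat.strong_induction_on with
  | _ n ih =>
  intro Q hn hQn hQc N hN L _ ι hM hinv
  obtain rfl : N = normSys F Q rfl hQn.1 := ext_hom hN
  have hQS := hQn.1
  have hTS : (normalizerIn S Q) ≤ S := normalizerIn_le Q
  have : Finite (normalizerIn S Q) := finite_of_le hTS
  obtain ⟨hL, ⟨hinj, hreal⟩, ⟨TL, hTL⟩, hCL⟩ := id hM
  have hQT : Q ≤ (normalizerIn S Q) := le_normalizerIn hQS
  set Z : Subgroup L := (Q.subgroupOf (normalizerIn S Q)).map ι with hZ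
  have hZn : Z.Normal := map_normal_of_isModel hM (isNormal_normSys_self rfl hQS)
  have hOr : pCore p L ≤ ι.range := hTL ▸ Cores.pCore_le_sylow TL
  have hZO : Z ≤ pCore p L := Cores.le_pCore (((hS.to_le hTS).to_subgroup _).map ι)
  set R : Subgroup Ω := ((pCore p L).comap ι).map (normalizerIn S Q).subtype with hR
  have hRT : R ≤ (normalizerIn S Q) := Subgroup.map_subtype_le _
  have hQR : Q ≤ R := fun x hx => ⟨⟨x, hQT hx⟩, hZO ⟨_, hx, rfl⟩, rfl⟩
  have hRι : (R.subgroupOf (normalizerIn S Q)).map ι = pCore p L := by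
    rw [hR, Subgroup.subgroupOf, Subgroup.comap_map_eq_self_of_injective (normalizerIn S Q).subtype_injective,
      Subgroup.map_comap_eq_self hOr]
  rcases eq_or_lt_of_le hQR with hQeq | hlt
  · -- `Q` is radical
    have hOZ : pCore p L = Z := by rw [← hRι, ← hQeq]
    refine h Q hQn hQc ⟨hQS, ?_⟩ _ (fun _ => rfl) L ι hM hinv
    let ez : Q ≃* Z := (Subgroup.subgroupOfEquivOfLe hQT).symm.trans (Subgroup.equivMapOfInjective _ ι hinj)
    have := hZn
    let g : L →* MulAut Q := (MulAut.congr ez.symm).toMonoidHom.comp (MulAut.conjNormal (H := Z))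
    have hge : ∀ (l : L) (z : Q), (ez (g l z) : L) = l * ez z * l⁻¹ := fun l z => by
      change ((ez (ez.symm _)) : L) = _
      rw [ez.apply_symm_apply]
      rfl
    have hrange : g.range = F.autGroup Q := by
      refine le_antisymm ?_ fun γ hγ => ?_
      · rintro _ ⟨l, rfl⟩
        refine (mem_autGroup_iff F hQS).2 ?_
        have h1 := (hreal Q hQT (Q.subtype.comp (g l).toMonoidHom) fun z => hQT (g l z).2).2
          ⟨l, fun z => hge l z⟩
        exact h1.1
      · have h1 : γ ∈ (normSys F Q (rfl : (normalizerIn S Q) = _) hQS).autGroup Q :=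
          Subgroup.subset_closure (mem_normalizerHom_self hQS hγ)
        obtain ⟨l, hl⟩ := (hreal Q hQT _ fun z => hQT (γ z).2).1 ((mem_autGroup_iff _ hQT).1 h1).mem
        exact ⟨l, MulEquiv.ext fun z => ez.injective (Subtype.ext ((hge l z).trans (hl z).symm))⟩
    have hinn : Z.map g = Inn Q := by
      rw [inn_eq]
      ext γ
      rw [mem_autInducedBy_iff]
      constructor
      · rintro ⟨_, ⟨q, hq, rfl⟩, rfl⟩
        refine ⟨q, hq, fun z => congrArg (fun w : (normalizerIn S Q) => (w : Ω))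
          (hinj (a₁ := ⟨_, hQT (g (ι q) z).2⟩) (a₂ := q * ⟨z, hQT z.2⟩ * q⁻¹) ?_)⟩
        rw [map_mul, map_mul, map_inv]
        exact hge (ι q) z
      · rintro ⟨q, hq, hqe⟩
        refine ⟨ι ⟨q, hQT hq⟩, ⟨_, hq, rfl⟩, MulEquiv.ext fun z => ez.injective (Subtype.ext ?_)⟩
        rw [hge]
        show ι ⟨q, hQT hq⟩ * ι ⟨z, hQT z.2⟩ * (ι ⟨q, hQT hq⟩)⁻¹ = ι ⟨(γ z : Q), hQT (γ z).2⟩
        rw [← map_inv, ← map_mul, ← map_mul]
        exact congrArg ι (Subtype.ext (hqe z).symm)
    have : Finite Q := finite_of_le hQS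
    set A := F.autGroup Q with hA
    let g' : L →* A := g.codRestrict A fun l => hrange.le ⟨l, rfl⟩
    have hg' : Function.Surjective g' := fun γ => by
      obtain ⟨l, hl⟩ := hrange.ge γ.2
      exact ⟨l, Subtype.ext hl⟩
    have hker : g'.ker ≤ Z := by
      intro c hc
      have hcz : c ∈ Subgroup.centralizer (Z : Set L) := Subgroup.mem_centralizer_iff.2 fun y hy => by
        obtain ⟨z, rfl⟩ : ∃ z, (ez z : L) = y := ⟨ez.symm ⟨y, hy⟩, by rw [ez.apply_symm_apply]⟩
        have h1 := hge c z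
        rw [show g c = 1 from congrArg Subtype.val hc, MulAut.one_apply] at h1
        exact (mul_inv_eq_iff_eq_mul.1 h1.symm).symm
      obtain ⟨s, hs, hse⟩ := centralizer_img_le_of_isModel (hS.to_le hTS) hM
        (isNormal_normSys_self rfl hQS) (isCentric_normSys_self' rfl hQS hQc) hcz
      exact ⟨s, (isCentric_normSys_self' rfl hQS hQc).2 Q (isConj_refl hQT) hs, hse⟩
    set K := (pCore p A).comap g' with hK
    have hKp : IsPGroup p K := by
      intro x
      obtain ⟨i, hi⟩ := Cores.isPGroup_pCore p (G := A) ⟨g' x, x.2⟩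
      have h1 : (x : L) ^ p ^ i ∈ g'.ker := by
        rw [MonoidHom.mem_ker, map_pow]
        exact congrArg Subtype.val hi
      obtain ⟨l, hl⟩ := Cores.isPGroup_pCore p (G := L) ⟨_, hZO (hker h1)⟩
      refine ⟨i + l, Subtype.ext ?_⟩
      rw [SubgroupClass.coe_pow, OneMemClass.coe_one, pow_add, pow_mul]
      exact congrArg Subtype.val hl
    have hKZ : K ≤ Z := hOZ ▸ Cores.le_pCore (hn := (inferInstance : (pCore p A).Normal).comap g') hKp
    refine le_antisymm ?_ ?_
    · rw [← hinn]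
      rintro _ ⟨γ, hγ, rfl⟩
      obtain ⟨l, rfl⟩ := hg' γ
      exact ⟨l, hKZ hγ, rfl⟩
    · rw [← hinn, ← hOZ]
      rintro _ ⟨l, hl, rfl⟩
      refine ⟨g' l, ?_, rfl⟩
      have : ((pCore p L).map g').Normal := (inferInstance : (pCore p L).Normal).map g' hg'
      exact Cores.le_pCore ((Cores.isPGroup_pCore p (G := L)).map g') ⟨l, hl, rfl⟩
  · -- the model embeds in the model at a larger subgroup
    have hRc : F.IsCentric R := CfsgLib.Fusion.isCentric_of_le hQR (hRT.trans hTS) hQc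
    have hRS := hRT.trans hTS
    have := finite_of_le hRS
    have hT₁n : (normalizerIn S Q) ≤ normalizerIn S R := fun y hy => ⟨hTS hy, by
      refine mem_normalizer_of_forall fun x hx => ?_
      have h1 : ι (⟨y, hy⟩ * ⟨x, hRT hx⟩ * ⟨y, hy⟩⁻¹) ∈ pCore p L := by
        rw [map_mul, map_mul, map_inv]
        exact (inferInstance : (pCore p L).Normal).conj_mem _ (hRι.le ⟨_, hx, rfl⟩) _
      obtain ⟨w, hw, hwe⟩ := hRι.ge h1
      rw [hinj hwe] at hw
      exact hw⟩
    obtain ⟨P'', hP'', L₁, _, ι₁, χ, hn'', hconj, hM₁, hχ, hχN, hχP⟩ := exists_transport_data hS hF hRc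
    have hbot : S = normalizerIn S (⊥ : Subgroup Ω) :=
      normalizerIn_normal (fun s _ => by rw [Subgroup.normalizer_eq_top]; trivial)
    have hbotn : F.IsFullyNormalized ⊥ :=
      ⟨bot_le, fun R' _ => hbot ▸ Subgroup.card_le_of_le (normalizerIn_le R')⟩
    have heq := normSys_bot_eq (F := F) hbot
    have hext : ∀ M : Subgroup Ω, ∀ φ ∈ (normSys F ⊥ hbot bot_le).normalizerHom Q M,
        ∃ W : Subgroup Ω, ∃ hMW : M ≤ W, R ≤ W ∧ ∃ ψ ∈ F.Hom W,
          (∀ x : M, ψ (Subgroup.inclusion hMW x) = φ x) ∧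
            img ψ R = R ∧ img ψ Q = Q ∧ img ψ (⊥ : Subgroup Ω) = ⊥ := by
      intro M φ hφ
      rw [heq] at hφ
      obtain ⟨g, hg⟩ := (hreal M hφ.2.1 φ hφ.2.2.1).1 hφ
      have hW : M ⊔ R ≤ (normalizerIn S Q) := sup_le hφ.2.1 hRT
      obtain ⟨ψ, hψ, hψS, hψe⟩ := exists_map_of_conj ⟨hinj, hreal⟩ hW (g := g) fun x => by
        have hle : M ⊔ R ≤ (((ι.range.comap (MulAut.conj g).toMonoidHom).comap ι).map (normalizerIn S Q).subtype) :=
          sup_le (fun y hy => ⟨⟨y, hφ.2.1 hy⟩, ⟨_, hg ⟨y, hy⟩⟩, rfl⟩)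
            fun y hy => ⟨⟨y, hRT hy⟩, hOr ((inferInstance : (pCore p L).Normal).conj_mem _
              (hRι.le ⟨_, hy, rfl⟩) g), rfl⟩
        obtain ⟨z, hz, hze⟩ := hle x.2
        rw [show (⟨(x : Ω), hW x.2⟩ : (normalizerIn S Q)) = z from Subtype.ext hze.symm]
        exact hz
      have hψi := F.injective_of_mem hψ.1
      have hstab : ∀ A : Subgroup Ω, A ≤ (normalizerIn S Q) → ((A.subgroupOf (normalizerIn S Q)).map ι).Normal →
          ∀ x : ↥(M ⊔ R), (x : Ω) ∈ A → ψ x ∈ A := by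
        intro A hA hAn x hx
        obtain ⟨w, hw, hwe⟩ := hAn.conj_mem _ ⟨⟨x, hA hx⟩, hx, rfl⟩ g
        have h1 : ι ⟨ψ x, hψS x⟩ = ι w := (hψe x).trans hwe.symm
        rw [← hinj h1] at hw
        exact hw
      refine ⟨M ⊔ R, le_sup_left, le_sup_right, ψ, hψ.1,
        fun x => congrArg Subtype.val (hinj (a₁ := ⟨_, hψS (Subgroup.inclusion le_sup_left x)⟩)
          (a₂ := ⟨φ x, hφ.2.2.1 x⟩) ((hψe _).trans (hg x).symm)), ?_, ?_, ?_⟩
      · exact img_eq_of_apply_mem hψi le_sup_right hRS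
          (hstab R hRT (by rw [hRι]; infer_instance))
      · exact img_eq_of_apply_mem hψi (hQR.trans le_sup_right) hQS (hstab Q hQT hZn)
      · exact img_eq_of_apply_mem (S := S) hψi bot_le bot_le fun x hx => by
          rw [Subgroup.mem_bot] at hx ⊢
          rw [show x = 1 from Subtype.ext hx, map_one]
    obtain ⟨K, j, hj⟩ := exists_submodel hS hF hbot bot_le hbotn (T₁ := normalizerIn S Q) (P := Q) rfl hQS
      (by rw [heq]; exact hQc) (by rw [heq]; exact hQn) bot_le hQR hRS hT₁n hRc hext hM₁ hχ hχN hχP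
    have hK : Involves H K := by
      have heq' : normSys (normSys F ⊥ hbot bot_le) Q rfl hQS = normSys F Q rfl hQS :=
        ext_hom fun P => by
          show (normSys F ⊥ hbot bot_le).normalizerHom Q P = F.normalizerHom Q P
          rw [heq]
      rw [heq'] at hj
      exact involves_of_isModel hS rfl hQS (isCentric_normSys_self' rfl hQS hQc) hM hj hinv
    refine ih (Nat.card S - Nat.card P'') ?_ P'' le_rfl hn''
      (CfsgLib.Fusion.isCentric_of_isConj hRc hconj) _ (fun _ => rfl) L₁ ι₁ hM₁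
      (CfsgLib.LocalEven.Offender.involves_of_injective K.subtype K.subtype_injective hK)
    have h1 : Nat.card Q < Nat.card R :=
      lt_of_le_of_ne (Subgroup.card_le_of_le hQR) fun e => hlt.ne (Subgroup.eq_of_le_of_card_ge hQR e.ge)
    have h2 := card_eq_of_isConj hconj
    have h3 := Subgroup.card_le_of_le hP''
    omega

end CfsgLib.Transfer
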