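import Cfsg.Agent.Lib.Transfer.ReducedModel
import Cfsg.Agent.Lib.Transfer.SectionFree
import Cfsg.Agent.Lib.Fusion.FunctorCore

/-!
Freeness of a section passes to factor systems.
-/

set_option autoImplicit false

open Cfsg Cfsg.FusionSystem

namespace CfsgLib.Transfer

open CfsgLib.Fusion

universe u u' v

variable {p : ℕ} [Fact p.Prime] {H : Type v} [Group H] {Ω : Type u} [Group Ω] {S : Subgroup Ω}
  [Finite S] {F : FusionSystem S} {Ω' : Type u'} [Group Ω'] {S' : Subgroup Ω'} {θ : S →* Ω'}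
  {E : FusionSystem S'}

omit [Fact p.Prime] in
/-- The preimage of a centric subgroup of a factor system is centric. -/
theorem isCentric_preimageAlong_hetero {X : Subgroup Ω} (hX : F.StronglyClosed X)
    (hE : F.IsFactorSystem X θ E) (hθ : F.IsSurjectiveMorphism E θ) {Q' : Subgroup Ω'}
    (hQ' : E.IsCentric Q') : F.IsCentric (preimageAlong θ Q') := by
  refine ⟨preimageAlong_le θ Q', ?_⟩
  intro R hR c hc
  obtain ⟨φ, hφ, rfl⟩ := hR
  obtain ⟨φ', hφ', hP, hφS, hθP, hφe⟩ := hθ.1.2 _ φ hφ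
  obtain ⟨χ, hχ, hχe⟩ := mem_of_eq_sup
    (CfsgLib.Transfer.imageAlong_preimageAlong (θ := θ) (hQ'.1.trans hθ.2.1.ge)) hφ'
  have h1 : θ ⟨c, hc.1⟩ ∈ χ.range := by
    refine hQ'.2 _ ⟨χ, hχ, rfl⟩ ⟨hθ.2.1.le ⟨_, rfl⟩, ?_⟩
    rintro _ ⟨⟨y, hy⟩, rfl⟩
    obtain ⟨s, rfl⟩ := hθ.2.1.ge (hQ'.1 hy)
    have hs : (s : Ω) ∈ preimageAlong θ Q' := mem_preimageAlong.2 hy
    have h2 : χ ⟨θ s, hy⟩ = θ ⟨φ ⟨s, hs⟩, hφS _⟩ := (hχe _).trans (hφe ⟨s, hs⟩)
    rw [h2, ← map_mul, ← map_mul]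
    exact congrArg θ (Subtype.ext (hc.2 _ ⟨⟨s, hs⟩, rfl⟩))
  obtain ⟨⟨y, hy⟩, hye⟩ := h1
  obtain ⟨s, rfl⟩ := hθ.2.1.ge (hQ'.1 hy)
  have hs : (s : Ω) ∈ preimageAlong θ Q' := mem_preimageAlong.2 hy
  have h2 : θ ⟨φ ⟨s, hs⟩, hφS _⟩ = θ ⟨c, hc.1⟩ := ((hχe _).trans (hφe ⟨s, hs⟩)).symm.trans hye
  have h3 : (((⟨φ ⟨s, hs⟩, hφS _⟩ : S)⁻¹ * ⟨c, hc.1⟩ : S) : Ω) ∈ X :=
    (hE.2.1 _).1 (by rw [map_mul, map_inv, h2, inv_mul_cancel])
  have h4 := img_le_range φ X ((img_stronglyClosed_eq hX hφ (le_preimageAlong hE Q')).ge h3)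
  simpa using φ.range.mul_mem (show φ ⟨s, hs⟩ ∈ φ.range from ⟨_, rfl⟩) h4

omit [Fact p.Prime] in
theorem normalizerIn_preimageAlong_hetero {X : Subgroup Ω} (hE : F.IsFactorSystem X θ E)
    (Q' : Subgroup Ω') (hQ' : Q' ≤ S') :
    normalizerIn S (preimageAlong θ Q') = preimageAlong θ (normalizerIn S' Q') := by
  refine le_antisymm ?_ ?_
  · rintro g ⟨hgS, hg⟩
    refine (mem_preimageAlong (θ := θ) (s := ⟨g, hgS⟩)).2 ⟨hE.2.2.1.le ⟨_, rfl⟩, ?_⟩
    have hfin : Finite S' := by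
      have := hE.2.2.1
      subst this
      exact Finite.of_surjective θ.rangeRestrict θ.rangeRestrict_surjective
    have := finite_of_le hQ'
    refine mem_normalizer_of_forall fun y hy => ?_
    obtain ⟨s, rfl⟩ := hE.2.2.1.ge (hQ' hy)
    rw [← map_inv, ← map_mul, ← map_mul]
    exact mem_preimageAlong.1 (conj_mem_of_mem_normalizer hg (mem_preimageAlong.2 hy))
  · rintro g ⟨s, hs, rfl⟩
    exact ⟨s.2, le_normalizer_preimageAlong hE hs.2⟩

/-- The preimage of a fully normalized subgroup is fully normalized. -/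
theorem isFullyNormalized_preimageAlong_hetero {X : Subgroup Ω}
    (hX : F.StronglyClosed X)
    (hE : F.IsFactorSystem X θ E) (hθ : F.IsSurjectiveMorphism E θ) {Q' : Subgroup Ω'}
    (hQ' : E.IsFullyNormalized Q') : F.IsFullyNormalized (preimageAlong θ Q') := by
  have hcard : ∀ A' : Subgroup Ω', A' ≤ S' → Nat.card (preimageAlong θ A') =
      Nat.card X * Nat.card A' := by
    intro A' hA'
    let π : preimageAlong θ A' →* A' :=
      (θ.comp (Subgroup.inclusion (preimageAlong_le θ A'))).codRestrict A' fun x =>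
        (mem_preimageAlong (θ := θ) (s := ⟨x, preimageAlong_le θ A' x.2⟩)).1 x.2
    have hπ : Function.Surjective π := by
      rintro ⟨y, hy⟩
      obtain ⟨s, rfl⟩ := hθ.2.1.ge (hA' hy)
      exact ⟨⟨s, mem_preimageAlong.2 hy⟩, rfl⟩
    have hker : π.ker = X.subgroupOf (preimageAlong θ A') := by
      ext x
      rw [MonoidHom.mem_ker, Subgroup.mem_subgroupOf]
      exact Subtype.ext_iff.trans (hE.2.1 ⟨x, preimageAlong_le θ A' x.2⟩)
    rw [← Subgroup.card_mul_index π.ker, Subgroup.index_ker, π.range_eq_top.2 hπ,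
      Subgroup.card_top, hker,
      Nat.card_congr (Subgroup.subgroupOfEquivOfLe (le_preimageAlong hE A')).toEquiv]
  refine ⟨preimageAlong_le θ Q', ?_⟩
  intro R hR
  obtain ⟨φ, hφ, rfl⟩ := hR
  obtain ⟨φ', hφ', hP, hφS, hθP, hφe⟩ := hθ.1.2 _ φ hφ
  obtain ⟨χ, hχ, hχe⟩ := mem_of_eq_sup
    (CfsgLib.Transfer.imageAlong_preimageAlong (θ := θ) (hQ'.1.trans hθ.2.1.ge)) hφ'
  have hr : φ.range = preimageAlong θ χ.range := by
    refine le_antisymm ?_ ?_
    · rintro _ ⟨x, rfl⟩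
      refine (mem_preimageAlong (θ := θ) (s := ⟨φ x, hφS x⟩)).2
        ⟨⟨_, (mem_preimageAlong (θ := θ) (s := ⟨x, hP x.2⟩)).1 x.2⟩, ?_⟩
      exact (hχe _).trans (hφe x)
    · rintro _ ⟨s, ⟨⟨y, hy⟩, hye⟩, rfl⟩
      obtain ⟨t, rfl⟩ := hθ.2.1.ge (hQ'.1 hy)
      have ht : (t : Ω) ∈ preimageAlong θ Q' := mem_preimageAlong.2 hy
      have h2 : θ ⟨φ ⟨t, ht⟩, hφS _⟩ = θ s := ((hχe _).trans (hφe ⟨t, ht⟩)).symm.trans hye
      have h3 : (((⟨φ ⟨t, ht⟩, hφS _⟩ : S)⁻¹ * s : S) : Ω) ∈ X :=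
        (hE.2.1 _).1 (by rw [map_mul, map_inv, h2, inv_mul_cancel])
      have h4 := img_le_range φ X ((img_stronglyClosed_eq hX hφ (le_preimageAlong hE Q')).ge h3)
      simpa using φ.range.mul_mem (show φ ⟨t, ht⟩ ∈ φ.range from ⟨_, rfl⟩) h4
  rw [hr, normalizerIn_preimageAlong_hetero hE _ (range_le_S E hχ), normalizerIn_preimageAlong_hetero hE _ hQ'.1,
    hcard _ (normalizerIn_le _), hcard _ (normalizerIn_le _)]
  exact Nat.mul_le_mul_left _ (hQ'.2 _ ⟨χ, hχ, rfl⟩)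

/-- Freeness passes to factor systems. -/
theorem isSectionFree_factor (hS : IsPGroup p S) (hF : F.IsSaturated p) (hfree : F.IsSectionFree p H)
    {X : Subgroup Ω} (hX : F.IsNormal X) (hE : F.IsFactorSystem X θ E) : E.IsSectionFree p H := by
  intro Q' hQ'n hQ'c N' hN' L₀ _ ι₀ hM₀ hinv
  classical
  have hsc := stronglyClosed_of_isNormal hX
  have hθ := isSurjectiveMorphism_of_isFactorSystem hS hF hsc hE
  have hQ'S := hQ'n.1
  obtain rfl : N' = normSys E Q' rfl hQ'S := ext_hom hN'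
  set Q := preimageAlong θ Q' with hQdef
  have hXQ : X ≤ Q := le_preimageAlong hE Q'
  have hQc : F.IsCentric Q := isCentric_preimageAlong_hetero hsc hE hθ hQ'c
  have hQn : F.IsFullyNormalized Q := isFullyNormalized_preimageAlong_hetero hsc hE hθ hQ'n
  have hQS := hQn.1
  set N := normSys F Q (rfl : normalizerIn S Q = _) hQS with hNdef
  have hN : F.IsNormalizerSystem Q N := fun _ => rfl
  have : Finite (normalizerIn S Q) := finite_of_le (normalizerIn_le Q)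
  obtain ⟨L, _, ι, hM⟩ := exists_model_of_normal_centric (hS.to_le (normalizerIn_le Q))
    (isSaturated_normSys hS hF rfl hQS hQn) (isNormal_normSys_self rfl hQS)
    (isCentric_normSys_self' rfl hQS hQc)
  have hL := hfree Q hQn hQc N hN L ι hM
  have hM' := hM
  obtain ⟨hLfin, ⟨hι, hreal⟩, ⟨P₀, hP₀⟩, -⟩ := hM'
  have hXNS : X ≤ normalizerIn S Q := hXQ.trans (le_normalizerIn hQS)
  have := finite_of_le (normalizerIn_le (S := S) Q)
  have hSN : IsPGroup p ↥(normalizerIn S Q) := hS.to_le (normalizerIn_le Q)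
  have hNQ : N.IsNormal Q := isNormal_normSys_self rfl hQS
  have hXN : N.IsNormal X := by
    refine ⟨hXNS, fun P φ hφ => ?_⟩
    obtain ⟨ψ, hψ, hψe, -⟩ := hNQ.2 P φ hφ
    refine ⟨_, res_mem N hψ (sup_le_sup_left hXQ P), hψe, ?_⟩
    rw [hN] at hψ
    exact (img_res ψ (sup_le_sup_left hXQ P) le_sup_right).trans
      (img_stronglyClosed_eq hsc hψ.1 (hXQ.trans le_sup_right))
  let Z : Subgroup L := (X.subgroupOf (normalizerIn S Q)).map ι
  have hZn : Z.Normal := map_normal_of_isModel hM hXN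
  let q : L →* L ⧸ Z := QuotientGroup.mk' Z
  -- the embedding of `N_{S'}(Q')`
  let π : normalizerIn S Q →* normalizerIn S' Q' :=
    (θ.comp (Subgroup.inclusion (normalizerIn_le Q))).codRestrict _ fun x =>
      (mem_preimageAlong (θ := θ) (s := ⟨x, normalizerIn_le Q x.2⟩)).1
        ((normalizerIn_preimageAlong_hetero hE Q' hQ'S).le x.2)
  have hπ : Function.Surjective π := by
    rintro ⟨y, hy⟩
    obtain ⟨s, rfl⟩ := hθ.2.1.ge hy.1
    exact ⟨⟨s, (normalizerIn_preimageAlong_hetero hE Q' hQ'S).ge (mem_preimageAlong.2 hy)⟩, rfl⟩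
  have hkerπ : ∀ x, π x = 1 ↔ (x : Ω) ∈ X := fun x =>
    Subtype.ext_iff.trans (hE.2.1 ⟨x, normalizerIn_le Q x.2⟩)
  have hkerq : ∀ x, q (ι x) = 1 ↔ (x : Ω) ∈ X := by
    intro x
    refine (QuotientGroup.eq_one_iff _).trans ⟨?_, fun h => ⟨x, h, rfl⟩⟩
    rintro ⟨y, hy, hye⟩
    rw [← hι hye]
    exact hy
  have hle : π.ker ≤ (q.comp ι).ker := fun x hx =>
    MonoidHom.mem_ker.2 ((hkerq x).2 ((hkerπ x).1 hx))
  let κ : normalizerIn S' Q' →* L ⧸ Z := π.liftOfSurjective hπ ⟨q.comp ι, hle⟩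
  have hκ : ∀ x, κ (π x) = q (ι x) :=
    π.liftOfRightInverse_comp_apply _ (Function.rightInverse_surjInv hπ) ⟨q.comp ι, hle⟩
  have hκi : Function.Injective κ := by
    rw [injective_iff_map_eq_one]
    intro y hy
    obtain ⟨x, rfl⟩ := hπ y
    exact (hkerπ x).2 ((hkerq x).1 ((hκ x).symm.trans hy))
  have hq : Function.Surjective q := QuotientGroup.mk'_surjective Z
  have hκr : κ.range = ι.range.map q := by
    ext y
    constructor
    · rintro ⟨z, rfl⟩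
      obtain ⟨x, rfl⟩ := hπ z
      exact ⟨ι x, ⟨x, rfl⟩, (hκ x).symm⟩
    · rintro ⟨_, ⟨x, rfl⟩, rfl⟩
      exact ⟨π x, hκ x⟩
  have hr : (normSys E Q' (rfl : normalizerIn S' Q' = _) hQ'S).IsRealizedBy κ := by
    refine ⟨hκi, ?_⟩
    intro P' hP' φ' hφP'
    have hP'S : P' ≤ S' := hP'.trans (normalizerIn_le Q')
    have hπθ : ∀ (x : normalizerIn S Q), (π x : Ω') = θ ⟨x, normalizerIn_le Q x.2⟩ := fun _ => rfl
    constructor
    · intro hφ'
      obtain ⟨φ, hφ, hP, hφS, hθP, hφe⟩ := exists_lift_normalizerHom hE hQ'S hφ'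
      obtain ⟨g, hg⟩ := (hreal _ hφ.2.1 φ hφ.2.2.1).1 ((hN _).ge hφ)
      refine ⟨q g, fun y => ?_⟩
      obtain ⟨s, hs⟩ := hθ.2.1.ge (hP'S y.2)
      have hsP : (s : Ω) ∈ preimageAlong θ P' := mem_preimageAlong.2 (hs ▸ y.2)
      have h1 : (⟨φ' y, hφP' y⟩ : normalizerIn S' Q') = π ⟨φ ⟨s, hsP⟩, hφ.2.2.1 _⟩ := by
        refine Subtype.ext ?_
        rw [hπθ]
        exact (congrArg φ' (Subtype.ext hs.symm)).trans (hφe ⟨s, hsP⟩)
      have h2 : (⟨y, hP' y.2⟩ : normalizerIn S' Q') = π ⟨s, hφ.2.1 hsP⟩ := by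
        refine Subtype.ext ?_
        rw [hπθ]
        exact hs.symm
      rw [h1, h2, hκ, hκ, hg ⟨s, hsP⟩, map_mul, map_mul, map_inv]
    · rintro ⟨m, hm⟩
      obtain ⟨g, rfl⟩ := hq m
      set P := preimageAlong θ P'
      have hP : P ≤ normalizerIn S Q := fun x hx =>
        (normalizerIn_preimageAlong_hetero hE Q' hQ'S).ge (Subgroup.map_mono (Subgroup.comap_mono hP') hx)
      obtain ⟨φ, hφ, hφS, hφe⟩ := exists_map_of_conj (ι := ι) ⟨hι, hreal⟩ hP (g := g) fun x => by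
        have hxP' : θ ⟨x, preimageAlong_le θ P' x.2⟩ ∈ P' :=
          (mem_preimageAlong (θ := θ) (s := ⟨x, preimageAlong_le θ P' x.2⟩)).1 x.2
        obtain ⟨w, hw⟩ := hπ ⟨φ' ⟨_, hxP'⟩, hφP' _⟩
        have h1 : q (g * ι ⟨x, hP x.2⟩ * g⁻¹) = q (ι w) := by
          rw [← hκ w, hw, hm, map_mul, map_mul, map_inv, ← hκ]
          rfl
        obtain ⟨z, hz, hze⟩ := (QuotientGroup.eq.1 h1.symm : (ι w)⁻¹ * _ ∈ Z)
        exact ⟨w * z, by rw [map_mul, hze, mul_inv_cancel_left]⟩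
      rw [hN] at hφ
      have hind : ∀ (x : P) (hx : θ ⟨x, normalizerIn_le Q (hP x.2)⟩ ∈ P'),
          φ' ⟨_, hx⟩ = θ ⟨φ x, normalizerIn_le Q (hφS x)⟩ := by
        intro x hx
        have h1 : κ ⟨φ' ⟨_, hx⟩, hφP' _⟩ = κ (π ⟨φ x, hφS x⟩) := by
          rw [hm, hκ, hφe, map_mul, map_mul, map_inv, ← hκ]
          rfl
        exact congrArg Subtype.val (hκi h1)
      -- extend to `P' ⊔ Q'`
      obtain ⟨-, -, -, ψ, hψ, hψe, hψQ⟩ := hφ
      obtain ⟨ψ', hψ', hM₀, hψS, hθM, hψ'e⟩ := hθ.1.2 _ ψ hψ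
      have hP'M : P' ≤ imageAlong θ (P ⊔ Q) := by
        intro y hy
        obtain ⟨s, rfl⟩ := hθ.2.1.ge (hP'S hy)
        exact ⟨s, le_sup_left (b := Q) (show (s : Ω) ∈ P from mem_preimageAlong.2 hy), rfl⟩
      have hQ'M : Q' ≤ imageAlong θ (P ⊔ Q) := by
        intro y hy
        obtain ⟨s, rfl⟩ := hθ.2.1.ge (hQ'S hy)
        exact ⟨s, le_sup_right (a := P) (show (s : Ω) ∈ Q from mem_preimageAlong.2 hy), rfl⟩
      have hfin : Finite S' := by
        have := hθ.2.1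
        subst this
        exact Finite.of_surjective θ.rangeRestrict θ.rangeRestrict_surjective
      refine mem_normalizerHom_of_img hψ' hP'M hQ'M ?_ (fun y => ?_) hP' hφP'
      · have := finite_of_le hQ'S
        refine Subgroup.eq_of_le_of_card_ge ?_ (card_img (E.injective_of_mem hψ') hQ'M).ge
        intro y hy
        obtain ⟨x, hx, rfl⟩ := mem_img.1 hy
        obtain ⟨s, hs, hse⟩ := x.2
        have hsM : (s : Ω) ∈ P ⊔ Q := hs
        have h2 : (x : imageAlong θ (P ⊔ Q)) = ⟨_, hθM ⟨s, hsM⟩⟩ := Subtype.ext hse.symm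
        rw [h2, hψ'e ⟨s, hsM⟩]
        refine mem_preimageAlong.1 ?_
        refine (show img ψ Q = Q from hψQ).le (apply_mem_img ψ (x := ⟨s, hsM⟩) ?_)
        exact mem_preimageAlong.2 (hse ▸ hx)
      · obtain ⟨s, hs⟩ := hθ.2.1.ge (hP'S y.2)
        have hsP : (s : Ω) ∈ P := mem_preimageAlong.2 (hs ▸ y.2)
        have hθsP' : θ ⟨s, normalizerIn_le Q (hP hsP)⟩ ∈ P' := mem_preimageAlong.1 hsP
        rw [show y = ⟨_, hθsP'⟩ from Subtype.ext hs.symm, hind ⟨s, hsP⟩]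
        refine Eq.trans (congrArg ψ' (Subtype.ext rfl))
          ((hψ'e ⟨s, le_sup_left (b := Q) hsP⟩).trans ?_)
        exact congrArg θ (Subtype.ext (hψe ⟨s, hsP⟩))
  have hTp : IsPGroup p (normalizerIn S' Q') := hSN.of_surjective π hπ
  have hQ'T : Q' ≤ normalizerIn S' Q' := CfsgLib.Fusion.le_normalizerIn hQ'S
  have hQ₁n : ((Q.subgroupOf (normalizerIn S Q)).map ι).Normal := map_normal_of_isModel hM hNQ
  have hκn : ((Q'.subgroupOf (normalizerIn S' Q')).map κ).Normal := by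
    have h1 : (Q'.subgroupOf (normalizerIn S' Q')).map κ =
        ((Q.subgroupOf (normalizerIn S Q)).map ι).map q := by
      ext y
      constructor
      · rintro ⟨w, hw, rfl⟩
        obtain ⟨x, rfl⟩ := hπ w
        exact ⟨ι x, ⟨x, (mem_preimageAlong (θ := θ) (s := ⟨x, normalizerIn_le Q x.2⟩)).2 hw, rfl⟩, (hκ x).symm⟩
      · rintro ⟨_, ⟨x, hx, rfl⟩, rfl⟩
        exact ⟨π x, (mem_preimageAlong (θ := θ) (s := ⟨x, normalizerIn_le Q x.2⟩)).1 hx, hκ x⟩
    rw [h1]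
    exact hQ₁n.map q hq
  have hc' : centralizerIn (normalizerIn S' Q') Q' ≤ Q' := fun y hy =>
    hQ'c.2 Q' (isConj_refl hQ'S) ⟨hy.1.1, hy.2⟩
  have hmodel := isModel_reduced hTp hQ'T hc' hr (P₀.mapSurjective hq)
    (by rw [Sylow.coe_mapSurjective, hP₀, hκr]) hκn
  have hfin' : Finite S' := by
    have := hθ.2.1
    subst this
    exact Finite.of_surjective θ.rangeRestrict θ.rangeRestrict_surjective
  have : Finite (normalizerIn S' Q') := finite_of_le (normalizerIn_le Q')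
  obtain ⟨e, -⟩ := exists_equiv_of_isModel hTp (isNormal_normSys_self rfl hQ'S)
    (isCentric_normSys_self' rfl hQ'S hQ'c) hM₀ hmodel
  exact hL (CfsgLib.LocalEven.Offender.involves_of_surjective q hq
    (CfsgLib.LocalEven.Offender.involves_of_surjective _ (QuotientGroup.mk'_surjective _)
      (involves_of_equiv e hinv)))

end CfsgLib.Transfer
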