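import Cfsg.Prelude.Def_PLocal
import Cfsg.Agent.Lib.PGroup.Basic

/-!
Regular `p`-groups: the criterion with exponent `p` and the power structure.
-/

namespace CfsgLib.Transfer

open Cfsg Subgroup
open scoped commutatorElement

variable {G : Type*} [Group G] {p : ℕ}

theorem powerClosure_map {H : Type*} [Group H] (f : G →* H) (K : Subgroup G) (n : ℕ) :
    (powerClosure p n K).map f = powerClosure p n (K.map f) := by
  rw [powerClosure, powerClosure, MonoidHom.map_closure]
  congr 1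
  ext y
  constructor
  · rintro ⟨_, ⟨x, hx, rfl⟩, rfl⟩
    exact ⟨f x, mem_map_of_mem f hx, map_pow f x _⟩
  · rintro ⟨_, ⟨x, hx, rfl⟩, rfl⟩
    exact ⟨x ^ p ^ n, ⟨x, hx, rfl⟩, map_pow f x _⟩

theorem powerClosure_mono {H K : Subgroup G} (h : H ≤ K) (n : ℕ) :
    powerClosure p n H ≤ powerClosure p n K :=
  closure_mono fun _ ⟨x, hx, e⟩ => ⟨x, h hx, e⟩

theorem pow_mem_powerClosure {H : Subgroup G} {x : G} (hx : x ∈ H) (n : ℕ) :
    x ^ p ^ n ∈ powerClosure p n H :=
  subset_closure ⟨x, hx, rfl⟩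

/-- Regularity with exponent `p` only. -/
def RegOne (p : ℕ) (G : Type*) [Group G] : Prop :=
  IsPGroup p G ∧ ∀ a b : G,
    ∃ c ∈ powerClosure p 1 ⁅closure ({a, b} : Set G), closure ({a, b} : Set G)⁆,
      (a * b) ^ p = a ^ p * b ^ p * c

theorem regOne_of_regular (h : IsRegularPGroup p G) : RegOne p G := by
  refine ⟨h.1, fun a b => ?_⟩
  have := h.2 a b 1
  simpa using this

theorem RegOne.subgroup (h : RegOne p G) (H : Subgroup G) : RegOne p H := by
  refine ⟨h.1.to_subgroup H, fun a b => ?_⟩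
  obtain ⟨c, hc, e⟩ := h.2 (a : G) (b : G)
  have hmap : (closure ({a, b} : Set H)).map H.subtype = closure ({(a : G), (b : G)} : Set G) := by
    rw [MonoidHom.map_closure, Set.image_pair]
    rfl
  rw [← hmap, ← map_commutator, ← powerClosure_map] at hc
  obtain ⟨c', hc', rfl⟩ := hc
  exact ⟨c', hc', Subtype.ext (by simpa using e)⟩

variable [Finite G] [hp : Fact p.Prime]

theorem exists_pow_eq_mul (h : RegOne p G) :
    ∀ H : Subgroup G, ∀ a ∈ H, ∀ b ∈ H, ∃ e ∈ H, a ^ p * b ^ p = e ^ p := by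
  intro H
  induction hn : Nat.card H using Nat.strong_induction_on generalizing H with
  | _ n IH =>
  intro a ha b hb
  by_cases hab : Commute a b
  · exact ⟨a * b, mul_mem ha hb, (hab.mul_pow p).symm⟩
  obtain ⟨c, hc, e⟩ := h.2 a b
  set L := closure ({a, b} : Set G) with hL
  have hLH : L ≤ H := (closure_le H).2 (by rintro _ (rfl | rfl) <;> assumption)
  have haL : a ∈ L := subset_closure (Or.inl rfl)
  have hbL : b ∈ L := subset_closure (Or.inr rfl)
  set K := zpowers (a * b) ⊔ ⁅L, L⁆ with hK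
  have hKL : K ≤ L := sup_le (zpowers_le.2 (mul_mem haL hbL)) L.commutator_le_self
  have hKne : K ≠ L := by
    intro hKe
    have h1 : zpowers (⟨a * b, mul_mem haL hbL⟩ : L) ⊔ commutator L = ⊤ := by
      refine map_injective L.subtype_injective ?_
      rw [Subgroup.map_sup, MonoidHom.map_zpowers, map_subtype_commutator, ← MonoidHom.range_eq_map,
        range_subtype]
      exact hKe
    have h2 := CfsgLib.PGroup.eq_top_of_sup_frattini (top_le_iff.1
      (h1.ge.trans (sup_le_sup_left (CfsgLib.PGroup.commutator_le_frattini (h.1.to_subgroup L)) _)))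
    obtain ⟨i, hi⟩ := mem_zpowers_iff.1 (h2 ▸ mem_top (⟨a, haL⟩ : L))
    obtain ⟨j, hj⟩ := mem_zpowers_iff.1 (h2 ▸ mem_top (⟨b, hbL⟩ : L))
    have hi' : (a * b) ^ i = a := congrArg Subtype.val hi
    have hj' : (a * b) ^ j = b := congrArg Subtype.val hj
    apply hab
    have := Commute.zpow_zpow (Commute.refl (a * b)) i j
    rwa [hi', hj'] at this
  have hKn : Nat.card K < n := by
    rw [← hn]
    refine lt_of_lt_of_le (lt_of_le_of_ne (card_le_of_le hKL) fun hc =>
      hKne (eq_of_le_of_card_ge hKL hc.ge)) (card_le_of_le hLH)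
  have hD : Nat.card ↥(⁅L, L⁆ : Subgroup G) < n :=
    lt_of_le_of_lt (card_le_of_le le_sup_right) hKn
  have hcl : ∀ x ∈ powerClosure p 1 ⁅L, L⁆, ∃ d ∈ ⁅L, L⁆, x = d ^ p := by
    intro x hx
    induction hx using closure_induction with
    | mem y hy => obtain ⟨d, hd, rfl⟩ := hy; exact ⟨d, hd, by rw [pow_one]⟩
    | one => exact ⟨1, one_mem _, (one_pow p).symm⟩
    | mul y z _ _ hy hz =>
      obtain ⟨d, hd, rfl⟩ := hy
      obtain ⟨d', hd', rfl⟩ := hz
      exact IH _ hD _ rfl d hd d' hd'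
    | inv y _ hy =>
      obtain ⟨d, hd, rfl⟩ := hy
      exact ⟨d⁻¹, inv_mem hd, (inv_pow d p).symm⟩
  obtain ⟨d, hd, rfl⟩ := hcl c hc
  obtain ⟨f, hf, hfe⟩ := IH _ hKn K rfl (a * b) (mem_sup_left (mem_zpowers _)) d⁻¹
    (inv_mem (mem_sup_right hd))
  exact ⟨f, hLH (hKL hf), by rw [← hfe, e, inv_pow, mul_inv_cancel_right]⟩

/-- The `p^n`-th powers form a subgroup. -/
theorem mem_powerClosure_iff (h : RegOne p G) {H : Subgroup G} : ∀ {n : ℕ} {y : G},
    y ∈ powerClosure p n H ↔ ∃ x ∈ H, y = x ^ p ^ n := by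
  intro n
  suffices hcl : ∀ (H : Subgroup G), ∀ a ∈ H, ∀ b ∈ H, ∃ e ∈ H, a ^ p ^ n * b ^ p ^ n = e ^ p ^ n by
    intro y
    refine ⟨fun hy => ?_, fun ⟨x, hx, e⟩ => e ▸ pow_mem_powerClosure hx n⟩
    induction hy using closure_induction with
    | mem y hy => exact hy
    | one => exact ⟨1, one_mem _, (one_pow _).symm⟩
    | mul y z _ _ hy hz =>
      obtain ⟨d, hd, rfl⟩ := hy
      obtain ⟨d', hd', rfl⟩ := hz
      exact hcl H d hd d' hd'
    | inv y _ hy =>
      obtain ⟨d, hd, rfl⟩ := hy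
      exact ⟨d⁻¹, inv_mem hd, (inv_pow _ _).symm⟩
  induction n with
  | zero => intro H a ha b hb; exact ⟨a * b, mul_mem ha hb, by simp⟩
  | succ n ih =>
    intro H a ha b hb
    obtain ⟨e, he, hee⟩ := exists_pow_eq_mul h (powerClosure p n H) _ (pow_mem_powerClosure ha n) _
      (pow_mem_powerClosure hb n)
    obtain ⟨f, hf, rfl⟩ : ∃ x ∈ H, e = x ^ p ^ n := by
      clear hee
      induction he using closure_induction with
      | mem y hy => exact hy
      | one => exact ⟨1, one_mem _, (one_pow _).symm⟩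
      | mul y z _ _ hy hz =>
        obtain ⟨d, hd, rfl⟩ := hy
        obtain ⟨d', hd', rfl⟩ := hz
        exact ih H d hd d' hd'
      | inv y _ hy =>
        obtain ⟨d, hd, rfl⟩ := hy
        exact ⟨d⁻¹, inv_mem hd, (inv_pow _ _).symm⟩
    refine ⟨f, hf, ?_⟩
    rw [pow_succ, pow_mul, pow_mul, pow_mul]
    exact hee

theorem powerClosure_one_powerClosure_le (h : RegOne p G) (H : Subgroup G) (n : ℕ) :
    powerClosure p 1 (powerClosure p n H) ≤ powerClosure p (n + 1) H := by
  refine (closure_le _).2 ?_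
  rintro _ ⟨d, hd, rfl⟩
  obtain ⟨e, he, rfl⟩ := (mem_powerClosure_iff h).1 hd
  rw [← pow_mul, ← pow_add]
  exact pow_mem_powerClosure he _

omit [Finite G] hp in
theorem powerClosure_commutator_normal (n : ℕ) :
    (powerClosure p n ⁅(⊤ : Subgroup G), (⊤ : Subgroup G)⁆).Normal := by
  refine ⟨fun x hx g => ?_⟩
  have h2 : (powerClosure p n ⁅(⊤ : Subgroup G), (⊤ : Subgroup G)⁆).map (MulAut.conj g).toMonoidHom =
      powerClosure p n ⁅(⊤ : Subgroup G), (⊤ : Subgroup G)⁆ := by
    rw [powerClosure_map, map_commutator, map_top_of_surjective _ (MulAut.conj g).surjective]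
  rw [← h2]
  exact ⟨x, hx, rfl⟩

omit [Finite G] hp in
theorem commutator_closure_le {M : Subgroup G} [M.Normal] {s : Set G}
    (hs : ∀ x ∈ s, ∀ y ∈ s, ⁅x, y⁆ ∈ M) : ⁅closure s, closure s⁆ ≤ M := by
  set π := QuotientGroup.mk' M
  have : IsMulCommutative (closure (π '' s)) := isMulCommutative_closure (by
    rintro _ ⟨x, hx, rfl⟩ _ ⟨y, hy, rfl⟩
    rw [← commutatorElement_eq_one_iff_mul_comm, ← map_commutatorElement]
    exact (QuotientGroup.eq_one_iff _).2 (hs x hx y hy))
  rw [← QuotientGroup.ker_mk' M, ← Subgroup.map_eq_bot_iff, map_commutator, MonoidHom.map_closure,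
    commutator_eq_bot_iff_le_centralizer]
  intro x hx
  exact mem_centralizer_iff.2 fun y hy => congrArg Subtype.val (this.is_comm.comm ⟨y, hy⟩ ⟨x, hx⟩)

/-- `(uv)^p` modulo the `p`-th powers of a normal subgroup containing `[u,v]`. -/
theorem exists_mul_pow_eq (h : RegOne p G) {M : Subgroup G} [M.Normal] {u v : G} (huv : ⁅u, v⁆ ∈ M) :
    ∃ c ∈ powerClosure p 1 M, (u * v) ^ p = u ^ p * v ^ p * c := by
  obtain ⟨c, hc, e⟩ := h.2 u v
  refine ⟨c, powerClosure_mono (commutator_closure_le ?_) 1 hc, e⟩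
  rintro x (rfl | rfl) y (rfl | rfl) <;>
    first
      | (rw [commutatorElement_self]; exact one_mem _)
      | exact huv
      | (rw [← commutatorElement_inv]; exact inv_mem huv)

theorem commutator_pow_mem (h : RegOne p G) : ∀ (n : ℕ) (a b : G),
    ⁅a ^ p ^ n, b⁆ ∈ powerClosure p n ⁅(⊤ : Subgroup G), (⊤ : Subgroup G)⁆ := by
  intro n
  induction n with
  | zero =>
    intro a b
    simpa using pow_mem_powerClosure (p := p) (commutator_mem_commutator (mem_top a) (mem_top b)) 0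
  | succ n ih =>
    intro a b
    set M := powerClosure p n ⁅(⊤ : Subgroup G), (⊤ : Subgroup G)⁆ with hM
    have : M.Normal := powerClosure_commutator_normal n
    set u := a ^ p ^ n
    set v := b * u⁻¹ * b⁻¹ with hv
    have huv : ⁅u, v⁆ ∈ M := by
      have h1 : v = ⁅b, u⁻¹⁆ * u⁻¹ := by rw [hv, commutatorElement_def]; group
      have h2 : ⁅b, u⁻¹⁆ ∈ M := by
        rw [← commutatorElement_inv]
        refine inv_mem ?_
        have := ih a⁻¹ b
        rwa [inv_pow] at this
      rw [h1, commutatorElement_def]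
      have : u * (⁅b, u⁻¹⁆ * u⁻¹) * u⁻¹ * (⁅b, u⁻¹⁆ * u⁻¹)⁻¹ = u * ⁅b, u⁻¹⁆ * u⁻¹ * ⁅b, u⁻¹⁆⁻¹ := by group
      rw [this]
      exact mul_mem (Normal.conj_mem inferInstance _ h2 u) (inv_mem h2)
    obtain ⟨c, hc, e⟩ := exists_mul_pow_eq h huv
    have h3 : u * v ∈ M := by
      have := ih a b
      rw [commutatorElement_def] at this
      simpa [hv, mul_assoc] using this
    have h4 : ⁅a ^ p ^ (n + 1), b⁆ = (u * v) ^ p * c⁻¹ := by
      have hu : a ^ p ^ (n + 1) = u ^ p := by rw [pow_succ, pow_mul]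
      rw [hu, e, mul_inv_cancel_right, commutatorElement_def, hv, conj_pow, inv_pow]
      group
    rw [h4]
    refine powerClosure_one_powerClosure_le h _ n (mul_mem ?_ (inv_mem hc))
    simpa using pow_mem_powerClosure (p := p) h3 1

theorem exists_mul_pow_pow_eq (h : RegOne p G) : ∀ (n : ℕ) (a b : G),
    ∃ c ∈ powerClosure p n ⁅(⊤ : Subgroup G), (⊤ : Subgroup G)⁆,
      (a * b) ^ p ^ n = a ^ p ^ n * b ^ p ^ n * c := by
  intro n
  induction n with
  | zero => intro a b; exact ⟨1, one_mem _, by simp⟩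
  | succ n ih =>
    intro a b
    set M := powerClosure p n ⁅(⊤ : Subgroup G), (⊤ : Subgroup G)⁆ with hM
    have : M.Normal := powerClosure_commutator_normal n
    obtain ⟨w, hw, e⟩ := ih a b
    have hUV := commutator_pow_mem h n a (b ^ p ^ n)
    obtain ⟨c2, hc2, e2⟩ := exists_mul_pow_eq h (M := M) hUV
    have hUW : ⁅a ^ p ^ n * b ^ p ^ n, w⁆ ∈ M := by
      rw [commutatorElement_def]
      exact mul_mem (Normal.conj_mem inferInstance _ hw _) (inv_mem hw)
    obtain ⟨c1, hc1, e1⟩ := exists_mul_pow_eq h (M := M) hUW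
    refine ⟨c2 * w ^ p * c1, powerClosure_one_powerClosure_le h _ n
      (mul_mem (mul_mem hc2 (by simpa using pow_mem_powerClosure (p := p) hw 1)) hc1), ?_⟩
    rw [pow_succ, pow_mul, pow_mul, pow_mul, e, e1, e2]
    group

/-- The exponent `p` condition gives regularity. -/
theorem regular_of_regOne (h : RegOne p G) : IsRegularPGroup p G := by
  refine ⟨h.1, fun a b n => ?_⟩
  set L := closure ({a, b} : Set G) with hL
  obtain ⟨c, hc, e⟩ := exists_mul_pow_pow_eq (h.subgroup L) n ⟨a, subset_closure (Or.inl rfl)⟩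
    ⟨b, subset_closure (Or.inr rfl)⟩
  refine ⟨c, ?_, congrArg Subtype.val e⟩
  have := mem_map_of_mem L.subtype hc
  rwa [powerClosure_map, map_commutator, ← MonoidHom.range_eq_map, range_subtype] at this

theorem isRegularPGroup_iff (hG : IsPGroup p G) : IsRegularPGroup p G ↔
    ∀ a b : G, ∃ c ∈ ⁅closure ({a, b} : Set G), closure ({a, b} : Set G)⁆,
      (a * b) ^ p = a ^ p * b ^ p * c ^ p := by
  constructor
  · intro h a b
    obtain ⟨c, hc, e⟩ := (regOne_of_regular h).2 a b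
    obtain ⟨d, hd, rfl⟩ := (mem_powerClosure_iff (regOne_of_regular h)).1 hc
    exact ⟨d, hd, by rwa [pow_one] at e⟩
  · intro h
    refine regular_of_regOne ⟨hG, fun a b => ?_⟩
    obtain ⟨c, hc, e⟩ := h a b
    exact ⟨c ^ p, by simpa using pow_mem_powerClosure (p := p) hc 1, e⟩

theorem commutator_powerClosure_le (h : RegOne p G) (H : Subgroup G) (n : ℕ) :
    ⁅powerClosure p n H, powerClosure p n H⁆ ≤ powerClosure p n ⁅H, H⁆ := by
  rw [commutator_le]
  intro x hx y hy
  obtain ⟨a, ha, rfl⟩ := (mem_powerClosure_iff h).1 hx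
  obtain ⟨b, hb, rfl⟩ := (mem_powerClosure_iff h).1 hy
  have := mem_map_of_mem H.subtype (commutator_pow_mem (h.subgroup H) n ⟨a, ha⟩ (⟨b, hb⟩ ^ p ^ n))
  rw [powerClosure_map, map_commutator, ← MonoidHom.range_eq_map, range_subtype] at this
  simpa using this

end CfsgLib.Transfer
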