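import Cfsg.Agent.Lib.Transfer.FusionThompson
import Cfsg.Agent.Lib.LocalEven.DihedralCriterion
import Cfsg.Agent.Lib.LocalEven.S4Criterion
import Cfsg.Agent.Lib.Fusion.ModelBasic
import Cfsg.Prelude.Def_FusionReduction

/-!
Fusion systems free of the symmetric group of degree four: no automizer contains an element of
`3`-power order inverted by one of `2`-power order.
-/

set_option autoImplicit false

open Cfsg Cfsg.FusionSystem

namespace CfsgLib.Transfer

open CfsgLib.Fusion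

universe u

section Group

variable {G : Type*} [Group G] {G' : Type*} [Group G']

/-- An element inverting another one modulo the kernel lifts to an exact pair. -/
theorem exists_inverted_lift [Finite G] {q : ℕ} [hq : Fact q.Prime] (hq2 : q ≠ 2) (f : G →* G')
    {t c : G} (hc : (∃ k : ℕ, orderOf (f c) = q ^ k)) (hc1 : f c ≠ 1)
    (hinv : f t * f c * (f t)⁻¹ = (f c)⁻¹) :
    ∃ x y : G, (∃ k : ℕ, orderOf x = 2 ^ k) ∧ (∃ k : ℕ, orderOf y = q ^ k) ∧ f y ≠ 1 ∧
      x * y * x⁻¹ = y⁻¹ := by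
  classical
  set B := (Subgroup.zpowers (f c)).comap f with hB
  set N := Subgroup.normalizer (B : Set G) with hN
  have hBN : B ≤ N := Subgroup.le_normalizer
  have hconjz : ∀ i : ℤ, f t * (f c) ^ i * (f t)⁻¹ = (f c) ^ (-i) := fun i => by
    rw [← conj_zpow, hinv, inv_zpow, zpow_neg]
  have htN : t ∈ N := mem_normalizer_of_forall fun b hb => by
    obtain ⟨i, hi⟩ := Subgroup.mem_zpowers_iff.1 hb
    show f (t * b * t⁻¹) ∈ Subgroup.zpowers (f c)
    rw [map_mul, map_mul, map_inv, ← hi, hconjz]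
    exact Subgroup.zpow_mem _ (Subgroup.mem_zpowers _) _
  have : (B.subgroupOf N).Normal := Subgroup.normal_in_normalizer
  obtain ⟨P₀⟩ : Nonempty (Sylow q (B.subgroupOf N)) := inferInstance
  set P : Subgroup G := ((P₀ : Subgroup (B.subgroupOf N)).map (B.subgroupOf N).subtype).map N.subtype
  have hPp : IsPGroup q P := (P₀.2.map _).map _
  have htop := Sylow.normalizer_sup_eq_top P₀
  have htm : (⟨t, htN⟩ : N) ∈ Subgroup.normalizer
      (((P₀ : Subgroup (B.subgroupOf N)).map (B.subgroupOf N).subtype : Subgroup N) : Set N) ⊔ B.subgroupOf N :=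
    htop ▸ Subgroup.mem_top _
  rw [Subgroup.mem_sup_of_normal_right] at htm
  obtain ⟨n, hn, b, hb, hnb⟩ := htm
  have hnP : (n : G) ∈ Subgroup.normalizer (P : Set G) := mem_normalizer_of_forall (by
    rintro _ ⟨z, hz, rfl⟩
    exact ⟨n * z * n⁻¹, (Subgroup.mem_normalizer_iff.1 hn z).1 hz, by simp⟩)
  have hninv : f (n : G) * f c * (f (n : G))⁻¹ = (f c)⁻¹ := by
    obtain ⟨i, hi⟩ := Subgroup.mem_zpowers_iff.1 (show f (b : G) ∈ Subgroup.zpowers (f c) from hb)
    have h1 : (n : G) = t * (b : G)⁻¹ := eq_mul_inv_of_mul_eq (congrArg Subtype.val hnb)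
    rw [h1, map_mul, map_inv, ← hi]
    calc f t * (f c ^ i)⁻¹ * f c * (f t * (f c ^ i)⁻¹)⁻¹
        = f t * ((f c ^ i)⁻¹ * f c * f c ^ i) * (f t)⁻¹ := by group
      _ = f t * f c * (f t)⁻¹ := by rw [show (f c ^ i)⁻¹ * f c * f c ^ i = f c by group]
      _ = _ := hinv
  -- the two-part of `n`
  obtain ⟨k, m, hm, he⟩ := Nat.exists_eq_two_pow_mul_odd (orderOf_pos (n : G)).ne'
  set x := (n : G) ^ m with hxdef
  have hx : ∃ k : ℕ, orderOf x = 2 ^ k := ⟨k, by
    rw [hxdef, orderOf_pow' _ (Nat.pos_iff_ne_zero.1 hm.pos), he,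
      Nat.gcd_eq_right (dvd_mul_left m _), Nat.mul_div_cancel _ hm.pos]⟩
  have hxinv : f x * f c * (f x)⁻¹ = (f c)⁻¹ := by
    obtain ⟨j, rfl⟩ := hm
    set w := f (n : G) with hw
    have h2 : w * w * f c * (w * w)⁻¹ = f c := by
      calc w * w * f c * (w * w)⁻¹ = w * (w * f c * w⁻¹) * w⁻¹ := by group
        _ = w * (f c)⁻¹ * w⁻¹ := by rw [hninv]
        _ = (w * f c * w⁻¹)⁻¹ := by group
        _ = f c := by rw [hninv, inv_inv]
    have h3 : Commute ((w * w) ^ j) (f c) :=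
      (show Commute (w * w) (f c) from mul_inv_eq_iff_eq_mul.1 h2).pow_left j
    rw [hxdef, map_pow, ← hw, pow_succ, pow_mul, pow_two]
    calc (w * w) ^ j * w * f c * ((w * w) ^ j * w)⁻¹ = (w * w) ^ j * (w * f c * w⁻¹) * ((w * w) ^ j)⁻¹ := by group
      _ = (f c)⁻¹ := by rw [hninv, h3.inv_right.eq, mul_inv_cancel_right]
  -- an element of `P` above `f c`
  obtain ⟨z, hz, hzc⟩ : ∃ z ∈ P, f z = f c := by
    let g : (B.subgroupOf N) →* Subgroup.zpowers (f c) :=
      ((f.comp N.subtype).comp (B.subgroupOf N).subtype).codRestrict _ fun a => a.2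
    have hg : Function.Surjective g := by
      rintro ⟨_, i, rfl⟩
      have hcB : c ^ i ∈ B := by
        show f (c ^ i) ∈ Subgroup.zpowers (f c)
        rw [map_zpow]
        exact Subgroup.zpow_mem _ (Subgroup.mem_zpowers _) _
      exact ⟨⟨⟨c ^ i, hBN hcB⟩, hcB⟩, Subtype.ext (map_zpow f c i)⟩
    obtain ⟨k, hk⟩ := hc
    have hRp : IsPGroup q (Subgroup.zpowers (f c)) := IsPGroup.of_card (n := k) (by rw [Nat.card_zpowers, hk])
    have htop' := top_unique ((P₀.mapSurjective hg).3 (hRp.to_subgroup ⊤) le_top).le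
    obtain ⟨a, ha, hac⟩ := htop'.ge (Subgroup.mem_top ⟨f c, Subgroup.mem_zpowers _⟩)
    exact ⟨((a : N) : G), ⟨_, ⟨a, ha, rfl⟩, rfl⟩, congrArg Subtype.val hac⟩
  have hsq : f c * f c ≠ 1 := by
    intro h
    obtain ⟨k, hk⟩ := hc
    have h2 := (Nat.dvd_prime Nat.prime_two).1 (orderOf_dvd_of_pow_eq_one (by rw [pow_two]; exact h : f c ^ 2 = 1))
    rcases h2 with h2 | h2
    · exact hc1 (orderOf_eq_one_iff.1 h2)
    · exact hq2 ((Nat.prime_dvd_prime_iff_eq Nat.prime_two hq.out).1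
        (Nat.prime_two.dvd_of_dvd_pow (show 2 ∣ q ^ k by rw [← hk, h2]))).symm
  obtain ⟨τ, y, hτx, hτ, hyP, hy1, hyinv⟩ := CfsgLib.LocalEven.DihedralCrit.exists_inverted hq2 hPp hx
    (pow_mem hnP m) (C := f.ker) (by rw [Subgroup.normalizer_eq_top]; trivial)
    (by rw [Subgroup.normalizer_eq_top]; exact le_top)
    ⟨z, hz, fun h => hsq (by
      rw [MonoidHom.mem_ker, map_mul, map_mul, map_mul, map_inv, map_inv, hzc, hxinv] at h
      rw [← inv_eq_one, mul_inv_rev]; exact h)⟩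
  obtain ⟨j, hj⟩ := IsPGroup.iff_orderOf.1 hPp ⟨y, hyP⟩
  exact ⟨τ, y, hτ, ⟨j, by rwa [Subgroup.orderOf_mk] at hj⟩, hy1, hyinv⟩

/-- The four group in the symmetric group of degree four. -/
def fourSubgroup : Subgroup (Equiv.Perm (Fin 4)) where
  carrier := {s | s * s = 1 ∧ (s = 1 ∨ ∀ i, s i ≠ i)}
  one_mem' := by decide
  mul_mem' := by
    intro a b ha hb
    revert a b
    decide +kernel
  inv_mem' := by
    intro a ha
    revert a
    decide +kernel

theorem mem_fourSubgroup {s : Equiv.Perm (Fin 4)} :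
    s ∈ fourSubgroup ↔ s * s = 1 ∧ (s = 1 ∨ ∀ i, s i ≠ i) := Iff.rfl

/-- A section `S₄` gives an inverted element of `3`-power order acting nontrivially on a `2`-group. -/
theorem exists_inverted_of_involves [Finite G] (h : Involves (Equiv.Perm (Fin 4)) G) :
    ∃ (U : Subgroup G) (x y : G), IsPGroup 2 U ∧ x ∈ Subgroup.normalizer (U : Set G) ∧
      y ∈ Subgroup.normalizer (U : Set G) ∧ (∃ k : ℕ, orderOf x = 2 ^ k) ∧
      (∃ k : ℕ, orderOf y = 3 ^ k) ∧ y ∉ Subgroup.centralizer (U : Set G) ∧ x * y * x⁻¹ = y⁻¹ := by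
  classical
  have : Fact (Nat.Prime 2) := ⟨Nat.prime_two⟩
  have : Fact (Nat.Prime 3) := ⟨Nat.prime_three⟩
  obtain ⟨H, π, hπ⟩ := CfsgLib.LocalEven.Offender.exists_hom_of_involves h
  have hVn : fourSubgroup.Normal := ⟨by
    intro n hn g
    rw [mem_fourSubgroup] at hn ⊢
    revert n g
    decide +kernel⟩
  have : (fourSubgroup.comap π).Normal := hVn.comap π
  obtain ⟨U₀⟩ : Nonempty (Sylow 2 (fourSubgroup.comap π)) := inferInstance
  set U : Subgroup H := (U₀ : Subgroup _).map (fourSubgroup.comap π).subtype with hU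
  set N := Subgroup.normalizer (U : Set H) with hN
  have hVp : IsPGroup 2 fourSubgroup := by
    intro g
    exact ⟨1, Subtype.ext (by rw [pow_one, pow_two]; exact g.2.1)⟩
  have hUV : ∀ v ∈ fourSubgroup, ∃ u ∈ U, π u = v := by
    let g : fourSubgroup.comap π →* fourSubgroup := π.subgroupComap fourSubgroup
    have hg : Function.Surjective g := MonoidHom.subgroupComap_surjective_of_surjective π _ hπ
    intro v hv
    have htop := top_unique ((U₀.mapSurjective hg).3 (hVp.to_subgroup ⊤) le_top).le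
    obtain ⟨a, ha, hae⟩ := htop.ge (Subgroup.mem_top ⟨v, hv⟩)
    exact ⟨a, ⟨a, ha, rfl⟩, congrArg Subtype.val hae⟩
  have hlift : ∀ s : Equiv.Perm (Fin 4), ∃ n ∈ N, π n = s := by
    intro s
    obtain ⟨a, rfl⟩ := hπ s
    have htm : a ∈ N ⊔ fourSubgroup.comap π := (Sylow.normalizer_sup_eq_top U₀).symm ▸ Subgroup.mem_top a
    rw [Subgroup.mem_sup_of_normal_right] at htm
    obtain ⟨n, hn, b, hb, rfl⟩ := htm
    obtain ⟨u, hu, hub⟩ := hUV _ hb
    exact ⟨n * u, mul_mem hn (Subgroup.le_normalizer hu), by rw [map_mul, map_mul, hub]⟩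
  obtain ⟨t, htN, ht⟩ := hlift (Equiv.swap 0 1)
  obtain ⟨c, hcN, hc⟩ := hlift (Equiv.swap 0 1 * Equiv.swap 1 2)
  -- the stabiliser of a point inside the normaliser
  let st : Subgroup N :=
    { carrier := {n | π (n : H) 3 = 3}
      one_mem' := by simp
      mul_mem' := fun {a b} (ha : π (a : H) 3 = 3) (hb : π (b : H) 3 = 3) => by
        simp [Equiv.Perm.mul_apply, ha, hb]
      inv_mem' := fun {a} (ha : π (a : H) 3 = 3) => by
        show π ((a : H)⁻¹) 3 = 3
        rw [map_inv, Equiv.Perm.inv_def, Equiv.symm_apply_eq, ha] }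
  let f : st →* Equiv.Perm (Fin 4) := (π.comp N.subtype).comp st.subtype
  have htst : (⟨t, htN⟩ : N) ∈ st := show π t 3 = 3 by rw [ht]; decide
  have hcst : (⟨c, hcN⟩ : N) ∈ st := show π c 3 = 3 by rw [hc]; decide
  obtain ⟨x, y, hx, hy, hy1, hinv⟩ := exists_inverted_lift (q := 3) (by norm_num) f
    (t := ⟨_, htst⟩) (c := ⟨_, hcst⟩)
    ⟨1, by
      show orderOf (π c) = 3 ^ 1
      rw [hc, pow_one]
      exact orderOf_eq_prime (by decide) (by decide)⟩
    (show π c ≠ 1 by rw [hc]; decide)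
    (show π t * π c * (π t)⁻¹ = (π c)⁻¹ by rw [ht, hc]; decide)
  let i : st →* G := (H.subtype.comp N.subtype).comp st.subtype
  have hi : Function.Injective i :=
    (H.subtype_injective.comp N.subtype_injective).comp st.subtype_injective
  have hnorm : ∀ a : st, i a ∈ Subgroup.normalizer ((U.map H.subtype : Subgroup G) : Set G) := fun a =>
    mem_normalizer_of_forall (by
      rintro _ ⟨u, hu, rfl⟩
      exact ⟨(a : N) * u * ((a : N) : H)⁻¹, (Subgroup.mem_normalizer_iff.1 (a : N).2 u).1 hu, by simp [i]⟩)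
  refine ⟨U.map H.subtype, i x, i y, (U₀.2.map _).map _, hnorm x, hnorm y, ?_, ?_, fun hcen => hy1 ?_,
    by rw [← map_inv, ← map_mul, ← map_mul, ← map_inv, hinv]⟩
  · rwa [orderOf_injective i hi]
  · rwa [orderOf_injective i hi]
  · have hcent : ∀ s : Equiv.Perm (Fin 4), s 3 = 3 → (∀ v ∈ fourSubgroup, v * s = s * v) → s = 1 := by
      simp only [mem_fourSubgroup]
      decide +kernel
    refine hcent _ y.2 fun v hv => ?_
    obtain ⟨u, hu, rfl⟩ := hUV v hv
    have h1 := Subgroup.mem_centralizer_iff.1 hcen (u : G) ⟨u, hu, rfl⟩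
    show π u * π ((y : N) : H) = π ((y : N) : H) * π u
    rw [← map_mul, ← map_mul]
    exact congrArg π (Subtype.ext h1)

end Group

section Systems

variable {Ω : Type u} [Group Ω] {S : Subgroup Ω} {F : FusionSystem S}

/-- No automizer contains a nontrivial element of `3`-power order inverted by a `2`-element. -/
def InvFree (F : FusionSystem S) : Prop :=
  ∀ U : Subgroup Ω, U ≤ S → ∀ α ∈ F.autGroup U, ∀ β ∈ F.autGroup U,
    (∃ k : ℕ, orderOf α = 3 ^ k) → (∃ k : ℕ, orderOf β = 2 ^ k) → β * α * β⁻¹ = α⁻¹ → α = 1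

theorem InvFree.mono {T : Subgroup Ω} {E : FusionSystem T} (hTS : T ≤ S)
    (h : ∀ P, E.Hom P ⊆ F.Hom P) (hF : InvFree F) : InvFree E :=
  fun U hU α hα β hβ => hF U (hU.trans hTS) α (autGroup_mono h U hα) β (autGroup_mono h U hβ)

/-- A subgroup of the automizer with a nontrivial inverted pair. -/
theorem InvFree.eq_one_of_hom (hF : InvFree F) {U : Subgroup Ω} [Finite U] (hU : U ≤ S) {A : Type*}
    [Group A] (g : A →* MulAut U) (hg : ∀ a, g a ∈ F.autGroup U) {x y : A}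
    (hx : ∃ k : ℕ, orderOf x = 2 ^ k) (hy : ∃ k : ℕ, orderOf y = 3 ^ k) (h : x * y * x⁻¹ = y⁻¹) :
    g y = 1 := by
  refine hF U hU (g y) (hg y) (g x) (hg x) ?_ ?_ (by rw [← map_inv, ← map_mul, ← map_mul, h, map_inv])
  · obtain ⟨k, hk⟩ := hy
    obtain ⟨i, -, hi⟩ := (Nat.dvd_prime_pow Nat.prime_three).1 (hk ▸ orderOf_map_dvd g y)
    exact ⟨i, hi⟩
  · obtain ⟨k, hk⟩ := hx
    obtain ⟨i, -, hi⟩ := (Nat.dvd_prime_pow Nat.prime_two).1 (hk ▸ orderOf_map_dvd g x)
    exact ⟨i, hi⟩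

variable [Finite S]

omit [Finite S] in
theorem isCentric_of_isConj {P P' : Subgroup Ω} (hP : F.IsCentric P) (h : F.IsConj P P') :
    F.IsCentric P' :=
  ⟨le_right_of_isConj h, fun _ hR => hP.2 _ (isConj_trans h hR)⟩

omit [Finite S] in
theorem isCentric_normSys_self {P : Subgroup Ω} (hP : P ≤ S) (hc : F.IsCentric P) :
    (normSys F P (rfl : normalizerIn S P = _) hP).IsCentric P := by
  refine ⟨le_normalizerIn hP, fun R hR c hc' => ?_⟩
  obtain ⟨φ, hφ, rfl⟩ := hR
  exact hc.2 _ ⟨φ, hφ.1, rfl⟩ ⟨hc'.1.1, hc'.2⟩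

omit [Finite S] in
theorem mem_autGroup_normSys_self {P : Subgroup Ω} (hP : P ≤ S) {γ : MulAut P} (hγ : γ ∈ F.autGroup P) :
    γ ∈ (normSys F P (rfl : normalizerIn S P = _) hP).autGroup P := by
  refine (mem_autGroup_iff _ (le_normalizerIn hP)).2 ?_
  have hγm := ((mem_autGroup_iff F hP).1 hγ).mem
  refine ⟨hγm, le_normalizerIn hP, fun x => le_normalizerIn hP (γ x).2, ?_⟩
  obtain ⟨ψ, hψ, hψe⟩ := mem_of_eq_sup (sup_idem P).symm hγm
  refine ⟨ψ, hψ, fun x => hψe _, ?_⟩
  ext y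
  refine ⟨?_, fun hy => ?_⟩
  · rintro ⟨x, hx, rfl⟩
    rw [hψe]
    exact (γ ⟨x, _⟩).2
  · refine ⟨Subgroup.inclusion le_sup_left (γ.symm ⟨y, hy⟩), (γ.symm ⟨y, hy⟩).2, ?_⟩
    rw [hψe]
    exact congrArg Subtype.val (γ.apply_symm_apply ⟨y, hy⟩)

/-- A fully normalized subgroup together with its centralizer is centric. -/
theorem isCentric_sup_centralizerIn {p : ℕ} [Fact p.Prime] (hS : IsPGroup p S) (hF : F.IsSaturated p)
    {U : Subgroup Ω} (hU : F.IsFullyNormalized U) : F.IsCentric (U ⊔ centralizerIn S U) := by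
  have hUS := hU.1
  refine ⟨sup_le hUS (centralizerIn_le U), fun R hR c hc => ?_⟩
  obtain ⟨φ, hφ, rfl⟩ := hR
  set U' := (φ.comp (Subgroup.inclusion (le_sup_left : U ≤ U ⊔ centralizerIn S U))).range with hU'
  obtain ⟨e₀, hee⟩ : ∃ e : U ≃* U', ∀ x, (e x : Ω) = φ (Subgroup.inclusion le_sup_left x) :=
    ⟨MonoidHom.ofInjective (F.injective_of_mem (res_mem F hφ le_sup_left)), fun _ => rfl⟩
  have hcU' : c ∈ centralizerIn S U' := ⟨hc.1, fun y hy => hc.2 y (by
    obtain ⟨x, rfl⟩ := hy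
    exact ⟨_, rfl⟩)⟩
  have := finite_of_le (centralizerIn_le (S := S) U')
  have := finite_of_le (centralizerIn_le (S := S) U)
  let g : centralizerIn S U → centralizerIn S U' := fun z =>
    ⟨φ ⟨z, (le_sup_right : centralizerIn S U ≤ U ⊔ centralizerIn S U) z.2⟩,
      apply_mem_centralizerIn (e := e₀) hφ le_sup_left (fun x => (hee x).symm) z.2⟩
  have hg : Function.Injective g := fun a b h => Subtype.ext
    (congrArg (fun w : ↥(U ⊔ centralizerIn S U) => (w : Ω)) (F.injective_of_mem hφ (congrArg Subtype.val h)))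
  have hle : Nat.card (centralizerIn S U') ≤ Nat.card (centralizerIn S U) :=
    (fullyCentralized_of_fullyNormalized hS hF hU).2 U' ⟨_, res_mem F hφ le_sup_left, rfl⟩
  have hge : Nat.card (centralizerIn S U) ≤ Nat.card (centralizerIn S U') :=
    Nat.card_le_card_of_injective g hg
  obtain ⟨z, hz⟩ := ((Nat.bijective_iff_injective_and_card g).2 ⟨hg, le_antisymm hge hle⟩).2 ⟨c, hcU'⟩
  exact ⟨_, congrArg Subtype.val hz⟩

/-- The property passes to factor systems. -/
theorem InvFree.factor (hF : InvFree F) {Q : Subgroup Ω} (hQ : F.StronglyClosed Q) {Ω' : Type u}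
    [Group Ω'] {S' : Subgroup Ω'} {θ : S →* Ω'} {E : FusionSystem S'} {p : ℕ} [Fact p.Prime]
    (hS : IsPGroup p S) (hsat : F.IsSaturated p) (hfac : F.IsFactorSystem Q θ E) : InvFree E := by
  classical
  have : Fact (Nat.Prime 2) := ⟨Nat.prime_two⟩
  have : Fact (Nat.Prime 3) := ⟨Nat.prime_three⟩
  obtain ⟨hmor, hrg, hsurj⟩ := isSurjectiveMorphism_of_isFactorSystem hS hsat hQ hfac
  intro U' hU' α' hα' β' hβ' hα3 hβ2 hinv
  set U := preimageAlong θ U' with hU
  have hUS : U ≤ S := preimageAlong_le θ U'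
  have := finite_of_le hUS
  have hθmem : ∀ x : U, θ ⟨x, hUS x.2⟩ ∈ U' := fun x =>
    (mem_preimageAlong (θ := θ) (s := ⟨x, hUS x.2⟩)).1 x.2
  have hsur : ∀ y : U', ∃ x : U, y = ⟨θ ⟨x, hUS x.2⟩, hθmem x⟩ := by
    rintro ⟨y, hy⟩
    obtain ⟨s, rfl⟩ := hrg.ge (hU' hy)
    exact ⟨⟨s, mem_preimageAlong.2 hy⟩, rfl⟩
  let A : Subgroup (MulAut U × MulAut U') :=
    { carrier := {a | a.1 ∈ F.autGroup U ∧ ∀ x : U, ((a.2 ⟨θ ⟨x, hUS x.2⟩, hθmem x⟩ : U') : Ω') =
        θ ⟨(a.1 x : U), hUS (a.1 x).2⟩}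
      one_mem' := ⟨one_mem _, fun x => rfl⟩
      mul_mem' := by
        rintro a b ⟨ha, hae⟩ ⟨hb, hbe⟩
        refine ⟨mul_mem ha hb, fun x => ?_⟩
        show ((a.2 (b.2 _) : U') : Ω') = θ ⟨(a.1 (b.1 x) : U), _⟩
        rw [← hae (b.1 x)]
        exact congrArg (fun z : U' => ((a.2 z : U') : Ω')) (Subtype.ext (hbe x))
      inv_mem' := by
        rintro a ⟨ha, hae⟩
        refine ⟨inv_mem ha, fun x => ?_⟩
        have h1 := hae (a.1⁻¹ x)
        simp only [MulAut.apply_inv_self] at h1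
        show ((a.2⁻¹ _ : U') : Ω') = _
        refine congrArg Subtype.val (a.2.injective (a₁ := a.2⁻¹ _) (a₂ := ⟨_, hθmem (a.1⁻¹ x)⟩) ?_)
        rw [MulAut.apply_inv_self]
        exact Subtype.ext h1.symm }
  let f : A →* MulAut U' := (MonoidHom.snd _ _).comp A.subtype
  have hlift : ∀ a' ∈ E.autGroup U', ∃ a : A, f a = a' := by
    intro a' ha'
    obtain ⟨φ, hφ, hind⟩ := hsurj U' hU' _ ((mem_autGroup_iff E hU').1 ha').mem
    have hr := range_lift_eq hmor (hU'.trans hrg.ge) hφ hind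
    rw [range_subtype_comp] at hr
    obtain ⟨e, he, hee⟩ := exists_iso_of_range hφ hr
    refine ⟨⟨(e, a'), (mem_autGroup_iff F hUS).2 he, fun x => ?_⟩, rfl⟩
    exact (induced_apply hind x (hUS x.2) (apply_mem_S F hφ x) (hθmem x)).trans
      (congrArg θ (Subtype.ext (hee x).symm))
  obtain ⟨a, rfl⟩ := hlift α' hα'
  obtain ⟨b, rfl⟩ := hlift β' hβ'
  by_contra hne
  have : Finite U' := Finite.of_surjective (fun x : U => (⟨_, hθmem x⟩ : U')) fun y => by
    obtain ⟨x, hx⟩ := hsur y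
    exact ⟨x, hx.symm⟩
  obtain ⟨x, y, hx, hy, hy1, hxy⟩ := exists_inverted_lift (q := 3) (by norm_num) f hα3 hne hinv
  have h1 := hF.eq_one_of_hom hUS ((MonoidHom.fst _ _).comp A.subtype) (fun c => c.2.1) hx hy hxy
  refine hy1 (MulEquiv.ext fun u => ?_)
  obtain ⟨v, rfl⟩ := hsur u
  refine Subtype.ext ((y.2.2 v).trans ?_)
  exact congrArg θ (Subtype.ext (congrArg (fun c : MulAut U => ((c v : U) : Ω)) h1))

/-- In a realization of a free system no section is the symmetric group of degree four. -/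
theorem not_involves_of_invFree {G : Type*} [Group G] [Finite G] {ι : S →* G}
    (hι : F.IsRealizedBy ι) (T : Sylow 2 G) (hT : (T : Subgroup G) = ι.range) (hF : InvFree F) :
    ¬ Involves (Equiv.Perm (Fin 4)) G := by
  intro h
  have : Fact (Nat.Prime 2) := ⟨Nat.prime_two⟩
  obtain ⟨U₀, x, y, hU₀, hxU, hyU, hx, hy, hyC, hinv⟩ := exists_inverted_of_involves h
  obtain ⟨P₁, hP₁⟩ := hU₀.exists_le_sylow
  obtain ⟨c, hc⟩ := MulAction.exists_smul_eq G P₁ T
  set κ : G →* G := (MulAut.conj c).toMonoidHom with hκ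
  set U₁ : Subgroup G := U₀.map κ with hU₁
  have hU₁T : U₁ ≤ ι.range := by
    rintro _ ⟨u, hu, rfl⟩
    rw [← hT, ← hc, Sylow.coe_subgroup_smul]
    exact Subgroup.smul_mem_pointwise_smul u (MulAut.conj c) _ (hP₁ hu)
  set U : Subgroup Ω := (U₁.comap ι).map S.subtype with hU
  have hUS : U ≤ S := Subgroup.map_subtype_le _
  have := finite_of_le hUS
  have hUι : (U.subgroupOf S).map ι = U₁ := by
    rw [hU, Subgroup.subgroupOf, Subgroup.comap_map_eq_self_of_injective S.subtype_injective,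
      Subgroup.map_comap_eq_self hU₁T]
  have hnorm : ∀ z ∈ Subgroup.normalizer (U₀ : Set G),
      κ z ∈ Subgroup.normalizer ((U.subgroupOf S).map ι : Set G) := by
    intro z hz
    rw [hUι]
    refine mem_normalizer_of_forall ?_
    rintro _ ⟨u, hu, rfl⟩
    exact ⟨z * u * z⁻¹, (Subgroup.mem_normalizer_iff.1 hz u).1 hu, by simp⟩
  let e : U ≃* ((U.subgroupOf S).map ι : Subgroup G) :=
    (Subgroup.subgroupOfEquivOfLe hUS).symm.trans (Subgroup.equivMapOfInjective _ ι hι.1)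
  let g : Subgroup.normalizer ((U.subgroupOf S).map ι : Set G) →* MulAut U :=
    (MulAut.congr e.symm).toMonoidHom.comp (Subgroup.normalizerMonoidHom _)
  have hge : ∀ n (u : U), (e ((g n) u) : G) = n * e u * (n : G)⁻¹ := by
    intro n u
    change ((e (e.symm _)) : G) = _
    rw [e.apply_symm_apply]
    rfl
  have hg : ∀ n, g n ∈ F.autGroup U := by
    intro n
    obtain ⟨β, hβ, hβe⟩ := exists_aut_of_conj hι hUS n.2
    convert hβ using 1
    refine MulEquiv.ext fun u => Subtype.ext ?_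
    have h1 : (e ((g n) u) : G) = e (β u) := (hge n u).trans (hβe u).symm
    exact congrArg Subtype.val (e.injective (Subtype.ext h1))
  have h1 := hF.eq_one_of_hom hUS g hg (x := ⟨κ x, hnorm x hxU⟩) (y := ⟨κ y, hnorm y hyU⟩)
    (by rw [Subgroup.orderOf_mk, orderOf_injective κ (MulAut.conj c).injective]; exact hx)
    (by rw [Subgroup.orderOf_mk, orderOf_injective κ (MulAut.conj c).injective]; exact hy)
    (Subtype.ext (by
      show κ x * κ y * (κ x)⁻¹ = (κ y)⁻¹
      rw [← map_inv, ← map_mul, ← map_mul, hinv, map_inv]))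
  refine hyC (Subgroup.mem_centralizer_iff.2 fun u hu => ?_)
  obtain ⟨s, hs, hsu⟩ := hUι.ge (⟨u, hu, rfl⟩ : κ u ∈ U₁)
  have h2 := hge ⟨κ y, hnorm y hyU⟩ ⟨s, hs⟩
  rw [h1, MulAut.one_apply] at h2
  have h3 : κ u = κ y * κ u * (κ y)⁻¹ := by rwa [show (e ⟨s, hs⟩ : G) = κ u from hsu] at h2
  rw [← map_inv, ← map_mul, ← map_mul] at h3
  have h4 : u = y * u * y⁻¹ := (MulAut.conj c).injective h3
  calc u * y = y * u * y⁻¹ * y := by rw [← h4]
    _ = y * u := by group

/-- Freeness of sections `S₄` in the models gives freeness of inverted elements. -/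
theorem invFree_of_isSectionFree (hS : IsPGroup 2 S) (hF : F.IsSaturated 2)
    (h : F.IsSectionFree 2 (Equiv.Perm (Fin 4))) : InvFree F := by
  have : Fact (Nat.Prime 2) := ⟨Nat.prime_two⟩
  have : Fact (Nat.Prime 3) := ⟨Nat.prime_three⟩
  intro U₀ hU₀ α₀ hα₀ β₀ hβ₀ hα3 hβ2 hinv₀
  by_contra hne
  -- move to a fully normalized subgroup
  obtain ⟨U, ⟨φ, hφ, hφU⟩, hUn⟩ := exists_fullyNormalized F hU₀
  obtain ⟨e, he, -⟩ := exists_iso_of_range hφ hφU
  have hUS : U ≤ S := hUn.1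
  have := finite_of_le hUS
  set α := MulAut.congr e α₀ with hαdef
  set β := MulAut.congr e β₀ with hβdef
  have hα := congr_mem_autGroup he hα₀
  have hβ := congr_mem_autGroup he hβ₀
  set P := U ⊔ centralizerIn S U with hP
  have hPS : P ≤ S := sup_le hUS (centralizerIn_le U)
  have := finite_of_le hPS
  -- lifting to `P`
  let A : Subgroup (MulAut P × MulAut U) :=
    { carrier := {a | a.1 ∈ F.autGroup P ∧ ∀ x : U,
        a.1 (Subgroup.inclusion le_sup_left x) = Subgroup.inclusion (le_sup_left : U ≤ P) (a.2 x)}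
      one_mem' := ⟨one_mem _, fun x => rfl⟩
      mul_mem' := by
        rintro a b ⟨ha, hae⟩ ⟨hb, hbe⟩
        refine ⟨mul_mem ha hb, fun x => ?_⟩
        show a.1 (b.1 _) = _
        rw [hbe, hae]
        rfl
      inv_mem' := by
        rintro a ⟨ha, hae⟩
        refine ⟨inv_mem ha, fun x => a.1.injective ?_⟩
        show a.1 (a.1⁻¹ _) = a.1 _
        rw [MulAut.apply_inv_self, hae]
        simp }
  let f : A →* MulAut U := (MonoidHom.snd _ _).comp A.subtype
  have hlift : ∀ a' ∈ F.autGroup U, ∃ a : A, f a = a' := by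
    intro a' ha'
    have hai := (mem_autGroup_iff F hUS).1 ha'
    obtain ⟨ψ, hψ, hψe⟩ := exists_extension (fullyAutomized_receptive_of_fullyNormalized hS hF hUn).2
      hai (le_sup_left : U ≤ P) (sup_le (le_extender hai.mem) (centralizerIn_le_extender _ _))
    have hψr : ψ.range = P := by
      refine Subgroup.eq_of_le_of_card_ge ?_ (Nat.card_congr (MonoidHom.ofInjective (F.injective_of_mem hψ)).toEquiv).le
      rintro _ ⟨z, rfl⟩
      have h1 : P ≤ (P.comap ψ).map P.subtype := sup_le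
        (fun w hw => ⟨Subgroup.inclusion le_sup_left ⟨w, hw⟩, by
          show ψ _ ∈ P
          rw [hψe]
          exact (le_sup_left : U ≤ P) (a' ⟨w, hw⟩).2, rfl⟩)
        (fun w hw => ⟨⟨w, (le_sup_right : centralizerIn S U ≤ P) hw⟩,
          (le_sup_right : centralizerIn S U ≤ P)
            (apply_mem_centralizerIn (e := a') hψ le_sup_left hψe hw), rfl⟩)
      obtain ⟨z', hz', hze⟩ := h1 z.2
      rw [← Subtype.ext hze]
      exact hz'
    obtain ⟨γ, hγ, hγe⟩ := exists_iso_of_range hψ hψr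
    exact ⟨⟨(γ, a'), (mem_autGroup_iff F hPS).2 hγ, fun x => Subtype.ext ((hγe _).trans (hψe x))⟩, rfl⟩
  obtain ⟨a, ha⟩ := hlift α hα
  obtain ⟨b, hb⟩ := hlift β hβ
  obtain ⟨x, y, hx, hy, hy1, hxy⟩ := exists_inverted_lift (q := 3) (by norm_num) f (t := b) (c := a)
    (by rw [ha, hαdef, MulEquiv.orderOf_eq]; exact hα3)
    (fun h1 => hne ((MulAut.congr e).injective (by rw [map_one, ← hαdef, ← ha, h1])))
    (by rw [ha, hb, hαdef, hβdef, ← map_inv, ← map_mul, ← map_mul, hinv₀, map_inv])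
  -- move to a fully normalized conjugate
  obtain ⟨P', ⟨χ, hχ, hχP⟩, hP'n⟩ := exists_fullyNormalized F hPS
  obtain ⟨e', he', -⟩ := exists_iso_of_range hχ hχP
  have hP'S := hP'n.1
  have := finite_of_le hP'S
  have hPc : F.IsCentric P := isCentric_sup_centralizerIn hS hF hUn
  have hP'c : F.IsCentric P' := isCentric_of_isConj hPc ⟨χ, hχ, hχP⟩
  set N := normSys F P' (rfl : normalizerIn S P' = _) hP'S
  have hNsat : N.IsSaturated 2 := isSaturated_normSys hS hF rfl hP'S hP'n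
  have hP'N : N.IsNormal P' := isNormal_normalizerSystem hP'S (E := N) fun _ => rfl
  have hNc : N.IsCentric P' := isCentric_normSys_self hP'S hP'c
  have : Finite (normalizerIn S P') := finite_of_le (normalizerIn_le P')
  obtain ⟨L, _, ι, hM⟩ := exists_model_of_normal_centric (hS.to_le (normalizerIn_le P')) hNsat hP'N hNc
  refine h P' hP'n hP'c N (fun _ => rfl) L ι hM ?_
  obtain ⟨hL, ⟨hinj, hreal⟩, ⟨T, hT⟩, hC⟩ := id hM
  have hP'T : P' ≤ normalizerIn S P' := le_normalizerIn hP'S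
  set Z : Subgroup L := (P'.subgroupOf (normalizerIn S P')).map ι with hZ
  have hZn : Z.Normal := map_normal_of_isModel hM hP'N
  let ez : P' ≃* Z := (Subgroup.subgroupOfEquivOfLe hP'T).symm.trans (Subgroup.equivMapOfInjective _ ι hinj)
  let g : L →* MulAut P' := (MulAut.congr ez.symm).toMonoidHom.comp (MulAut.conjNormal (H := Z))
  have hgrange : ∀ γ ∈ F.autGroup P', ∃ l, g l = γ := by
    intro γ hγ
    have h1 : γ ∈ N.autGroup P' := mem_autGroup_normSys_self hP'S hγ
    obtain ⟨l, hl⟩ := (hreal P' hP'T _ fun z => hP'T (γ z).2).1 ((mem_autGroup_iff N hP'T).1 h1).mem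
    refine ⟨l, MulEquiv.ext fun z => ez.injective (Subtype.ext ?_)⟩
    change ((ez (ez.symm _)) : L) = _
    rw [ez.apply_symm_apply]
    exact (hl z).symm
  obtain ⟨t, ht⟩ := hgrange _ (congr_mem_autGroup he' x.2.1)
  obtain ⟨c, hc⟩ := hgrange _ (congr_mem_autGroup he' y.2.1)
  let κ : A →* MulAut P' := (MulAut.congr e').toMonoidHom.comp ((MonoidHom.fst _ _).comp A.subtype)
  have hyne : κ y ≠ 1 := by
    intro h1
    refine hy1 (MulEquiv.ext fun u => Subgroup.inclusion_injective (le_sup_left : U ≤ P) ?_)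
    have h2 : (y : MulAut P × MulAut U).1 = 1 := (MulAut.congr e').injective (h1.trans (map_one _).symm)
    exact (y.2.2 u).symm.trans (by rw [h2]; rfl)
  obtain ⟨k, hk⟩ := hy
  obtain ⟨i, -, hi⟩ := (Nat.dvd_prime_pow Nat.prime_three).1 (hk ▸ orderOf_map_dvd κ y)
  obtain ⟨x', y', hx', hy', hy'1, hxy'⟩ := exists_inverted_lift (q := 3) (by norm_num) g (t := t) (c := c)
    ⟨i, by rw [hc]; exact hi⟩ (by rw [hc]; exact hyne)
    (by rw [hc, ht]; show κ x * κ y * (κ x)⁻¹ = (κ y)⁻¹; rw [← map_inv, ← map_mul, ← map_mul, hxy, map_inv])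
  have hn : ∀ l, l ∈ Subgroup.normalizer (Z : Set L) := fun l => by
    rw [Subgroup.normalizer_eq_top]; trivial
  refine CfsgLib.LocalEven.S4Crit.involves_of_two_group
    (((hS.to_le (normalizerIn_le P')).to_subgroup _).map ι) (hn x') (hn y') hx' hy' hxy' fun hcen => hy'1 ?_
  refine MulEquiv.ext fun z => ez.injective (Subtype.ext ?_)
  change ((ez (ez.symm _)) : L) = _
  rw [ez.apply_symm_apply]
  show y' * (ez z : L) * y'⁻¹ = (ez z : L)
  rw [← Subgroup.mem_centralizer_iff.1 hcen _ (ez z).2, mul_inv_cancel_right]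

end Systems

end CfsgLib.Transfer
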