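import Cfsg.Agent.Lib.Transfer.OrbitProduct
import Cfsg.Agent.Lib.Transfer.FusionS4
import Cfsg.Agent.Lib.Cores.Basic
import Cfsg.Agent.Lib.Fusion.GroupSystem
import Cfsg.Agent.Lib.PStab.MaxAdm
import Cfsg.Agent.Lib.Invol.BaerSuzuki
import Cfsg.Agent.Lib.LocalEven.Offender
import Cfsg.Agent.Lib.LocalEven.S4Criterion

/-!
Glauberman: in a constrained group a central element of a Sylow subgroup `P` fixed by `N(J(P))` is
central, for odd `p` or when no section is `S₄`; in general its `p`-th power is.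
-/

set_option autoImplicit false

namespace CfsgLib.Transfer.CentralElement

open Subgroup Cfsg CfsgLib.PStab
open scoped IsMulCommutative

universe u

variable {G : Type u} [Group G] [Finite G] {p : ℕ} [hp : Fact p.Prime]

omit [Finite G] in
theorem mem_normalizer_of_conj {S : Subgroup G} {g : G} [Finite G]
    (h : ∀ s ∈ S, g * s * g⁻¹ ∈ S) : g ∈ normalizer (S : Set G) := by
  have hle : S.map (MulAut.conj g).toMonoidHom ≤ S := by rintro _ ⟨s, hs, rfl⟩; exact h s hs
  have he := Subgroup.eq_of_le_of_card_ge hle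
    (Subgroup.card_map_of_injective (MulAut.conj g).injective).ge
  refine Subgroup.mem_normalizer_iff.2 fun x => ⟨h x, fun hx => ?_⟩
  obtain ⟨s, hs, hse⟩ := he.ge hx
  rwa [← (MulAut.conj g).injective (show MulAut.conj g s = MulAut.conj g x from hse)]

/-- The Frattini argument for a normal subgroup. -/
theorem normalizer_inf_sup (P : Sylow p G) (K : Subgroup G) [K.Normal] :
    normalizer (((P : Subgroup G) ⊓ K : Subgroup G) : Set G) ⊔ K = ⊤ := by
  have hi : ¬ p ∣ ((P : Subgroup G) ⊓ K).relIndex K := CfsgLib.Fusion.not_dvd_relIndex_inf P.2 le_top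
    (by rw [Subgroup.relIndex_top_right]; exact P.not_dvd_index) le_top
    (fun x _ => by rw [Subgroup.normalizer_eq_top]; trivial)
  obtain ⟨Q, hQ⟩ := (CfsgLib.Fusion.exists_sylow_iff (N := K) (P.2.to_le inf_le_left :
    IsPGroup p ↥((P : Subgroup G) ⊓ K))).2 hi
  have := Sylow.normalizer_sup_eq_top Q
  rwa [hQ, Subgroup.subgroupOf, Subgroup.map_comap_eq, Subgroup.range_subtype,
    inf_eq_right.2 (inf_le_right : (P : Subgroup G) ⊓ K ≤ K)] at this

/-- An element moving less than half of an abelian normal `2`-subgroup gives a section `S₄`. -/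
theorem involves_of_two_le {G : Type u} [Group G] [Finite G] {V : Subgroup G} [V.Normal]
    [IsMulCommutative V] (hV : IsPGroup 2 V)
    (hO : ∀ M : Subgroup G, M.Normal → centralizer (V : Set G) ≤ M →
      IsPGroup 2 (M.map (QuotientGroup.mk' (centralizer (V : Set G)))) → ∀ r ∈ M,
      Nat.card V ≤ 2 * Nat.card ↥(V ⊓ centralizer (zpowers r : Set G)) → r ^ 2 ∈ centralizer (V : Set G) →
      r ∈ centralizer (V : Set G))
    {r : G} (hr : Nat.card V ≤ 2 * Nat.card ↥(V ⊓ centralizer (zpowers r : Set G)))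
    (hr2 : r ^ 2 ∈ centralizer (V : Set G)) (hrC : r ∉ centralizer (V : Set G)) :
    Involves (Equiv.Perm (Fin 4)) G := by
  set C := centralizer (V : Set G) with hC
  set π := QuotientGroup.mk' C with hπ
  have hπ1 : ∀ x, π x = 1 ↔ x ∈ C := fun x => QuotientGroup.eq_one_iff x
  have hord : orderOf (π r) = 2 :=
    orderOf_eq_prime (by rw [← map_pow, hπ1]; exact hr2) (fun h => hrC ((hπ1 r).1 h))
  obtain ⟨h₀, hh1, hhodd, hhinv⟩ := CfsgLib.Invol.exists_inverted_odd (π r) hord fun N hN hN2 hrN => by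
    refine hrC (hO (N.comap π) (hN.comap π) ?_ ?_ r hrN hr hr2)
    · exact fun x hx => by rw [Subgroup.mem_comap, (hπ1 x).2 hx]; exact one_mem _
    · exact hN2.to_le (Subgroup.map_comap_le _ _)
  set q := (orderOf h₀).minFac with hq
  have h0 : orderOf h₀ ≠ 1 := fun h => hh1 (orderOf_eq_one_iff.1 h)
  have : Fact q.Prime := ⟨Nat.minFac_prime h0⟩
  have hq2 : q ≠ 2 := fun h => by
    have h2 := Nat.minFac_dvd (orderOf h₀)
    rw [← hq, h] at h2
    exact Nat.not_even_iff_odd.2 hhodd (even_iff_two_dvd.2 h2)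
  set c₀ := h₀ ^ (orderOf h₀ / q) with hc₀
  have hc₀o : orderOf c₀ = q := by
    rw [hc₀, orderOf_pow_of_dvd (Nat.div_ne_zero_iff.2 ⟨(Fact.out : q.Prime).ne_zero,
      Nat.minFac_le (orderOf_pos h₀)⟩) (Nat.div_dvd_of_dvd (Nat.minFac_dvd _)),
      Nat.div_div_self (Nat.minFac_dvd _) (orderOf_pos h₀).ne']
  have hc₀inv : π r * c₀ * (π r)⁻¹ = c₀⁻¹ := by rw [hc₀, ← conj_pow, hhinv, inv_pow]
  obtain ⟨c₁, hc₁⟩ := QuotientGroup.mk'_surjective C c₀
  change π c₁ = c₀ at hc₁
  obtain ⟨m, hm, hcop⟩ := CfsgLib.LocalEven.Offender.exists_coprime_lift (p := 2) π c₁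
    (by rw [hc₁, hc₀o]; exact (Nat.coprime_primes Fact.out Nat.prime_two).2 hq2)
  set c := c₁ ^ m with hc
  rw [hc₁] at hm
  have hcC : c ∉ C := fun h => by
    have h2 := (hπ1 c).2 h
    rw [hm] at h2
    exact (Fact.out : q.Prime).ne_one (hc₀o ▸ orderOf_eq_one_iff.2 h2)
  -- the common fixed points
  let fix : G → Subgroup V := fun g => (centralizer (zpowers g : Set G)).subgroupOf V
  set C₀ := fix r ⊓ fix (c * r * c⁻¹) with hC₀
  have hfix : ∀ g (v : V), v ∈ fix g ↔ g * (v : G) * g⁻¹ = v := fun g v => by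
    simp only [fix, Subgroup.mem_subgroupOf, Subgroup.mem_centralizer_iff, SetLike.mem_coe]
    constructor
    · intro h; rw [h g (mem_zpowers g), mul_inv_cancel_right]
    · rintro h _ ⟨i, rfl⟩
      exact (show Commute g (v : G) from mul_inv_eq_iff_eq_mul.1 h).zpow_left i
  have hidx : ∀ g, Nat.card V ≤ 2 * Nat.card ↥(V ⊓ centralizer (zpowers g : Set G)) →
      (fix g).index ≤ 2 := by
    intro g hg
    have h1 := Subgroup.card_mul_index (fix g)
    have h2 : Nat.card (fix g) = Nat.card ↥(V ⊓ centralizer (zpowers g : Set G)) := by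
      rw [← Subgroup.card_map_of_injective V.subtype_injective (K := fix g)]
      simp [fix, Subgroup.subgroupOf_map_subtype, inf_comm]
    rw [h2] at h1
    exact Nat.le_of_mul_le_mul_left (by rw [h1, mul_comm]; exact hg) Nat.card_pos
  have hidx0 : C₀.index ≤ 4 := by
    have hcr : (fix (c * r * c⁻¹)).index ≤ 2 := by
      refine le_trans (le_of_eq ?_) (hidx r hr)
      have : (fix r).map (MulAut.conjNormal c).toMonoidHom = fix (c * r * c⁻¹) := by
        ext v
        rw [Subgroup.mem_map_equiv, hfix, hfix, MulAut.conjNormal_symm_apply]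
        constructor
        · intro h
          calc c * r * c⁻¹ * (v : G) * (c * r * c⁻¹)⁻¹ = c * (r * (c⁻¹ * v * c) * r⁻¹) * c⁻¹ := by group
            _ = _ := by rw [h]; group
        · intro h
          calc r * (c⁻¹ * (v : G) * c) * r⁻¹ = c⁻¹ * (c * r * c⁻¹ * v * (c * r * c⁻¹)⁻¹) * c := by group
            _ = _ := by rw [h]
      rw [← this]
      exact Subgroup.index_map_of_bijective (MulEquiv.bijective _) _
    exact Subgroup.index_inf_le.trans (Nat.mul_le_mul (hidx r hr) hcr)
  have hcfix : ∀ v ∈ C₀, c * (v : G) * c⁻¹ = v := by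
    intro v hv
    let F : Subgroup G := centralizer ({(v : G)} : Set G)
    have hrF : r ∈ F := Subgroup.mem_centralizer_singleton_iff.2 (mul_inv_eq_iff_eq_mul.1 ((hfix _ v).1 hv.1))
    have hrcF : c * r * c⁻¹ ∈ F :=
      Subgroup.mem_centralizer_singleton_iff.2 (mul_inv_eq_iff_eq_mul.1 ((hfix _ v).1 hv.2))
    have hCF : C ≤ F := fun x hx => Subgroup.mem_centralizer_singleton_iff.2 (hx v v.2).symm
    have h2 : π (c * r * c⁻¹ * r) = π c ^ 2 := by
      rw [hm]
      have h1 : π r * π r = 1 := by rw [← sq, ← hord, pow_orderOf_eq_one]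
      have h3 : π r * c₀⁻¹ * π r = c₀ := by
        rw [show π r * c₀⁻¹ * π r = (π r * c₀ * (π r)⁻¹)⁻¹ * (π r * π r) by group, hc₀inv, h1, inv_inv,
          mul_one]
      rw [map_mul, map_mul, map_mul, map_inv, hm, mul_assoc, mul_assoc, ← mul_assoc (π r), h3, sq]
    have h3 : π c ∈ F.map π := by
      have h4 : π c ^ 2 ∈ F.map π := h2 ▸ Subgroup.mem_map_of_mem π (mul_mem hrcF hrF)
      have h5 : π c ^ q = 1 := by rw [hm, ← hc₀o, pow_orderOf_eq_one]
      obtain ⟨k, hk⟩ := (Fact.out : q.Prime).eq_two_or_odd'.resolve_left hq2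
      have h6 : π c = (π c ^ 2) ^ (k + 1) := by
        rw [← pow_mul, show 2 * (k + 1) = q + 1 by omega, pow_succ, h5, one_mul]
      rw [h6]; exact pow_mem h4 _
    obtain ⟨x, hx, hxe⟩ := h3
    have h7 : c ∈ F := by
      have : x⁻¹ * c ∈ C := QuotientGroup.eq.1 hxe
      simpa using mul_mem hx (hCF this)
    exact mul_inv_eq_iff_eq_mul.2 (Subgroup.mem_centralizer_singleton_iff.1 h7)
  -- the cosets of the fixed points
  obtain ⟨v₀, hv₀, hv₀c⟩ : ∃ v ∈ V, c * v * c⁻¹ ≠ v := by
    by_contra h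
    push Not at h
    exact hcC fun v hv => (mul_inv_eq_iff_eq_mul.1 (h v hv)).symm
  obtain ⟨e, he⟩ := hV.exists_card_eq
  set γ : MulAut V := MulAut.conjNormal c with hγ
  set v : V := ⟨v₀, hv₀⟩
  have hγv : ∀ i : ℕ, ((γ ^ i) v : G) = c ^ i * v₀ * (c ^ i)⁻¹ := fun i => by
    rw [hγ, ← map_pow, MulAut.conjNormal_apply]
  have hγC : ∀ a ∈ C₀, ∀ i : ℕ, (γ ^ i) a = a := fun a ha i => by
    induction i with
    | zero => rfl
    | succ i ih =>
      rw [pow_succ, MulAut.mul_apply]
      rw [show γ a = a from Subtype.ext (by rw [hγ, MulAut.conjNormal_apply]; exact hcfix a ha), ih]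
  have hkey : ∀ i : ℕ, v⁻¹ * (γ ^ i) v ∈ C₀ → (γ ^ i) v = v := by
    intro i hi
    set a := v⁻¹ * (γ ^ i) v with ha
    have hstep : ∀ j : ℕ, ((γ ^ i) ^ j) v = v * a ^ j := by
      intro j
      induction j with
      | zero => simp
      | succ j ih =>
        rw [pow_succ' (γ ^ i), MulAut.mul_apply, ih, map_mul, map_pow, hγC a hi i, pow_succ', ha,
          ← mul_assoc, mul_inv_cancel_left]
    have h1 : a ^ orderOf c = 1 := by
      have := hstep (orderOf c)
      rw [← pow_mul, mul_comm, pow_mul] at this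
      rw [hγ, ← map_pow, pow_orderOf_eq_one, map_one, one_pow, MulAut.one_apply] at this
      exact mul_eq_left.1 this.symm
    have h2 : a ^ 2 ^ e = 1 := by rw [← he]; exact pow_card_eq_one'
    have h3 := pow_gcd_eq_one.2 ⟨h1, h2⟩
    rw [Nat.Coprime.gcd_eq_one (hcop.pow_right e), pow_one, ha, inv_mul_eq_one] at h3
    exact h3.symm
  have hfixpow : ∀ i, 0 < i → i < q → (γ ^ i) v ≠ v := by
    intro i hi0 hiq h
    have hF : c ^ i ∈ centralizer ({v₀} : Set G) := Subgroup.mem_centralizer_singleton_iff.2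
      (mul_inv_eq_iff_eq_mul.1 ((hγv i).symm.trans (congrArg Subtype.val h)))
    have hq1 : c ^ q ∈ centralizer ({v₀} : Set G) := by
      refine Subgroup.mem_centralizer_singleton_iff.2 (Subgroup.mem_centralizer_iff.1 ?_ v₀ hv₀).symm
      rw [← hπ1, map_pow, hm, ← hc₀o, pow_orderOf_eq_one]
    have hg : Nat.Coprime i q :=
      ((Fact.out : q.Prime).coprime_iff_not_dvd.2 fun hd => absurd (Nat.le_of_dvd hi0 hd) (by omega)).symm
    have h4 : c ∈ centralizer ({v₀} : Set G) := by
      have : (c : G) ^ (1 : ℤ) ∈ centralizer ({v₀} : Set G) := by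
        have hb := Nat.gcd_eq_gcd_ab i q
        rw [hg.gcd_eq_one, Nat.cast_one] at hb
        rw [hb, zpow_add, zpow_mul, zpow_mul, zpow_natCast, zpow_natCast]
        exact mul_mem (zpow_mem hF _) (zpow_mem hq1 _)
      simpa using this
    exact hv₀c (mul_inv_eq_iff_eq_mul.2 (Subgroup.mem_centralizer_singleton_iff.1 h4))
  let F : Option (Fin q) → V ⧸ C₀ := fun o =>
    o.elim 1 fun i => (((γ ^ (i : ℕ)) v : V) : V ⧸ C₀)
  have hFinj : Function.Injective F := by
    have hne1 : ∀ i : ℕ, (((γ ^ i) v : V) : V ⧸ C₀) ≠ 1 := fun i h => by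
      have h1 := (QuotientGroup.eq_one_iff _).1 h
      have h2 : v ∈ C₀ := by
        have h3 : (γ ^ i) ((γ ^ i) v) = (γ ^ i) v := hγC _ h1 i
        rw [(γ ^ i).injective h3] at h1
        exact h1
      exact hv₀c (hcfix v h2)
    rintro (_ | ⟨i, hi⟩) (_ | ⟨j, hj⟩) h
    · rfl
    · exact absurd h.symm (hne1 j)
    · exact absurd h (hne1 i)
    · simp only [F, Option.elim] at h
      rcases lt_trichotomy i j with hlt | rfl | hlt
      · exfalso
        have h1 := QuotientGroup.eq.1 h
        have h2 : (γ ^ j) v = (γ ^ i) ((γ ^ (j - i)) v) := by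
          rw [← MulAut.mul_apply, ← pow_add, Nat.add_sub_cancel' hlt.le]
        rw [h2, ← map_inv, ← map_mul] at h1
        have h3 := hγC _ h1 i
        rw [(γ ^ i).injective h3] at h1
        exact hfixpow _ (by omega) (by omega) (hkey _ h1)
      · rfl
      · exfalso
        have h1 := QuotientGroup.eq.1 h.symm
        have h2 : (γ ^ i) v = (γ ^ j) ((γ ^ (i - j)) v) := by
          rw [← MulAut.mul_apply, ← pow_add, Nat.add_sub_cancel' hlt.le]
        rw [h2, ← map_inv, ← map_mul] at h1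
        have h3 := hγC _ h1 j
        rw [(γ ^ j).injective h3] at h1
        exact hfixpow _ (by omega) (by omega) (hkey _ h1)
  have hq3 : q = 3 := by
    have h1 := Nat.card_le_card_of_injective F hFinj
    rw [← Subgroup.index_eq_card, Nat.card_eq_fintype_card, Fintype.card_option, Fintype.card_fin] at h1
    have := (Fact.out : q.Prime).two_le
    omega
  obtain ⟨x, y, hx, hy, hy1, hxy⟩ := CfsgLib.Transfer.exists_inverted_lift hq2 π (t := r) (c := c₁)
    ⟨1, by rw [hc₁, hc₀o, pow_one]⟩ (fun h => (Fact.out : q.Prime).ne_one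
      (hc₀o ▸ orderOf_eq_one_iff.2 (hc₁ ▸ h))) (by rw [hc₁]; exact hc₀inv)
  have hnV : ∀ g : G, g ∈ normalizer (V : Set G) := fun g => by
    rw [Subgroup.normalizer_eq_top]; trivial
  exact CfsgLib.LocalEven.S4Crit.involves_of_two_group hV (hnV x) (hnV y) hx (hq3 ▸ hy) hxy
    fun h => hy1 ((hπ1 y).2 h)

/-- A subgroup over `O` moving no more of `V` than its own size over `O`. -/
def Off (p : ℕ) (O C V E : Subgroup G) : Prop :=
  IsPGroup p E ∧ O ≤ E ∧ ¬ E ≤ C ∧
    Nat.card V * Nat.card O ≤ Nat.card E * Nat.card ↥(V ⊓ centralizer (E : Set G))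

/-- The smallest such subgroups. -/
def minOff (p : ℕ) (O C V : Subgroup G) : Set (Subgroup G) :=
  {E | Off p O C V E ∧ ∀ E', Off p O C V E' → E' ≤ E → E' = E}

omit [Finite G] hp in
theorem map_conj_normal (N : Subgroup G) [hN : N.Normal] (g : G) :
    N.map (MulAut.conj g).toMonoidHom = N := by
  ext x
  rw [Subgroup.mem_map_equiv, MulAut.conj_symm_apply]
  exact ⟨fun h => by simpa [mul_assoc] using hN.conj_mem _ h g,
    fun h => by simpa [mul_assoc] using hN.conj_mem _ h g⁻¹⟩

omit [Finite G] hp in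
theorem off_map {O C V E : Subgroup G} [O.Normal] [C.Normal] [V.Normal] (h : Off p O C V E) (g : G) :
    Off p O C V (E.map (MulAut.conj g).toMonoidHom) := by
  obtain ⟨hE, hOE, hEC, hc⟩ := h
  have hinj := (MulAut.conj g).injective
  refine ⟨hE.map _, ?_, fun hh => hEC ?_, ?_⟩
  · rw [← map_conj_normal O g]; exact Subgroup.map_mono hOE
  · rw [← map_conj_normal C g] at hh
    exact (Subgroup.map_le_map_iff_of_injective hinj).1 hh
  · have h2 : V ⊓ centralizer ((E.map (MulAut.conj g).toMonoidHom : Subgroup G) : Set G) =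
        (V ⊓ centralizer (E : Set G)).map (MulAut.conj g).toMonoidHom := by
      ext x
      rw [Subgroup.mem_map_equiv, MulAut.conj_symm_apply, Subgroup.mem_inf, Subgroup.mem_inf]
      refine and_congr ⟨fun h => by simpa [mul_assoc] using ‹V.Normal›.conj_mem _ h g⁻¹,
        fun h => by simpa [mul_assoc] using ‹V.Normal›.conj_mem _ h g⟩ ?_
      rw [Subgroup.mem_centralizer_iff, Subgroup.mem_centralizer_iff]
      constructor
      · intro h e he
        have h1 := h (g * e * g⁻¹) ⟨e, he, rfl⟩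
        calc e * (g⁻¹ * x * g) = g⁻¹ * ((g * e * g⁻¹) * x) * g := by group
          _ = g⁻¹ * (x * (g * e * g⁻¹)) * g := by rw [h1]
          _ = _ := by group
      · rintro h _ ⟨e, he, rfl⟩
        have h1 := h e he
        calc g * e * g⁻¹ * x = g * (e * (g⁻¹ * x * g)) * g⁻¹ := by group
          _ = g * ((g⁻¹ * x * g) * e) * g⁻¹ := by rw [h1]
          _ = _ := by simp [mul_assoc]
    rw [h2, Subgroup.card_map_of_injective hinj, Subgroup.card_map_of_injective hinj]
    exact hc

omit [Finite G] hp in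
theorem minOff_map {O C V E : Subgroup G} [O.Normal] [C.Normal] [V.Normal]
    (h : E ∈ minOff p O C V) (g : G) : E.map (MulAut.conj g).toMonoidHom ∈ minOff p O C V := by
  refine ⟨off_map h.1 g, fun E' hE' hle => ?_⟩
  have h1 := h.2 _ (off_map hE' g⁻¹) ?_
  · rw [← h1]
    ext x
    simp [Subgroup.mem_map_equiv, MulAut.conj_symm_apply, mul_assoc]
  · rintro _ ⟨x, hx, rfl⟩
    obtain ⟨e, he, rfl⟩ := hle hx
    simpa [mul_assoc] using he

/-- A step of index `p` inside a smallest offender kills fixed elements. -/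
theorem step {O V : Subgroup G} [O.Normal] [V.Normal] [IsMulCommutative V] (P : Sylow p G)
    (hVP : V ≤ P) (hPC : (P : Subgroup G) ⊓ centralizer (V : Set G) = O) (k : ℕ) (Q : Subgroup V)
    (hQ : ∀ u : V, u ^ (k * p) ∈ Q) (hkp : p ∣ k * (p * (p - 1) / 2) ∨
      ∀ r ∈ (P : Subgroup G), r ∉ centralizer (V : Set G) → r ^ p ∈ centralizer (V : Set G) →
        ¬ Nat.card V ≤ p * Nat.card ↥(V ⊓ centralizer (zpowers r : Set G)))
    {E : Subgroup G} (hE : E ∈ minOff p O (centralizer (V : Set G)) V) (hEP : E ≤ P)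
    {R₀ : Subgroup G} {r : G} (hOR₀ : O ≤ R₀) (hrE : r ∈ E) (hrR₀ : r ∉ R₀)
    (hrel : R₀.relIndex E = p) (u : V) (hu : ∀ g ∈ E ⊓ R₀, MulAut.conjNormal g u = u) :
    (∏ j ∈ Finset.range p, MulAut.conjNormal (r ^ j) u) ^ k ∈ Q := by
  obtain ⟨⟨hEp, hOE, hEC, hoff⟩, hmin⟩ := hE
  set E₀ := E ⊓ R₀ with hE₀
  have hcardE : Nat.card E = p * Nat.card E₀ := by
    rw [← hrel, ← Subgroup.inf_relIndex_left, ← hE₀]
    rw [← Subgroup.card_mul_index (E₀.subgroupOf E), Nat.card_congr
      (Subgroup.subgroupOfEquivOfLe (inf_le_left : E₀ ≤ E)).toEquiv, mul_comm]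
    rfl
  have hOE₀ : O ≤ E₀ := le_inf hOE hOR₀
  have hufix : (u : G) ∈ centralizer (E₀ : Set G) := fun g hg =>
    mul_inv_eq_iff_eq_mul.1 (by rw [← MulAut.conjNormal_apply, hu g hg])
  by_cases hE₀O : E₀ ≤ O
  · -- the kernel is the core
    have he : E₀ = O := le_antisymm hE₀O hOE₀
    rw [hcardE, he, mul_assoc, mul_comm (Nat.card O), ← mul_assoc] at hoff
    have hV : Nat.card V ≤ p * Nat.card ↥(V ⊓ centralizer (zpowers r : Set G)) := by
      refine (Nat.le_of_mul_le_mul_right hoff Nat.card_pos).trans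
        (Nat.mul_le_mul_left _ (Subgroup.card_le_of_le (inf_le_inf_left V ?_)))
      exact Subgroup.centralizer_le (Subgroup.zpowers_le.2 hrE)
    have hrC : r ∉ centralizer (V : Set G) := fun h =>
      hrR₀ (hOR₀ (hPC.le ⟨hEP hrE, h⟩))
    have hrp : r ^ p ∈ centralizer (V : Set G) := by
      have : (O.subgroupOf E).Normal := inferInstance
      have h1 : (⟨r, hrE⟩ : E) ^ (O.subgroupOf E).index ∈ O.subgroupOf E :=
        Subgroup.pow_index_mem _ _
      have h2 : (O.subgroupOf E).index = p := by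
        rw [← he]
        exact (Subgroup.inf_relIndex_left E R₀).trans hrel
      rw [h2] at h1
      exact (hPC.ge h1).2
    rcases hkp with hkp | hkp
    swap
    · exact absurd hV (hkp r (hEP hrE) hrC hrp)
    let ψ : V →* V :=
      { toFun := fun v => MulAut.conjNormal r v * v⁻¹
        map_one' := by simp
        map_mul' := fun a b => by
          rw [map_mul, mul_inv, mul_mul_mul_comm] }
    have hker : ψ.ker.map V.subtype = V ⊓ centralizer (zpowers r : Set G) := by
      ext x
      constructor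
      · rintro ⟨v, hv, rfl⟩
        refine ⟨v.2, ?_⟩
        rintro _ ⟨i, rfl⟩
        have h1 : r * (v : G) * r⁻¹ = v := by
          rw [← MulAut.conjNormal_apply, show MulAut.conjNormal r v = v from mul_inv_eq_one.1 hv]
        exact (show Commute r (v : G) from mul_inv_eq_iff_eq_mul.1 h1).zpow_left i
      · rintro ⟨hxV, hx⟩
        refine ⟨⟨x, hxV⟩, ?_, rfl⟩
        show MulAut.conjNormal r ⟨x, hxV⟩ * (⟨x, hxV⟩ : V)⁻¹ = 1
        exact mul_inv_eq_one.2 (Subtype.ext (by
          rw [MulAut.conjNormal_apply, hx r (mem_zpowers r), mul_inv_cancel_right]))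
    have hrange : Nat.card ψ.range ≤ p := by
      have h1 := Subgroup.card_mul_index ψ.ker
      rw [Subgroup.index_ker, ← Subgroup.card_map_of_injective V.subtype_injective, hker] at h1
      exact Nat.le_of_mul_le_mul_left (by rw [h1, mul_comm]; exact hV) Nat.card_pos
    have hVp : IsPGroup p V := P.2.to_le hVP
    set d := ψ u with hd
    have hdfix : MulAut.conjNormal r d = d := by
      rcases (hVp.to_subgroup ψ.range).card_eq_or_dvd with h1 | h1
      · have : d = 1 := Subgroup.mem_bot.1 ((Subgroup.eq_bot_of_card_eq _ h1) ▸ ⟨u, rfl⟩)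
        rw [this, map_one]
      have hDcard : Nat.card (ψ.range.map V.subtype) = p := by
        rw [Subgroup.card_map_of_injective V.subtype_injective]
        exact le_antisymm hrange (Nat.le_of_dvd Nat.card_pos h1)
      set D := ψ.range.map V.subtype with hD
      set J := zpowers r ⊔ D with hJ
      have hDP : D ≤ P := (Subgroup.map_subtype_le _).trans hVP
      have hJP : J ≤ P := sup_le (Subgroup.zpowers_le.2 (hEP hrE)) hDP
      have hrD : r ∈ normalizer (D : Set G) := mem_normalizer_of_conj (by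
        rintro _ ⟨_, ⟨v, rfl⟩, rfl⟩
        refine ⟨ψ (MulAut.conjNormal r v), ⟨_, rfl⟩, ?_⟩
        show ((ψ (MulAut.conjNormal r v) : V) : G) = r * (ψ v : V) * r⁻¹
        rw [← MulAut.conjNormal_apply]
        congr 1
        show MulAut.conjNormal r (MulAut.conjNormal r v) * (MulAut.conjNormal r v)⁻¹ =
          MulAut.conjNormal r (MulAut.conjNormal r v * v⁻¹)
        rw [map_mul, map_inv])
      have : (D.subgroupOf J).Normal := Subgroup.normal_subgroupOf_of_le_normalizer
        (sup_le (Subgroup.zpowers_le.2 hrD) Subgroup.le_normalizer)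
      have h2 := CfsgLib.PGroup.le_center_of_card_eq (P.2.to_le hJP) (D.subgroupOf J)
        (by rw [Nat.card_congr (Subgroup.subgroupOfEquivOfLe le_sup_right).toEquiv, hDcard])
      have h3 : (⟨d, Subgroup.mem_sup_right ⟨d, ⟨u, rfl⟩, rfl⟩⟩ : J) ∈ D.subgroupOf J :=
        Subgroup.mem_subgroupOf.2 ⟨d, ⟨u, rfl⟩, rfl⟩
      have h4 := Subgroup.mem_center_iff.1 (h2 h3) ⟨r, Subgroup.mem_sup_left (mem_zpowers r)⟩
      refine Subtype.ext ?_
      rw [MulAut.conjNormal_apply, mul_inv_eq_iff_eq_mul]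
      exact congrArg Subtype.val h4
    have hiter : ∀ j : ℕ, MulAut.conjNormal (r ^ j) u = u * d ^ j := by
      intro j
      induction j with
      | zero => simp
      | succ j ih =>
        rw [pow_succ' r, map_mul, MulAut.mul_apply, ih, map_mul, map_pow, hdfix,
          show MulAut.conjNormal r u = u * d by
            show _ = u * (MulAut.conjNormal r u * u⁻¹)
            rw [mul_comm u, inv_mul_cancel_right],
          mul_assoc, ← pow_succ']
    have hdp : d ^ p = 1 := by
      have h1 : (⟨d, ⟨u, rfl⟩⟩ : ψ.range) ^ Nat.card ψ.range = 1 := pow_card_eq_one'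
      have h2 : Nat.card ψ.range ∣ p := by
        obtain ⟨e, he⟩ := (hVp.to_subgroup ψ.range).exists_card_eq
        rw [he] at hrange ⊢
        calc p ^ e ∣ p ^ 1 := pow_dvd_pow p
              ((Nat.pow_le_pow_iff_right hp.out.one_lt).1 (hrange.trans_eq (pow_one p).symm))
          _ = p := pow_one p
      obtain ⟨m, hm⟩ := h2
      have h4 : d ^ Nat.card ψ.range = 1 := by simpa using congrArg Subtype.val h1
      rw [show d ^ p = (d ^ Nat.card ψ.range) ^ m by rw [← pow_mul, ← hm], h4, one_pow]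
    rw [Finset.prod_congr rfl fun j _ => hiter j, Finset.prod_mul_distrib, Finset.prod_const,
      Finset.card_range, Finset.prod_pow_eq_pow_sum, Finset.sum_range_id, mul_pow, ← pow_mul,
      ← pow_mul, mul_comm p k, mul_comm (p * (p - 1) / 2) k]
    refine mul_mem (hQ u) ?_
    obtain ⟨m, hm⟩ := hkp
    rw [hm, pow_mul, hdp, one_pow]
    exact one_mem _
  -- otherwise the fixed elements of the hyperplane are fixed by all
  have hE₀C : ¬ E₀ ≤ centralizer (V : Set G) := fun h =>
    hE₀O fun x hx => hPC.le ⟨hEP hx.1, h hx⟩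
  have hnot : ¬ Nat.card V * Nat.card O ≤ Nat.card E₀ * Nat.card ↥(V ⊓ centralizer (E₀ : Set G)) :=
    fun h => hrR₀ ((hmin E₀ ⟨hEp.to_le inf_le_left, hOE₀, hE₀C, h⟩ inf_le_left).ge hrE).2
  have hle : V ⊓ centralizer (E : Set G) ≤ V ⊓ centralizer (E₀ : Set G) :=
    inf_le_inf_left V (Subgroup.centralizer_le inf_le_left)
  have heq : V ⊓ centralizer (E : Set G) = V ⊓ centralizer (E₀ : Set G) := by
    refine Subgroup.eq_of_le_of_card_ge hle ?_
    obtain ⟨a, ha⟩ := (P.2.to_le hVP).exists_card_eq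
    obtain ⟨b, hb⟩ := (P.2.to_le (hOE.trans hEP)).exists_card_eq
    obtain ⟨c, hc⟩ := (hEp.to_le (inf_le_left : E₀ ≤ E)).exists_card_eq
    obtain ⟨i, hi⟩ := (P.2.to_le ((inf_le_left : V ⊓ centralizer (E : Set G) ≤ V).trans hVP)).exists_card_eq
    obtain ⟨j, hj⟩ := (P.2.to_le ((inf_le_left : V ⊓ centralizer (E₀ : Set G) ≤ V).trans hVP)).exists_card_eq
    rw [ha, hb, hcardE, hc, hi, ← pow_succ', ← pow_add, ← pow_add,
      Nat.pow_le_pow_iff_right hp.out.one_lt] at hoff
    rw [ha, hb, hc, hj, ← pow_add, ← pow_add, Nat.pow_le_pow_iff_right hp.out.one_lt] at hnot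
    rw [hj, hi]
    exact Nat.pow_le_pow_right hp.out.pos (by omega)
  have hufix' : ∀ j, MulAut.conjNormal (r ^ j) u = u := fun j => Subtype.ext (by
    rw [MulAut.conjNormal_apply, mul_inv_eq_iff_eq_mul]
    exact (heq.ge ⟨u.2, hufix⟩).2 _ (pow_mem hrE j))
  rw [Finset.prod_congr rfl fun j _ => hufix' j, Finset.prod_const, Finset.card_range, ← pow_mul,
    mul_comm]
  exact hQ u

/-- The Thompson subgroup is normal or gives an offender. -/
theorem exists_off (P : Sylow p G) {O V : Subgroup G} [O.Normal] [V.Normal] [IsMulCommutative V]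
    (hVO : V ≤ O) (hOC : O ≤ centralizer (V : Set G))
    (hPC : (P : Subgroup G) ⊓ centralizer (V : Set G) = O) :
    (∀ g : G, g ∈ normalizer (jGen 0 (P : Subgroup G) : Set G)) ∨
      ∃ E, Off p O (centralizer (V : Set G)) V E ∧ E ≤ (P : Subgroup G) := by
  have hOP : O ≤ (P : Subgroup G) := hPC ▸ inf_le_left
  by_cases hA : ∃ A ∈ maxAdm 0 (P : Subgroup G), ¬ A ≤ O
  · right
    obtain ⟨A, hA, hAO⟩ := hA
    set E := A ⊔ O with hE
    have hEP : E ≤ (P : Subgroup G) := sup_le hA.1 hOP
    refine ⟨E, ⟨P.2.to_le hEP, le_sup_right, fun h => hAO fun a ha => hPC.le ⟨hA.1 ha,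
      h (Subgroup.mem_sup_left ha)⟩, ?_⟩, hEP⟩
    set B := A ⊓ O ⊔ V with hB
    have hBP : B ≤ (P : Subgroup G) := sup_le (inf_le_right.trans hOP) (hVO.trans hOP)
    have hBc : IsMulCommutative B := by
      rw [hB, Subgroup.sup_eq_closure]
      refine Subgroup.isMulCommutative_closure ?_
      rintro x (⟨hxA, hxO⟩ | hx) y (⟨hyA, hyO⟩ | hy)
      · exact adm_comm hA.2.1 hxA hyA
      · exact (hOC hxO y hy).symm
      · exact hOC hyO x hx
      · exact congrArg Subtype.val (mul_comm' (⟨x, hx⟩ : V) ⟨y, hy⟩)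
    have hBA := hA.2.2 B hBP ⟨hBc, fun b _ => pow_zero b⟩
    have hc : ∀ (X N : Subgroup G) [N.Normal],
        Nat.card ↥(X ⊔ N) * Nat.card ↥(X ⊓ N) = Nat.card X * Nat.card N := by
      intro X N _
      have h1 : Nat.card ↥(X ⊔ N) = N.relIndex X * Nat.card N := by
        rw [← Subgroup.relIndex_sup_right (H := X), mul_comm, ← Subgroup.relIndex_bot_left,
          ← Subgroup.relIndex_bot_left, Subgroup.relIndex_mul_relIndex ⊥ N (X ⊔ N) bot_le le_sup_right]
      have h2 : Nat.card X = N.relIndex X * Nat.card ↥(X ⊓ N) := by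
        rw [← Subgroup.inf_relIndex_left X N, mul_comm, ← Subgroup.relIndex_bot_left,
          ← Subgroup.relIndex_bot_left, Subgroup.relIndex_mul_relIndex ⊥ (X ⊓ N) X bot_le inf_le_left]
      rw [h1, h2]; ring
    have hi : A ⊓ O ⊓ V ≤ V ⊓ centralizer (E : Set G) := by
      rintro x ⟨⟨hxA, hxO⟩, hxV⟩
      refine ⟨hxV, fun e he => ?_⟩
      have : E ≤ centralizer ({x} : Set G) := sup_le
        (fun a ha => Subgroup.mem_centralizer_singleton_iff.2 (adm_comm hA.2.1 ha hxA))
        fun o ho => Subgroup.mem_centralizer_singleton_iff.2 (hOC ho x hxV).symm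
      exact Subgroup.mem_centralizer_singleton_iff.1 (this he)
    have h1 := hc A O
    have h2 := hc (A ⊓ O) V
    rw [← hE] at h1
    rw [← hB] at h2
    have h3 : Nat.card V * Nat.card ↥(A ⊓ O) ≤
        Nat.card A * Nat.card ↥(V ⊓ centralizer (E : Set G)) := by
      rw [mul_comm (Nat.card V), ← h2]
      exact Nat.mul_le_mul hBA (Subgroup.card_le_of_le hi)
    refine Nat.le_of_mul_le_mul_right (c := Nat.card ↥(A ⊓ O)) ?_ (Nat.card_pos (α := ↥(A ⊓ O)))
    calc Nat.card V * Nat.card O * Nat.card ↥(A ⊓ O)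
        = Nat.card V * Nat.card ↥(A ⊓ O) * Nat.card O := by ring
      _ ≤ Nat.card A * Nat.card ↥(V ⊓ centralizer (E : Set G)) * Nat.card O := Nat.mul_le_mul_right _ h3
      _ = Nat.card A * Nat.card O * Nat.card ↥(V ⊓ centralizer (E : Set G)) := by ring
      _ = _ := by rw [← h1]; ring
  push Not at hA
  left
  intro g
  have hJ : jGen 0 (P : Subgroup G) = jGen 0 O := by
    obtain ⟨A₀, hA₀⟩ := maxAdm_nonempty 0 (P : Subgroup G)
    refine le_antisymm (sSup_le fun A hAm => le_jGen ⟨hA A hAm, hAm.2.1,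
      fun B hB hBa => hAm.2.2 B (hB.trans hOP) hBa⟩)
      (sSup_le fun A hAm => le_jGen (maxAdm_of_le hOP hA₀ (hA A₀ hA₀) hAm))
  rw [hJ]
  refine mem_normalizer_of_conj fun x hx => ?_
  have h1 := jGen_map (e := 0) (f := (MulAut.conj g).toMonoidHom) (MulAut.conj g).injective O
  rw [map_conj_normal O g] at h1
  exact h1.ge ⟨x, hx, rfl⟩

/-- The main induction step. -/
theorem commute_of_overgroups (P : Sylow p G)
    (hC : centralizer ((pCore p G : Subgroup G) : Set G) ≤ pCore p G) (k : ℕ)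
    (hk : k = p ∨ (k = 1 ∧ (p ≠ 2 ∨ ¬ Involves (Equiv.Perm (Fin 4)) G)))
    {z : G} (hzP : z ∈ (P : Subgroup G)) (hzc : ∀ y ∈ (P : Subgroup G), y * z = z * y)
    (hJ : ∀ g ∈ normalizer (jGen 0 (P : Subgroup G) : Set G), g * z ^ k = z ^ k * g)
    (hsub : ∀ H : Subgroup G, (P : Subgroup G) ≤ H → H ≠ ⊤ → ∀ g ∈ H, g * z ^ k = z ^ k * g)
    (hwp : ∀ g : G, g * (z ^ k) ^ p = (z ^ k) ^ p * g) : ∀ g : G, g * z ^ k = z ^ k * g := by
  classical
  by_contra hne
  set w := z ^ k with hwdef
  set O := pCore p G with hOdef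
  have hOn : O.Normal := inferInstance
  have hOP : O ≤ (P : Subgroup G) := Cores.pCore_le_sylow P
  have hzO : z ∈ O := hC fun y hy => hzc y (hOP hy)
  set V : Subgroup G := Subgroup.normalClosure {z} with hVdef
  have hVn : V.Normal := Subgroup.normalClosure_normal
  have hcg : ∀ x ∈ Group.conjugatesOfSet ({z} : Set G), ∀ o ∈ O, o * x = x * o := by
    intro x hx o ho
    obtain ⟨a, ha, hax⟩ := Group.mem_conjugatesOfSet_iff.1 hx
    rw [Set.mem_singleton_iff.1 ha] at hax
    obtain ⟨g, rfl⟩ := isConj_iff.1 hax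
    have h1 : g⁻¹ * o * g ∈ O := by simpa using hOn.conj_mem o ho g⁻¹
    calc o * (g * z * g⁻¹) = g * ((g⁻¹ * o * g) * z) * g⁻¹ := by group
      _ = g * (z * (g⁻¹ * o * g)) * g⁻¹ := by rw [hzc _ (hOP h1)]
      _ = _ := by group
  have hVO : V ≤ O := Subgroup.normalClosure_le_normal (by simpa using hzO)
  have : IsMulCommutative V := by
    refine Subgroup.isMulCommutative_closure fun x hx y hy => ?_
    exact (hcg y hy x (hVO (Subgroup.subset_closure hx)))
  set C := centralizer (V : Set G) with hCdef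
  have hCn : C.Normal := Subgroup.normal_centralizer
  have hOC : O ≤ C := fun o ho v hv => by
    have hle : V ≤ centralizer ({o} : Set G) := (Subgroup.closure_le _).2 fun x hx =>
      Subgroup.mem_centralizer_singleton_iff.2 (hcg x hx o ho).symm
    exact Subgroup.mem_centralizer_singleton_iff.1 (hle hv)
  have hzV : z ∈ V := Subgroup.subset_normalClosure rfl
  let Z : Subgroup G := centralizer ({w} : Set G)
  have hmemZ : ∀ g, g ∈ Z ↔ g * w = w * g := fun g => Subgroup.mem_centralizer_singleton_iff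
  have hCZ : C ≤ Z := fun c hc => (hmemZ c).2 ((hc w (pow_mem hzV k)).symm)
  have hPZ : (P : Subgroup G) ≤ Z := fun y hy => (hmemZ y).2
    ((show Commute y z from hzc y hy).pow_right k).eq
  -- normal subgroups inside `P C` meet `P` in the core
  have hfrat : ∀ M : Subgroup G, M.Normal → M ≤ Z → (P : Subgroup G) ⊓ M ≤ O := by
    intro M hM hMZ
    set H := normalizer (((P : Subgroup G) ⊓ M : Subgroup G) : Set G) with hH
    by_cases htop : H = ⊤
    · have hn : ((P : Subgroup G) ⊓ M).Normal := Subgroup.normalizer_eq_top_iff.1 htop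
      exact Cores.le_pCore (hn := hn) (P.2.to_le inf_le_left)
    exfalso
    apply hne
    have hPH : (P : Subgroup G) ≤ H := fun x hx => mem_normalizer_of_conj (S := (P : Subgroup G) ⊓ M) fun y hy =>
      ⟨(P : Subgroup G).mul_mem ((P : Subgroup G).mul_mem hx hy.1) ((P : Subgroup G).inv_mem hx), hM.conj_mem _ hy.2 x⟩
    have hHZ : H ≤ Z := fun g hg => (hmemZ g).2 (hsub H hPH htop g hg)
    have : (⊤ : Subgroup G) ≤ Z := normalizer_inf_sup P M ▸ sup_le hHZ hMZ
    exact fun g => (hmemZ g).1 (this (Subgroup.mem_top g))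
  have hPC : (P : Subgroup G) ⊓ C = O :=
    le_antisymm (hfrat C hCn hCZ) (le_inf hOP hOC)
  have hno : p = 2 → k = 1 → ∀ r ∈ (P : Subgroup G), r ∉ C → r ^ p ∈ C →
      ¬ Nat.card V ≤ p * Nat.card ↥(V ⊓ centralizer (zpowers r : Set G)) := by
    rintro rfl rfl r - hrC hr2 hle
    rcases hk with h | ⟨-, h | h⟩
    · exact absurd h (by decide)
    · exact h rfl
    refine h (involves_of_two_le (P.2.to_le (hVO.trans hOP)) (fun M hM hCM hMp r hrM _ _ => ?_)
      hle hr2 hrC)
    set π := QuotientGroup.mk' C with hπ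
    have hMn' : (M.map π).Normal := Subgroup.Normal.map hM π (QuotientGroup.mk'_surjective C)
    have hMP : M ≤ (P : Subgroup G) ⊔ C := by
      intro x hx
      have h1 := ((Cores.le_pCore (hn := hMn') hMp).trans (Cores.pCore_le_sylow
        (P.mapSurjective (QuotientGroup.mk'_surjective C)))) (Subgroup.mem_map_of_mem π hx)
      obtain ⟨y, hy, hye⟩ := h1
      have h2 : y⁻¹ * x ∈ C := QuotientGroup.eq.1 hye
      simpa using mul_mem (Subgroup.mem_sup_left hy : y ∈ (P : Subgroup G) ⊔ C)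
        (Subgroup.mem_sup_right h2)
    have h3 := hfrat M hM (hMP.trans (sup_le hPZ hCZ))
    have hx : r ∈ (P : Subgroup G) ⊔ C := hMP hrM
    rw [Subgroup.mem_sup_of_normal_right] at hx
    obtain ⟨y, hy, c, hc, rfl⟩ := hx
    have hyM : y ∈ M := by
      have := mul_mem hrM (inv_mem (hCM hc))
      rwa [mul_inv_cancel_right] at this
    exact mul_mem (hOC (h3 ⟨hy, hyM⟩)) hc
  -- offenders
  rcases exists_off P hVO hOC hPC with hall | ⟨E₁, hE₁, hE₁P⟩
  · exact hne fun g => hJ g (hall g)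
  obtain ⟨Em, ⟨hEm, hEmP⟩, hEmmin⟩ :=
    (Set.toFinite {E : Subgroup G | Off p O C V E ∧ E ≤ (P : Subgroup G)}).exists_minimalFor
      (fun E : Subgroup G => E) _ ⟨E₁, hE₁, hE₁P⟩
  have hEmℰ : Em ∈ minOff p O C V :=
    ⟨hEm, fun E' hE' hle => le_antisymm hle (hEmmin ⟨hE', hle.trans hEmP⟩ hle)⟩
  set K := sSup {E | E ∈ minOff p O C V ∧ E ≤ (P : Subgroup G)} with hKdef
  have hKP : K ≤ (P : Subgroup G) := sSup_le fun E hE => hE.2
  set N := normalizer (K : Set G) with hN
  have hPN : (P : Subgroup G) ≤ N := fun x hx => mem_normalizer_of_conj (by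
    intro s hs
    have h1 : K.map (MulAut.conj x).toMonoidHom ≤ K := by
      rw [hKdef, (Subgroup.gc_map_comap _).l_sSup]
      refine iSup₂_le fun E hE => le_sSup ⟨minOff_map hE.1 x, ?_⟩
      rintro _ ⟨e, he, rfl⟩
      exact mul_mem (mul_mem hx (hE.2 he)) (inv_mem hx)
    exact h1 ⟨s, hs, rfl⟩)
  have hNZ : N ≤ Z := by
    refine fun g hg => (hmemZ g).2 (hsub N hPN (fun htop => hEm.2.2.1 ?_) g hg)
    have hn : K.Normal := Subgroup.normalizer_eq_top_iff.1 htop
    have h1 : K ≤ O := Cores.le_pCore (hn := hn) (P.2.to_le hKP)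
    exact ((le_sSup (show Em ∈ {E | E ∈ minOff p O C V ∧ E ≤ (P : Subgroup G)} from ⟨hEmℰ, hEmP⟩)).trans h1).trans hOC
  -- the equivariant map
  let φ : G →* MulAut V := MulAut.conjNormal
  let zV : V := ⟨z, hzV⟩
  let f : G ⧸ (P : Subgroup G) → V := fun q => φ q.out zV
  have hfmk : ∀ g : G, f (g : G ⧸ (P : Subgroup G)) = φ g zV := by
    intro g
    obtain ⟨y, hy⟩ := QuotientGroup.mk_out_eq_mul (P : Subgroup G) g
    show φ _ zV = φ g zV
    rw [hy, map_mul, MulAut.mul_apply]
    congr 1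
    exact Subtype.ext (by rw [MulAut.conjNormal_apply, hzc _ y.2, mul_inv_cancel_right])
  have hf : ∀ g q, f (g • q) = φ g (f q) := by
    intro g q
    induction q using QuotientGroup.induction_on with
    | _ a => rw [MulAction.Quotient.smul_coe, smul_eq_mul, hfmk, hfmk, map_mul, MulAut.mul_apply]
  set Q : Subgroup V := (zpowers (w ^ p)).subgroupOf V with hQdef
  have hQc : ∀ v ∈ Q, ∀ g, φ g v = v := fun v hv g => by
    obtain ⟨i, hi⟩ := Subgroup.mem_zpowers_iff.1 (Subgroup.mem_subgroupOf.1 hv)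
    refine Subtype.ext ?_
    rw [MulAut.conjNormal_apply, ← hi, mul_inv_eq_iff_eq_mul]
    exact ((show Commute g (w ^ p) from hwp g).zpow_right i).eq
  have hQ : ∀ u : V, u ^ (k * p) ∈ Q := by
    rintro ⟨x, hx⟩
    show ((⟨x, hx⟩ : V) ^ (k * p) : V).1 ∈ zpowers (w ^ p)
    rw [SubmonoidClass.coe_pow]
    induction hx using Subgroup.closure_induction with
    | mem y hy =>
      obtain ⟨a, ha, hay⟩ := Group.mem_conjugatesOfSet_iff.1 hy
      rw [Set.mem_singleton_iff.1 ha] at hay
      obtain ⟨g, rfl⟩ := isConj_iff.1 hay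
      rw [conj_pow, pow_mul, ← hwdef, hwp g, mul_inv_cancel_right]
      exact mem_zpowers _
    | one => rw [one_pow]; exact one_mem _
    | mul a b ha hb iha ihb =>
      have hab : Commute a b := congrArg Subtype.val (mul_comm' (⟨a, ha⟩ : V) ⟨b, hb⟩)
      rw [hab.mul_pow]; exact mul_mem iha ihb
    | inv a ha iha => rw [inv_pow]; exact inv_mem iha
  have hkp : p ∣ k * (p * (p - 1) / 2) ∨
      ∀ r ∈ (P : Subgroup G), r ∉ C → r ^ p ∈ C →
        ¬ Nat.card V ≤ p * Nat.card ↥(V ⊓ centralizer (zpowers r : Set G)) := by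
    rcases hk with h | ⟨h, -⟩
    · exact Or.inl (by rw [h]; exact dvd_mul_right p _)
    by_cases hp2 : p = 2
    · exact Or.inr (hno hp2 h)
    obtain ⟨m, hm⟩ := (hp.out.eq_two_or_odd'.resolve_left hp2)
    refine Or.inl (Dvd.dvd.mul_left ⟨m, ?_⟩ _)
    rw [show p - 1 = 2 * m by omega, mul_left_comm, Nat.mul_div_cancel_left _ two_pos]
  let Fix : G ⧸ (P : Subgroup G) → Prop := fun q =>
    ∀ E ∈ minOff p O C V, E ≤ (P : Subgroup G) → ∀ e ∈ E, e • q = q
  have : Fintype (G ⧸ (P : Subgroup G)) := Fintype.ofFinite _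
  have hstuck := OrbitProduct.prod_pow_mem φ f hf Q k (minOff p O C V) O (fun o ho q => by
      induction q using QuotientGroup.induction_on with
      | _ a =>
        rw [MulAction.Quotient.smul_coe, smul_eq_mul, QuotientGroup.eq]
        refine hOP ?_
        simpa [mul_assoc] using hOn.conj_mem _ (inv_mem ho) a⁻¹)
    (fun E hE g => minOff_map hE g) (P : Subgroup G) P.2 hOP
    (fun E hE R₀ r hEP _ hOR hrE hrR hrel u hu =>
      step P (hVO.trans hOP) hPC k Q hQ hkp hE hEP hOR hrE hrR hrel u hu)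
    (Finset.univ.filter fun q => ¬ Fix q) (fun x hx q hq => by
      rw [Finset.mem_filter] at hq ⊢
      refine ⟨Finset.mem_univ _, fun hfix => hq.2 fun E hE hEP e he => ?_⟩
      have h1 := hfix (E.map (MulAut.conj x).toMonoidHom) (minOff_map hE x)
        (by rintro _ ⟨y, hy, rfl⟩; exact mul_mem (mul_mem hx (hEP hy)) (inv_mem hx))
        (x * e * x⁻¹) ⟨e, he, rfl⟩
      rw [← mul_smul, inv_mul_cancel_right, mul_smul] at h1
      exact smul_left_cancel x h1) fun q hq => by
      have h1 := (Finset.mem_filter.1 hq).2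
      simp only [Fix] at h1
      push Not at h1
      obtain ⟨E, hE, hEP, e, he, hne'⟩ := h1
      exact ⟨E, hE, hEP, e, he, hne'⟩
  -- the fixed cosets are those of the normaliser
  have hfixN : ∀ h : G, Fix (h : G ⧸ (P : Subgroup G)) ↔ h ∈ N := by
    intro h
    constructor
    · intro hfix
      have h1 : K.map (MulAut.conj h⁻¹).toMonoidHom ≤ K := by
        rw [hKdef, (Subgroup.gc_map_comap _).l_sSup]
        refine iSup₂_le fun E hE => le_sSup ⟨minOff_map hE.1 _, ?_⟩
        rintro _ ⟨e, he, rfl⟩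
        have h2 := hfix E hE.1 hE.2 e he
        rw [MulAction.Quotient.smul_coe, smul_eq_mul, QuotientGroup.eq] at h2
        have h3 := inv_mem h2
        simpa [mul_assoc] using h3
      have := mem_normalizer_of_conj (g := h⁻¹) (S := K) fun s hs => h1 ⟨s, hs, rfl⟩
      simpa using inv_mem this
    · intro hh E hE hEP e he
      rw [MulAction.Quotient.smul_coe, smul_eq_mul, QuotientGroup.eq]
      have h2 : h⁻¹ * e⁻¹ * h ∈ K :=
        (Subgroup.mem_normalizer_iff''.1 hh e⁻¹).1 (inv_mem (le_sSup (show E ∈ {E | E ∈ minOff p O C V ∧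
          E ≤ (P : Subgroup G)} from ⟨hE, hEP⟩) he))
      simpa [mul_assoc] using hKP h2
  have hval : ∀ q : G ⧸ (P : Subgroup G), Fix q → (f q) ^ k = zV ^ k := by
    intro q hq
    induction q using QuotientGroup.induction_on with
    | _ h =>
      rw [hfmk, ← map_pow]
      refine Subtype.ext ?_
      rw [MulAut.conjNormal_apply, SubmonoidClass.coe_pow, ← hwdef,
        (hmemZ h).1 (hNZ ((hfixN h).1 hq)), mul_inv_cancel_right]
  set n := (Finset.univ.filter fun q : G ⧸ (P : Subgroup G) => Fix q).card with hn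
  have hncop : n.Coprime p := by
    let F : N ⧸ (P : Subgroup G).subgroupOf N → G ⧸ (P : Subgroup G) :=
      Quotient.map' Subtype.val fun a b h => by
        rw [QuotientGroup.leftRel_apply] at h ⊢
        exact Subgroup.mem_subgroupOf.1 h
    have hF : Function.Injective F := by
      intro a b h
      induction a using QuotientGroup.induction_on with
      | _ a => induction b using QuotientGroup.induction_on with
        | _ b =>
          refine QuotientGroup.eq.2 (Subgroup.mem_subgroupOf.2 ?_)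
          exact QuotientGroup.eq.1 (show ((a : G) : G ⧸ (P : Subgroup G)) = (b : G) from h)
    have h1 : n = (P : Subgroup G).relIndex N := by
      rw [hn, Subgroup.relIndex, Subgroup.index_eq_card, ← Nat.card_range_of_injective hF,
        ← Nat.card_eq_finsetCard]
      refine Nat.card_congr (Equiv.subtypeEquivRight fun q => ?_)
      induction q using QuotientGroup.induction_on with
      | _ h =>
        rw [Finset.mem_filter, hfixN]
        constructor
        · exact fun hh => ⟨((⟨h, hh.2⟩ : N) : N ⧸ (P : Subgroup G).subgroupOf N), rfl⟩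
        · rintro ⟨q', hq'⟩
          induction q' using QuotientGroup.induction_on with
          | _ a =>
            refine ⟨Finset.mem_univ _, ?_⟩
            have h2 : (a : G)⁻¹ * h ∈ (P : Subgroup G) :=
              QuotientGroup.eq.1 (show ((a : G) : G ⧸ (P : Subgroup G)) = (h : G) from hq')
            simpa using mul_mem a.2 (hPN h2)
    refine ((hp.out.coprime_iff_not_dvd).2 fun hd => P.not_dvd_index ?_).symm
    rw [← Subgroup.relIndex_mul_index hPN, ← h1]
    exact Dvd.dvd.mul_right hd _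
  -- the total product is invariant
  have hT : ∀ g, φ g ((∏ q, f q) ^ k) = (∏ q, f q) ^ k := fun g => by
    rw [map_pow, map_prod, ← Equiv.prod_comp (MulAction.toPerm g) f]
    congr 1
    exact Finset.prod_congr rfl fun q _ => (hf g q).symm
  have hwn : ∀ g, φ g ((zV ^ k) ^ n) = (zV ^ k) ^ n := fun g => by
    have h := hT g
    rw [← Finset.prod_filter_mul_prod_filter_not Finset.univ Fix, mul_pow,
      ← Finset.prod_pow, Finset.prod_congr rfl fun q hq => hval q (Finset.mem_filter.1 hq).2,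
      Finset.prod_const, ← hn, map_mul] at h
    rw [hQc _ hstuck g] at h
    exact mul_right_cancel h
  apply hne
  intro g
  have h1 : g * w ^ n = w ^ n * g := by
    have h := congrArg Subtype.val (hwn g)
    rw [MulAut.conjNormal_apply] at h
    simp only [SubmonoidClass.coe_pow, zV, ← hwdef] at h
    exact mul_inv_eq_iff_eq_mul.1 h
  obtain ⟨e, he⟩ := P.2 ⟨w, pow_mem hzP k⟩
  have he' : w ^ p ^ e = 1 := congrArg Subtype.val he
  obtain ⟨j, hj⟩ := exists_pow_eq_self_of_coprime (x := w) (n := n)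
    (hncop.coprime_dvd_right (dvd_refl p) |>.pow_right e |>.of_dvd_right (orderOf_dvd_of_pow_eq_one he'))
  rw [← hj]
  exact ((show Commute g (w ^ n) from h1).pow_right j).eq

theorem centralizer_pCore_le_subgroup (P : Sylow p G)
    (hC : centralizer ((pCore p G : Subgroup G) : Set G) ≤ pCore p G)
    {H : Subgroup G} (hPH : (P : Subgroup G) ≤ H) :
    centralizer ((pCore p H : Subgroup H) : Set H) ≤ pCore p H := by
  intro x hx
  have hOH : pCore p G ≤ H := (Cores.pCore_le_sylow P).trans hPH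
  have hn : ((pCore p G : Subgroup G).subgroupOf H).Normal := inferInstance
  have hOH' : (pCore p G : Subgroup G).subgroupOf H ≤ pCore p H :=
    Cores.le_pCore (hn := hn) (IsPGroup.comap_subtype ((P.2).to_le (Cores.pCore_le_sylow P)))
  refine hOH' (Subgroup.mem_subgroupOf.2 (hC fun o ho => ?_))
  exact congrArg Subtype.val (hx ⟨o, hOH ho⟩ (hOH' (Subgroup.mem_subgroupOf.2 ho)))

/-- **Glauberman's theorem on central elements of constrained groups.** -/
theorem commute_pow {p : ℕ} [Fact p.Prime] {G : Type u} [Group G] [Finite G] (P : Sylow p G)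
    (hC : centralizer ((pCore p G : Subgroup G) : Set G) ≤ pCore p G) (k : ℕ)
    (hk : k = p ∨ (k = 1 ∧ (p ≠ 2 ∨ ¬ Involves (Equiv.Perm (Fin 4)) G)))
    {z : G} (hzP : z ∈ (P : Subgroup G)) (hzc : ∀ y ∈ (P : Subgroup G), y * z = z * y)
    (hJ : ∀ g ∈ normalizer (jGen 0 (P : Subgroup G) : Set G), g * z ^ k = z ^ k * g) :
    ∀ g : G, g * z ^ k = z ^ k * g := by
  induction h : Nat.card G using Nat.strong_induction_on generalizing G with
  | _ n ih =>
  subst h
  induction hz : orderOf z using Nat.strong_induction_on generalizing z with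
  | _ m ihm =>
  subst hz
  by_cases hz1 : z = 1
  · intro g; simp [hz1]
  refine commute_of_overgroups P hC k hk hzP hzc hJ (fun H hPH hH g hg => ?_) ?_
  · have hcard : Nat.card H < Nat.card G :=
      lt_of_le_of_ne (Subgroup.card_le_card_group H) fun e => hH (Subgroup.eq_top_of_card_eq H e)
    have hk' : k = p ∨ (k = 1 ∧ (p ≠ 2 ∨ ¬ Involves (Equiv.Perm (Fin 4)) H)) := by
      rcases hk with h | ⟨h, h' | h'⟩
      · exact Or.inl h
      · exact Or.inr ⟨h, Or.inl h'⟩
      · exact Or.inr ⟨h, Or.inr fun hi => h'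
          (CfsgLib.LocalEven.Offender.involves_of_injective H.subtype H.subtype_injective hi)⟩
    have hres := ih _ hcard (P.subtype hPH) (centralizer_pCore_le_subgroup P hC hPH) hk'
      (z := ⟨z, hPH hzP⟩) hzP (fun y hy => Subtype.ext (hzc y hy)) (fun x hx => Subtype.ext ?_) rfl ⟨g, hg⟩
    · exact congrArg Subtype.val hres
    refine hJ x ?_
    have hmap : jGen 0 (P : Subgroup G) = (jGen 0 (P.subtype hPH : Subgroup H)).map H.subtype := by
      rw [← jGen_map H.subtype_injective]
      congr 1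
      exact (Subgroup.map_subgroupOf_eq_of_le hPH).symm
    rw [hmap]
    refine mem_normalizer_of_conj ?_
    rintro _ ⟨y, hy, rfl⟩
    exact ⟨x * y * x⁻¹, (Subgroup.mem_normalizer_iff.1 hx y).1 hy, rfl⟩
  · intro g
    rw [← pow_mul, mul_comm, pow_mul]
    refine ihm (orderOf (z ^ p)) ?_ (pow_mem hzP p)
      (fun y hy => ((show Commute y z from hzc y hy).pow_right p).eq) (fun g hg => ?_) rfl g
    · obtain ⟨e, he⟩ := P.2 ⟨z, hzP⟩
      have he' : z ^ p ^ e = 1 := congrArg Subtype.val he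
      obtain ⟨a, -, ha⟩ := (Nat.dvd_prime_pow (Fact.out : p.Prime)).1 (orderOf_dvd_of_pow_eq_one he')
      have ha0 : a ≠ 0 := fun h => hz1 (orderOf_eq_one_iff.1 (by rw [ha, h, pow_zero]))
      have hd : p ∣ orderOf z := ha ▸ dvd_pow_self p ha0
      rw [orderOf_pow_of_dvd (Fact.out : p.Prime).ne_zero hd]
      exact Nat.div_lt_self (orderOf_pos z) (Fact.out : p.Prime).one_lt
    · rw [← pow_mul, mul_comm, pow_mul]
      exact ((show Commute g (z ^ k) from hJ g hg).pow_right p).eq

end CfsgLib.Transfer.CentralElement
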