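import Cfsg.Agent.Lib.Transfer.FusionQuot
import Cfsg.Agent.Lib.Fusion.ModelExists

/-!
A general criterion for a saturated system to have only `p`-groups as automizers, reducing it to
constrained systems.
-/

set_option autoImplicit false

open Cfsg Cfsg.FusionSystem

namespace CfsgLib.Transfer

open CfsgLib.Fusion

universe u

/-- A property of systems which descends to smaller systems and holds when the characteristic
subgroups are local. -/
structure InnerCriterion (p : ℕ) (Amb Good : ∀ (Ω : Type u) [Group Ω] (S : Subgroup Ω), FusionSystem S → Prop) :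
    Prop where
  /-- The ambient hypothesis descends to normalizer systems. -/
  ambNormalizer : ∀ {Ω : Type u} [Group Ω] {S : Subgroup Ω} [Finite S] (F : FusionSystem S),
    IsPGroup p S → F.IsSaturated p → ∀ {X T : Subgroup Ω} (hT : T = normalizerIn S X) (hX : X ≤ S),
      F.IsFullyNormalized X → Amb Ω S F → Amb Ω T (normSys F X hT hX)
  /-- It descends to factor systems. -/
  ambFactor : ∀ {Ω : Type u} [Group Ω] {S : Subgroup Ω} [Finite S] (F : FusionSystem S),
    IsPGroup p S → F.IsSaturated p → ∀ (Q : Subgroup Ω), F.IsNormal Q → IsPGroup p (F.autGroup Q) →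
      ∀ (Ω' : Type u) [Group Ω'] (S' : Subgroup Ω') (θ : S →* Ω') (E : FusionSystem S'),
        F.IsFactorSystem Q θ E → Amb Ω S F → Amb Ω' S' E
  sub : ∀ {Ω : Type u} [Group Ω] {S : Subgroup Ω} [Finite S] (E F : FusionSystem S),
    (∀ P, E.Hom P ⊆ F.Hom P) → Good Ω S F → Good Ω S E
  ofLocal : ∀ {Ω : Type u} [Group Ω] {S : Subgroup Ω} [Finite S] (F : FusionSystem S),
    IsPGroup p S → F.IsSaturated p → S ≠ ⊥ →
      (∀ X : Subgroup Ω, X ≤ S → X ≠ ⊥ → (X.subgroupOf S).Characteristic → PLocal p F X) →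
      Good Ω S F
  constrained : ∀ {Ω : Type u} [Group Ω] {S : Subgroup Ω} [Finite S] (F : FusionSystem S),
    IsPGroup p S → F.IsConstrained p → Amb Ω S F → Good Ω S F → PAut p F

section Aux

variable {Ω : Type u} [Group Ω] {S : Subgroup Ω} [Finite S]

/-- The number of maps. -/
noncomputable def homCount (F : FusionSystem S) : ℕ :=
  {x : (P : Subgroup Ω) × (P →* Ω) | x.2 ∈ F.Hom x.1}.ncard

theorem homSigma_finite (F : FusionSystem S) :
    {x : (P : Subgroup Ω) × (P →* Ω) | x.2 ∈ F.Hom x.1}.Finite := by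
  refine Set.Finite.of_injOn
    (f := fun x => {z : S × S | ∃ y : x.1, (y : Ω) = (z.1 : Ω) ∧ x.2 y = (z.2 : Ω)})
    (t := Set.univ) (Set.mapsTo_univ _ _) ?_ Set.finite_univ
  rintro ⟨P, φ⟩ hφ ⟨Q, ψ⟩ hψ h
  simp only [Set.mem_ofPred_eq] at hφ hψ
  have key : ∀ y : P, ∃ z : Q, (z : Ω) = y ∧ ψ z = φ y := fun y =>
    (Set.ext_iff.1 h (⟨y, le_S F hφ y.2⟩, ⟨φ y, apply_mem_S F hφ y⟩)).1 ⟨y, rfl, rfl⟩
  have key' : ∀ y : Q, ∃ z : P, (z : Ω) = y ∧ φ z = ψ y := fun y =>
    (Set.ext_iff.1 h (⟨y, le_S F hψ y.2⟩, ⟨ψ y, apply_mem_S F hψ y⟩)).2 ⟨y, rfl, rfl⟩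
  obtain rfl : P = Q := by
    ext y
    constructor
    · intro hy
      obtain ⟨z, hz, -⟩ := key ⟨y, hy⟩
      have h2 := z.2
      rwa [hz] at h2
    · intro hy
      obtain ⟨z, hz, -⟩ := key' ⟨y, hy⟩
      have h2 := z.2
      rwa [hz] at h2
  obtain rfl : φ = ψ := MonoidHom.ext fun y => by
    obtain ⟨z, hz, hze⟩ := key y
    rw [← hze, show z = y from Subtype.ext hz]
  rfl

theorem homCount_lt {E F : FusionSystem S} (h : ∀ P, E.Hom P ⊆ F.Hom P)
    (hne : ∃ P, ∃ φ ∈ F.Hom P, φ ∉ E.Hom P) : homCount E < homCount F := by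
  refine Set.ncard_lt_ncard ⟨fun x hx => h _ hx, fun hsub => ?_⟩ (homSigma_finite F)
  obtain ⟨P, φ, hφ, hφ'⟩ := hne
  exact hφ' (hsub (show (⟨P, φ⟩ : (P : Subgroup Ω) × (P →* Ω)) ∈ {x | x.2 ∈ F.Hom x.1} from hφ))

omit [Finite S] in
theorem isNormal_of_normSys_eq {F : FusionSystem S} {Q : Subgroup Ω} {T : Subgroup Ω}
    (hT : T = normalizerIn S Q) (hQ : Q ≤ S)
    (h : ¬ ∃ P, ∃ φ ∈ F.Hom P, φ ∉ (normSys F Q hT hQ).Hom P) : F.IsNormal Q := by
  push Not at h
  exact ⟨hQ, fun P φ hφ => (h P φ hφ).2.2.2⟩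

theorem isSaturated_normSys {p : ℕ} [Fact p.Prime] {F : FusionSystem S} (hS : IsPGroup p S)
    (hF : F.IsSaturated p) {X T : Subgroup Ω} (hT : T = normalizerIn S X) (hX : X ≤ S)
    (hXn : F.IsFullyNormalized X) : (normSys F X hT hX).IsSaturated p := by
  subst hT
  exact isSaturated_normalizerSystem hS hF hXn _ fun _ => rfl

omit [Finite S] in
theorem normalizerIn_normal {X : Subgroup Ω} (h : S ≤ Subgroup.normalizer (X : Set Ω)) :
    S = normalizerIn S X :=
  le_antisymm (le_inf le_rfl h) (normalizerIn_le X)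

theorem normalizer_le_of_characteristic {S' X : Subgroup Ω} [Finite S'] (hX : X ≤ S')
    (hc : (X.subgroupOf S').Characteristic) :
    Subgroup.normalizer (S' : Set Ω) ≤ Subgroup.normalizer (X : Set Ω) := by
  intro g hg
  have : Finite X := Finite.of_injective _ (Subgroup.inclusion_injective hX)
  refine mem_normalizer_of_forall fun x hx => ?_
  have h1 := (Subgroup.characteristic_iff_map_eq.1 hc (normAut g hg)).le
    ⟨⟨x, hX hx⟩, hx, rfl⟩
  exact h1

end Aux

variable {p : ℕ} [hp : Fact p.Prime]
  {Amb Good : ∀ (Ω : Type u) [Group Ω] (S : Subgroup Ω), FusionSystem S → Prop}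

/-- The statement for systems over groups of order `n` with `m` maps. -/
def InnerStatement (p : ℕ)
    (Amb Good : ∀ (Ω : Type u) [Group Ω] (S : Subgroup Ω), FusionSystem S → Prop) (n m : ℕ) : Prop :=
  ∀ (Ω : Type u) [Group Ω] (S : Subgroup Ω) [Finite S] (F : FusionSystem S),
    IsPGroup p S → F.IsSaturated p → Amb Ω S F → Good Ω S F → Nat.card S = n → homCount F = m →
      PAut p F

theorem innerStatement (hG : InnerCriterion p Amb Good) (n m : ℕ) :
    InnerStatement p Amb Good n m := by
  induction n using Nat.strong_induction_on generalizing m with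
  | _ n ihn =>
  induction m using Nat.strong_induction_on with
  | _ m ihm =>
  intro Ω _ S _ F hS hF hamb hgood hn hm
  classical
  have hsmall : ∀ (Ω' : Type u) [Group Ω'] (S' : Subgroup Ω') [Finite S'] (F' : FusionSystem S'),
      IsPGroup p S' → F'.IsSaturated p → Amb Ω' S' F' → Good Ω' S' F' → Nat.card S' < n → PAut p F' :=
    fun Ω' _ S' _ F' h1 h2 h3 h4 h5 => ihn _ h5 _ Ω' S' F' h1 h2 h3 h4 rfl rfl
  -- normal subgroups of `S` which are not normal in `F`
  have hK : ∀ X : Subgroup Ω, X ≤ S → S ≤ Subgroup.normalizer (X : Set Ω) → ¬ F.IsNormal X →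
      PLocal p F X := by
    intro X hX hXn hXF
    have hT := normalizerIn_normal hXn
    have hfn : F.IsFullyNormalized X :=
      ⟨hX, fun Q _ => hT ▸ Subgroup.card_le_of_le (normalizerIn_le Q)⟩
    refine pLocal_of_pAut hT hX (ihm (homCount (normSys F X hT hX)) (hm ▸ homCount_lt
      (normSys_hom_le hT hX) ?_) Ω S (normSys F X hT hX) hS (isSaturated_normSys hS hF hT hX hfn)
      (hG.ambNormalizer F hS hF hT hX hfn hamb)
      (hG.sub _ F (normSys_hom_le hT hX) hgood) hn rfl)
    by_contra h
    exact hXF (isNormal_of_normSys_eq hT hX h)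
  by_cases hcore : F.core = ⊥
  · -- no normal subgroup: every fully normalized subgroup is local
    have hL : ∀ (k : ℕ) (R : Subgroup Ω), Nat.card S - Nat.card (normalizerIn S R) ≤ k → R ≠ ⊥ →
        F.IsFullyNormalized R → PLocal p F R := by
      intro k
      induction k using Nat.strong_induction_on with
      | _ k ihk =>
      intro R hk hR hRn
      have : Finite (normalizerIn S R) := finite_of_le (normalizerIn_le R)
      by_cases hlt : normalizerIn S R = S
      · refine hK R hRn.1 (hlt.ge.trans inf_le_right) fun hn' => hR (le_bot_iff.1 ?_)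
        rw [← hcore]
        exact le_sSup hn'
      · have hlt' : normalizerIn S R < S := lt_of_le_of_ne (normalizerIn_le R) hlt
        set T := normalizerIn S R with hT
        have hTS : T ≤ S := normalizerIn_le R
        have hTlt : Nat.card T < Nat.card S :=
          lt_of_not_ge fun h => hlt (Subgroup.eq_of_le_of_card_ge hTS h)
        set N := normSys F R hT hRn.1
        have hsat : N.IsSaturated p := isSaturated_normSys hS hF hT hRn.1 hRn
        refine pLocal_of_pAut hT hRn.1 (hsmall Ω T N (hS.to_le hTS) hsat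
          (hG.ambNormalizer F hS hF hT hRn.1 hRn hamb) ?_ (hn ▸ hTlt))
        refine hG.ofLocal N (hS.to_le hTS) hsat
          (fun e => hR (le_bot_iff.1 (e ▸ le_normalizerIn hRn.1))) fun X hXT hX hXc => ?_
        refine PLocal.mono hTS (normSys_hom_le hT hRn.1) ?_
        have hXS : X ≤ S := hXT.trans hTS
        obtain ⟨X', hXX', hX'n⟩ := exists_fullyNormalized F hXS
        obtain ⟨e, h, he, χ, hχ, hχe, hχN⟩ := exists_hom_normalizerIn_of_fullyNormalized hS hF hX'n hXX'
        have himg : img χ X = X' := by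
          ext y
          constructor
          · intro hy
            obtain ⟨z, hz, rfl⟩ := mem_img.1 hy
            rw [show z = Subgroup.inclusion h ⟨z, hz⟩ from rfl, hχe]
            exact (e _).2
          · intro hy
            refine mem_img.2 ⟨Subgroup.inclusion h (e.symm ⟨y, hy⟩), (e.symm ⟨y, hy⟩).2, ?_⟩
            rw [hχe, MulEquiv.apply_symm_apply]
        have hX' : X' ≠ ⊥ := fun e0 => hX (by
          have := card_eq_of_isConj hXX'
          rw [e0, Subgroup.card_bot] at this
          exact Subgroup.card_eq_one.1 this)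
        refine PLocal.pullback hχ himg (ihk (Nat.card S - Nat.card (normalizerIn S X')) ?_ X' le_rfl
          hX' hX'n)
        have : Finite (normalizerIn S X) := finite_of_le (normalizerIn_le X)
        have : Finite (normalizerIn S X') := finite_of_le (normalizerIn_le X')
        have h1 : normalizerIn S T ≤ normalizerIn S X :=
          inf_le_inf_left S (normalizer_le_of_characteristic hXT hXc)
        have h2 : Nat.card T < Nat.card (normalizerIn S T) :=
          lt_of_not_ge fun hh => (lt_normalizerIn hS hlt').ne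
            (by
              have : Finite (normalizerIn S T) := finite_of_le (normalizerIn_le T)
              exact Subgroup.eq_of_le_of_card_ge (le_normalizerIn hTS) hh)
        have h3 := Subgroup.card_le_of_le h1
        have h4 : Nat.card (normalizerIn S X) ≤ Nat.card (normalizerIn S X') := hX'n.2 X (isConj_symm hXX')
        have h5 : Nat.card (normalizerIn S X') ≤ Nat.card S := Subgroup.card_le_of_le (normalizerIn_le X')
        omega
    rcases eq_or_ne S ⊥ with hbot | hne
    · intro P hP
      rw [hbot] at hP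
      obtain rfl : P = ⊥ := le_bot_iff.1 hP
      exact fun α => ⟨0, Subtype.ext (MulEquiv.ext fun x => Subsingleton.elim _ _)⟩
    have haut : ∀ P : Subgroup Ω, P ≠ ⊥ → F.IsFullyNormalized P → IsPGroup p (F.autGroup P) := by
      intro P hP hPn α
      obtain ⟨k, hk⟩ := hL _ P le_rfl hP hPn P le_rfl hPn.1 Subgroup.le_normalizer α α.2
        fun x _ => ((α : MulAut P) x).2
      exact ⟨k, Subtype.ext hk⟩
    refine pAut_of_hom_subset_inner hS fun P => (hom_eq_inner_of_isPGroup hS hF ?_ ?_ P).le
    · exact haut S hne isFullyNormalized_self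
    · intro P hP
      refine haut P (fun e => hne ?_) hP.2.1
      have h1 := hP.1.2 P (isConj_refl hP.1.1)
      rw [e] at h1
      exact le_bot_iff.1 fun s hs => h1 ⟨hs, fun y hy => by
        rw [Subgroup.mem_bot.1 hy, one_mul, mul_one]⟩
  · -- the core
    set Q := F.core with hQdef
    have hQN : F.IsNormal Q := isNormal_core
    have hQS := hQN.1
    have hQsc := stronglyClosed_of_isNormal hQN
    have hSQ : S ≤ Subgroup.normalizer (Q : Set Ω) := le_normalizer_of_stronglyClosed hQsc
    have := finite_of_le hQS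
    by_cases hCQ : centralizerIn S Q ≤ Q
    · refine hG.constrained F hS ⟨hF, Q, hQN, hQS, fun R hR => ?_⟩ hamb hgood
      obtain ⟨φ, hφ, rfl⟩ := hR
      rwa [(weaklyClosed_of_stronglyClosed hQsc).2 φ hφ]
    set R := Q ⊔ centralizerIn S Q with hR
    have hRsc := stronglyClosed_sup_centralizerIn hS hF hQsc
    have hRloc : PLocal p F R := hK R hRsc.1 (le_normalizer_of_stronglyClosed hRsc) fun hn' =>
      hCQ (le_sup_right.trans (le_sSup hn'))
    have hQn : F.IsFullyNormalized Q :=
      ⟨hQS, fun Q' _ => (normalizerIn_normal hSQ) ▸ Subgroup.card_le_of_le (normalizerIn_le Q')⟩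
    -- step A
    have hA : IsPGroup p (F.autGroup Q) := by
      intro α
      obtain ⟨α, hα⟩ := α
      have hαi := (mem_autGroup_iff F hQS).1 hα
      obtain ⟨ψ, hψ, hψe⟩ := exists_extension (fullyAutomized_receptive_of_fullyNormalized hS hF hQn).2
        hαi (le_sup_left : Q ≤ R) (sup_le (le_extender hαi.mem) (centralizerIn_le_extender _ _))
      have hrange : ψ.range = R := (weaklyClosed_of_stronglyClosed hRsc).2 ψ hψ
      obtain ⟨β, hβ, hβe⟩ := exists_iso_of_range hψ hrange
      obtain ⟨k, hk⟩ := hRloc R le_rfl hRsc.1 Subgroup.le_normalizer β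
        ((mem_autGroup_iff F hRsc.1).2 hβ) fun x _ => (β x).2
      refine ⟨k, Subtype.ext (MulEquiv.ext fun x => Subtype.ext ?_)⟩
      have key : ∀ i : ℕ, Subgroup.inclusion le_sup_left ((α ^ i) x) =
          (β ^ i) (Subgroup.inclusion (le_sup_left : Q ≤ R) x) := by
        intro i
        induction i with
        | zero => simp
        | succ i ih =>
          rw [pow_succ', pow_succ', MulAut.mul_apply, MulAut.mul_apply, ← ih]
          exact Subtype.ext ((hψe _).symm.trans (hβe _).symm)
      have h2 := key (p ^ k)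
      rw [hk, MulAut.one_apply] at h2
      rw [SubgroupClass.coe_pow, OneMemClass.coe_one, MulAut.one_apply]
      exact (congrArg Subtype.val h2 :)
    -- the factor system
    have hnorm : (Q.subgroupOf S).Normal := (Subgroup.normal_subgroupOf_iff_le_normalizer hQS).2 hSQ
    set θ := QuotientGroup.mk' (Q.subgroupOf S) with hθ
    have hker : ∀ s : S, θ s = 1 ↔ (s : Ω) ∈ Q := fun s => QuotientGroup.eq_one_iff s
    have hrg : θ.range = ⊤ := MonoidHom.range_eq_top.2 (QuotientGroup.mk'_surjective _)
    set E := factorSystem (F := F) hQsc hker hrg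
    have hfac : F.IsFactorSystem Q θ E := isFactorSystem_factorSystem hQsc hker hrg
    have hmor := (isSurjectiveMorphism_of_isFactorSystem hS hF hQsc hfac).1
    have hES : E.IsSaturated p := isSaturated_of_isFactorSystem hS hF hQsc hfac
    have hpt : IsPGroup p (⊤ : Subgroup (S ⧸ Q.subgroupOf S)) := (hS.to_quotient _).to_subgroup _
    have hQle : ∀ P' : Subgroup (S ⧸ Q.subgroupOf S), Q ≤ preimageAlong θ P' := fun P' x hx =>
      ⟨⟨x, hQS hx⟩, show θ ⟨x, hQS hx⟩ ∈ P' by rw [(hker _).2 hx]; exact one_mem _, rfl⟩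
    have hlift : ∀ (M' : Subgroup (S ⧸ Q.subgroupOf S)) (β' : MulAut M'), β' ∈ E.autGroup M' →
        ∃ β ∈ F.autGroup (preimageAlong θ M'), ∀ (x : preimageAlong θ M')
          (h : θ ⟨x, preimageAlong_le θ M' x.2⟩ ∈ M'),
          ((β' ⟨_, h⟩ : M') : S ⧸ Q.subgroupOf S) =
            θ ⟨(β x : preimageAlong θ M'), preimageAlong_le θ M' (β x).2⟩ := by
      intro M' β' hβ'
      obtain ⟨-, φ, hφ, hind⟩ := (mem_autGroup_iff E le_top).1 hβ'
      have hr := range_lift_eq hmor (hrg.symm ▸ le_top) hφ hind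
      rw [range_subtype_comp] at hr
      obtain ⟨β, hβ, hβe⟩ := exists_iso_of_range hφ hr
      refine ⟨β, (mem_autGroup_iff F (preimageAlong_le θ M')).2 hβ, fun x h => ?_⟩
      exact (induced_apply hind x (preimageAlong_le θ M' x.2) (apply_mem_S F hφ x) h).trans
        (congrArg θ (Subtype.ext (hβe x).symm))
    have hEgood : Good (S ⧸ Q.subgroupOf S) ⊤ E := by
      refine hG.ofLocal E hpt hES (fun htop => hCQ ?_) fun X' _ hX' hX'c => ?_
      · intro s hs
        exact (hker ⟨s, hs.1⟩).1 (Subgroup.mem_bot.1 (htop ▸ Subgroup.mem_top (θ ⟨s, hs.1⟩)))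
      set X := preimageAlong θ X' with hX
      have hXS : X ≤ S := preimageAlong_le θ X'
      have hX'n : X'.Normal := by
        have hc : (X'.subgroupOf ⊤).Characteristic := hX'c
        have := hc
        exact ⟨fun x hx g => (Subgroup.normal_of_characteristic (X'.subgroupOf ⊤)).conj_mem ⟨x, Subgroup.mem_top x⟩ hx ⟨g, Subgroup.mem_top g⟩⟩
      have hXn : S ≤ Subgroup.normalizer (X : Set Ω) := by
        intro s hs
        have := finite_of_le hXS
        refine mem_normalizer_of_forall fun x hx => ?_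
        refine (mem_preimageAlong (θ := θ) (s := ⟨s, hs⟩ * ⟨x, hXS hx⟩ * ⟨s, hs⟩⁻¹)).2 ?_
        rw [map_mul, map_mul, map_inv]
        exact hX'n.conj_mem _ ((mem_preimageAlong (θ := θ) (s := ⟨x, hXS hx⟩)).1 hx) _
      have hXloc : PLocal p F X := hK X hXS hXn fun hn' => hX' (by
        rw [eq_bot_iff]
        intro y hy
        obtain ⟨s, rfl⟩ := QuotientGroup.mk'_surjective (Q.subgroupOf S) y
        exact Subgroup.mem_bot.2 ((hker s).2 ((le_sSup hn' : X ≤ F.core) (mem_preimageAlong.2 hy))))
      intro M' hXM' _ _ β' hβ' hinv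
      obtain ⟨β, hβ, hβe⟩ := hlift M' β' hβ'
      have hθmem : ∀ x : preimageAlong θ M', θ ⟨x, preimageAlong_le θ M' x.2⟩ ∈ M' := fun x =>
        (mem_preimageAlong (θ := θ) (s := ⟨x, preimageAlong_le θ M' x.2⟩)).1 x.2
      obtain ⟨k, hk⟩ := hXloc (preimageAlong θ M') (Subgroup.map_mono (Subgroup.comap_mono hXM'))
        (preimageAlong_le θ M') ((preimageAlong_le θ M').trans hXn) β hβ fun x hx => by
          refine (mem_preimageAlong (θ := θ) (s := ⟨(β x : preimageAlong θ M'), preimageAlong_le θ M' (β x).2⟩)).2 ?_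
          rw [← hβe x (hθmem x)]
          exact hinv _ ((mem_preimageAlong (θ := θ) (s := ⟨x, preimageAlong_le θ M' x.2⟩)).1 hx)
      refine ⟨k, MulEquiv.ext fun y => Subtype.ext ?_⟩
      obtain ⟨y, hy⟩ := y
      obtain ⟨s, rfl⟩ := QuotientGroup.mk'_surjective (Q.subgroupOf S) y
      have key : ∀ i : ℕ, ∀ x : preimageAlong θ M', ((β' ^ i) ⟨_, hθmem x⟩ : M') =
          ⟨_, hθmem ((β ^ i) x)⟩ := by
        intro i
        induction i with
        | zero => intro x; rfl
        | succ i ih =>
          intro x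
          simp only [pow_succ', MulAut.mul_apply, ih]
          exact Subtype.ext (hβe _ _)
      have h2 := congrArg Subtype.val (key (p ^ k) ⟨s, mem_preimageAlong.2 hy⟩)
      simp only [hk, MulAut.one_apply] at h2
      exact h2
    have hEP : PAut p E := by
      refine hsmall (S ⧸ Q.subgroupOf S) ⊤ E hpt hES
        (hG.ambFactor F hS hF Q hQN hA _ _ θ E hfac hamb) hEgood ?_
      rw [Subgroup.card_top, ← hn]
      have h1 := Subgroup.card_eq_card_quotient_mul_card_subgroup (Q.subgroupOf S)
      have h2 : 1 < Nat.card (Q.subgroupOf S) := by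
        rw [Finite.one_lt_card_iff_nontrivial, Subgroup.nontrivial_iff_ne_bot]
        intro e
        have := Subgroup.subgroupOf_eq_bot.1 e
        rw [disjoint_iff, inf_eq_left.2 hQS] at this
        exact hcore this
      have h3 : 0 < Nat.card (S ⧸ Q.subgroupOf S) := Nat.card_pos
      nlinarith
    have haut : ∀ P : Subgroup Ω, P ≤ S → Q ≤ P → IsPGroup p (F.autGroup P) := by
      intro P hP hQP α
      obtain ⟨α, hα⟩ := α
      have hαi := (mem_autGroup_iff F hP).1 hα
      -- on `Q`
      have hαQ : ∀ x : P, (x : Ω) ∈ Q → ((α x : P) : Ω) ∈ Q := fun x hx => autGroup_apply_mem hQsc hα hx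
      obtain ⟨a, ha, haα⟩ := exists_iso_of_range (res_mem F hαi.mem hQP) (Q := Q) (by
        rw [range_comp_inclusion]
        exact img_eq_of_apply_mem (F.injective_of_mem hαi.mem) hQP hQS hαQ)
      obtain ⟨i, hi⟩ := hA ⟨a, (mem_autGroup_iff F hQS).2 ha⟩
      have hi' : a ^ p ^ i = 1 := congrArg Subtype.val hi
      -- on the quotient
      obtain ⟨φ', hφ', hind⟩ := hmor.2 P _ hαi.mem
      have hφr : φ'.range = imageAlong θ P := by
        ext y
        constructor
        · rintro ⟨⟨_, z, hz, rfl⟩, rfl⟩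
          exact ⟨⟨(α ⟨z, hz⟩ : P), hP (α ⟨z, hz⟩).2⟩, (α ⟨z, hz⟩).2,
            (induced_apply hind ⟨z, hz⟩ z.2 (apply_mem_S F hαi.mem _) ⟨z, hz, rfl⟩).symm⟩
        · rintro ⟨t, ht, rfl⟩
          set x := α.symm ⟨t, ht⟩ with hx
          refine ⟨⟨θ ⟨x, hP x.2⟩, ⟨_, x.2, rfl⟩⟩, (induced_apply hind x (hP x.2)
            (apply_mem_S F hαi.mem _) ⟨_, x.2, rfl⟩).trans (congrArg θ (Subtype.ext ?_))⟩
          simp [hx]
      obtain ⟨b, hb, hbe⟩ := exists_iso_of_range hφ' hφr
      obtain ⟨j, hj⟩ := hEP _ le_top ⟨b, (mem_autGroup_iff E le_top).2 hb⟩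
      have hj' : b ^ p ^ j = 1 := congrArg Subtype.val hj
      set γ := α ^ (p ^ i * p ^ j) with hγ
      have hfixQ : ∀ x : P, (x : Ω) ∈ Q → γ x = x := by
        have key : ∀ (m : ℕ) (x : Q), (α ^ m) (Subgroup.inclusion hQP x) = Subgroup.inclusion hQP ((a ^ m) x) := by
          intro m
          induction m with
          | zero => intro x; rfl
          | succ m ih =>
            intro x
            rw [pow_succ', pow_succ', MulAut.mul_apply, MulAut.mul_apply, ih]
            exact Subtype.ext (haα _).symm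
        intro x hx
        have := key (p ^ i * p ^ j) ⟨x, hx⟩
        rwa [pow_mul, pow_mul, hi', one_pow, MulAut.one_apply, ← pow_mul] at this
      have hfixB : ∀ x : P, ((x : Ω))⁻¹ * (γ x : P) ∈ Q := by
        have key : ∀ (m : ℕ) (x : P), ((b ^ m) ⟨θ ⟨x, hP x.2⟩, ⟨_, x.2, rfl⟩⟩ : imageAlong θ P) =
            ⟨θ ⟨((α ^ m) x : P), hP ((α ^ m) x).2⟩, ⟨_, ((α ^ m) x).2, rfl⟩⟩ := by
          intro m
          induction m with
          | zero => intro x; rfl
          | succ m ih =>
            intro x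
            simp only [pow_succ', MulAut.mul_apply, ih]
            exact Subtype.ext ((hbe _).trans
              (induced_apply hind ((α ^ m) x) (hP ((α ^ m) x).2) (apply_mem_S F hαi.mem _) ⟨_, ((α ^ m) x).2, rfl⟩))
        intro x
        have h1 := congrArg Subtype.val (key (p ^ i * p ^ j) x)
        rw [show b ^ (p ^ i * p ^ j) = 1 by rw [mul_comm, pow_mul, hj', one_pow],
          MulAut.one_apply] at h1
        refine (hker ((⟨x, hP x.2⟩ : S)⁻¹ * ⟨(γ x : P), hP (γ x).2⟩)).1 ?_
        rw [map_mul, map_inv, inv_mul_eq_one]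
        exact h1
      obtain ⟨l, hl⟩ := (hS.to_le hQS).exists_card_eq
      refine ⟨i + j + l, Subtype.ext ?_⟩
      show α ^ p ^ (i + j + l) = 1
      rw [pow_add, pow_add, pow_mul, ← hγ]
      refine MulEquiv.ext fun x => ?_
      set d : Q := ⟨(x : Ω)⁻¹ * (γ x : P), hfixB x⟩ with hd
      have key : ∀ m : ℕ, (γ ^ m) x = x * (Subgroup.inclusion hQP d) ^ m := by
        intro m
        induction m with
        | zero => simp
        | succ m ih =>
          rw [pow_succ', MulAut.mul_apply, ih, map_mul, map_pow,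
            hfixQ (Subgroup.inclusion hQP d) d.2, pow_succ' _ m]
          have : γ x = x * Subgroup.inclusion hQP d := Subtype.ext (by simp [hd])
          rw [this, mul_assoc]
      rw [key, MulAut.one_apply, ← map_pow, ← hl, pow_card_eq_one', map_one, mul_one]
    refine pAut_of_hom_subset_inner hS fun P => (hom_eq_inner_of_isPGroup hS hF ?_ ?_ P).le
    · exact haut S le_rfl hQS
    · intro P hP
      exact haut P hP.1.1 (le_of_isNormal hS hQN hP.1 (isRadical_of_isEssential hS hP))

/-- The criterion. -/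
theorem InnerCriterion.pAut (hG : InnerCriterion p Amb Good) {Ω : Type u} [Group Ω] {S : Subgroup Ω}
    [Finite S] (hS : IsPGroup p S) {F : FusionSystem S} (hF : F.IsSaturated p)
    (hamb : Amb Ω S F) (hgood : Good Ω S F) : PAut p F :=
  innerStatement hG _ _ Ω S F hS hF hamb hgood rfl rfl

end CfsgLib.Transfer
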