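import Cfsg.Agent.Lib.Transfer.Thompson
import Cfsg.Agent.Lib.Cores.PConstrained
import Cfsg.Agent.Lib.Transfer.Sections
import Cfsg.Agent.Lib.Solvable.Basic

/-!
Thompson factorizability.
-/

namespace CfsgLib.Transfer

open Cfsg Subgroup
open scoped Pointwise

variable {G H : Type*} [Group G] [Group H] {p : ℕ}

/-- `Ω₁(Z(S))`. -/
def omegaCenterOf (p : ℕ) (S : Subgroup G) : Subgroup G := omegaOne p (S ⊓ centralizer (S : Set G))

theorem omegaCenterOf_le (p : ℕ) (S : Subgroup G) : omegaCenterOf p S ≤ S :=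
  (PGroup.omegaOne_le p _).trans inf_le_left

theorem omegaCenterOf_map (f : G →* H) {S : Subgroup G} (hf : Set.InjOn f S) :
    (omegaCenterOf p S).map f = omegaCenterOf p (S.map f) := by
  unfold omegaCenterOf omegaOne
  rw [MonoidHom.map_closure]
  congr 1
  ext y
  constructor
  · rintro ⟨x, ⟨⟨hxS, hxC⟩, hxp⟩, rfl⟩
    refine ⟨⟨⟨x, hxS, rfl⟩, mem_centralizer_iff.2 ?_⟩, by rw [← map_pow, hxp, map_one]⟩
    rintro _ ⟨s, hs, rfl⟩
    rw [← map_mul, ← map_mul, mem_centralizer_iff.1 hxC s hs]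
  · rintro ⟨⟨⟨x, hxS, rfl⟩, hxC⟩, hxp⟩
    refine ⟨x, ⟨⟨hxS, mem_centralizer_iff.2 fun s hs => ?_⟩, ?_⟩, rfl⟩
    · exact hf (mul_mem hs hxS) (mul_mem hxS hs)
        (by rw [map_mul, map_mul]; exact mem_centralizer_iff.1 hxC _ ⟨s, hs, rfl⟩)
    · exact hf (pow_mem hxS p) S.one_mem (by rw [map_pow, hxp, map_one])

theorem thompsonSubgroupOf_map (f : G →* H) {S : Subgroup G} (hf : Set.InjOn f S) :
    (thompsonSubgroupOf p S).map f = thompsonSubgroupOf p (S.map f) := by
  let e : S ≃* S.map f := MulEquiv.ofBijective (f.subgroupMap S)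
    ⟨fun x y h => Subtype.ext (hf x.2 y.2 (congrArg Subtype.val h)), f.subgroupMap_surjective S⟩
  unfold thompsonSubgroupOf
  rw [← thompsonSubgroup_map e, Subgroup.map_map, Subgroup.map_map]
  rfl

theorem thompsonSubgroupOf_eq_of_le {S T : Subgroup G} [Finite G] (hTS : T ≤ S)
    (hJ : thompsonSubgroupOf p S ≤ T) : thompsonSubgroupOf p T = thompsonSubgroupOf p S := by
  have hJ' : thompsonSubgroup p S ≤ T.subgroupOf S := fun x hx => hJ ⟨x, hx, rfl⟩
  have h1 := thompsonSubgroupOf_map (p := p) S.subtype (S := T.subgroupOf S)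
    (S.subtype_injective.injOn)
  rw [map_subgroupOf_eq_of_le hTS] at h1
  rw [← h1, thompsonSubgroupOf_eq hJ']
  rfl

variable [Finite G] [Fact p.Prime]

theorem isThompsonFactorizable_iff (hO : pPrimeCore p G = ⊥) :
    IsThompsonFactorizable p G ↔
      thompsonSubgroup p G ≤ centralizer ((⨆ S : Sylow p G, omegaCenterOf p (S : Subgroup G) : Subgroup G) : Set G) := by
  constructor
  · intro h
    rw [thompsonSubgroup_eq_iSup, iSup_le_iff]
    intro S
    rw [le_centralizer_iff, iSup_le_iff]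
    intro T
    obtain ⟨g, rfl⟩ := MulAction.exists_smul_eq G S T
    intro z hz
    rw [Sylow.coe_subgroup_smul, CfsgLib.Solvable.conj_smul_eq_map, ← omegaCenterOf_map _ ((MulAut.conj g).injective.injOn)] at hz
    obtain ⟨y, hy, rfl⟩ := hz
    obtain ⟨x, hx, c, hc, n, hn, hg⟩ := h S g⁻¹
    rw [hO, mem_bot] at hx
    rw [hx, one_mul] at hg
    have hgi : g = n⁻¹ * c⁻¹ := by rw [← inv_inv g, hg, mul_inv_rev]
    refine mem_centralizer_iff.2 fun j hj => ?_
    show j * (g * y * g⁻¹) = g * y * g⁻¹ * j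
    have hcy : c⁻¹ * y * c = y := by
      rw [mul_assoc, mem_centralizer_iff.1 hc y hy, inv_mul_cancel_left]
    have hgy : g * y * g⁻¹ = n⁻¹ * y * n := by
      rw [hgi]
      calc n⁻¹ * c⁻¹ * y * (n⁻¹ * c⁻¹)⁻¹ = n⁻¹ * (c⁻¹ * y * c) * n := by group
        _ = n⁻¹ * y * n := by rw [hcy]
    have hj' : n * j * n⁻¹ ∈ (S : Subgroup G) :=
      thompsonSubgroupOf_le p _ ((mem_normalizer_iff.1 hn j).1 hj)
    have hyc : n * j * n⁻¹ * y = y * (n * j * n⁻¹) :=
      mem_centralizer_iff.1 ((PGroup.omegaOne_le p _ hy).2) _ hj'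
    rw [hgy]
    calc j * (n⁻¹ * y * n) = n⁻¹ * (n * j * n⁻¹ * y) * n := by group
      _ = n⁻¹ * (y * (n * j * n⁻¹)) * n := by rw [hyc]
      _ = n⁻¹ * y * n * j := by group
  · intro h S g
    set D := ⨆ S : Sylow p G, omegaCenterOf p (S : Subgroup G)
    set C := centralizer (D : Set G) with hC
    have hDn : D.Normal := by
      refine ⟨fun z hz u => ?_⟩
      have hle : D.map (MulAut.conj u).toMonoidHom ≤ D := by
        rw [Subgroup.map_iSup]
        refine iSup_le fun T => ?_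
        rw [omegaCenterOf_map _ ((MulAut.conj u).injective.injOn)]
        refine le_iSup_of_le (u • T) (le_of_eq ?_)
        rw [Sylow.coe_subgroup_smul, CfsgLib.Solvable.conj_smul_eq_map]
      exact hle ⟨z, hz, rfl⟩
    have hJS : thompsonSubgroupOf p (S : Subgroup G) ≤ C := by
      refine le_trans ?_ h
      rw [thompsonSubgroup_eq_iSup]
      exact le_iSup (fun S : Sylow p G => thompsonSubgroupOf p (S : Subgroup G)) S
    set T := (S : Subgroup G) ⊓ C with hT
    have hJT : thompsonSubgroupOf p T = thompsonSubgroupOf p (S : Subgroup G) :=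
      thompsonSubgroupOf_eq_of_le inf_le_left (le_inf (thompsonSubgroupOf_le p _) hJS)
    have hCn : C.Normal := inferInstance
    obtain ⟨T', hT'⟩ := exists_sylow_map_eq_inf C S
    have htop := Sylow.normalizer_sup_eq_top T'
    rw [hT'] at htop
    have hg : g ∈ C ⊔ normalizer (T : Set G) := by rw [sup_comm]; exact htop ▸ mem_top g
    rw [← SetLike.mem_coe, normal_mul] at hg
    obtain ⟨c, hc, n, hn, rfl⟩ := hg
    refine ⟨1, one_mem _, c, ?_, n, ?_, by simp⟩
    · exact centralizer_le (le_iSup (fun S : Sylow p G => omegaCenterOf p (S : Subgroup G)) S) hc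
    · rw [← hJT]
      have hnT : T.map (MulAut.conj n).toMonoidHom = T := by
        refine eq_of_le_of_card_ge ?_ (le_of_eq (card_map_of_injective (MulAut.conj n).injective).symm)
        rintro _ ⟨t, ht, rfl⟩
        exact (mem_normalizer_iff.1 hn t).1 ht
      refine mem_normalizer_fintype fun x hx => ?_
      have := thompsonSubgroupOf_map (p := p) (MulAut.conj n).toMonoidHom (S := T) ((MulAut.conj n).injective.injOn)
      rw [hnT] at this
      exact this.le ⟨x, hx, rfl⟩

theorem injOn_mk'_pPrimeCore (S : Sylow p G) :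
    Set.InjOn (QuotientGroup.mk' (pPrimeCore p G)) (S : Subgroup G) := by
  intro x hx y hy h
  have h1 : x⁻¹ * y ∈ pPrimeCore p G := QuotientGroup.eq.1 h
  have h2 : x⁻¹ * y ∈ (S : Subgroup G) := mul_mem (inv_mem hx) hy
  obtain ⟨k, hk⟩ := IsPGroup.iff_orderOf.1 S.2 ⟨_, h2⟩
  rw [orderOf_mk] at hk
  have h3 : (orderOf (x⁻¹ * y)).Coprime p :=
    (Cores.coprime_card_pPrimeCore p).coprime_dvd_left (orderOf_dvd_natCard _ h1)
  have h4 : orderOf (x⁻¹ * y) = 1 := eq_one_of_coprime_of_pow h3 (k := k) hk.dvd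
  exact inv_mul_eq_one.1 (orderOf_eq_one_iff.1 h4)

theorem isThompsonFactorizable_quotient :
    IsThompsonFactorizable p G ↔ IsThompsonFactorizable p (G ⧸ pPrimeCore p G) := by
  set π := QuotientGroup.mk' (pPrimeCore p G) with hπ
  have hco := Cores.coprime_card_pPrimeCore (G := G) p
  have hπs : Function.Surjective π := QuotientGroup.mk'_surjective _
  have hbar : ∀ S : Sylow p G,
      centralizer ((omegaOne p ((S.mapSurjective hπs : Subgroup (G ⧸ pPrimeCore p G)) ⊓
        centralizer ((S.mapSurjective hπs : Subgroup (G ⧸ pPrimeCore p G)) : Set (G ⧸ pPrimeCore p G))) :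
        Subgroup (G ⧸ pPrimeCore p G)) : Set (G ⧸ pPrimeCore p G)) =
        (centralizer (omegaCenterOf p (S : Subgroup G) : Set G)).map π ∧
      normalizer (thompsonSubgroupOf p (S.mapSurjective hπs : Subgroup (G ⧸ pPrimeCore p G)) : Set (G ⧸ pPrimeCore p G)) =
        (normalizer (thompsonSubgroupOf p (S : Subgroup G) : Set G)).map π := by
    intro S
    rw [Sylow.coe_mapSurjective]
    constructor
    · rw [Cores.map_mk'_centralizer_of_coprime (S.2.to_le (omegaCenterOf_le p _)) hco,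
        omegaCenterOf_map _ (injOn_mk'_pPrimeCore S)]
      rfl
    · rw [Cores.map_mk'_normalizer_of_coprime (S.2.to_le (thompsonSubgroupOf_le p _)) hco,
        thompsonSubgroupOf_map _ (injOn_mk'_pPrimeCore S)]
  constructor
  · intro h T q
    obtain ⟨S, rfl⟩ := Sylow.mapSurjective_surjective hπs p T
    obtain ⟨g, rfl⟩ := hπs q
    obtain ⟨x, hx, c, hc, n, hn, rfl⟩ := h S g
    refine ⟨1, one_mem _, π c, ?_, π n, ?_, ?_⟩
    · rw [(hbar S).1]; exact mem_map_of_mem π hc
    · rw [(hbar S).2]; exact mem_map_of_mem π hn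
    · rw [map_mul, map_mul, show π x = 1 from (QuotientGroup.eq_one_iff x).2 hx]
  · intro h S g
    obtain ⟨x, hx, cb, hc, nb, hn, hg⟩ := h (S.mapSurjective hπs) (π g)
    rw [Cores.pPrimeCore_quotient_self p, mem_bot] at hx
    rw [hx, one_mul] at hg
    rw [(hbar S).1] at hc
    rw [(hbar S).2] at hn
    obtain ⟨c, hc, rfl⟩ := hc
    obtain ⟨n, hn, rfl⟩ := hn
    refine ⟨g * (c * n)⁻¹, (QuotientGroup.eq_one_iff _).1 ?_, c, hc, n, hn, by group⟩
    show π (g * (c * n)⁻¹) = 1
    rw [map_mul, map_inv, map_mul, hg, mul_inv_cancel]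

end CfsgLib.Transfer
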