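import Cfsg.Prelude.Def_PLocal
import Cfsg.Agent.Lib.Transfer.Fusion
import Cfsg.Agent.Lib.PGroup.ElemAbelian

/-!
Basic facts on elementary abelian subgroups of largest order and the Thompson subgroup.
-/

namespace CfsgLib.Transfer

open Cfsg Subgroup

variable {G : Type*} [Group G] {p : ℕ}

theorem maxEA_nonempty [Finite G] (p : ℕ) :
    (maxElementaryAbelianSubgroups p G).Nonempty := by
  have hne : {A : Subgroup G | IsElementaryAbelian p A}.Nonempty := ⟨⊥, PGroup.elemAb_bot p⟩
  obtain ⟨A, hA, hmax⟩ :=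
    (Set.toFinite {A : Subgroup G | IsElementaryAbelian p A}).exists_maximalFor
      (fun A : Subgroup G => Nat.card A) _ hne
  refine ⟨A, hA, fun B hB => ?_⟩
  by_contra h
  exact h (hmax hB (le_of_not_ge h))

theorem le_thompsonSubgroup {A : Subgroup G} (hA : A ∈ maxElementaryAbelianSubgroups p G) :
    A ≤ thompsonSubgroup p G := le_sSup hA

theorem maxEA_isPGroup {A : Subgroup G} (hA : A ∈ maxElementaryAbelianSubgroups p G) :
    IsPGroup p A := PGroup.elemAb_isPGroup hA.1

theorem maxEA_map {H : Type*} [Group H] (e : G ≃* H) {A : Subgroup G}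
    (hA : A ∈ maxElementaryAbelianSubgroups p G) :
    A.map e.toMonoidHom ∈ maxElementaryAbelianSubgroups p H := by
  refine ⟨PGroup.elemAb_map hA.1 _, fun B hB => ?_⟩
  rw [card_map_of_injective (f := e.toMonoidHom) e.injective,
    ← card_map_of_injective (f := e.symm.toMonoidHom) e.symm.injective (K := B)]
  exact hA.2 _ (PGroup.elemAb_map hB _)

theorem thompsonSubgroup_map {H : Type*} [Group H] (e : G ≃* H) :
    (thompsonSubgroup p G).map e.toMonoidHom = thompsonSubgroup p H := by
  refine le_antisymm (map_le_iff_le_comap.2 (sSup_le fun A hA => ?_)) (sSup_le fun B hB => ?_)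
  · exact map_le_iff_le_comap.1 (le_thompsonSubgroup (maxEA_map e hA))
  · refine le_trans (fun x hx => ?_) (Subgroup.map_mono (le_thompsonSubgroup (maxEA_map e.symm hB)))
    exact ⟨e.symm x, ⟨x, hx, rfl⟩, e.apply_symm_apply x⟩

theorem thompsonSubgroup_characteristic (p : ℕ) : (thompsonSubgroup p G).Characteristic :=
  characteristic_iff_map_eq.2 fun e => thompsonSubgroup_map e

theorem thompsonSubgroup_normal_inst' (p : ℕ) : (thompsonSubgroup p G).Normal :=
  @normal_of_characteristic _ _ _ (thompsonSubgroup_characteristic p)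

/-- An elementary abelian subgroup of `H` pushed into `G` and back. -/
theorem maxEA_subgroupOf {H : Subgroup G} {A : Subgroup G}
    (hA : A ∈ maxElementaryAbelianSubgroups p G) (hAH : A ≤ H) :
    A.subgroupOf H ∈ maxElementaryAbelianSubgroups p H := by
  refine ⟨PGroup.elemAb_subgroupOf hA.1, fun B hB => ?_⟩
  rw [Nat.card_congr (subgroupOfEquivOfLe hAH).toEquiv, ← card_subtype H B]
  exact hA.2 _ (PGroup.elemAb_map hB _)

/-- If some largest elementary abelian subgroup of `G` lies in `H`, the largest ones of `H` are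
largest in `G`. -/
theorem maxEA_map_subtype {H : Subgroup G} {A : Subgroup G}
    (hA : A ∈ maxElementaryAbelianSubgroups p G) (hAH : A ≤ H) {B : Subgroup H}
    (hB : B ∈ maxElementaryAbelianSubgroups p H) :
    B.map H.subtype ∈ maxElementaryAbelianSubgroups p G := by
  refine ⟨PGroup.elemAb_map hB.1 _, fun C hC => ?_⟩
  rw [card_subtype]
  have h2 := hB.2 _ (maxEA_subgroupOf hA hAH).1
  rw [Nat.card_congr (subgroupOfEquivOfLe hAH).toEquiv] at h2
  exact (hA.2 C hC).trans h2

/-- Every largest elementary abelian subgroup is conjugate into a given Sylow subgroup. -/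
theorem exists_maxEA_le_sylow [Finite G] [Fact p.Prime] (S : Sylow p G) :
    ∃ A ∈ maxElementaryAbelianSubgroups p G, A ≤ (S : Subgroup G) := by
  obtain ⟨A, hA⟩ := maxEA_nonempty (G := G) p
  obtain ⟨g, hg⟩ := exists_conj_mem_sylow S (maxEA_isPGroup hA)
  exact ⟨_, maxEA_map (MulAut.conj g) hA, by rintro _ ⟨x, hx, rfl⟩; exact hg x hx⟩

theorem thompsonSubgroupOf_le (p : ℕ) (H : Subgroup G) : thompsonSubgroupOf p H ≤ H :=
  map_subtype_le _

theorem thompsonSubgroupOf_le_thompsonSubgroup {H : Subgroup G} {A : Subgroup G}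
    (hA : A ∈ maxElementaryAbelianSubgroups p G) (hAH : A ≤ H) :
    thompsonSubgroupOf p H ≤ thompsonSubgroup p G :=
  map_le_iff_le_comap.2 (sSup_le fun _ hB =>
    map_le_iff_le_comap.1 (le_thompsonSubgroup (maxEA_map_subtype hA hAH hB)))

theorem le_thompsonSubgroupOf {H : Subgroup G} {A : Subgroup G}
    (hA : A ∈ maxElementaryAbelianSubgroups p G) (hAH : A ≤ H) :
    A ≤ thompsonSubgroupOf p H := fun x hx =>
  ⟨⟨x, hAH hx⟩, le_thompsonSubgroup (maxEA_subgroupOf hA hAH) hx, rfl⟩

theorem thompsonSubgroupOf_eq [Finite G] {H : Subgroup G} (h : thompsonSubgroup p G ≤ H) :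
    thompsonSubgroupOf p H = thompsonSubgroup p G := by
  obtain ⟨A, hA⟩ := maxEA_nonempty (G := G) p
  exact le_antisymm (thompsonSubgroupOf_le_thompsonSubgroup hA ((le_thompsonSubgroup hA).trans h))
    (sSup_le fun B hB => le_thompsonSubgroupOf hB ((le_thompsonSubgroup hB).trans h))

theorem thompsonSubgroup_eq_iSup [Finite G] [Fact p.Prime] :
    thompsonSubgroup p G = ⨆ S : Sylow p G, thompsonSubgroupOf p (S : Subgroup G) := by
  refine le_antisymm (sSup_le fun A hA => ?_) (iSup_le fun S => ?_)
  · obtain ⟨S, hS⟩ := (maxEA_isPGroup hA).exists_le_sylow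
    exact le_iSup_of_le S (le_thompsonSubgroupOf hA hS)
  · obtain ⟨A, hA, hAS⟩ := exists_maxEA_le_sylow S
    exact thompsonSubgroupOf_le_thompsonSubgroup hA hAS

/-- An element of exponent `p` centralizing a largest elementary abelian subgroup lies in it. -/
theorem mem_of_mem_centralizer_maxEA [Finite G] {A : Subgroup G}
    (hA : A ∈ maxElementaryAbelianSubgroups p G) {x : G} (hx : x ∈ centralizer (A : Set G))
    (hxp : x ^ p = 1) : x ∈ A := by
  have hsup := PGroup.elemAb_sup hA.1 (PGroup.elemAb_zpowers hxp) (fun a ha b hb => by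
    obtain ⟨i, rfl⟩ := hb
    exact ((Commute.zpow_left (mem_centralizer_iff.1 hx a ha).symm i).eq).symm)
  rw [eq_of_le_of_card_ge le_sup_left (hA.2 _ hsup)]
  exact mem_sup_right (mem_zpowers x)

theorem sInf_maxEA_eq_omegaOne_centralizer [Finite G] :
    sInf (maxElementaryAbelianSubgroups p G) =
      omegaOne p (centralizer (thompsonSubgroup p G : Set G)) := by
  refine le_antisymm (fun x hx => ?_) ((closure_le _).2 ?_)
  · rw [mem_sInf] at hx
    obtain ⟨A, hA⟩ := maxEA_nonempty (G := G) p
    refine PGroup.mem_omegaOne ?_ (hA.1.2 x (hx A hA))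
    have hle : thompsonSubgroup p G ≤ centralizer ({x} : Set G) := sSup_le fun B hB b hb =>
      mem_centralizer_singleton_iff.2 (PGroup.elemAb_comm hB.1 hb (hx B hB))
    exact mem_centralizer_iff.2 fun y hy => mem_centralizer_singleton_iff.1 (hle hy)
  · rintro x ⟨hx1, hx2⟩
    rw [SetLike.mem_coe, mem_sInf]
    exact fun A hA => mem_of_mem_centralizer_maxEA hA
      (centralizer_le (le_thompsonSubgroup hA) hx1) hx2

theorem omegaCenterThompson_eq_sInf [Finite G] :
    omegaCenterThompson p G = sInf (maxElementaryAbelianSubgroups p G) := by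
  refine le_antisymm ?_ ?_
  · rw [sInf_maxEA_eq_omegaOne_centralizer]
    exact PGroup.omegaOne_mono inf_le_right
  · intro x hx
    obtain ⟨A, hA⟩ := maxEA_nonempty (G := G) p
    have h1 := sInf_maxEA_eq_omegaOne_centralizer.le hx
    rw [mem_sInf] at hx
    exact PGroup.mem_omegaOne ⟨le_thompsonSubgroup hA (hx A hA), PGroup.omegaOne_le p _ h1⟩
      (hA.1.2 x (hx A hA))

theorem omegaOne_center_le_omegaCenterThompson [Finite G] :
    omegaOne p (center G) ≤ omegaCenterThompson p G := by
  rw [omegaCenterThompson_eq_sInf, sInf_maxEA_eq_omegaOne_centralizer]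
  exact PGroup.omegaOne_mono (center_le_centralizer _)

end CfsgLib.Transfer
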