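import Cfsg.Agent.Lib.PGroup.Wielandt
import Mathlib.GroupTheory.QuotientGroup.Finite

/-!
Wielandt's join theorem for subnormal subgroups of a finite group.
-/

namespace CfsgLib.Transfer

open Subgroup

universe u

private theorem sup_isSubnormal_aux (n : ℕ) : ∀ (G : Type u) [Group G] [Finite G],
    Nat.card G = n → ∀ A B : Subgroup G, A.IsSubnormal → B.IsSubnormal →
      (A ⊔ B).IsSubnormal := by
  induction n using Nat.strong_induction_on with
  | _ n ih =>
  intro G _ _ hn A B hA hB
  rcases subsingleton_or_nontrivial G with h | h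
  · exact IsSubnormal.of_subsingleton
  obtain ⟨N, -, ⟨hNn, hNb⟩, hmin⟩ := Finite.exists_le_minimal
    (p := fun N : Subgroup G => N.Normal ∧ N ≠ ⊥) (a := (⊤ : Subgroup G))
    ⟨inferInstance, top_ne_bot⟩
  have hmin' : ∀ M : Subgroup G, M.Normal → M ≤ N → M = ⊥ ∨ M = N := fun M hM hMN => by
    by_cases hMb : M = ⊥
    · exact Or.inl hMb
    · exact Or.inr (le_antisymm hMN (hmin ⟨hM, hMb⟩ hMN))
  have hlt : Nat.card (G ⧸ N) < n := by
    rw [← hn, ← card_mul_index N, index_eq_card]
    exact lt_mul_of_one_lt_left Nat.card_pos ((one_lt_card_iff_ne_bot N).2 hNb)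
  have hπ := QuotientGroup.mk'_surjective N
  have h1 := (ih _ hlt (G ⧸ N) rfl _ _ (hA.map hπ) (hB.map hπ)).comap (QuotientGroup.mk' N)
  rw [← Subgroup.map_sup, comap_map_eq, QuotientGroup.ker_mk'] at h1
  refine IsSubnormal.trans (le_sup_left : A ⊔ B ≤ A ⊔ B ⊔ N) ?_ h1
  refine Normal.isSubnormal ((normal_subgroupOf_iff_le_normalizer le_sup_left).2 (sup_le le_normalizer ?_))
  intro x hx
  rw [mem_normalizer_iff_map_conj_eq, Subgroup.map_sup,
    mem_normalizer_iff_map_conj_eq.1 (PGroup.minimalNormal_le_normalizer hmin' hA hx),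
    mem_normalizer_iff_map_conj_eq.1 (PGroup.minimalNormal_le_normalizer hmin' hB hx)]

/-- The join of two subnormal subgroups of a finite group is subnormal. -/
theorem sup_isSubnormal {G : Type u} [Group G] [Finite G] {A B : Subgroup G} (hA : A.IsSubnormal)
    (hB : B.IsSubnormal) : (A ⊔ B).IsSubnormal := sup_isSubnormal_aux _ G rfl A B hA hB

end CfsgLib.Transfer
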