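import Cfsg.Agent.Lib.Transfer.Frobenius
import Cfsg.Agent.Lib.Solvable.Basic
import Cfsg.Agent.Lib.LocalEven.SL2ThreeRecog
import Mathlib.GroupTheory.SpecificGroups.Quaternion

/-!
A finite group with generalized quaternion Sylow 2-subgroups has a normal 2-complement or a section
isomorphic to `SL(2, 3)`.
-/

set_option autoImplicit false

namespace CfsgLib.Transfer.QuatSylow

open Subgroup

/-- What a subgroup of a generalized quaternion group inherits. -/
structure QuatLike (Q : Type*) [Group Q] (A : Subgroup Q) : Prop where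
  pgroup : IsPGroup 2 Q
  cyclic : IsCyclic A
  unique : ∀ q r : Q, q * q = 1 → q ≠ 1 → r * r = 1 → r ≠ 1 → q = r
  pow_four : ∀ q, q ∉ A → q ^ 4 = 1
  sq_ne : ∀ q, q ∉ A → q * q ≠ 1
  coset : ∀ q r, q ∉ A → r ∉ A → q⁻¹ * r ∈ A

variable {Q : Type*} [Group Q]

/-- An automorphism of odd order fixes an element whose image is one of its powers. -/
theorem apply_eq_of_mem_zpowers [Finite Q] (hQ : IsPGroup 2 Q) {φ : MulAut Q} {N : ℕ} (hN : Odd N)
    (hφ : φ ^ N = 1) {d : Q} (h : φ d ∈ zpowers d) : φ d = d := by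
  obtain ⟨i, hi⟩ := mem_powers_iff_mem_zpowers.2 h
  have hi' : d ^ i = φ d := hi
  have hpow : ∀ n : ℕ, (φ ^ n) d = d ^ (i ^ n) := by
    intro n
    induction n with
    | zero => simp
    | succ n ih =>
      rw [pow_succ', MulAut.mul_apply, ih, map_pow, ← hi', ← pow_mul, ← pow_succ']
  have h1 := hpow N
  rw [hφ, MulAut.one_apply] at h1
  obtain ⟨k, hk⟩ := IsPGroup.iff_orderOf.1 hQ d
  have h2 : (i : ZMod (2 ^ k)) ^ N = 1 := by
    rw [← Nat.cast_pow, ← Nat.cast_one, ZMod.natCast_eq_natCast_iff, ← hk]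
    exact (pow_eq_pow_iff_modEq.1 (h1.symm.trans (pow_one d).symm))
  haveI : NeZero (2 ^ k) := ⟨by positivity⟩
  have hNpos : 0 < N := hN.pos
  let u : (ZMod (2 ^ k))ˣ := ⟨(i : ZMod (2 ^ k)), (i : ZMod (2 ^ k)) ^ (N - 1),
    by rw [← pow_succ', Nat.sub_add_cancel hNpos, h2],
    by rw [← pow_succ, Nat.sub_add_cancel hNpos, h2]⟩
  have hu : orderOf u ∣ N := orderOf_dvd_of_pow_eq_one (Units.ext h2)
  have hu2 : orderOf u ∣ 2 ^ (k - 1) := by
    have h3 : orderOf u ∣ Nat.totient (2 ^ k) := by
      rw [← ZMod.card_units_eq_totient, ← Nat.card_eq_fintype_card]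
      exact orderOf_dvd_natCard u
    rcases Nat.eq_zero_or_pos k with hk0 | hk0
    · subst hk0
      simpa using h3
    · simpa [Nat.totient_prime_pow Nat.prime_two hk0] using h3
  have hu1 : u = 1 := orderOf_eq_one_iff.1
    (Nat.eq_one_of_dvd_coprimes ((Nat.coprime_two_right.2 hN).pow_right _) hu hu2)
  have h4 : (i : ZMod (2 ^ k)) = 1 := congrArg Units.val hu1
  rw [← hi']
  rw [← Nat.cast_one, ZMod.natCast_eq_natCast_iff, ← hk] at h4
  exact (pow_eq_pow_iff_modEq.2 h4).trans (pow_one d)

/-- An automorphism of odd order fixing a cyclic subgroup of index at most two pointwise is trivial. -/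
theorem eq_one_of_fix [Finite Q] {A : Subgroup Q} (h : QuatLike Q A) {φ : MulAut Q} {N : ℕ}
    (hN : Odd N) (hφ : φ ^ N = 1) (hA : ∀ a ∈ A, φ a = a) : φ = 1 := by
  refine MulEquiv.ext fun q => ?_
  rw [MulAut.one_apply]
  by_cases hq : q ∈ A
  · exact hA q hq
  have hq' : φ q ∉ A := fun hc => hq (by
    have := hA _ hc
    rwa [φ.injective this] at hc)
  set c := q⁻¹ * φ q with hc
  have hcA : c ∈ A := h.coset q (φ q) hq hq'
  have hpow : ∀ n : ℕ, (φ ^ n) q = q * c ^ n := by
    intro n
    induction n with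
    | zero => simp
    | succ n ih =>
      rw [pow_succ', MulAut.mul_apply, ih, map_mul, map_pow, hA c hcA, pow_succ', ← mul_assoc]
      congr 1
      rw [hc, mul_inv_cancel_left]
  have h1 := hpow N
  rw [hφ, MulAut.one_apply] at h1
  obtain ⟨k, hk⟩ := h.pgroup c
  have h2 := pow_gcd_eq_one.2 ⟨(left_eq_mul.1 h1), hk⟩
  rw [((Nat.coprime_two_right.2 hN).pow_right k), pow_one, hc] at h2
  exact (inv_mul_eq_one.1 h2).symm

/-- A nontrivial automorphism of odd order makes the group a quaternion group with a cycled frame. -/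
theorem exists_frame [Finite Q] {A : Subgroup Q} (h : QuatLike Q A) {φ : MulAut Q} {N : ℕ}
    (hN : Odd N) (hφN : φ ^ N = 1) (hne : φ ≠ 1) :
    ∃ d e : Q, d ^ 4 = 1 ∧ e * e = d * d ∧ e * d = d * d * d * e ∧ φ d = e ∧ φ e = d * e ∧
      φ (d * e) = d ∧ Nat.card Q = 8 ∧ closure {d, e} = ⊤ := by
  obtain ⟨⟨d, hdA⟩, hd⟩ := h.cyclic.exists_generator
  have hAd : A = zpowers d := by
    refine le_antisymm (fun a ha => ?_) (zpowers_le.2 hdA)
    obtain ⟨j, hj⟩ := hd ⟨a, ha⟩
    exact ⟨j, congrArg Subtype.val hj⟩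
  have hdn : φ d ∉ A := fun hc => hne (eq_one_of_fix h hN hφN fun a ha => by
    rw [hAd] at ha hc
    obtain ⟨j, rfl⟩ := mem_zpowers_iff.1 ha
    rw [map_zpow, apply_eq_of_mem_zpowers h.pgroup hN hφN hc])
  set e := φ d with he
  have hd4 : d ^ 4 = 1 := by
    apply φ.injective
    rw [map_pow, map_one]
    exact h.pow_four e hdn
  have hdd : d * d ≠ 1 := fun hc => h.sq_ne e hdn (by rw [he, ← map_mul, hc, map_one])
  have hd4' : d * d * (d * d) = 1 := by
    rw [show d * d * (d * d) = d ^ 4 by rw [pow_succ, pow_succ, pow_two]; group, hd4]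
  have he4' : e * e * (e * e) = 1 := by rw [he, ← map_mul, ← map_mul, hd4', map_one]
  have hee : e * e = d * d := h.unique _ _ he4' (h.sq_ne e hdn) hd4' hdd
  have hord : orderOf d = 4 := by
    rw [show 4 = 2 ^ (1 + 1) by norm_num]
    exact orderOf_eq_prime_pow (by rw [pow_one, pow_two]; exact hdd) (by norm_num [hd4])
  have hAcard : Nat.card A = 4 := by rw [hAd, Nat.card_zpowers, hord]
  have hAn : A.Normal := by
    refine ⟨fun a ha q => ?_⟩
    by_cases hq : q ∈ A
    · exact mul_mem (mul_mem hq ha) (inv_mem hq)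
    by_contra hc
    -- the product `q a` lies outside `A`, so `q⁻¹` maps into the same coset
    have hqa : q * a ∉ A := fun hh => hq (by simpa using mul_mem hh (inv_mem ha))
    have hqi : q⁻¹ ∉ A := fun hh => hq (by simpa using inv_mem hh)
    have h1 := h.coset q⁻¹ (a * q⁻¹) hqi (fun hh => hqi (by simpa using mul_mem (inv_mem ha) hh))
    rw [inv_inv] at h1
    exact hc (by simpa [mul_assoc] using h1)
  have hall : ∀ q, q ∈ A ∨ q * e⁻¹ ∈ A := by
    intro q
    by_cases hq : q ∈ A
    · exact Or.inl hq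
    right
    have h1 := h.coset e q hdn hq
    have h2 := hAn.conj_mem _ h1 e
    rwa [mul_inv_cancel_left] at h2
  have hgen : closure {d, e} = ⊤ := by
    refine eq_top_iff.2 fun q _ => ?_
    have hA' : A ≤ closure {d, e} := by
      rw [hAd, zpowers_le]
      exact subset_closure (by simp)
    rcases hall q with hq | hq
    · exact hA' hq
    · have h1 := mul_mem (hA' hq) (subset_closure (show e ∈ ({d, e} : Set Q) by simp))
      rwa [inv_mul_cancel_right] at h1
  have hindex : A.index = 2 := by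
    refine le_antisymm ?_ ?_
    · have hs : Function.Surjective
          (fun b : Bool => if b then (QuotientGroup.mk 1 : Q ⧸ A) else QuotientGroup.mk e) := by
        intro y
        induction y using QuotientGroup.induction_on with
        | _ q =>
          by_cases hq : q ∈ A
          · exact ⟨true, QuotientGroup.eq.2 (by simpa using hq)⟩
          · exact ⟨false, QuotientGroup.eq.2 (h.coset e q hdn hq)⟩
      calc A.index = Nat.card (Q ⧸ A) := rfl
        _ ≤ Nat.card Bool := Nat.card_le_card_of_surjective _ hs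
        _ = 2 := by simp
    · exact Subgroup.one_lt_index_of_ne_top fun ht => hdn (ht ▸ Subgroup.mem_top _)
  have hcard : Nat.card Q = 8 := by rw [← A.card_mul_index, hAcard, hindex]
  have hed : e * d = d * d * d * e := by
    have hconj := hAn.conj_mem d hdA e
    rw [hAd] at hconj
    obtain ⟨j, hj⟩ := mem_powers_iff_mem_zpowers.2 hconj
    have hj' : d ^ j = e * d * e⁻¹ := hj
    have hjm : d ^ (j % 4) = e * d * e⁻¹ := by rw [← hord, pow_mod_orderOf, hj']
    have h3 : e * d * e⁻¹ = d * d * d := by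
      have hlt : j % 4 < 4 := Nat.mod_lt _ (by norm_num)
      interval_cases hjv : j % 4
      · rw [pow_zero] at hjm
        exact absurd (conj_eq_one_iff.1 hjm.symm) fun hd1 => hdd (by rw [hd1, one_mul])
      · rw [pow_one] at hjm
        exfalso
        have hcm : Commute e d := mul_inv_eq_iff_eq_mul.1 hjm.symm
        have h5 : d * e⁻¹ * (d * e⁻¹) = 1 := by
          calc d * e⁻¹ * (d * e⁻¹) = d * (e⁻¹ * d) * e⁻¹ := by group
            _ = d * d * (e * e)⁻¹ := by rw [hcm.inv_left.eq]; group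
            _ = 1 := by rw [hee, mul_inv_cancel]
        by_cases h6 : d * e⁻¹ = 1
        · exact hdn (by rw [← mul_inv_eq_one.1 h6]; exact hdA)
        · have h7 := h.unique _ _ h5 h6 hd4' hdd
          have h8 : e⁻¹ = d := mul_left_cancel h7
          exact hdn (by rw [← inv_inv e, h8]; exact inv_mem hdA)
      · exfalso
        rw [pow_two] at hjm
        have h5 := congrArg (fun y => y * y) hjm
        simp only [hd4'] at h5
        have h6 : e * (d * d) * e⁻¹ = 1 := by rw [h5]; group
        exact hdd (conj_eq_one_iff.1 h6)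
      · rw [← hjm, pow_succ, pow_two]
    rw [← h3, inv_mul_cancel_right]
  have hde : d * e ∉ A := fun hh => hdn (by simpa using mul_mem (inv_mem hdA) hh)
  have hd3 : d ^ 3 = d⁻¹ := eq_inv_of_mul_eq_one_left (by rw [← pow_succ]; exact hd4)
  have hφe : φ e = d * e ∨ φ e = d⁻¹ * e := by
    rcases hall (φ e) with hc | hc
    · exfalso
      rw [hAd] at hc
      obtain ⟨j, hj⟩ := mem_powers_iff_mem_zpowers.2 hc
      have hj' : d ^ j = φ e := hj
      have h1 : (φ ^ 2) d ∈ zpowers d := by
        rw [pow_two, MulAut.mul_apply, ← he, ← hj']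
        exact pow_mem (mem_zpowers d) j
      have hodd : Odd N := hN
      have h2 : (φ ^ 2) d = d := apply_eq_of_mem_zpowers h.pgroup hodd
        (by rw [← pow_mul, mul_comm, pow_mul, hφN, one_pow]) h1
      obtain ⟨r, hr⟩ := hodd
      have h3 : φ d = d := by
        have h4 : ((φ ^ 2) ^ (r + 1)) d = d := by
          induction r + 1 with
          | zero => simp
          | succ s ih => rw [pow_succ, MulAut.mul_apply, h2, ih]
        rw [← pow_mul, show 2 * (r + 1) = N + 1 by omega, pow_succ, hφN, one_mul] at h4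
        exact h4
      exact hdn (he ▸ h3.symm ▸ hdA)
    · rw [hAd] at hc
      obtain ⟨j, hj⟩ := mem_powers_iff_mem_zpowers.2 hc
      have hj' : d ^ (j % 4) * e = φ e := by
        rw [← hord, pow_mod_orderOf, show d ^ j = φ e * e⁻¹ from hj, inv_mul_cancel_right]
      have hlt : j % 4 < 4 := Nat.mod_lt _ (by norm_num)
      have hfix : φ e ∉ zpowers e := fun hh => by
        have h5 := apply_eq_of_mem_zpowers h.pgroup hN hφN hh
        have h6 : e = d := φ.injective h5
        exact hdn (h6.symm ▸ hdA)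
      interval_cases hjv : j % 4
      · exact absurd (hj' ▸ by simpa using mem_zpowers e) hfix
      · exact Or.inl (by rw [← hj', pow_one])
      · refine absurd ?_ hfix
        rw [← hj', pow_two, ← hee]
        exact mul_mem (mul_mem (mem_zpowers e) (mem_zpowers e)) (mem_zpowers e)
      · exact Or.inr (by rw [← hj', hd3])
  rcases hφe with h1 | h1
  · refine ⟨d, e, hd4, hee, hed, rfl, h1, ?_, hcard, hgen⟩
    rw [map_mul, h1, ← he, ← mul_assoc, hed, mul_assoc (d * d * d), hee]
    calc d * d * d * (d * d) = d * d * (d * d) * d := by group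
      _ = d := by rw [hd4', one_mul]
  · have hed' : e * d = d⁻¹ * e := by rw [hed, show d * d * d = d⁻¹ by rw [← hd3, pow_succ, pow_two]]
    refine ⟨d⁻¹, e⁻¹, by rw [inv_pow, hd4, inv_one], by rw [← mul_inv_rev, hee, mul_inv_rev], ?_,
      by rw [map_inv, ← he], ?_, ?_, hcard, ?_⟩
    · have e1 := congrArg (·⁻¹) hed'
      simp only [mul_inv_rev, inv_inv] at e1
      calc e⁻¹ * d⁻¹ = (d * e)⁻¹ := (mul_inv_rev d e).symm
        _ = (e * d⁻¹)⁻¹ := by
          congr 1
          calc d * e = d * (e * d) * d⁻¹ := by group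
            _ = e * d⁻¹ := by rw [hed']; group
        _ = d * e⁻¹ := by rw [mul_inv_rev, inv_inv]
        _ = d⁻¹ * d⁻¹ * d⁻¹ * e⁻¹ := by
          congr 1
          rw [← mul_inv_rev, ← mul_inv_rev, ← mul_assoc, ← pow_two, ← pow_succ, hd3, inv_inv]
    · rw [map_inv, h1, mul_inv_rev, inv_inv]
      calc e⁻¹ * d = d⁻¹ * (d * e⁻¹) * d := by group
        _ = d⁻¹ * e⁻¹ := by
          have : e⁻¹ * d⁻¹ = d * e⁻¹ := by
            rw [eq_mul_inv_iff_mul_eq, mul_assoc, ← hed']
            group
          rw [← this]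
          group
    · rw [map_mul, map_inv, map_inv, ← he, h1, mul_inv_rev]
      calc e⁻¹ * (e⁻¹ * d⁻¹⁻¹) = (e * e)⁻¹ * d := by group
        _ = d⁻¹ := by rw [hee]; group
    · rw [← hgen]
      refine le_antisymm ((closure_le _).2 ?_) ((closure_le _).2 ?_)
      · rintro _ (rfl | rfl) <;> exact inv_mem (subset_closure (by simp))
      · intro y hy
        obtain hy | hy : y = _ ∨ y = _ := by simpa using hy
        all_goals rw [hy]
        · rw [← inv_inv d]
          exact inv_mem (subset_closure (by simp))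
        · rw [← inv_inv e]
          exact inv_mem (subset_closure (by simp))

/-- Subgroups of a generalized quaternion 2-group are quaternion-like. -/
theorem quatLike_of_injective [Finite Q] {n : ℕ} (f : Q →* QuaternionGroup (2 ^ n))
    (hf : Function.Injective f) :
    QuatLike Q ((zpowers (QuaternionGroup.a 1 : QuaternionGroup (2 ^ n))).comap f) := by
  set C := zpowers (QuaternionGroup.a 1 : QuaternionGroup (2 ^ n)) with hC
  haveI : NeZero (2 ^ n) := ⟨by positivity⟩
  have hmemC : ∀ i : ZMod (2 * 2 ^ n), QuaternionGroup.a i ∈ C := fun i => by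
    refine ⟨(i.val : ℤ), ?_⟩
    show QuaternionGroup.a 1 ^ (i.val : ℤ) = _
    rw [zpow_natCast, QuaternionGroup.a_one_pow, ZMod.natCast_zmod_val]
  have hxa : ∀ y : QuaternionGroup (2 ^ n), y ∉ C → ∃ i, y = QuaternionGroup.xa i := by
    rintro (i | i) hy
    · exact absurd (hmemC i) hy
    · exact ⟨i, rfl⟩
  have hhalf : ((2 ^ n : ℕ) : ZMod (2 * 2 ^ n)) ≠ 0 := by
    rw [Ne, ZMod.natCast_eq_zero_iff]
    intro hd
    have := Nat.le_of_dvd (by positivity) hd
    have : 0 < 2 ^ n := by positivity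
    omega
  have hinv : ∀ y : QuaternionGroup (2 ^ n), y * y = 1 → y ≠ 1 →
      y = QuaternionGroup.a ((2 ^ n : ℕ) : ZMod (2 * 2 ^ n)) := by
    rintro (i | i) hy hy1
    · rw [QuaternionGroup.a_mul_a, QuaternionGroup.one_def, QuaternionGroup.a.injEq] at hy
      have hv : ((i.val + i.val : ℕ) : ZMod (2 * 2 ^ n)) = 0 := by
        rw [Nat.cast_add, ZMod.natCast_zmod_val, hy]
      rw [ZMod.natCast_eq_zero_iff] at hv
      have hlt := ZMod.val_lt i
      have hne : i.val ≠ 0 := fun e => hy1 (by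
        rw [(ZMod.val_eq_zero i).1 e, QuaternionGroup.one_def])
      obtain ⟨c, hc⟩ := hv
      have hc1 : c = 1 := by
        have h1 : 2 * 2 ^ n * c < 2 * 2 ^ n * 2 := by omega
        have h2 := Nat.lt_of_mul_lt_mul_left h1
        rcases (by omega : c = 0 ∨ c = 1) with rfl | rfl
        · omega
        · rfl
      subst hc1
      congr 1
      rw [← ZMod.natCast_zmod_val i]
      congr 1
      omega
    · exfalso
      rw [← pow_two, QuaternionGroup.xa_sq, QuaternionGroup.one_def, QuaternionGroup.a.injEq] at hy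
      exact hhalf hy
  have hQp : IsPGroup 2 Q := by
    refine IsPGroup.of_injective (IsPGroup.of_card (n := n + 2) ?_) f hf
    rw [Nat.card_eq_fintype_card, QuaternionGroup.card, pow_add]
    ring
  refine ⟨hQp, ?_, fun q r hq hq1 hr hr1 => hf ?_, fun q hq => hf ?_, fun q hq hqq => ?_,
    fun q r hq hr => ?_⟩
  · haveI : IsCyclic C := by rw [hC]; infer_instance
    exact isCyclic_of_injective ((f.comp (C.comap f).subtype).codRestrict C fun x => x.2)
      fun a b e => Subtype.ext (hf (congrArg Subtype.val e))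
  · rw [hinv (f q) (by rw [← map_mul, hq, map_one]) (fun e => hq1 (hf (e.trans (map_one f).symm))),
      hinv (f r) (by rw [← map_mul, hr, map_one]) (fun e => hr1 (hf (e.trans (map_one f).symm)))]
  · obtain ⟨i, hi⟩ := hxa (f q) hq
    rw [map_pow, hi, QuaternionGroup.xa_pow_four, map_one]
  · obtain ⟨i, hi⟩ := hxa (f q) hq
    have h1 : f q * f q = 1 := by rw [← map_mul, hqq, map_one]
    rw [hi, ← pow_two, QuaternionGroup.xa_sq, QuaternionGroup.one_def, QuaternionGroup.a.injEq] at h1
    exact hhalf h1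
  · obtain ⟨i, hi⟩ := hxa (f q) hq
    obtain ⟨j, hj⟩ := hxa (f r) hr
    show f (q⁻¹ * r) ∈ C
    rw [map_mul, map_inv, hi, hj]
    show _⁻¹ * _ ∈ C
    rw [show (QuaternionGroup.xa i)⁻¹ = QuaternionGroup.xa (((2 ^ n : ℕ) : ZMod (2 * 2 ^ n)) + i) from rfl,
      QuaternionGroup.xa_mul_xa]
    exact hmemC _

variable {G : Type*} [Group G] [Finite G]

/-- The dichotomy. -/
theorem npc_or_section (T : Sylow 2 G) (n : ℕ) (e₀ : (T : Subgroup G) ≃* QuaternionGroup (2 ^ n)) :
    Cfsg.HasNormalPComplement 2 G ∨ ∃ (H K : Subgroup G) (_ : (K.subgroupOf H).Normal),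
      Nonempty ((H ⧸ K.subgroupOf H) ≃* Matrix.SpecialLinearGroup (Fin 2) (ZMod 3)) := by
  haveI : Fact (Nat.Prime 2) := ⟨Nat.prime_two⟩
  rw [or_iff_not_imp_left]
  intro hn
  have hF : ¬ FrobeniusCond 2 G := fun h => hn (hasNormalPComplement_of_frobeniusCond h)
  unfold FrobeniusCond at hF
  push Not at hF
  obtain ⟨P, hP, g, hg, hgo, hgc⟩ := hF
  obtain ⟨S, hS⟩ := hP.exists_le_sylow
  obtain ⟨u, hu⟩ := MulAction.exists_smul_eq G S T
  have hemb : ∀ x : ↥P, u * (x : G) * u⁻¹ ∈ (T : Subgroup G) := fun x => by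
    rw [← hu, Sylow.coe_subgroup_smul]
    exact Subgroup.smul_mem_pointwise_smul (x : G) (MulAut.conj u) _ (hS x.2)
  let j : ↥P →* ↥(T : Subgroup G) := ((MulAut.conj u).toMonoidHom.comp P.subtype).codRestrict _ hemb
  have hj : Function.Injective j := fun a b e =>
    Subtype.ext ((MulAut.conj u).injective (congrArg Subtype.val e))
  have hQ := quatLike_of_injective (e₀.toMonoidHom.comp j) (e₀.injective.comp hj)
  set φ : MulAut ↥P := P.normalizerMonoidHom ⟨g, hg⟩ with hφ
  have hgo' : Odd (orderOf g) := Nat.coprime_two_right.1 hgo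
  have hφN : φ ^ orderOf g = 1 := by
    rw [hφ, ← map_pow, show (⟨g, hg⟩ : ↥(normalizer (P : Set G))) ^ orderOf g = 1 from
      Subtype.ext (pow_orderOf_eq_one g), map_one]
  have hφne : φ ≠ 1 := fun h => hgc (mem_centralizer_iff.2 fun x hx => by
    have := congrArg Subtype.val (DFunLike.congr_fun h ⟨x, hx⟩)
    change g * x * g⁻¹ = x at this
    exact (mul_inv_eq_iff_eq_mul.1 this).symm)
  obtain ⟨d, e, hd4, hee, hed, h1, h2, h3, hcard, hgen⟩ := exists_frame hQ hgo' hφN hφne
  have hgd : g * (d : G) * g⁻¹ = e := congrArg Subtype.val h1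
  have hge : g * (e : G) * g⁻¹ = (d : G) * e := congrArg Subtype.val h2
  have hgde : g * ((d : G) * e) * g⁻¹ = d := congrArg Subtype.val h3
  have hφ3 : φ ^ 3 = 1 := by
    have hdle : closure {d, e} ≤ ((φ ^ 3).toMonoidHom).eqLocus (MonoidHom.id _) := by
      refine (closure_le _).2 ?_
      intro y hy
      obtain hy | hy : y = _ ∨ y = _ := by simpa using hy
      all_goals rw [hy]
      · show φ (φ (φ d)) = d
        rw [h1, h2, h3]
      · show φ (φ (φ e)) = e
        rw [h2, h3, h1]
    rw [hgen] at hdle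
    exact MulEquiv.ext fun x => hdle (Subgroup.mem_top x)
  set w := g ^ 3 with hw
  have hwP : ∀ x ∈ P, w * x * w⁻¹ = x := by
    intro x hx
    have h := congrArg Subtype.val (DFunLike.congr_fun hφ3 ⟨x, hx⟩)
    change g * (g * (g * x * g⁻¹) * g⁻¹) * g⁻¹ = x at h
    conv_rhs => rw [← h]
    rw [hw, pow_succ, pow_two]
    group
  set H := P ⊔ zpowers g with hH
  set K := zpowers w with hK
  have hgH : g ∈ H := mem_sup_right (mem_zpowers g)
  have hwH : w ∈ H := pow_mem hgH 3
  have hHK : H ≤ normalizer (K : Set G) := by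
    refine sup_le (fun x hx => centralizer_le_normalizer _ ?_)
      (zpowers_le.2 (centralizer_le_normalizer _ ?_))
    · rw [mem_centralizer_iff]
      rintro _ ⟨i, rfl⟩
      exact (Commute.zpow_left (mul_inv_eq_iff_eq_mul.1 (hwP x hx) : Commute w x) i).eq
    · rw [mem_centralizer_iff]
      rintro _ ⟨i, rfl⟩
      exact (Commute.zpow_left ((Commute.refl g).pow_left 3 : Commute w g) i).eq
  haveI hKn : (K.subgroupOf H).Normal := normal_subgroupOf_of_le_normalizer hHK
  refine ⟨H, K, hKn, ?_⟩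
  have hdH : (d : G) ∈ H := mem_sup_left d.2
  have heH : (e : G) ∈ H := mem_sup_left e.2
  set π := QuotientGroup.mk' (K.subgroupOf H)
  have hrel : CfsgLib.LocalEven.SL23.Rel (π ⟨d, hdH⟩) (π ⟨e, heH⟩) (π ⟨g, hgH⟩) := by
    refine ⟨?_, ?_, ?_, ?_, ?_, ?_⟩
    · rw [← map_mul, ← map_mul, ← map_mul]
      convert map_one π using 2
      apply Subtype.ext
      have := congrArg Subtype.val hd4
      simpa [pow_succ] using this
    · rw [← map_mul, ← map_mul]
      congr 1
      exact Subtype.ext (congrArg (fun y : ↥P => (y : G)) hee)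
    · rw [← map_mul, ← map_mul, ← map_mul, ← map_mul]
      congr 1
      exact Subtype.ext (congrArg (fun y : ↥P => (y : G)) hed)
    · rw [← map_mul, ← map_mul]
      refine (QuotientGroup.eq_one_iff _).2 ?_
      show g * g * g ∈ K
      rw [show g * g * g = w by rw [hw, pow_succ, pow_two]]
      exact mem_zpowers w
    · rw [← map_mul, ← map_mul]
      congr 1
      exact Subtype.ext (mul_inv_eq_iff_eq_mul.1 hgd)
    · rw [← map_mul, ← map_mul, ← map_mul]
      congr 1
      exact Subtype.ext (mul_inv_eq_iff_eq_mul.1 hge)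
  have hPg : P ⊓ zpowers g = ⊥ := by
    refine (disjoint_of_coprime_natCard ?_).eq_bot
    obtain ⟨k, hk⟩ := IsPGroup.iff_card.1 hP
    rw [hk, Nat.card_zpowers]
    exact (hgo.symm).pow_left k
  have hHcard : Nat.card H = 8 * orderOf g := by
    rw [hH, CfsgLib.Solvable.card_sup_of_disjoint (zpowers_le.2 hg) hPg, hcard, Nat.card_zpowers]
  have h3dvd : 3 ∣ orderOf g := by
    have h31 : orderOf φ = 3 := orderOf_eq_prime hφ3 hφne
    rw [← h31]
    exact orderOf_dvd_of_pow_eq_one hφN
  have hKH : K ≤ H := zpowers_le.2 hwH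
  have hindex : Nat.card (↥H ⧸ K.subgroupOf H) = 24 := by
    have h1 := (K.subgroupOf H).card_mul_index
    rw [Nat.card_congr (subgroupOfEquivOfLe hKH).toEquiv, hK, Nat.card_zpowers, hw,
      orderOf_pow, Nat.gcd_eq_right h3dvd, hHcard] at h1
    obtain ⟨r, hr⟩ := h3dvd
    rw [hr, Nat.mul_div_cancel_left _ (by norm_num : 0 < 3)] at h1
    have hrpos : 0 < r := by
      rcases Nat.eq_zero_or_pos r with h0 | h0
      · rw [h0, mul_zero] at hr
        exact absurd hr (orderOf_pos g).ne'
      · exact h0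
    refine Nat.eq_of_mul_eq_mul_left hrpos (h1.trans (by ring))
  have htop : closure {π ⟨d, hdH⟩, π ⟨e, heH⟩, π ⟨g, hgH⟩} = (⊤ : Subgroup (↥H ⧸ K.subgroupOf H)) := by
    set D := (closure {π ⟨d, hdH⟩, π ⟨e, heH⟩, π ⟨g, hgH⟩}).comap π with hD
    have hDtop : H ≤ D.map H.subtype := by
      refine sup_le ?_ (zpowers_le.2 ⟨⟨g, hgH⟩, subset_closure (by simp), rfl⟩)
      have hle : closure {d, e} ≤ (D.map H.subtype).comap P.subtype := by
        refine (closure_le _).2 ?_
        intro y hy
        obtain hy | hy : y = _ ∨ y = _ := by simpa using hy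
        all_goals rw [hy]
        · exact ⟨⟨_, hdH⟩, subset_closure (by simp), rfl⟩
        · exact ⟨⟨_, heH⟩, subset_closure (by simp), rfl⟩
      rw [hgen] at hle
      exact fun x hx => hle (Subgroup.mem_top ⟨x, hx⟩)
    refine eq_top_iff.2 fun y _ => ?_
    obtain ⟨⟨x, hx⟩, rfl⟩ := QuotientGroup.mk'_surjective _ y
    obtain ⟨z, hz, hzx⟩ := hDtop hx
    obtain rfl : z = ⟨x, hx⟩ := Subtype.ext hzx
    exact hz
  obtain ⟨ψ⟩ := CfsgLib.LocalEven.SL23.nonempty_mulEquiv hrel ⊤ htop.symm
    (by rw [Subgroup.card_top, hindex])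
  exact ⟨(Subgroup.topEquiv.symm).trans ψ⟩

end CfsgLib.Transfer.QuatSylow
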