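import Cfsg.Agent.Lib.LocalEven.ThompsonComplement

/-!
A group with `C(O_p(G)) ≤ O_p(G)` whose characteristic subgroups of a Sylow `p`-subgroup carry only
`p`-groups of automorphisms is a `p`-group, for `p` odd or the group free of sections `S₄`.
-/

set_option autoImplicit false

namespace CfsgLib.Transfer

open Cfsg Subgroup CfsgLib.PStab

universe u

variable {p : ℕ} [hp : Fact p.Prime]

/-- The elements of order prime to `p` normalising a characteristic subgroup of `P` centralise it. -/
def CharCond (p : ℕ) {G : Type*} [Group G] (P : Subgroup G) : Prop :=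
  ∀ X : Subgroup G, X ≤ P → X ≠ ⊥ → (X.subgroupOf P).Characteristic →
    ∀ g ∈ normalizer (X : Set G), (orderOf g).Coprime p → g ∈ centralizer (X : Set G)

theorem char_map_equiv {A B : Type*} [Group A] [Group B] (e : A ≃* B) {X : Subgroup A}
    (hX : X.Characteristic) : (X.map e.toMonoidHom).Characteristic := by
  refine Subgroup.characteristic_iff_map_eq.2 fun φ => ?_
  have h := Subgroup.characteristic_iff_map_eq.1 hX ((e.trans φ).trans e.symm)
  conv_rhs => rw [← h, Subgroup.map_map]
  rw [Subgroup.map_map]
  congr 1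
  ext a
  simp

variable {G : Type u} [Group G] [Finite G]

omit hp [Finite G] in
/-- An element of order prime to `p` commuting with a `p`-subgroup modulo elements it fixes. -/
theorem commute_of_conj_mul {g q z : G} (hg : (orderOf g).Coprime p) (hz : ∃ k : ℕ, z ^ p ^ k = 1)
    (hc : Commute g z) (h : g * q * g⁻¹ = z * q) : g * q = q * g := by
  have key : ∀ n : ℕ, g ^ n * q * (g ^ n)⁻¹ = z ^ n * q := by
    intro n
    induction n with
    | zero => simp
    | succ n ih =>
      rw [pow_succ', show g * g ^ n * q * (g * g ^ n)⁻¹ = g * (g ^ n * q * (g ^ n)⁻¹) * g⁻¹ by group, ih,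
        show g * (z ^ n * q) * g⁻¹ = (g * z ^ n * g⁻¹) * (g * q * g⁻¹) by group, h,
        (hc.pow_right n).eq, mul_inv_cancel_right, pow_succ, mul_assoc]
  have h1 := key (orderOf g)
  rw [pow_orderOf_eq_one, one_mul, inv_one, mul_one] at h1
  have hz1 : z ^ orderOf g = 1 := mul_right_cancel (h1.symm.trans (one_mul q).symm)
  obtain ⟨k, hk⟩ := hz
  have : z = 1 := orderOf_eq_one_iff.1 (Nat.eq_one_of_dvd_coprimes (hg.pow_right k)
    (orderOf_dvd_of_pow_eq_one hz1) (orderOf_dvd_of_pow_eq_one hk))
  rw [this, one_mul] at h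
  exact mul_inv_eq_iff_eq_mul.1 h

/-- A group is a `p`-group if its elements of order prime to `p` centralise a normal `p`-subgroup
containing its centralizer. -/
theorem isPGroup_of_centralize {Q : Subgroup G} (hQ : IsPGroup p Q)
    (hC : centralizer (Q : Set G) ≤ Q)
    (h : ∀ g : G, (orderOf g).Coprime p → g ∈ centralizer (Q : Set G)) : IsPGroup p G := by
  refine IsPGroup.iff_orderOf.2 fun g => ⟨(orderOf g).factorization p, ?_⟩
  set a := p ^ (orderOf g).factorization p with ha
  have hdvd : a ∣ orderOf g := Nat.ordProj_dvd _ _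
  have ho : orderOf (g ^ a) = orderOf g / a :=
    orderOf_pow_of_dvd (pow_ne_zero _ hp.out.ne_zero) hdvd
  have hco : (orderOf (g ^ a)).Coprime p := by
    rw [ho]; exact (Nat.coprime_ordCompl hp.out (orderOf_pos g).ne').symm
  have hmem : g ^ a ∈ Q := hC (h _ hco)
  obtain ⟨k, hk⟩ := IsPGroup.iff_orderOf.1 hQ ⟨_, hmem⟩
  rw [Subgroup.orderOf_mk] at hk
  have h1 : orderOf g / a = 1 := by
    rw [← ho]
    exact Nat.eq_one_of_dvd_coprimes (hco.pow_right k) dvd_rfl hk.dvd
  exact (Nat.eq_of_dvd_of_div_eq_one hdvd h1).symm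

theorem npc_of_isPGroup (h : IsPGroup p G) : HasNormalPComplement p G := by
  obtain ⟨k, hk⟩ := h.exists_card_eq
  exact CfsgLib.Transfer.hasNormalPComplement_iff.2
    ⟨⊥, inferInstance, by rw [Subgroup.card_bot]; exact Nat.coprime_one_left p, k, by
      rw [Subgroup.index_bot, hk]⟩

omit [Finite G] in
/-- A maximal abelian subgroup of largest order contains what centralises it. -/
theorem mem_of_commute_maxAdm_zero [Finite G] {D A : Subgroup G} (hA : A ∈ maxAdm 0 D) {x : G}
    (hxD : x ∈ D) (hx : ∀ a ∈ A, x * a = a * x) : x ∈ A :=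
  mem_of_commute_maxAdm (p := orderOf x) (Or.inl rfl) hA hxD (pow_orderOf_eq_one x) hx

/-- The statement in order `n`. -/
def CharCondStatement (p n : ℕ) : Prop :=
  ∀ (G : Type u) [Group G] [Finite G] (P : Sylow p G), Nat.card G = n →
    (p ≠ 2 ∨ ¬ Involves (Equiv.Perm (Fin 4)) G) →
    centralizer (pCore p G : Set G) ≤ pCore p G → CharCond p (P : Subgroup G) → IsPGroup p G

theorem charCondStatement (n : ℕ) : CharCondStatement.{u} p n := by
  induction n using Nat.strong_induction_on with
  | _ n ih =>
  intro G _ _ P hn hS4 hC hcond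
  classical
  have hQp := CfsgLib.Cores.isPGroup_pCore p (G := G)
  have hQP : pCore p G ≤ P := CfsgLib.Cores.pCore_le_sylow P
  -- proper subgroups above `P`
  have hsub : ∀ H : Subgroup G, (P : Subgroup G) ≤ H → H ≠ ⊤ → IsPGroup p H := by
    intro H hPH hH
    have hlt : Nat.card H < n := hn ▸ lt_of_le_of_ne (Subgroup.card_le_card_group H)
      fun e => hH (Subgroup.eq_top_of_card_eq H e)
    refine ih _ hlt H (P.subtype hPH) rfl
      (hS4.imp_right fun h4 h5 => h4 (CfsgLib.LocalEven.Offender.involves_of_injective H.subtype H.subtype_injective h5))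
      ?_ ?_
    · have h1 : (pCore p G).subgroupOf H ≤ pCore p H := CfsgLib.Cores.le_pCore
        (hQp.comap_of_injective H.subtype H.subtype_injective)
      intro c hc
      refine h1 (hC (Subgroup.mem_centralizer_iff.2 fun y hy => ?_))
      exact congrArg Subtype.val (Subgroup.mem_centralizer_iff.1 hc ⟨y, hPH (hQP hy)⟩ (h1 hy))
    · intro X hX hXne hXc g hg hgo
      rw [Sylow.coe_subtype] at hX hXc
      have hX' : X.map H.subtype ≤ P := by
        rintro _ ⟨x, hx, rfl⟩; exact hX hx
      have hchar : ((X.map H.subtype).subgroupOf (P : Subgroup G)).Characteristic := by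
        have h1 := char_map_equiv (Subgroup.subgroupOfEquivOfLe hPH) hXc
        convert h1 using 1
        ext x
        constructor
        · rintro ⟨y, hy, hyx⟩
          exact ⟨⟨y, hX hy⟩, hy, Subtype.ext hyx⟩
        · rintro ⟨y, hy, hyx⟩
          exact ⟨(y : H), hy, congrArg Subtype.val hyx⟩
      have hgn : (g : G) ∈ normalizer (X.map H.subtype : Set G) :=
        CfsgLib.Solvable.mem_normalizer_of_conj_mem (by
          rintro _ ⟨x, hx, rfl⟩
          exact ⟨g * x * g⁻¹, (Subgroup.mem_normalizer_iff.1 hg x).1 hx, by simp⟩)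
      have h2 := hcond _ hX' (fun e => hXne ((Subgroup.map_eq_bot_iff_of_injective _ H.subtype_injective).1 e))
        hchar g hgn (by rwa [Subgroup.orderOf_coe])
      exact Subgroup.mem_centralizer_iff.2 fun x hx =>
        Subtype.ext (Subgroup.mem_centralizer_iff.1 h2 x ⟨x, hx, rfl⟩)
  refine isPGroup_of_centralize hQp hC fun g hg => ?_
  rcases eq_or_ne (P : Subgroup G) ⊥ with hP | hP
  · exact Subgroup.mem_centralizer_iff.2 fun q hq => by
      rw [Subgroup.mem_bot.1 (hP.le (hQP hq)), one_mul, mul_one]
  set J := jGen 0 (P : Subgroup G) with hJ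
  by_cases hJn : normalizer (J : Set G) = ⊤
  · -- `J` is normal
    have hJne : J ≠ ⊥ := jGen_ne_bot (p := p) (Or.inl rfl) P.2 hP
    have hJc : (J.subgroupOf (P : Subgroup G)).Characteristic := by
      have h : J.subgroupOf (P : Subgroup G) = jGen 0 (⊤ : Subgroup (P : Subgroup G)) := by
        refine Subgroup.map_injective (P : Subgroup G).subtype_injective ?_
        rw [← jGen_map (P : Subgroup G).subtype_injective, ← MonoidHom.range_eq_map,
          Subgroup.range_subtype, Subgroup.subgroupOf, Subgroup.map_comap_eq_self]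
        rw [Subgroup.range_subtype]; exact jGen_le 0 _
      rw [h]
      exact Subgroup.characteristic_iff_map_eq.2 fun φ => by
        rw [← jGen_map (f := φ.toMonoidHom) φ.injective, Subgroup.map_top_of_surjective _ φ.surjective]
    have hgJ := hcond J (jGen_le 0 _) hJne hJc g (by rw [hJn]; trivial) hg
    have hJN : J.Normal := Subgroup.normalizer_eq_top_iff.1 hJn
    have hCN : (centralizer (J : Set G)).Normal := inferInstance
    refine Subgroup.mem_centralizer_iff.2 fun q hq => ?_
    set z := g * q * g⁻¹ * q⁻¹ with hz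
    have hzQ : z ∈ pCore p G := mul_mem ((inferInstance : (pCore p G).Normal).conj_mem q hq g) (inv_mem hq)
    have hzC : z ∈ centralizer (J : Set G) := by
      rw [hz, show g * q * g⁻¹ * q⁻¹ = g * (q * g⁻¹ * q⁻¹) by group]
      exact mul_mem hgJ (hCN.conj_mem _ (inv_mem hgJ) q)
    have hzJ : z ∈ J := by
      obtain ⟨A, hA⟩ := maxAdm_nonempty 0 (P : Subgroup G)
      exact le_jGen hA (mem_of_commute_maxAdm_zero hA (hQP hzQ) fun a ha =>
        (Subgroup.mem_centralizer_iff.1 hzC a (le_jGen hA ha)).symm)
    obtain ⟨k, hk⟩ := hQp ⟨z, hzQ⟩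
    exact (commute_of_conj_mul hg ⟨k, congrArg Subtype.val hk⟩
      (show Commute g z from (Subgroup.mem_centralizer_iff.1 hgJ z hzJ).symm)
      (show g * q * g⁻¹ = z * q by rw [hz]; group)).symm
  · by_cases hCZ : centralizer (zSyl (P : Subgroup G) : Set G) = ⊤
    · -- the centre of `P` is central
      set Z := zSyl (P : Subgroup G) with hZ
      have hZc : ∀ z ∈ Z, ∀ x : G, x * z = z * x := fun z hz x =>
        (Subgroup.mem_centralizer_iff.1 (hCZ.ge (Subgroup.mem_top x)) z hz).symm
      have : Z.Normal := ⟨fun z hz x => by rw [hZc z hz x, mul_inv_cancel_right]; exact hz⟩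
      set π := QuotientGroup.mk' Z with hπ
      have hπs : Function.Surjective π := QuotientGroup.mk'_surjective Z
      have hπZ : ∀ x : G, π x = 1 ↔ x ∈ Z := fun x => QuotientGroup.eq_one_iff x
      have hZP : Z ≤ P := inf_le_left
      have hZne : Z ≠ ⊥ := zSyl_ne_bot P.2 hP
      have hlt : Nat.card (G ⧸ Z) < n := by
        have h1 := Subgroup.card_eq_card_quotient_mul_card_subgroup Z
        have h2 : 1 < Nat.card Z := by
          rw [Finite.one_lt_card_iff_nontrivial, Subgroup.nontrivial_iff_ne_bot]; exact hZne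
        have h3 : 0 < Nat.card (G ⧸ Z) := Nat.card_pos
        nlinarith
      have hbar : IsPGroup p (G ⧸ Z) := by
        refine ih _ hlt (G ⧸ Z) (P.mapSurjective hπs) rfl
          (hS4.imp_right fun h4 h5 => h4 (CfsgLib.LocalEven.Offender.involves_of_surjective π hπs h5)) ?_ ?_
        · have hQb : (pCore p G).map π ≤ pCore p (G ⧸ Z) := by
            have : ((pCore p G).map π).Normal := (inferInstance : (pCore p G).Normal).map π hπs
            exact CfsgLib.Cores.le_pCore (hQp.map π)
          set C := centralizer (pCore p (G ⧸ Z) : Set (G ⧸ Z)) with hCdef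
          have : C.Normal := inferInstance
          refine CfsgLib.Cores.le_pCore (IsPGroup.iff_orderOf.2 fun c => ?_)
          refine ⟨(orderOf (c : G ⧸ Z)).factorization p, ?_⟩
          rw [← Subgroup.orderOf_coe]
          set a := p ^ (orderOf (c : G ⧸ Z)).factorization p with ha
          have hdvd : a ∣ orderOf (c : G ⧸ Z) := Nat.ordProj_dvd _ _
          have ho : orderOf ((c : G ⧸ Z) ^ a) = orderOf (c : G ⧸ Z) / a :=
            orderOf_pow_of_dvd (pow_ne_zero _ hp.out.ne_zero) hdvd
          have hco : (orderOf ((c : G ⧸ Z) ^ a)).Coprime p := by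
            rw [ho]; exact (Nat.coprime_ordCompl hp.out (orderOf_pos _).ne').symm
          obtain ⟨x, hx⟩ := hπs ((c : G ⧸ Z) ^ a)
          rw [← hx] at hco
          obtain ⟨m, hm, hmo⟩ := CfsgLib.LocalEven.Offender.exists_coprime_lift (p := p) π x hco
          have hxm : π (x ^ m) ∈ C := by rw [hm, hx]; exact pow_mem c.2 a
          have hxQ : x ^ m ∈ centralizer (pCore p G : Set G) := Subgroup.mem_centralizer_iff.2 fun q hq => by
            have h1 := Subgroup.mem_centralizer_iff.1 hxm (π q) (hQb ⟨q, hq, rfl⟩)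
            have hzZ : x ^ m * q * (x ^ m)⁻¹ * q⁻¹ ∈ Z := by
              rw [← hπZ, map_mul, map_mul, map_mul, map_inv, map_inv, ← h1, mul_inv_cancel_right,
                mul_inv_cancel]
            obtain ⟨k, hk⟩ := P.2 ⟨_, hZP hzZ⟩
            exact (commute_of_conj_mul hmo ⟨k, congrArg Subtype.val hk⟩ (hZc _ hzZ _) (by group)).symm
          obtain ⟨k, hk⟩ := IsPGroup.iff_orderOf.1 hQp ⟨_, hC hxQ⟩
          rw [Subgroup.orderOf_mk] at hk
          have h1 : x ^ m = 1 := orderOf_eq_one_iff.1
            (Nat.eq_one_of_dvd_coprimes (hmo.pow_right k) dvd_rfl hk.dvd)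
          rw [h1, map_one, hx] at hm
          have h2 : orderOf (c : G ⧸ Z) / a = 1 := by rw [← ho, ← hm, orderOf_one]
          exact (Nat.eq_of_dvd_of_div_eq_one hdvd h2).symm
        · intro Xb hXb hXne hXc gb hgb hgo
          rw [Sylow.coe_mapSurjective] at hXb hXc
          set X := Xb.comap π with hX
          have hXP : X ≤ P := by
            intro x hx
            obtain ⟨y, hy, hyx⟩ := hXb hx
            have h1 : y⁻¹ * x ∈ Z := by rw [← hπZ, map_mul, map_inv, hyx, inv_mul_cancel]
            simpa using mul_mem hy (hZP h1)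
          have hXne' : X ≠ ⊥ := fun e => hXne (by
            rw [← Subgroup.map_comap_eq_self_of_surjective hπs Xb, ← hX, e, Subgroup.map_bot])
          have hchar : (X.subgroupOf (P : Subgroup G)).Characteristic := by
            refine Subgroup.characteristic_iff_le_comap.2 fun φ x hx => ?_
            set Pb := (P : Subgroup G).map π with hPb
            let θ : (P : Subgroup G) →* Pb := π.subgroupMap _
            have hθ : Function.Surjective θ := π.subgroupMap_surjective _
            have hker : ∀ y : (P : Subgroup G), θ y = 1 → θ (φ y) = 1 := by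
              intro y hy
              have hyZ : (y : G) ∈ Z := (hπZ y).1 (congrArg Subtype.val hy)
              refine Subtype.ext ((hπZ _).2 ⟨(φ y).2, Subgroup.mem_centralizer_iff.2 fun w hw => ?_⟩)
              have h2 : φ.symm ⟨w, hw⟩ * y = y * φ.symm ⟨w, hw⟩ := Subtype.ext
                (Subgroup.mem_centralizer_iff.1 hyZ.2 _ (φ.symm ⟨w, hw⟩).2)
              have h3 := congrArg φ h2
              rw [map_mul, map_mul, MulEquiv.apply_symm_apply] at h3
              exact congrArg Subtype.val h3
            let ψ : Pb →* Pb := θ.liftOfSurjective hθ ⟨θ.comp φ.toMonoidHom, fun y hy => hker y hy⟩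
            have hψ : ∀ y, ψ (θ y) = θ (φ y) := fun y =>
              θ.liftOfRightInverse_comp_apply _ _ _ y
            have hψs : Function.Surjective ψ := fun w => by
              obtain ⟨y, rfl⟩ := hθ w
              exact ⟨θ (φ.symm y), by rw [hψ, MulEquiv.apply_symm_apply]⟩
            let e : Pb ≃* Pb := MulEquiv.ofBijective ψ ⟨Finite.injective_iff_surjective.2 hψs, hψs⟩
            have h4 := (Subgroup.characteristic_iff_le_comap.1 hXc e) (show θ x ∈ Xb.subgroupOf Pb from hx)
            have h5 : ((ψ (θ x) : Pb) : G ⧸ Z) ∈ Xb := h4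
            rw [hψ] at h5
            exact h5
          obtain ⟨g', hg'⟩ := hπs gb
          rw [← hg'] at hgo
          obtain ⟨m, hm, hmo⟩ := CfsgLib.LocalEven.Offender.exists_coprime_lift (p := p) π g' hgo
          have hgn : g' ^ m ∈ normalizer (X : Set G) := by
            refine Subgroup.mem_normalizer_iff.2 fun x => ?_
            show π x ∈ Xb ↔ π (g' ^ m * x * (g' ^ m)⁻¹) ∈ Xb
            rw [map_mul, map_mul, map_inv, hm, hg']
            exact Subgroup.mem_normalizer_iff.1 hgb _
          have h2 := hcond X hXP hXne' hchar _ hgn hmo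
          refine Subgroup.mem_centralizer_iff.2 fun xb hxb => ?_
          obtain ⟨x, rfl⟩ := hπs xb
          rw [← hg', ← hm, ← map_mul, ← map_mul, Subgroup.mem_centralizer_iff.1 h2 x hxb]
      have hG : IsPGroup p G := by
        refine IsPGroup.iff_orderOf.2 fun x => ?_
        obtain ⟨k, hk⟩ := hbar (π x)
        rw [← map_pow, hπZ] at hk
        obtain ⟨j, hj⟩ := P.2 ⟨_, hZP hk⟩
        have h1 : x ^ p ^ (k + j) = 1 := by
          rw [pow_add, pow_mul]; exact congrArg Subtype.val hj
        obtain ⟨i, -, hi⟩ := (Nat.dvd_prime_pow hp.out).1 (orderOf_dvd_of_pow_eq_one h1)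
        exact ⟨i, hi⟩
      obtain ⟨k, hk⟩ := IsPGroup.iff_orderOf.1 hG g
      rw [orderOf_eq_one_iff.1 (Nat.eq_one_of_dvd_coprimes (hg.pow_right k) dvd_rfl hk.dvd)]
      exact one_mem _
    · -- Thompson's theorem
      have h1 := hsub _ (Subgroup.le_normalizer.trans (normalizer_le_normalizer_jGen 0 _)) hJn
      have h2 := hsub _ (fun x hx => Subgroup.mem_centralizer_iff.2 fun z hz =>
        (Subgroup.mem_centralizer_iff.1 hz.2 x hx).symm) hCZ
      have hnpc := CfsgLib.LocalEven.Thompson.hasNormalPComplement P hS4 (npc_of_isPGroup h1) (npc_of_isPGroup h2)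
      exact CfsgLib.Transfer.mem_centralizer_of_hasNormalPComplement hnpc hQp
        (by rw [Subgroup.normalizer_eq_top]; trivial) hg

/-- The group criterion. -/
theorem isPGroup_of_charCond (P : Sylow p G) (hS4 : p ≠ 2 ∨ ¬ Involves (Equiv.Perm (Fin 4)) G)
    (hC : centralizer (pCore p G : Set G) ≤ pCore p G) (h : CharCond p (P : Subgroup G)) :
    IsPGroup p G :=
  charCondStatement _ G P rfl hS4 hC h

end CfsgLib.Transfer
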