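import Cfsg.Agent.Lib.Transfer.FusionS4
import Cfsg.Agent.Lib.Transfer.CharCondGroup

/-!
The criteria of Thompson for a saturated system to be inner, for `p` odd or systems free of `S₄`.
-/

set_option autoImplicit false

open Cfsg Cfsg.FusionSystem

namespace CfsgLib.Transfer

open CfsgLib.Fusion CfsgLib.PStab

universe u

variable {p : ℕ} [hp : Fact p.Prime]

/-- `p` odd or no inverted elements. -/
def OddOrInvFree (p : ℕ) (Ω : Type u) [Group Ω] (S : Subgroup Ω) (F : FusionSystem S) : Prop :=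
  p ≠ 2 ∨ InvFree F

section

variable {Ω : Type u} [Group Ω] {S : Subgroup Ω} {F : FusionSystem S}

/-- Automorphisms in the system fixing `X` elementwise have `p`-power order. -/
def CLocal (p : ℕ) (F : FusionSystem S) (X : Subgroup Ω) : Prop :=
  ∀ M : Subgroup Ω, X ≤ M → M ≤ S → M ≤ Subgroup.centralizer (X : Set Ω) →
    ∀ β ∈ F.autGroup M, (∀ x : M, (x : Ω) ∈ X → β x = x) → ∃ k : ℕ, β ^ p ^ k = 1

omit hp in
theorem PLocal.cLocal {X : Subgroup Ω} (h : PLocal p F X) : CLocal p F X :=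
  fun M hXM hMS hMX β hβ hfix => h M hXM hMS (hMX.trans (Subgroup.centralizer_le_normalizer _)) β hβ
    fun x hx => by rw [hfix x hx]; exact hx

omit hp in
theorem CLocal.mono {T : Subgroup Ω} {E : FusionSystem T} (hTS : T ≤ S)
    (h : ∀ P, E.Hom P ⊆ F.Hom P) {X : Subgroup Ω} (hF : CLocal p F X) : CLocal p E X :=
  fun M hXM hMT hMX β hβ => hF M hXM (hMT.trans hTS) hMX β (autGroup_mono h M hβ)

variable [Finite S]

omit hp [Finite S] in
theorem cLocal_of_pAut {X T : Subgroup Ω} (hT : T = centralizerIn S X) (hX : X ≤ S)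
    (h : PAut p (centSys F X hT hX)) : CLocal p F X := by
  intro M hXM hMS hMX β hβ hfix
  have hMC : M ≤ centralizerIn S X := le_inf hMS hMX
  have h1 : β ∈ (centSys F X hT hX).autGroup M := by
    refine Subgroup.subset_closure ?_
    have hβ' := (mem_autGroup_iff F hMS).1 hβ
    refine ⟨hβ', hMC, fun x => hMC (β x).2, ?_⟩
    obtain ⟨ψ, hψ, hψe⟩ := mem_of_eq_sup (sup_eq_left.2 hXM).symm hβ'.mem
    refine ⟨ψ, hψ, fun x => hψe _, fun x => ?_⟩
    rw [hψe]
    exact congrArg Subtype.val (hfix ⟨x, hXM x.2⟩ x.2)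
  obtain ⟨k, hk⟩ := h M (hT.symm ▸ hMC) ⟨β, h1⟩
  exact ⟨k, congrArg Subtype.val hk⟩

omit hp [Finite S] in
theorem center_subgroupOf_characteristic :
    ((S ⊓ Subgroup.centralizer (S : Set Ω)).subgroupOf S).Characteristic := by
  have h : (S ⊓ Subgroup.centralizer (S : Set Ω)).subgroupOf S = Subgroup.center S := by
    ext x
    rw [Subgroup.mem_subgroupOf, Subgroup.mem_center_iff]
    exact ⟨fun hx g => Subtype.ext (hx.2 g g.2), fun hx => ⟨x.2, fun y hy => congrArg Subtype.val (hx ⟨y, hy⟩)⟩⟩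
  rw [h]
  infer_instance

omit hp in
theorem center_ne_bot {q : ℕ} [Fact q.Prime] (hS : IsPGroup q S) (hne : S ≠ ⊥) :
    S ⊓ Subgroup.centralizer (S : Set Ω) ≠ ⊥ := by
  have := (Subgroup.nontrivial_iff_ne_bot S).2 hne
  obtain ⟨x, hx1⟩ := (Subgroup.nontrivial_iff_exists_ne_one _).1 hS.center_nontrivial
  intro e
  have h1 : (x : Ω) ∈ S ⊓ Subgroup.centralizer (S : Set Ω) :=
    ⟨x.2, fun y hy => congrArg Subtype.val (Subgroup.mem_center_iff.1 hx1.1 ⟨y, hy⟩)⟩
  rw [e] at h1
  exact hx1.2 (Subtype.ext (Subgroup.mem_bot.1 h1))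

/-- A free system has realizations free of `S₄` for `p = 2`. -/
theorem OddOrInvFree.not_involves (h : OddOrInvFree p Ω S F) {G : Type*} [Group G] [Finite G]
    {ι : S →* G} (hι : F.IsRealizedBy ι) (T : Sylow p G) (hT : (T : Subgroup G) = ι.range) :
    p ≠ 2 ∨ ¬ Involves (Equiv.Perm (Fin 4)) G := by
  rcases eq_or_ne p 2 with rfl | h2
  · exact Or.inr (not_involves_of_invFree hι T hT (h.resolve_left (by simp)))
  · exact Or.inl h2

end

/-- The hypothesis of Thompson. -/
def ThompsonGood (p : ℕ) (Ω : Type u) [Group Ω] (S : Subgroup Ω) (F : FusionSystem S) : Prop :=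
  PLocal p F (jGen 0 S) ∧ CLocal p F (S ⊓ Subgroup.centralizer (S : Set Ω))

/-- The hypothesis on characteristic subgroups. -/
def CharGood (p : ℕ) (Ω : Type u) [Group Ω] (S : Subgroup Ω) (F : FusionSystem S) : Prop :=
  ∀ X : Subgroup Ω, X ≤ S → X ≠ ⊥ → (X.subgroupOf S).Characteristic → IsPGroup p (F.autGroup X)

omit hp in
theorem oddOrInvFree_normalizer {Ω : Type u} [Group Ω] {S : Subgroup Ω} [Finite S] (F : FusionSystem S)
    {X T : Subgroup Ω} (hT : T = normalizerIn S X) (hX : X ≤ S) (h : OddOrInvFree p Ω S F) :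
    OddOrInvFree p Ω T (normSys F X hT hX) :=
  h.imp_right (InvFree.mono (hT ▸ normalizerIn_le X) (normSys_hom_le hT hX))

theorem oddOrInvFree_factor {Ω : Type u} [Group Ω] {S : Subgroup Ω} [Finite S] (F : FusionSystem S)
    (hS : IsPGroup p S) (hF : F.IsSaturated p) {Q : Subgroup Ω} (hQ : F.IsNormal Q) {Ω' : Type u}
    [Group Ω'] {S' : Subgroup Ω'} {θ : S →* Ω'} {E : FusionSystem S'} (hfac : F.IsFactorSystem Q θ E)
    (h : OddOrInvFree p Ω S F) : OddOrInvFree p Ω' S' E :=
  h.imp_right fun hi => hi.factor (stronglyClosed_of_isNormal hQ) hS hF hfac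

theorem innerCriterion_thompson :
    InnerCriterion.{u} p (OddOrInvFree p) (ThompsonGood p) where
  ambNormalizer := fun F _ _ _ _ hT hX _ h => oddOrInvFree_normalizer F hT hX h
  ambFactor := fun F hS hF _ hQ _ _ _ _ _ _ hfac h => oddOrInvFree_factor F hS hF hQ hfac h
  sub := fun _ _ hEF h => ⟨h.1.mono le_rfl hEF, h.2.mono le_rfl hEF⟩
  ofLocal := by
    intro Ω _ S _ F hS _ hne hloc
    exact ⟨hloc _ (jGen_le 0 S) (jGen_ne_bot_of_finite (Or.inl rfl) hS hne)
      (jGen_subgroupOf_characteristic S),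
      (hloc _ inf_le_left (center_ne_bot hS hne) center_subgroupOf_characteristic).cLocal⟩
  constrained := by
    rintro Ω _ S _ F hS hF hamb ⟨hJ, hC⟩
    obtain ⟨G, _, ι, hM⟩ := exists_model hS hF
    obtain ⟨hG, hι, ⟨T, hT⟩, -⟩ := id hM
    refine pAut_of_isModel_of_npc hM ?_
    have hTmap : (T : Subgroup G) = (⊤ : Subgroup S).map ι := hT.trans (MonoidHom.range_eq_map ι)
    refine CfsgLib.LocalEven.Thompson.hasNormalPComplement T (hamb.not_involves hι T hT) ?_ ?_
    · have hJmap : jGen 0 (T : Subgroup G) = ((jGen 0 S).subgroupOf S).map ι := by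
        rw [hTmap, jGen_map hι.1]
        congr 1
        rw [Subgroup.subgroupOf, ← jGen_eq_map S,
          Subgroup.comap_map_eq_self_of_injective S.subtype_injective]
      have hn : S ≤ Subgroup.normalizer (jGen 0 S : Set Ω) := by
        have := finite_of_le (jGen_le 0 S)
        exact Subgroup.le_normalizer.trans (normalizer_le_of_characteristic (jGen_le 0 S)
          (jGen_subgroupOf_characteristic S))
      rw [hJmap]
      refine hasNormalPComplement_of_realized hι T hT ?_ (jGen_le 0 S) le_rfl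
        fun M hXM hMS h hh β hβ hβe => ?_
      · rw [← hJmap, ← hT]
        exact Subgroup.le_normalizer.trans (normalizer_le_normalizer_jGen 0 _)
      · refine hJ M hXM hMS (hMS.trans hn) β hβ fun x hx => ?_
        have h1 : ι ⟨(β x : M), hMS (β x).2⟩ ∈ ((jGen 0 S).subgroupOf S).map ι := by
          rw [hβe]
          exact (Subgroup.mem_normalizer_iff.1 hh _).1 ⟨_, hx, rfl⟩
        obtain ⟨w, hw, hwe⟩ := h1
        rw [hι.1 hwe] at hw
        exact hw
    · have hZ : zSyl (T : Subgroup G) = ((S ⊓ Subgroup.centralizer (S : Set Ω)).subgroupOf S).map ι := by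
        rw [hTmap, zSyl]
        ext y
        constructor
        · rintro ⟨⟨s, -, rfl⟩, hy⟩
          exact ⟨s, ⟨s.2, fun w hw => congrArg Subtype.val (hι.1 (by
            rw [map_mul, map_mul]
            exact Subgroup.mem_centralizer_iff.1 hy _ ⟨⟨w, hw⟩, Subgroup.mem_top _, rfl⟩ :
              ι (⟨w, hw⟩ * s) = ι (s * ⟨w, hw⟩)))⟩, rfl⟩
        · rintro ⟨s, hs, rfl⟩
          refine ⟨⟨s, Subgroup.mem_top s, rfl⟩, Subgroup.mem_centralizer_iff.2 ?_⟩
          rintro _ ⟨w, -, rfl⟩
          rw [← map_mul, ← map_mul]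
          exact congrArg ι (Subtype.ext (hs.2 w w.2))
      rw [hZ]
      refine hasNormalPComplement_of_realized hι T hT ?_ inf_le_left
        (Subgroup.centralizer_le_normalizer _) fun M hXM hMS h hh β hβ hβe => ?_
      · rintro _ ⟨w, rfl⟩
        refine Subgroup.mem_centralizer_iff.2 ?_
        rintro _ ⟨s, hs, rfl⟩
        rw [← map_mul, ← map_mul]
        exact congrArg ι (Subtype.ext (hs.2 w w.2).symm)
      · refine hC M hXM hMS (fun y hy => Subgroup.mem_centralizer_iff.2 fun z hz =>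
          (hz.2 y (hMS hy)).symm) β hβ fun x hx => ?_
        have h1 := Subgroup.mem_centralizer_iff.1 hh (ι ⟨x, hMS x.2⟩) ⟨_, hx, rfl⟩
        have h2 := hβe x
        rw [← h1, mul_inv_cancel_right] at h2
        exact Subtype.ext (congrArg (fun w : S => (w : Ω)) (hι.1 h2))

theorem innerCriterion_char :
    InnerCriterion.{u} p (OddOrInvFree p) (CharGood p) where
  ambNormalizer := fun F _ _ _ _ hT hX _ h => oddOrInvFree_normalizer F hT hX h
  ambFactor := fun F hS hF _ hQ _ _ _ _ _ _ hfac h => oddOrInvFree_factor F hS hF hQ hfac h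
  sub := fun _ _ hEF h X hX hne hc => (h X hX hne hc).to_le (autGroup_mono hEF X)
  ofLocal := by
    intro Ω _ S _ F hS _ hne hloc X hX hXne hXc α
    obtain ⟨k, hk⟩ := hloc X hX hXne hXc X le_rfl hX Subgroup.le_normalizer α α.2
      fun x _ => ((α : MulAut X) x).2
    exact ⟨k, Subtype.ext hk⟩
  constrained := by
    intro Ω _ S _ F hS hF hamb hgood
    obtain ⟨G, _, ι, hM⟩ := exists_model hS hF
    obtain ⟨hG, hι, ⟨T, hT⟩, hC⟩ := id hM
    refine pAut_of_isModel_of_npc hM (npc_of_isPGroup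
      (isPGroup_of_charCond T (hamb.not_involves hι T hT) hC ?_))
    intro X hXT hXne hXc g hg hgo
    rw [hT] at hXT hXc
    set X₀ : Subgroup Ω := (X.comap ι).map S.subtype with hX₀
    have hX₀S : X₀ ≤ S := Subgroup.map_subtype_le _
    have hX₀ι : (X₀.subgroupOf S).map ι = X := by
      rw [hX₀, Subgroup.subgroupOf, Subgroup.comap_map_eq_self_of_injective S.subtype_injective,
        Subgroup.map_comap_eq_self hXT]
    have hX₀ne : X₀ ≠ ⊥ := fun e => hXne (by
      rw [← hX₀ι, e, Subgroup.bot_subgroupOf, Subgroup.map_bot])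
    have hX₀c : (X₀.subgroupOf S).Characteristic := by
      have h1 := char_map_equiv (MonoidHom.ofInjective hι.1).symm hXc
      convert h1 using 1
      ext s
      rw [Subgroup.mem_subgroupOf, Subgroup.mem_map_equiv, MulEquiv.symm_symm, Subgroup.mem_subgroupOf]
      constructor
      · rintro ⟨w, hw, hws⟩
        rwa [Subtype.ext hws] at hw
      · exact fun h => ⟨s, h, rfl⟩
    rw [← hX₀ι] at hg
    obtain ⟨β, hβ, hβe⟩ := exists_aut_of_conj hι hX₀S hg
    obtain ⟨k, hk⟩ := hgood X₀ hX₀S hX₀ne hX₀c ⟨β, hβ⟩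
    have hk' : β ^ p ^ k = 1 := congrArg Subtype.val hk
    have key : ∀ (n : ℕ) (x : X₀), ι ⟨((β ^ n) x : X₀), hX₀S ((β ^ n) x).2⟩ =
        g ^ n * ι ⟨x, hX₀S x.2⟩ * (g ^ n)⁻¹ := by
      intro n
      induction n with
      | zero => intro x; simp
      | succ n ih =>
        intro x
        rw [show ((β ^ (n + 1)) x : X₀) = β ((β ^ n) x) by rw [pow_succ', MulAut.mul_apply], hβe, ih,
          pow_succ']
        group
    refine Subgroup.mem_centralizer_iff.2 fun y hy => ?_
    obtain ⟨s, hs, rfl⟩ := hX₀ι.ge hy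
    have h1 := key (p ^ k) ⟨s, hs⟩
    simp only [hk', MulAut.one_apply] at h1
    have hcom : Commute (ι s) (g ^ p ^ k) :=
      (mul_inv_eq_iff_eq_mul.1 h1.symm).symm
    obtain ⟨m, hm⟩ := exists_pow_eq_self_of_coprime (hgo.symm.pow_left k)
    exact (hm ▸ hcom.pow_right m).eq

/-- The hypothesis of freeness in the statements. -/
theorem oddOrInvFree_of_sectionFree {Ω : Type u} [Group Ω] {S : Subgroup Ω} [Finite S]
    (hS : IsPGroup p S) {F : FusionSystem S} (hF : F.IsSaturated p)
    (h : p ≠ 2 ∨ F.IsSectionFree p (Equiv.Perm (Fin 4))) : OddOrInvFree p Ω S F := by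
  rcases eq_or_ne p 2 with rfl | h2
  · exact Or.inr (invFree_of_isSectionFree hS hF (h.resolve_left (by simp)))
  · exact Or.inl h2

end CfsgLib.Transfer
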