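import Cfsg.Agent.Lib.Fusion.FunctorStatements
import Cfsg.Agent.Lib.Transfer.CentralElement
import Cfsg.Agent.Lib.Transfer.FusionCriteria

/-!
Glauberman's theorem on central elements for fusion systems.
-/

set_option autoImplicit false

open Cfsg Cfsg.FusionSystem CfsgLib.Fusion

namespace CfsgLib.Transfer

universe u

theorem thompsonSubgroupA_eq (Q : Type*) [Group Q] :
    thompsonSubgroupA Q = CfsgLib.PStab.jGen 0 (⊤ : Subgroup Q) := by
  have h : maxAbelianSubgroups Q = CfsgLib.PStab.maxAdm 0 (⊤ : Subgroup Q) := by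
    ext A; simp [maxAbelianSubgroups, CfsgLib.PStab.maxAdm, CfsgLib.PStab.Adm]
  rw [thompsonSubgroupA, h, CfsgLib.PStab.jGen]

theorem thompsonSubgroupA_map (Q R : Type*) [Group Q] [Group R] (φ : Q ≃* R) :
    (thompsonSubgroupA Q).map φ.toMonoidHom = thompsonSubgroupA R := by
  rw [thompsonSubgroupA_eq, thompsonSubgroupA_eq, ← CfsgLib.PStab.jGen_map (f := φ.toMonoidHom) φ.injective,
    Subgroup.map_top_of_surjective _ φ.surjective]

theorem thompsonSubgroupA_ne_bot {p : ℕ} [Fact p.Prime] (Q : Type*) [Group Q] [Finite Q]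
    (hQ : IsPGroup p Q) (hn : Nontrivial Q) : thompsonSubgroupA Q ≠ ⊥ := by
  rw [thompsonSubgroupA_eq]
  exact CfsgLib.PStab.jGen_ne_bot (Or.inl rfl) (hQ.to_subgroup _) (top_ne_bot)

variable (W : ∀ (Q : Type u) [Group Q], Subgroup Q) {p : ℕ} [Fact p.Prime]
  (hW2 : ∀ (Q R : Type u) [Group Q] [Group R] [Finite Q], IsPGroup p Q →
    ∀ φ : Q ≃* R, (W Q).map φ.toMonoidHom = W R)

include hW2 in
/-- The constrained case for elements, from a condition on the models. -/
theorem fixes_of_core_centric_of_model (k : ℕ)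
    {Ω : Type u} [Group Ω] {S : Subgroup Ω} [Finite S] {F : FusionSystem S} (hS : IsPGroup p S)
    (hF : F.IsSaturated p) (hc : centralizerIn S F.core ≤ F.core) {z : Ω}
    (hz : z ∈ centralizerIn S S)
    (hgrp : ∀ (G : Type u) [Group G] [Finite G] (ι : S →* G) (P : Sylow p G),
      F.IsRealizedBy ι → (P : Subgroup G) = ι.range →
      Subgroup.centralizer ((pCore p G : Subgroup G) : Set G) ≤ pCore p G →
      ∀ z ∈ (P : Subgroup G), (∀ y ∈ (P : Subgroup G), y * z = z * y) →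
      (∀ g ∈ Subgroup.normalizer (((W ↥(P : Subgroup G)).map (P : Subgroup G).subtype :
        Subgroup G) : Set G), g * z ^ k = z ^ k * g) → ∀ g : G, g * z ^ k = z ^ k * g)
    (hN : ∀ P, ∀ φ ∈ F.normalizerHom (wImg W S) P, ∀ x : P, (x : Ω) = z ^ k → φ x = z ^ k) :
    Fixes F (z ^ k) := by
  obtain ⟨G, _, ι, hG, hr, ⟨T, hT⟩, hC⟩ := exists_model_of_core hS hF hc
  set a : S := ⟨z, hz.1⟩
  have hza : ∀ y ∈ (T : Subgroup G), y * ι a = ι a * y := by
    rw [hT]
    rintro _ ⟨s, rfl⟩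
    rw [← map_mul, ← map_mul]
    exact congrArg ι (Subtype.ext (hz.2 s s.2))
  have haO : ι a ∈ pCore p G :=
    hC fun y hy => hza y (Cores.pCore_le_sylow T hy)
  have hcomm := hgrp G ι T hr hT hC (ι a) (hT ▸ ⟨a, rfl⟩) hza ?_
  · intro P φ hφ x hx
    obtain ⟨g, hg⟩ := (hr.2 P (le_S F hφ) φ (apply_mem_S F hφ)).1 hφ
    have h1 : (⟨x, le_S F hφ x.2⟩ : S) = a ^ k := Subtype.ext (by rw [hx]; rfl)
    have h2 := hg x
    rw [h1, map_pow, hcomm g, mul_inv_cancel_right, ← map_pow] at h2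
    exact congrArg Subtype.val (hr.1 h2)
  · intro g hg
    rw [map_wImg_sylow W hW2 hS hr.1 hT] at hg
    have hmem : g * ι (a ^ k) * g⁻¹ ∈ ι.range := by
      rw [map_pow]
      exact hT ▸ Cores.pCore_le_sylow T
        ((inferInstance : (pCore p G : Subgroup G).Normal).conj_mem _
          ((pCore p G).pow_mem haO k) g)
    obtain ⟨φ, hφ, hφS, hφe⟩ := exists_normalizerHom_of_conj W hW2 hS hr hg hmem
    have h1 : (⟨φ ⟨((a ^ k : S) : Ω), Subgroup.mem_zpowers _⟩, hφS⟩ : S) = a ^ k :=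
      Subtype.ext (hN _ φ hφ _ rfl)
    rw [h1, map_pow] at hφe
    exact mul_inv_eq_iff_eq_mul.1 hφe.symm

/-- **Glauberman's theorem for fusion systems.** -/
theorem fixes_pow {Ω : Type u} [Group Ω] {S : Subgroup Ω} [Finite S] (F : FusionSystem S)
    (hS : IsPGroup p S) (hF : F.IsSaturated p) (k : ℕ)
    (hk : k = p ∨ (k = 1 ∧ OddOrInvFree p Ω S F)) {z : Ω} (hz : z ∈ centralizerIn S S)
    (hfix : ∀ P, ∀ φ ∈ F.normalizerHom (thompsonSubgroupAOf S) P,
      ∀ x : P, (x : Ω) = z ^ k → φ x = z ^ k) :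
    Fixes F (z ^ k) := by
  refine fixes_of_fixes_local_good (fun Q _ => thompsonSubgroupA Q)
    (fun Q _ _ hQ hn => thompsonSubgroupA_ne_bot Q hQ hn)
    (fun Q R _ _ _ _ φ => thompsonSubgroupA_map Q R φ) k
    (fun Ω' _ S' F' => k = p ∨ (k = 1 ∧ OddOrInvFree p Ω' S' F'))
    (fun Ω' _ S' F' T E hTS hE h => h.imp id fun h => ⟨h.1, h.2.imp id fun hi => hi.mono hTS hE⟩)
    (fun Ω' _ S' _ F' X Ω'' _ S'' θ E hS' hF' hX hfac h => h.imp id fun h =>
      ⟨h.1, h.2.imp id fun hi => hi.factor (stronglyClosed_of_isNormal hX) hS' hF' hfac⟩)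
    (fun Ω' _ S' _ F' hS' hF' hG hc w hw hw' => ?_) F hS hF hk z hz hfix
  refine fixes_of_core_centric_of_model (fun Q _ => thompsonSubgroupA Q)
    (fun Q R _ _ _ _ φ => thompsonSubgroupA_map Q R φ) k hS' hF' hc hw
    (fun G _ _ ι P hr hP hC x hxP hxc hx => ?_) hw'
  refine CentralElement.commute_pow P hC k ?_ hxP hxc fun g hg => hx g ?_
  · refine hG.imp id fun h => ⟨h.1, ?_⟩
    rcases h.2 with h2 | hi
    · exact Or.inl h2
    rcases eq_or_ne p 2 with rfl | h2
    · exact Or.inr (not_involves_of_invFree hr P hP hi)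
    · exact Or.inl h2
  · change g ∈ Subgroup.normalizer ((thompsonSubgroupAOf (P : Subgroup G) : Subgroup G) : Set G)
    rw [CfsgLib.PStab.thompsonSubgroupAOf_eq_jGen]
    exact hg

end CfsgLib.Transfer
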