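import Mathlib.GroupTheory.FiniteAbelian.Duality
import Mathlib.Analysis.Complex.Polynomial.Basic
import Mathlib.RingTheory.RootsOfUnity.AlgebraicallyClosed
import Mathlib.GroupTheory.Abelianization.Finite
import Mathlib.GroupTheory.PGroup
import Mathlib.GroupTheory.Index
import Mathlib.Algebra.Group.Subgroup.Pointwise

/-!
Counting homomorphisms into a group of prime order, and products of commuting subgroups.
-/

namespace CfsgLib.Transfer

open Subgroup

/-- There are at most `|V|` homomorphisms from a finite group `V` to a group of prime order. -/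
theorem card_hom_le {V Z : Type*} [Group V] [Finite V] [Group Z] [Finite Z] {p : ℕ}
    [hp : Fact p.Prime] (hZ : Nat.card Z = p) : Nat.card (V →* Z) ≤ Nat.card V := by
  have : IsCyclic Z := isCyclic_of_prime_card hZ
  let : CommGroup Z := IsCyclic.commGroup
  have : IsSimpleGroup Z := isSimpleGroup_of_prime_card hZ
  have : Nontrivial Z := IsSimpleGroup.toNontrivial
  obtain ⟨z, hz⟩ := exists_ne (1 : Z)
  have : NeZero (Monoid.exponent Z) := ⟨Monoid.exponent_ne_zero_of_finite⟩
  have : NeZero (Monoid.exponent (Abelianization V)) := ⟨Monoid.exponent_ne_zero_of_finite⟩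
  obtain ⟨ι, hι⟩ := CommGroup.exists_apply_ne_one_of_hasEnoughRootsOfUnity Z ℂ hz
  have hinj : Function.Injective ι := by
    rw [← MonoidHom.ker_eq_bot_iff]
    exact (IsSimpleGroup.eq_bot_or_eq_top_of_normal _ inferInstance).resolve_right
      fun h => hι (MonoidHom.mem_ker.1 (h ▸ mem_top z))
  let W := Abelianization V
  calc Nat.card (V →* Z) = Nat.card (W →* Z) := Nat.card_congr Abelianization.lift
    _ ≤ Nat.card (W →* ℂˣ) := by
      have : Finite (W →* ℂˣ) := Nat.finite_of_card_ne_zero
        (by rw [CommGroup.card_monoidHom_of_hasEnoughRootsOfUnity]; exact Nat.card_pos.ne')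
      exact Nat.card_le_card_of_injective (fun f => ι.comp f) fun f g h =>
        MonoidHom.ext fun v => hinj (DFunLike.congr_fun h v)
    _ = Nat.card W := CommGroup.card_monoidHom_of_hasEnoughRootsOfUnity _ _
    _ ≤ Nat.card V := Nat.card_le_card_of_surjective Abelianization.of (QuotientGroup.mk'_surjective _)

variable {G : Type*} [Group G]

/-- `|B| |C| = |B ⊔ C| |B ⊓ C|` for commuting subgroups. -/
theorem card_mul_card_of_commute [Finite G] (B C : Subgroup G)
    (h : ∀ b ∈ B, ∀ c ∈ C, b * c = c * b) :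
    Nat.card B * Nat.card C = Nat.card (B ⊔ C : Subgroup G) * Nat.card (B ⊓ C : Subgroup G) := by
  let f : B × C →* G :=
    { toFun := fun x => (x.1 : G) * x.2
      map_one' := by simp
      map_mul' := fun x y => by
        simp only [Prod.fst_mul, Prod.snd_mul, coe_mul]
        calc (x.1 : G) * y.1 * (x.2 * y.2) = x.1 * (y.1 * x.2) * y.2 := by group
          _ = x.1 * (x.2 * y.1) * y.2 := by rw [h _ y.1.2 _ x.2.2]
          _ = _ := by group }
  have hr : f.range = B ⊔ C := by
    refine le_antisymm ?_ (sup_le (fun b hb => ⟨(⟨b, hb⟩, 1), by simp [f]⟩)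
      fun c hc => ⟨(1, ⟨c, hc⟩), by simp [f]⟩)
    rintro _ ⟨x, rfl⟩
    exact mul_mem (mem_sup_left x.1.2) (mem_sup_right x.2.2)
  have hk : Nat.card f.ker = Nat.card (B ⊓ C : Subgroup G) := by
    refine Nat.card_congr
      { toFun := fun x => ⟨x.1.1, x.1.1.2, ?_⟩
        invFun := fun y => ⟨(⟨y.1, y.2.1⟩, ⟨(y.1)⁻¹, C.inv_mem y.2.2⟩), by simp [f]⟩
        left_inv := fun x => ?_
        right_inv := fun y => rfl }
    · have h1 : (x.1.1 : G) * x.1.2 = 1 := x.2
      rw [show (x.1.1 : G) = (x.1.2 : G)⁻¹ from eq_inv_of_mul_eq_one_left h1]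
      exact C.inv_mem x.1.2.2
    · have h1 : (x.1.1 : G) * x.1.2 = 1 := x.2
      exact Subtype.ext (Prod.ext rfl (Subtype.ext (eq_inv_of_mul_eq_one_right h1).symm))
  rw [← hk, ← hr, ← Nat.card_prod, ← card_mul_index f.ker, index_ker, mul_comm]

end CfsgLib.Transfer
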