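import Cfsg.Agent.Lib.Transfer.UnipotentCentralizer
import Cfsg.Agent.Lib.Solvable.HallHigmanData
import Cfsg.Agent.Lib.Solvable.HallHigmanCyclic

/-!
Theorem B of Hall and Higman over an algebraically closed field of characteristic `p`: an operator of
order `p ^ n` normalising a `q`-group, whose power of order `p` moves that group, is unipotent of
degree `p ^ n` or of degree at least `p ^ a * (p ^ (n - a) - 1)` with `p ^ (n - a) - 1` a power of `q`.
-/

set_option autoImplicit false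

open scoped commutatorElement

namespace CfsgLib.Transfer.HHB

open CfsgLib.Solvable

variable {k : Type*} [Field k] {W : Type*} [AddCommGroup W] [Module k W]

/-- The common eigenvectors with values `φ`. -/
def weightSpace {A : Type*} (π : A → Module.End k W) (φ : A → k) : Submodule k W :=
  ⨅ a, LinearMap.ker (π a - φ a • 1)

theorem mem_weightSpace {A : Type*} {π : A → Module.End k W} {φ : A → k} {w : W} :
    w ∈ weightSpace π φ ↔ ∀ a, π a w = φ a • w := by
  simp [weightSpace, sub_eq_zero]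

theorem pow_intertwine {A : Type*} [Group A] {π : A →* Module.End k W} {σ : MulAut A}
    {S : Module.End k W} (h : ∀ a, S * π a = π (σ a) * S) :
    ∀ (i : ℕ) (a : A), S ^ i * π a = π ((σ ^ i) a) * S ^ i := by
  intro i
  induction i with
  | zero => intro a; simp
  | succ i ih =>
    intro a
    rw [pow_succ', mul_assoc, ih, ← mul_assoc, h, mul_assoc, ← pow_succ', pow_succ' σ]
    rfl

theorem pow_apply_invariant {A : Type*} [Group A] {σ : MulAut A} {R : Subgroup A}
    (h : ∀ r ∈ R, σ r ∈ R) : ∀ (i : ℕ), ∀ r ∈ R, (σ ^ i) r ∈ R := by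
  intro i
  induction i with
  | zero => exact fun r hr => hr
  | succ i ih => intro r hr; rw [pow_succ', MulAut.mul_apply]; exact h _ (ih r hr)

theorem pow_injective_of_pow_eq_one {S : Module.End k W} {N : ℕ} (h : S ^ N = 1) {i : ℕ} (hi : i ≤ N)
    {w : W} (hw : w ≠ 0) : (S ^ i) w ≠ 0 := fun h0 => hw (by
  have h1 : (S ^ N) w = (S ^ (N - i)) ((S ^ i) w) := by
    rw [← Module.End.mul_apply, ← pow_add, Nat.sub_add_cancel hi]
  rw [h0, map_zero, h, Module.End.one_apply] at h1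
  exact h1)

/-- An operator `b` with `b ^ M = 1`, `M ≠ 0` in `k`, moves every nonzero `(b - 1) u`. -/
theorem eq_of_fixed_image {b : Module.End k W} {M : ℕ} (hM : (M : k) ≠ 0) (hb : b ^ M = 1) {u : W}
    (h : b (b u - u) = b u - u) : b u = u := by
  have key : ∀ i : ℕ, (b ^ i) u = u + i • (b u - u) := by
    intro i
    induction i with
    | zero => simp
    | succ i ih =>
      rw [pow_succ', Module.End.mul_apply, ih, map_add, map_nsmul, h, succ_nsmul]
      abel
  have h1 := key M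
  rw [hb, Module.End.one_apply, left_eq_add, ← Nat.cast_smul_eq_nsmul k, smul_eq_zero] at h1
  exact sub_eq_zero.1 (h1.resolve_left hM)

/-- Two elements acting differently are told apart by some weight. -/
theorem exists_separating_weight [IsAlgClosed k] [FiniteDimensional k W] {A : Type*} [Group A]
    (π : A →* Module.End k W) (hcomm : ∀ a b, π a * π b = π b * π a) {M : ℕ} (hM : (M : k) ≠ 0)
    (hπM : ∀ a, π a ^ M = 1) {a₁ a₂ : A} (hne : π a₁ ≠ π a₂) :
    ∃ φ : A → k, weightSpace π φ ≠ ⊥ ∧ φ a₁ ≠ φ a₂ := by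
  classical
  set c := a₂⁻¹ * a₁
  have hc : π c ≠ 1 := fun h => hne (by
    rw [show a₁ = a₂ * c by simp [c], map_mul, h, mul_one])
  set D : Submodule k W := LinearMap.range (π c - 1) with hD
  have hDinv : ∀ a, ∀ w ∈ D, π a w ∈ D := by
    rintro a _ ⟨u, rfl⟩
    refine ⟨π a u, ?_⟩
    rw [← Module.End.mul_apply, ← Module.End.mul_apply, sub_mul, mul_sub, hcomm, mul_one, one_mul]
  have : Nontrivial D := Submodule.nontrivial_iff_ne_bot.2 fun h =>
    hc (sub_eq_zero.1 (LinearMap.range_eq_bot.1 h))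
  obtain ⟨U, hUinv, hUne, hUirr⟩ := exists_irreducible_invariant (restrictRep π D hDinv)
  have : Nontrivial U := Submodule.nontrivial_iff_ne_bot.2 hUne
  have hsc : ∀ a, ∃ t : k, restrictRep (restrictRep π D hDinv) U hUinv a = t • 1 := fun a =>
    schur_scalar _ hUirr (T := restrictRep (restrictRep π D hDinv) U hUinv a) fun b => by
      refine LinearMap.ext fun u => Subtype.ext (Subtype.ext ?_)
      show π a (π b ((u : D) : W)) = π b (π a ((u : D) : W))
      rw [← Module.End.mul_apply, hcomm, Module.End.mul_apply]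
  choose φ hφ using hsc
  obtain ⟨u, hu⟩ := exists_ne (0 : U)
  set w : W := ((u : D) : W) with hw
  have hw0 : w ≠ 0 := fun h => hu (Subtype.ext (Subtype.ext h))
  have hφw : ∀ a, π a w = φ a • w := fun a =>
    congrArg (fun x : U => ((x : D) : W)) (LinearMap.congr_fun (hφ a) u)
  refine ⟨φ, fun h => hw0 ?_, fun heq => ?_⟩
  · rw [← Submodule.mem_bot k, ← h, mem_weightSpace]
    exact hφw
  · have h1 : π c w = w := by
      have h2 : π a₁ w = π a₂ w := by rw [hφw, hφw, heq]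
      rw [show c = a₂⁻¹ * a₁ from rfl, map_mul, Module.End.mul_apply, h2, ← Module.End.mul_apply,
        ← map_mul, inv_mul_cancel, map_one, Module.End.one_apply]
    obtain ⟨x, hx⟩ : w ∈ LinearMap.range (π c - 1) := hD ▸ (u : D).2
    rw [LinearMap.sub_apply, Module.End.one_apply] at hx
    have h2 := eq_of_fixed_image hM (hπM c) (u := x) (by rw [hx, h1])
    exact hw0 (by rw [← hx, h2, sub_self])

section Orbit

variable {A : Type*} [Group A] {π : A →* Module.End k W} {σ : MulAut A} {S : Module.End k W}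

theorem pow_weight_invariant (hS : ∀ a, S * π a = π (σ a) * S) {φ : A → k} {l : ℕ}
    (hfix : ∀ a, φ ((σ ^ l) a) = φ a) :
    ∀ w ∈ weightSpace π φ, (S ^ l) w ∈ weightSpace π φ := by
  intro w hw
  rw [mem_weightSpace] at hw ⊢
  intro a
  obtain ⟨b, rfl⟩ := (σ ^ l).surjective a
  rw [← Module.End.mul_apply, ← pow_intertwine hS, Module.End.mul_apply, hw, map_smul, hfix]

theorem translates_independent (hS : ∀ a, S * π a = π (σ a) * S) {N : ℕ} (hSN : S ^ N = 1)
    {φ : A → k} {l : ℕ} (hl : l ≤ N) (hfree : ∀ j, 0 < j → j < l → ∃ a, φ ((σ ^ j) a) ≠ φ a)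
    {w : W} (hw : w ∈ weightSpace π φ) (hw0 : w ≠ 0) :
    LinearIndependent k fun i : Fin l => (S ^ (i : ℕ)) w := by
  refine CfsgLib.LocalEven.ExtMod.independent_of_separated _
    (fun i => pow_injective_of_pow_eq_one hSN (i.2.le.trans hl) hw0) fun i j hij => ?_
  have heig : ∀ (a : A) (t : Fin l),
      π a ((S ^ (t : ℕ)) w) = φ ((σ ^ (t : ℕ)).symm a) • (S ^ (t : ℕ)) w := by
    intro a t
    obtain ⟨b, rfl⟩ := (σ ^ (t : ℕ)).surjective a
    rw [← Module.End.mul_apply, ← pow_intertwine hS, Module.End.mul_apply,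
      mem_weightSpace.1 hw, map_smul, MulEquiv.symm_apply_apply]
  obtain ⟨a, ha⟩ : ∃ a, φ ((σ ^ (i : ℕ)).symm a) ≠ φ ((σ ^ (j : ℕ)).symm a) := by
    by_contra hc
    push Not at hc
    rcases lt_or_gt_of_ne (fun h => hij (Fin.ext h)) with hlt | hlt
    · obtain ⟨a, ha⟩ := hfree ((j : ℕ) - i) (by omega) (by omega)
      refine ha ?_
      have h1 := hc ((σ ^ (j : ℕ)) a)
      rw [MulEquiv.symm_apply_apply] at h1
      rw [← h1]
      congr 1
      rw [MulEquiv.eq_symm_apply, ← MulAut.mul_apply, ← pow_add, Nat.add_sub_cancel' hlt.le]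
    · obtain ⟨a, ha⟩ := hfree ((i : ℕ) - j) (by omega) (by omega)
      refine ha ?_
      have h1 := hc ((σ ^ (i : ℕ)) a)
      rw [MulEquiv.symm_apply_apply] at h1
      rw [h1]
      congr 1
      rw [MulEquiv.eq_symm_apply, ← MulAut.mul_apply, ← pow_add, Nat.add_sub_cancel' hlt.le]
  exact ⟨π a, fun t => φ ((σ ^ (t : ℕ)).symm a), heig a, ha⟩

/-- A weight with an orbit of length `l = p ^ a` multiplies the degree of a unipotent operator by `l`. -/
theorem orbit_bound {p : ℕ} [hp : Fact p.Prime] [CharP k p] (hS : ∀ a, S * π a = π (σ a) * S)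
    {N : ℕ} (hSN : S ^ N = 1) {φ : A → k} {b : ℕ} (hl : p ^ b ≤ N)
    (hfix : ∀ a, φ ((σ ^ p ^ b) a) = φ a)
    (hfree : ∀ j, 0 < j → j < p ^ b → ∃ a, φ ((σ ^ j) a) ≠ φ a)
    {s : ℕ} {w : W} (hw : w ∈ weightSpace π φ) (hne : ((S ^ p ^ b - 1) ^ s) w ≠ 0)
    {e : ℕ} (he : (S - 1) ^ e = 0) : p ^ b * (s + 1) ≤ e := by
  classical
  by_contra hlt
  set l := p ^ b with hldef
  have hl0 : 0 < l := Nat.pow_pos hp.out.pos
  set w' := ((S ^ l - 1) ^ s) w with hw'
  have hw'mem : w' ∈ weightSpace π φ := by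
    have hmem : ∀ i : ℕ, ((S ^ l - 1) ^ i) w ∈ weightSpace π φ := by
      intro i
      induction i with
      | zero => exact hw
      | succ i ih =>
        rw [pow_succ', Module.End.mul_apply, LinearMap.sub_apply, Module.End.one_apply]
        exact Submodule.sub_mem _ (pow_weight_invariant hS hfix _ ih) ih
    exact hmem s
  have : CharP (Module.End k W) p := by
    have : Nontrivial W := ⟨w', 0, hne⟩
    exact charP_of_injective_algebraMap (algebraMap k (Module.End k W)).injective p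
  have hpow : (S - 1) ^ l = S ^ l - 1 := by
    rw [hldef, sub_pow_char_pow_of_commute _ _ (Commute.one_right S), one_pow]
  have hzero : ((S - 1) ^ (l - 1)) w' = 0 := by
    have h1 : (S - 1) ^ (l - 1 + l * s) = 0 := by
      rw [← Nat.sub_add_cancel (show e ≤ l - 1 + l * s by rw [mul_add, mul_one] at hlt; omega),
        pow_add, he, mul_zero]
    rw [hw', ← hpow, ← pow_mul, ← Module.End.mul_apply, ← pow_add, h1, LinearMap.zero_apply]
  obtain ⟨coef, hcoef1, hcoef⟩ : ∃ coef : Fin l → ℕ, coef ⟨l - 1, by omega⟩ = 1 ∧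
      ((S - 1) ^ (l - 1)) w' =
        ∑ i : Fin l, ((-1 : k) ^ (l - 1 - (i : ℕ)) * (coef i : k)) • (S ^ (i : ℕ)) w' := by
    refine ⟨fun i => (l - 1).choose i, Nat.choose_self _, ?_⟩
    rw [sub_eq_add_neg, (Commute.neg_right (Commute.one_right S)).add_pow, LinearMap.sum_apply,
      Finset.sum_range, ← Equiv.sum_comp (finCongr (Nat.sub_add_cancel hl0))]
    refine Finset.sum_congr rfl fun i _ => ?_
    simp only [finCongr_apply, Fin.val_cast, Module.End.mul_apply]
    rw [show ((-1 : Module.End k W) ^ (l - 1 - (i : ℕ))) =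
      (-1 : k) ^ (l - 1 - (i : ℕ)) • 1 by
        rw [← one_pow (M := Module.End k W) (l - 1 - (i : ℕ)), ← smul_pow, neg_smul, one_smul, one_pow]]
    rw [LinearMap.smul_apply, Module.End.one_apply, Module.End.natCast_apply, map_smul,
      map_nsmul, ← Nat.cast_smul_eq_nsmul k, smul_smul]
  have hind := Fintype.linearIndependent_iff.1
    (translates_independent hS hSN hl hfree hw'mem hne) _ (hcoef.symm.trans hzero)
    ⟨l - 1, by omega⟩
  rw [hcoef1] at hind
  simp at hind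

/-- A weight moved by the power of order `p` gives full degree. -/
theorem regular_bound [IsAlgClosed k] [FiniteDimensional k W] {p : ℕ} [hp : Fact p.Prime] [CharP k p]
    (hcomm : ∀ a b, π a * π b = π b * π a) {M : ℕ} (hM : (M : k) ≠ 0) (hπM : ∀ a, π a ^ M = 1)
    (hS : ∀ a, S * π a = π (σ a) * S) {j : ℕ} (hj : 0 < j) (hσ : σ ^ p ^ j = 1)
    (hSN : S ^ p ^ j = 1) (hmoved : ∃ a, π ((σ ^ p ^ (j - 1)) a) ≠ π a)
    {e : ℕ} (he : (S - 1) ^ e = 0) : p ^ j ≤ e := by
  obtain ⟨a₀, ha₀⟩ := hmoved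
  obtain ⟨φ, hφ, hne⟩ := exists_separating_weight π hcomm hM hπM ha₀
  obtain ⟨w, hw, hw0⟩ := Submodule.exists_mem_ne_zero_of_ne_bot hφ
  have h := orbit_bound hS hSN (φ := φ) (b := j) le_rfl (fun a => by rw [hσ]; rfl)
    (fun i hi hij => by
      by_contra hc
      push Not at hc
      have hit : ∀ t a, φ ((σ ^ (i * t)) a) = φ a := by
        intro t
        induction t with
        | zero => intro a; rw [mul_zero, pow_zero]; rfl
        | succ t ih => intro a; rw [mul_add, mul_one, pow_add, MulAut.mul_apply, ih, hc]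
      obtain ⟨t, ht⟩ := exists_mul_mod_prime_pow (p := p) (m := j) hi hij
      refine hne ((congrArg φ ?_).trans (hit t a₀))
      rw [← Nat.mod_add_div (i * t) (p ^ j), pow_add, pow_mul σ (p ^ j), hσ, one_pow, mul_one, ht,
        Nat.mod_eq_of_lt (Nat.pow_lt_pow_right hp.out.one_lt (by omega))])
    (s := 0) hw (by rw [pow_zero, Module.End.one_apply]; exact hw0) he
  simpa using h

end Orbit

section Component

variable [IsAlgClosed k] [FiniteDimensional k W]
variable {Q : Type*} [Group Q] [Finite Q]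

/-- The operators commuting with a monomial permutation of a basis, semiregular away from one point. -/
theorem finrank_opCentralizer_mul_le [Nontrivial W] (ρ : Q →* Module.End k W) {R : Subgroup Q}
    [R.Normal]
    (hR : ∀ r ∈ R, ∃ c : k, ρ r = c • 1) (hD : ∀ x y : Q, ⁅x, y⁆ ∈ R)
    (hnd : ∀ x : Q, x ∉ R → ∃ y : Q, ρ ⁅y, x⁆ ≠ 1) (hk : (Nat.card Q : k) ≠ 0)
    (hirr : ∀ U : Submodule k W, (∀ x, ∀ w ∈ U, ρ x w ∈ U) → U = ⊥ ∨ U = ⊤)
    (γ : MulAut Q) (hγR : ∀ r ∈ R, γ r ∈ R) {N : ℕ} (hN : 0 < N) (hγN : γ ^ N = 1)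
    (hsemi : ∀ x, x ∉ R → ∀ j, 0 < j → j < N → x⁻¹ * (γ ^ j) x ∉ R)
    {S : Module.End k W} (hS : ∀ x, S * ρ x = ρ (γ x) * S) (hSN : S ^ N = 1) :
    Nat.card (Q ⧸ R) = Module.finrank k W * Module.finrank k W ∧
      N * Module.finrank k (opCentralizer S) + 1 ≤
        Module.finrank k W * Module.finrank k W + N := by
  classical
  letI := Fintype.ofFinite (Q ⧸ R)
  obtain ⟨g, hg⟩ := CfsgLib.FGS.exists_quotient_mulAut γ hγR
  have hs : ∀ t : Q ⧸ R, QuotientGroup.mk t.out = t := fun t => t.out_eq'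
  let F : Module.Basis (Q ⧸ R) k (Module.End k W) := Module.Basis.mk
    (rep_section_independent ρ hR hD hnd _ hs) (rep_section_span ρ hR hD hnd hk hirr _ hs).ge
  have hF : ∀ t, F t = ρ t.out := fun t => Module.Basis.mk_apply _ _ t
  have hcard : Nat.card (Q ⧸ R) = Module.finrank k W * Module.finrank k W := by
    rw [← Module.finrank_linearMap k k W W, Module.finrank_eq_card_basis F, Nat.card_eq_fintype_card]
  refine ⟨hcard, ?_⟩
  have hζ : ∀ t : Q ⧸ R, ∃ c : k, ρ (γ t.out) = c • F (g t) := by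
    intro t
    have h1 : (QuotientGroup.mk (γ t.out) : Q ⧸ R) = g t := by
      have h := hg 1 t.out
      rw [pow_one, pow_one, QuotientGroup.mk'_apply, hs] at h
      exact h.symm
    obtain ⟨r, hr⟩ := QuotientGroup.mk_out_eq_mul R (γ t.out)
    rw [h1] at hr
    obtain ⟨c, hc⟩ := hR _ (R.inv_mem r.2)
    refine ⟨c, ?_⟩
    calc ρ (γ t.out) = ρ (γ t.out * r * (r : Q)⁻¹) := by rw [mul_inv_cancel_right]
      _ = c • F (g t) := by rw [map_mul, hc, mul_smul_comm, mul_one, hF, hr]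
  choose ζ hζ using hζ
  have hcoef : ∀ Φ ∈ opCentralizer S, ∀ t, F.coord (g t) Φ = ζ t * F.coord t Φ := by
    intro Φ hΦ t
    rw [mem_opCentralizer] at hΦ
    let P : Module.End k W →ₗ[k] Module.End k W := F.constr k fun t => ζ t • F (g t)
    have hP : ∀ Ψ, S * Ψ = P Ψ * S := by
      intro Ψ
      have : LinearMap.mulLeft k S = (LinearMap.mulRight k S).comp P := F.ext fun u => by
        simp only [LinearMap.comp_apply, LinearMap.mulLeft_apply, LinearMap.mulRight_apply, P,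
          Module.Basis.constr_basis]
        rw [hF u, hS, hζ u]
      exact LinearMap.congr_fun this Ψ
    have hPΦ : P Φ = Φ := by
      have h1 : P Φ * (S * S ^ (N - 1)) = Φ * (S * S ^ (N - 1)) := by
        rw [← mul_assoc, ← hP, hΦ, mul_assoc]
      rwa [← pow_succ', Nat.sub_add_cancel hN, hSN, mul_one, mul_one] at h1
    have : (F.coord (g t)).comp P = ζ t • F.coord t := F.ext fun u => by
      simp only [LinearMap.comp_apply, LinearMap.smul_apply, P, Module.Basis.constr_basis,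
        Module.Basis.coord_apply, map_smul, Finsupp.smul_apply, F.repr_self, smul_eq_mul]
      by_cases hu : u = t
      · subst hu; simp
      · simp [Finsupp.single_eq_of_ne (Ne.symm hu),
          Finsupp.single_eq_of_ne (fun h => hu (g.injective h).symm)]
    have h2 := LinearMap.congr_fun this Φ
    rwa [LinearMap.comp_apply, hPΦ] at h2
  have hgN : ∀ t : Q ⧸ R, (g ^ N) t = t := fun t => by
    obtain ⟨x, rfl⟩ := QuotientGroup.mk'_surjective R t
    rw [hg, hγN]; rfl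
  have hgmod : ∀ (i : ℕ) (t : Q ⧸ R), (g ^ i) t = (g ^ (i % N)) t := fun i t => by
    conv_lhs => rw [← Nat.mod_add_div i N]
    generalize i / N = m
    induction m with
    | zero => rw [mul_zero, add_zero]
    | succ m ih => rw [mul_add, mul_one, ← add_assoc, pow_add, MulAut.mul_apply, hgN, ih]
  let O : Setoid (Q ⧸ R) :=
    { r := fun a b => ∃ i : ℕ, (g ^ i) a = b
      iseqv :=
        ⟨fun a => ⟨0, rfl⟩,
        fun {a b} ⟨i, hi⟩ => ⟨N - i % N, by
          rw [← hi, hgmod i, ← MulAut.mul_apply, ← pow_add,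
            Nat.sub_add_cancel (Nat.mod_lt i hN).le, hgN]⟩,
        fun {a b c} ⟨i, hi⟩ ⟨j, hj⟩ => ⟨j + i, by rw [pow_add, MulAut.mul_apply, hi, hj]⟩⟩ }
  have hle : Module.finrank k (opCentralizer S) ≤ Nat.card (Quotient O) := by
    let ev : opCentralizer S →ₗ[k] (Quotient O → k) :=
      LinearMap.pi fun o => (F.coord o.out).comp (opCentralizer S).subtype
    have hev : Function.Injective ev := by
      rw [injective_iff_map_eq_zero]
      intro Φ h0
      refine Subtype.ext (F.ext_elem fun t => ?_)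
      rw [ZeroMemClass.coe_zero, map_zero, Finsupp.zero_apply]
      obtain ⟨i, hi⟩ := Quotient.exact (Quotient.out_eq (Quotient.mk O t))
      have key : ∀ i : ℕ, F.coord ((g ^ i) (Quotient.mk O t).out) (Φ : Module.End k W) = 0 := by
        intro i
        induction i with
        | zero => exact congrFun h0 (Quotient.mk O t)
        | succ i ih => rw [pow_succ', MulAut.mul_apply, hcoef _ Φ.2, ih, mul_zero]
      have h1 := key i
      rwa [hi] at h1
    have h := LinearMap.finrank_le_finrank_of_injective hev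
    letI := Fintype.ofFinite (Quotient O)
    rwa [Module.finrank_fintype_fun_eq_card, ← Nat.card_eq_fintype_card] at h
  -- count the orbits
  have hout1 : ∀ o : Quotient O, o ≠ Quotient.mk O 1 → o.out ≠ 1 := fun o ho h =>
    ho (by rw [← Quotient.out_eq o, h])
  let f : {o : Quotient O // o ≠ Quotient.mk O 1} × Fin N → {t : Q ⧸ R // t ≠ 1} := fun z =>
    ⟨(g ^ (z.2 : ℕ)) z.1.1.out, fun h => hout1 _ z.1.2
      ((g ^ (z.2 : ℕ)).injective (h.trans (map_one _).symm))⟩
  have hf : Function.Injective f := by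
    rintro ⟨⟨o, ho⟩, i⟩ ⟨⟨o', ho'⟩, i'⟩ h
    have h : (g ^ (i : ℕ)) o.out = (g ^ (i' : ℕ)) o'.out := congrArg Subtype.val h
    have hr : ∀ (z : Quotient O) (m : ℕ), Quotient.mk O ((g ^ m) z.out) = z := fun z m => by
      conv_rhs => rw [← Quotient.out_eq z]
      exact Quotient.sound ((inferInstance : IsEquiv (Q ⧸ R) O.r).symm _ _ ⟨m, rfl⟩)
    obtain rfl : o = o' := by rw [← hr o i, h, hr]
    refine Prod.ext rfl (Fin.ext ?_)
    show (i : ℕ) = i'
    obtain ⟨x, hx⟩ := QuotientGroup.mk'_surjective R o.out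
    have hxR : x ∉ R := fun h => hout1 o ho (by
      rw [← hx]; exact (QuotientGroup.eq_one_iff x).2 h)
    have key : ∀ a b : ℕ, a ≤ b → b < N → (g ^ a) o.out = (g ^ b) o.out → a = b := by
      intro a b hab hb heq
      by_contra hne
      rw [← Nat.add_sub_cancel' hab, pow_add, MulAut.mul_apply] at heq
      have h3 := (g ^ a).injective heq
      rw [← hx, hg] at h3
      exact hsemi x hxR (b - a) (by omega) (by omega) (QuotientGroup.eq.1 h3)
    rcases le_total (i : ℕ) i' with h2 | h2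
    · exact key _ _ h2 i'.2 h
    · exact (key _ _ h2 i.2 h.symm).symm
  letI := Fintype.ofFinite (Quotient O)
  have h1 := Nat.card_le_card_of_injective f hf
  rw [Nat.card_prod, Nat.card_fin] at h1
  have h2 : Nat.card {o : Quotient O // o ≠ Quotient.mk O 1} = Nat.card (Quotient O) - 1 := by
    rw [Nat.card_eq_fintype_card, Nat.card_eq_fintype_card, Fintype.card_subtype_compl,
      Fintype.card_subtype_eq]
  have h3 : Nat.card {t : Q ⧸ R // t ≠ 1} = Nat.card (Q ⧸ R) - 1 := by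
    rw [Nat.card_eq_fintype_card, Nat.card_eq_fintype_card, Fintype.card_subtype_compl,
      Fintype.card_subtype_eq]
  rw [h2, h3, hcard] at h1
  have hO : 0 < Nat.card (Quotient O) := Nat.card_pos
  have hd : 0 < Module.finrank k W * Module.finrank k W := by
    rw [← hcard]; exact Nat.card_pos
  obtain ⟨c, hc⟩ : ∃ c, Nat.card (Quotient O) = c + 1 := ⟨_, (Nat.sub_add_cancel hO).symm⟩
  rw [hc] at hle h1
  rw [Nat.add_sub_cancel] at h1
  have h4 := Nat.mul_le_mul_left N hle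
  rw [mul_add, mul_one] at h4
  rw [mul_comm c N] at h1
  omega

/-- The degree of the intertwiner on a component of extraspecial type. -/
theorem component_bound {p j : ℕ} [hp : Fact p.Prime] [CharP k p] [Nontrivial W]
    (ρ : Q →* Module.End k W) {R : Subgroup Q} [R.Normal]
    (hR : ∀ r ∈ R, ∃ c : k, ρ r = c • 1) (hD : ∀ x y : Q, ⁅x, y⁆ ∈ R) (hRtop : R ≠ ⊤)
    (hnd : ∀ x : Q, x ∉ R → ∃ y : Q, ρ ⁅y, x⁆ ≠ 1) (hk : (Nat.card Q : k) ≠ 0)
    (γ : MulAut Q) (hγR : ∀ r ∈ R, γ r ∈ R) (hγN : γ ^ p ^ j = 1)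
    (hsemi : ∀ x, x ∉ R → ∀ i, 0 < i → i < p ^ j → x⁻¹ * (γ ^ i) x ∉ R)
    {S : Module.End k W} (hS : ∀ x, S * ρ x = ρ (γ x) * S) (hSN : S ^ p ^ j = 1) :
    (∀ i, (S - 1) ^ i = 0 → p ^ j ≤ i) ∨
      ((p ^ j - 1) * (p ^ j - 1) = Nat.card (Q ⧸ R) ∧ ∀ i, (S - 1) ^ i = 0 → p ^ j - 1 ≤ i) := by
  classical
  set N := p ^ j with hNdef
  have hN : 0 < N := Nat.pow_pos hp.out.pos
  have hγρ : ∀ r ∈ R, ρ (γ r) = ρ r := fun r hr => by
    obtain ⟨c, hc⟩ := hR r hr
    have hu : S * S ^ (N - 1) = 1 := by rw [← pow_succ', Nat.sub_add_cancel hN, hSN]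
    calc ρ (γ r) = ρ (γ r) * S * S ^ (N - 1) := by rw [mul_assoc, hu, mul_one]
      _ = S * ρ r * S ^ (N - 1) := by rw [hS]
      _ = ρ r := by rw [hc, mul_smul_comm, mul_one, smul_mul_assoc, hu]
  obtain ⟨U, hUinv, hUne, hUirr⟩ := exists_irreducible_invariant ρ
  set ρU := restrictRep ρ U hUinv with hρU
  have : Nontrivial U := Submodule.nontrivial_iff_ne_bot.2 hUne
  have hRU : ∀ r ∈ R, ∃ c : k, ρU r = c • 1 ∧ ρ r = c • 1 := fun r hr =>
    (hR r hr).imp fun c hc => ⟨restrictRep_smul ρ U hUinv hc, hc⟩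
  have hndU : ∀ x : Q, x ∉ R → ∃ y : Q, ρU ⁅y, x⁆ ≠ 1 := fun x hx => by
    obtain ⟨y, hy⟩ := hnd x hx
    obtain ⟨c, hcU, hc⟩ := hRU _ (hD y x)
    refine ⟨y, fun h => hy ?_⟩
    obtain ⟨u, hu⟩ := exists_ne (0 : U)
    rw [hcU] at h
    have hc1 : c = 1 := smul_left_injective k hu
      (show c • u = (1 : k) • u by simpa using LinearMap.congr_fun h u)
    rw [hc, hc1, one_smul]
  have hγρU : ∀ r ∈ R, ρU (γ r) = ρU r := fun r hr => LinearMap.ext fun u => Subtype.ext (by
    rw [hρU, restrictRep_coe, restrictRep_coe, hγρ r hr])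
  obtain ⟨Γ, hΓ, hΓN⟩ := exists_intertwiner ρU (fun r hr => (hRU r hr).imp fun c hc => hc.1) hD
    hndU hUirr γ hγR hγρU hN hγN
  obtain ⟨f, ω, hfinj, hωN, -, hf⟩ := exists_eigen_intertwiner ρU ρ hRU hD hndU hUirr γ hN hΓ hΓN
    hS hSN
  have hω : ω = 1 := sub_eq_zero.1 (eq_zero_of_pow_eq_zero (n := N) (by
    rw [hNdef, sub_pow_char_pow, one_pow, hωN, sub_self]))
  subst hω
  have hlift : ∀ i, (S - 1) ^ i = 0 → (Γ - 1) ^ i = 0 := by
    intro i hi
    have key : ∀ (i : ℕ) (u : U), ((S - 1) ^ i) (f u) = f (((Γ - 1) ^ i) u) := by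
      intro i
      induction i with
      | zero => intro u; rfl
      | succ i ih =>
        intro u
        rw [pow_succ', Module.End.mul_apply, ih, pow_succ', Module.End.mul_apply,
          LinearMap.sub_apply, LinearMap.sub_apply, Module.End.one_apply, Module.End.one_apply, hf,
          one_smul, map_sub]
    refine LinearMap.ext fun u => hfinj ?_
    rw [← key, hi, LinearMap.zero_apply, LinearMap.zero_apply, map_zero]
  obtain ⟨hcard, hc⟩ := finrank_opCentralizer_mul_le ρU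
    (fun r hr => (hRU r hr).imp fun c hc => hc.1) hD hndU hk hUirr γ hγR hN hγN hsemi hΓ hΓN
  have hcc : opCentralizer Γ = opCentralizer (Γ - 1) := by
    ext Φ
    simp [mem_opCentralizer, sub_mul, mul_sub]
  rw [hcc] at hc
  have hd : 1 < Module.finrank k U := by
    by_contra hle
    have h1 : Nat.card (Q ⧸ R) ≤ 1 := by
      rw [hcard]
      calc _ ≤ 1 * 1 := Nat.mul_le_mul (by omega) (by omega)
        _ = 1 := one_mul 1
    exact hRtop (Subgroup.index_eq_one.1 (by
      have : 0 < Nat.card (Q ⧸ R) := Nat.card_pos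
      rw [Subgroup.index_eq_card]; omega))
  by_cases hcase : (Γ - 1) ^ (N - 1) = 0
  · obtain ⟨hdim, hmin⟩ := extremal_block hd hcase hc
    exact Or.inr ⟨by rw [hcard, hdim], fun i hi => hmin i (hlift i hi)⟩
  · refine Or.inl fun i hi => ?_
    by_contra hlt
    exact hcase (by rw [show N - 1 = i + (N - 1 - i) by omega, pow_add, hlift i hi, zero_mul])

end Component

/-- Semiregularity passes to the quotients by subgroups containing the fixed-point group. -/
theorem mem_of_mk_fixed {Q : Type*} [Group Q] {p q : ℕ} [hp : Fact p.Prime] [hq : Fact q.Prime]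
    (hQ : IsPGroup q Q) (hqp : q ≠ p) {C : Subgroup Q} [C.Normal] (hDC : ∀ x y : Q, ⁅x, y⁆ ∈ C)
    (τ : MulAut Q) (hτp : τ ^ p = 1) (hfpf : ∀ x, x⁻¹ * τ x ∈ C → x ∈ C)
    {R : Subgroup Q} (hCR : C ≤ R) (hτR : ∀ r ∈ R, τ r ∈ R) {x : Q} (hx : x⁻¹ * τ x ∈ R) : x ∈ R := by
  classical
  have hRn : R.Normal := ⟨fun r hr g => by
    rw [show g * r * g⁻¹ = ⁅g, r⁆ * r by rw [commutatorElement_def]; group]
    exact R.mul_mem (hCR (hDC g r)) hr⟩
  have hcomm : ∀ a b : Q, (QuotientGroup.mk (a * b) : Q ⧸ C) = QuotientGroup.mk (b * a) :=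
    fun a b => by
      rw [QuotientGroup.eq, show (a * b)⁻¹ * (b * a) = ⁅b⁻¹, a⁻¹⁆ by
        rw [commutatorElement_def]; group]
      exact hDC _ _
  let u : ℕ → Q := Nat.rec 1 fun _ y => x * τ y
  have hu0 : u 0 = 1 := rfl
  have hus : ∀ i, u (i + 1) = x * τ (u i) := fun i => rfl
  have halt : ∀ i, u (i + 1) = u i * (τ ^ i) x := by
    intro i
    induction i with
    | zero => rw [hus, hu0, map_one, pow_zero, MulAut.one_apply, mul_one, one_mul]
    | succ i ih =>
      show x * τ (u (i + 1)) = u (i + 1) * (τ ^ (i + 1)) x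
      calc x * τ (u (i + 1)) = x * τ (u i) * τ ((τ ^ i) x) := by rw [ih, map_mul, mul_assoc]
        _ = _ := by rw [← hus, pow_succ', MulAut.mul_apply]
  have hfixed : u p ∈ C := by
    refine hfpf _ ?_
    have h1 := hus p
    rw [halt, hτp, MulAut.one_apply] at h1
    have h2 := hcomm (u p) x
    rw [h1, QuotientGroup.eq] at h2
    have h3 : (u p)⁻¹ * τ (u p) = ((x * τ (u p))⁻¹ * (x * u p))⁻¹ := by group
    rw [h3]
    exact C.inv_mem h2
  have hpow : ∀ i, (QuotientGroup.mk (u i) : Q ⧸ R) = QuotientGroup.mk (x ^ i) := by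
    intro i
    induction i with
    | zero => rw [hu0, pow_zero]
    | succ i ih =>
      have hτx : (QuotientGroup.mk (τ x) : Q ⧸ R) = QuotientGroup.mk x :=
        (QuotientGroup.eq.2 hx).symm
      have h1 : (QuotientGroup.mk (τ (u i)) : Q ⧸ R) = QuotientGroup.mk (τ (x ^ i)) := by
        rw [QuotientGroup.eq, ← map_inv, ← map_mul]
        exact hτR _ (QuotientGroup.eq.1 ih)
      rw [hus, QuotientGroup.mk_mul, h1, map_pow, QuotientGroup.mk_pow, hτx, ← QuotientGroup.mk_pow,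
        ← QuotientGroup.mk_mul, ← pow_succ']
  have hxp : (QuotientGroup.mk x : Q ⧸ R) ^ (p ^ 1) = 1 := by
    rw [pow_one, ← QuotientGroup.mk_pow, ← hpow]
    exact (QuotientGroup.eq_one_iff _).2 (hCR hfixed)
  exact (QuotientGroup.eq_one_iff x).1
    (eq_one_of_pow_eq_one_of_pGroup (p := p) (hQ.to_quotient R) hqp hxp)

universe u

set_option maxHeartbeats 1000000 in
/-- Hall and Higman's Theorem B for a `q`-group with an operator. -/
theorem hall_higman_b {k : Type*} [Field k] [IsAlgClosed k] {p q n : ℕ} [hp : Fact p.Prime]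
    [CharP k p] [hq : Fact q.Prime] (hqp : q ≠ p) (hn : 0 < n) {V : Type*} [AddCommGroup V]
    [Module k V] [FiniteDimensional k V] :
    ∀ (c : ℕ) {Q : Type u} [Group Q] [Finite Q], Nat.card Q = c → IsPGroup q Q →
      ∀ (σ : MulAut Q), σ ^ (p ^ n) = 1 → (∃ y, (σ ^ (p ^ (n - 1))) y ≠ y) →
      ∀ (ρ : Q →* Module.End k V), Function.Injective ρ → ∀ (S : Module.End k V),
        (∀ x, S * ρ x = ρ (σ x) * S) → S ^ (p ^ n) = 1 → ∀ e, (S - 1) ^ e = 0 →
        p ^ n ≤ e ∨ ((∃ a b : Q, a * b ≠ b * a) ∧ ∃ n₀ m : ℕ, 1 ≤ n₀ ∧ n₀ ≤ n ∧ 1 ≤ m ∧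
          p ^ n₀ - 1 = q ^ m ∧ p ^ (n - n₀) * (p ^ n₀ - 1) ≤ e) := by
  intro c
  induction c using Nat.strong_induction_on with
  | _ c ih =>
  intro Q _ _ hc hQ σ hσ hmoved ρ hinj S hS hSn e he
  classical
  by_cases hsub : ∀ H : Subgroup Q, H ≠ ⊤ → (∀ x ∈ H, σ x ∈ H) →
      ∀ x ∈ H, (σ ^ (p ^ (n - 1))) x = x
  case neg =>
    push Not at hsub
    obtain ⟨H, hH, hHσ, x, hxH, hxne⟩ := hsub
    obtain ⟨ψ, hψ⟩ := CfsgLib.FGS.exists_restrict_mulAut σ hHσ
    have hlt : Nat.card H < c := by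
      rw [← hc]
      exact lt_of_le_of_ne (Subgroup.card_le_card_group H) fun h => hH (Subgroup.eq_top_of_card_eq H h)
    rcases ih _ hlt (Q := H) rfl (hQ.to_subgroup H) ψ
      (MulEquiv.ext fun y => Subtype.ext (by rw [hψ, hσ]; rfl))
      ⟨⟨x, hxH⟩, fun h => hxne (by rw [← hψ _ ⟨x, hxH⟩, h])⟩
      (ρ.comp H.subtype) (hinj.comp Subtype.val_injective) S (fun y => by
        have h1 := hψ 1 y
        rw [pow_one, pow_one] at h1
        show S * ρ y = ρ (ψ y : H) * S
        rw [h1]; exact hS y) hSn e he with h | ⟨⟨a, b, hab⟩, h⟩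
    · exact Or.inl h
    · exact Or.inr ⟨⟨a, b, fun h0 => hab (Subtype.ext h0)⟩, h⟩
  obtain ⟨C, hCcent, hCσ, -, hDC, hCmem, hCfpf, -⟩ := minimal_moved_structure hqp hQ σ hn hσ hsub hmoved
  set τ := σ ^ (p ^ (n - 1)) with hτ
  have hqk : (q : k) ≠ 0 := fun h =>
    hqp ((Nat.prime_dvd_prime_iff_eq hp.out hq.out).1 ((CharP.cast_eq_zero_iff k p q).1 h)).symm
  obtain ⟨f₀, hf₀⟩ := IsPGroup.iff_card.1 hQ
  have hQk : (Nat.card Q : k) ≠ 0 := by rw [hf₀, Nat.cast_pow]; exact pow_ne_zero _ hqk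
  by_cases hab : ∀ a b : Q, a * b = b * a
  · refine Or.inl (regular_bound (π := ρ) (fun a b => by rw [← map_mul, hab, map_mul]) hQk
      (fun a => by rw [← map_pow, pow_card_eq_one', map_one]) hS hn hσ hSn ?_ he)
    obtain ⟨y, hy⟩ := hmoved
    exact ⟨y, fun h => hy (hinj h)⟩
  push Not at hab
  obtain ⟨a₀, b₀, hab⟩ := hab
  have hCn : C.Normal := ⟨fun x hx g => by
    rw [Subgroup.mem_center_iff.1 (hCcent hx) g, mul_inv_cancel_right]; exact hx⟩
  let ρC : C →* Module.End k V := ρ.comp C.subtype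
  have hCcomm : ∀ a b : C, ρC a * ρC b = ρC b * ρC a := fun a b => by
    show ρ a * ρ b = ρ b * ρ a
    rw [← map_mul, ← map_mul, Subgroup.mem_center_iff.1 (hCcent b.2) (a : Q)]
  obtain ⟨χ, hχne, hχc⟩ := exists_separating_weight ρC hCcomm hQk
    (fun a => by show ρ a ^ _ = 1; rw [← map_pow, pow_card_eq_one', map_one])
    (a₁ := ⟨⁅a₀, b₀⁆, hDC _ _⟩) (a₂ := 1) (fun h => hab (commutatorElement_eq_one_iff_mul_comm.1
      (hinj (h.trans (map_one ρC) |>.trans (map_one ρ).symm))))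
  set W := weightSpace ρC χ with hW
  have : Nontrivial W := Submodule.nontrivial_iff_ne_bot.2 hχne
  obtain ⟨w₀, hw₀⟩ := exists_ne (0 : W)
  have hw₀' : (w₀ : V) ≠ 0 := fun h => hw₀ (Subtype.ext h)
  have hχ1 : χ 1 = 1 := smul_left_injective k hw₀' (show χ 1 • (w₀ : V) = (1 : k) • (w₀ : V) by
    rw [← mem_weightSpace.1 w₀.2 1, map_one, Module.End.one_apply, one_smul])
  obtain ⟨φC, hφC⟩ := CfsgLib.FGS.exists_restrict_mulAut σ hCσ
  have hSC : ∀ a : C, S * ρC a = ρC (φC a) * S := fun a => by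
    show S * ρ a = ρ (φC a : C) * S
    have h1 := hφC 1 a
    rw [pow_one, pow_one] at h1
    rw [h1, hS]
  have hτfix : ∀ i, ∀ a : C, (φC ^ (p ^ (n - 1) * i)) a = a := by
    intro i a
    refine Subtype.ext ?_
    rw [hφC, pow_mul]
    induction i with
    | zero => rfl
    | succ i ih => rw [pow_succ, MulAut.mul_apply, (hCmem _).1 a.2, ih]
  -- the stabiliser of the character
  have hex : ∃ l, 0 < l ∧ ∀ a : C, χ ((φC ^ l) a) = χ a :=
    ⟨p ^ (n - 1), Nat.pow_pos hp.out.pos, fun a => by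
      have h := hτfix 1 a; rw [mul_one] at h; rw [h]⟩
  set l := Nat.find hex with hldef
  obtain ⟨hl0, hlfix⟩ := Nat.find_spec hex
  have hlmul : ∀ i, ∀ a : C, χ ((φC ^ (l * i)) a) = χ a := by
    intro i
    induction i with
    | zero => intro a; rfl
    | succ i ih => intro a; rw [mul_add, mul_one, pow_add, MulAut.mul_apply, ih, hlfix]
  have hldvd : l ∣ p ^ (n - 1) := by
    rw [Nat.dvd_iff_mod_eq_zero]
    by_contra hne
    refine Nat.find_min hex (Nat.mod_lt _ hl0) ⟨Nat.pos_of_ne_zero hne, fun a => ?_⟩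
    have h1 := hτfix 1 a
    rw [mul_one, ← Nat.mod_add_div (p ^ (n - 1)) l, add_comm, pow_add, MulAut.mul_apply] at h1
    have h2 := hlmul (p ^ (n - 1) / l) ((φC ^ (p ^ (n - 1) % l)) a)
    rw [h1] at h2
    exact h2.symm
  obtain ⟨b, hbn, hlb⟩ := (Nat.dvd_prime_pow hp.out).1 hldvd
  have hfree : ∀ j, 0 < j → j < p ^ b → ∃ a : C, χ ((φC ^ j) a) ≠ χ a := fun j hj hjl => by
    by_contra hcon
    push Not at hcon
    exact Nat.find_min hex (hlb ▸ hjl : j < l) ⟨hj, hcon⟩
  rw [show Nat.find hex = p ^ b from hlb] at hlfix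
  set n₀ := n - b with hn₀
  set γ := σ ^ (p ^ b) with hγ
  have hγN : γ ^ p ^ n₀ = 1 := by
    rw [hγ, ← pow_mul, ← pow_add, hn₀, Nat.add_sub_cancel' (by omega)]; exact hσ
  have hγτ : γ ^ p ^ (n₀ - 1) = τ := by
    rw [hγ, ← pow_mul, ← pow_add, hτ, show b + (n₀ - 1) = n - 1 by omega]
  have hWinv : ∀ y, ∀ w ∈ W, ρ y w ∈ W := fun y w hw => by
    rw [hW, mem_weightSpace] at hw ⊢
    intro a
    show ρ a (ρ y w) = χ a • ρ y w
    rw [← Module.End.mul_apply, ← map_mul, ← Subgroup.mem_center_iff.1 (hCcent a.2) y, map_mul,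
      Module.End.mul_apply, ← map_smul, ← hw a]
    rfl
  set ρW := restrictRep ρ W hWinv with hρW
  have hT : ∀ w ∈ W, (S ^ p ^ b) w ∈ W := pow_weight_invariant hSC hlfix
  set T : Module.End k W := (S ^ p ^ b).restrict hT with hTdef
  have hTρ : ∀ x, T * ρW x = ρW (γ x) * T := fun x => LinearMap.ext fun w => Subtype.ext (by
    show (S ^ p ^ b) (ρ x w) = ρ (γ x) ((S ^ p ^ b) w)
    rw [← Module.End.mul_apply, pow_intertwine hS, Module.End.mul_apply])
  have hTpow : ∀ (i : ℕ) (w : W), (((T ^ i) w : W) : V) = ((S ^ p ^ b) ^ i) w := by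
    intro i
    induction i with
    | zero => intro w; rfl
    | succ i ihi => intro w; rw [pow_succ', pow_succ', Module.End.mul_apply,
        LinearMap.coe_restrict_apply, ihi]; rfl
  have hTN : T ^ p ^ n₀ = 1 := LinearMap.ext fun w => Subtype.ext (by
    rw [hTpow, ← pow_mul, ← pow_add, hn₀, Nat.add_sub_cancel' (by omega), hSn]; rfl)
  have hρWC : ∀ a : C, ρW a = χ a • 1 := fun a => LinearMap.ext fun w => Subtype.ext
    (mem_weightSpace.1 w.2 a)
  -- lifting a bound from `W`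
  have hlift : ∀ s, 0 < s → (∀ i, (T - 1) ^ i = 0 → s ≤ i) → p ^ b * s ≤ e := by
    intro s hs hbound
    have hne : (T - 1) ^ (s - 1) ≠ 0 := fun h => by have := hbound _ h; omega
    obtain ⟨w, hw⟩ : ∃ w, ((T - 1) ^ (s - 1)) w ≠ 0 := by
      by_contra hcon
      push Not at hcon
      exact hne (LinearMap.ext hcon)
    have key : ∀ (i : ℕ) (w : W), ((((T - 1) ^ i) w : W) : V) = ((S ^ p ^ b - 1) ^ i) w := by
      intro i
      induction i with
      | zero => intro w; rfl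
      | succ i ihi => intro w; rw [pow_succ', pow_succ', Module.End.mul_apply,
          Module.End.mul_apply, ← ihi]; rfl
    have h := orbit_bound hSC hSn (φ := χ) (b := b) (Nat.pow_le_pow_right hp.out.pos (by omega))
      hlfix hfree (s := s - 1) w.2 (fun h0 => hw (Subtype.ext (by rw [key, h0]; rfl))) he
    rwa [Nat.sub_add_cancel hs] at h
  have hfull : (∀ i, (T - 1) ^ i = 0 → p ^ n₀ ≤ i) → p ^ n ≤ e := fun h => by
    have h1 := hlift _ (Nat.pow_pos hp.out.pos) h
    rwa [← pow_add, hn₀, Nat.add_sub_cancel' (by omega)] at h1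
  -- the radical
  let R : Subgroup Q :=
    { carrier := {x | ∀ y, ρW ⁅y, x⁆ = 1}
      one_mem' := fun y => by rw [commutatorElement_one_right, map_one]
      mul_mem' := fun {x x'} hx hx' (y : Q) => by
        have e1 : ⁅y, x * x'⁆ = ⁅y, x⁆ * (x * ⁅y, x'⁆ * x⁻¹) := by
          simp only [commutatorElement_def]; group
        rw [e1, Subgroup.mem_center_iff.1 (hCcent (hDC y x')) x, mul_inv_cancel_right, map_mul,
          hx y, hx' y, one_mul]
      inv_mem' := fun {x} hx (y : Q) => by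
        have e1 : ⁅y, x⁻¹⁆ = x⁻¹ * (⁅y, x⁆)⁻¹ * x := by simp only [commutatorElement_def]; group
        rw [e1, Subgroup.mem_center_iff.1 (C.inv_mem (hDC y x) |> fun h => hCcent h) x⁻¹,
          inv_mul_cancel_right]
        calc ρW (⁅y, x⁆)⁻¹ = ρW (⁅y, x⁆)⁻¹ * ρW ⁅y, x⁆ := by rw [hx y, mul_one]
          _ = 1 := by rw [← map_mul, inv_mul_cancel, map_one] }
  have hRmem : ∀ x, x ∈ R ↔ ∀ y, ρW ⁅y, x⁆ = 1 := fun x => Iff.rfl
  have hCR : C ≤ R := fun x hx y => by
    rw [commutatorElement_eq_one_iff_mul_comm.2 (Subgroup.mem_center_iff.1 (hCcent hx) y), map_one]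
  have hRn : R.Normal := ⟨fun r hr g => by
    rw [show g * r * g⁻¹ = ⁅g, r⁆ * r by rw [commutatorElement_def]; group]
    exact R.mul_mem (hCR (hDC g r)) hr⟩
  have hγinv : T * T ^ (p ^ n₀ - 1) = 1 := by
    rw [← pow_succ', Nat.sub_add_cancel (Nat.pow_pos hp.out.pos), hTN]
  have hγR : ∀ r ∈ R, γ r ∈ R := fun r hr y => by
    obtain ⟨z, rfl⟩ := γ.surjective y
    rw [← map_commutatorElement]
    calc ρW (γ ⁅z, r⁆) = ρW (γ ⁅z, r⁆) * T * T ^ (p ^ n₀ - 1) := by rw [mul_assoc, hγinv, mul_one]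
      _ = 1 := by rw [← hTρ, hr z, mul_one, hγinv]
  have hτR : ∀ r ∈ R, τ r ∈ R := fun r hr => hγτ ▸ pow_apply_invariant hγR _ r hr
  have hRtop : R ≠ ⊤ := fun h => by
    have h1 : ρW ⁅a₀, b₀⁆ = 1 := (hRmem b₀).1 (h ▸ Subgroup.mem_top b₀) a₀
    rw [hρWC ⟨⁅a₀, b₀⁆, hDC _ _⟩] at h1
    refine hχc ?_
    rw [hχ1]
    exact smul_left_injective k hw₀
      (show χ ⟨⁅a₀, b₀⁆, hDC _ _⟩ • w₀ = (1 : k) • w₀ by simpa using LinearMap.congr_fun h1 w₀)
  have hRcomm : ∀ r ∈ R, ∀ y, ρW r * ρW y = ρW y * ρW r := fun r hr y => by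
    have e1 : ⁅y, r⁆ * (r * y) = y * r := by rw [commutatorElement_def]; group
    rw [← map_mul, ← map_mul, ← e1, map_mul _ ⁅y, r⁆, hr y, one_mul]
  by_cases hmov : ∃ r ∈ R, ρW (τ r) ≠ ρW r
  · -- the radical is moved
    obtain ⟨r, hr, hrne⟩ := hmov
    obtain ⟨ψ, hψ⟩ := CfsgLib.FGS.exists_restrict_mulAut γ hγR
    refine Or.inl (hfull fun i hi => ?_)
    refine regular_bound (π := ρW.comp R.subtype) (σ := ψ) (S := T)
      (fun a b => hRcomm a a.2 b) hQk
      (fun a => by show ρW a ^ _ = 1; rw [← map_pow, pow_card_eq_one', map_one])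
      (fun a => by
        show T * ρW a = ρW (ψ a : R) * T
        have h1 := hψ 1 a
        rw [pow_one, pow_one] at h1
        rw [h1, hTρ]) (by omega)
      (MulEquiv.ext fun a => Subtype.ext (by rw [hψ, hγN]; rfl)) hTN ⟨⟨r, hr⟩, ?_⟩ hi
    show ρW ((ψ ^ p ^ (n₀ - 1)) ⟨r, hr⟩ : R) ≠ ρW r
    rwa [hψ, hγτ]
  push Not at hmov
  let K : Subgroup Q :=
    { carrier := {x | x ∈ R ∧ ∃ t : k, ρW x = t • 1}
      one_mem' := ⟨R.one_mem, 1, by rw [map_one, one_smul]⟩
      mul_mem' := fun {x x'} ⟨hx, t, ht⟩ ⟨hx', t', ht'⟩ => ⟨R.mul_mem hx hx', t * t', by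
        rw [map_mul, ht, ht', smul_mul_smul_comm, one_mul]⟩
      inv_mem' := fun {x} ⟨hx, t, ht⟩ => ⟨R.inv_mem hx, t⁻¹, by
        have h1 : ρW x⁻¹ * ρW x = 1 := by rw [← map_mul, inv_mul_cancel, map_one]
        rw [ht, mul_smul_comm, mul_one] at h1
        have ht0 : t ≠ 0 := fun h => by rw [h, zero_smul] at h1; exact zero_ne_one h1
        rw [← h1, smul_smul, inv_mul_cancel₀ ht0, one_smul]⟩ }
  have hCK : C ≤ K := fun x hx => ⟨hCR hx, _, hρWC ⟨x, hx⟩⟩
  have hRK : ∀ r ∈ R, r ∈ K := fun r hr =>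
    mem_of_mk_fixed hQ hqp hDC τ (by rw [hτ, ← pow_mul, ← pow_succ, Nat.sub_add_cancel hn, hσ])
      hCfpf hCK (fun x hx => ⟨hτR x hx.1, hx.2.imp fun t ht => (hmov x hx.1).trans ht⟩)
      ⟨R.mul_mem (R.inv_mem hr) (hτR r hr), 1, by
        rw [map_mul, hmov r hr, ← map_mul, inv_mul_cancel, map_one, one_smul]⟩
  have hsemi : ∀ x, x ∉ R → ∀ i, 0 < i → i < p ^ n₀ → x⁻¹ * (γ ^ i) x ∉ R := by
    intro x hx i hi hin hmem
    obtain ⟨t, ht⟩ := exists_mul_mod_prime_pow (p := p) (m := n₀) hi hin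
    have hit : ∀ t, x⁻¹ * (γ ^ (i * t)) x ∈ R := by
      intro t
      induction t with
      | zero => simp
      | succ t iht =>
        have e1 : x⁻¹ * (γ ^ (i * (t + 1))) x =
            (x⁻¹ * (γ ^ i) x) * (γ ^ i) (x⁻¹ * (γ ^ (i * t)) x) := by
          rw [map_mul, map_inv, mul_add, mul_one, add_comm, pow_add, MulAut.mul_apply]; group
        rw [e1]
        exact R.mul_mem hmem (pow_apply_invariant hγR i _ iht)
    refine hx (mem_of_mk_fixed hQ hqp hDC τ
      (by rw [hτ, ← pow_mul, ← pow_succ, Nat.sub_add_cancel hn, hσ]) hCfpf hCR hτR ?_)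
    have h2 := hit t
    rwa [← Nat.mod_add_div (i * t) (p ^ n₀), pow_add, pow_mul γ (p ^ n₀), hγN, one_pow, mul_one, ht,
      Nat.mod_eq_of_lt (Nat.pow_lt_pow_right hp.out.one_lt (by omega)), hγτ] at h2
  rcases component_bound ρW (fun r hr => (hRK r hr).2) (fun x y => hCR (hDC x y)) hRtop
    (fun x hx => by rw [hRmem] at hx; push Not at hx; exact hx) hQk γ hγR hγN hsemi hTρ hTN with
    h | ⟨hcard, h⟩
  · exact Or.inl (hfull h)
  · refine Or.inr ⟨⟨a₀, b₀, hab⟩, n₀, ?_⟩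
    obtain ⟨i, hi⟩ := IsPGroup.iff_card.1 (hQ.to_quotient R)
    have hd : p ^ n₀ - 1 ∣ q ^ i := hi ▸ hcard ▸ Dvd.intro _ rfl
    obtain ⟨m, -, hm⟩ := (Nat.dvd_prime_pow hq.out).1 hd
    have hm1 : 1 ≤ m := Nat.one_le_iff_ne_zero.2 fun h0 => hRtop (by
      rw [h0, pow_zero] at hm
      exact Subgroup.index_eq_one.1 (by rw [Subgroup.index_eq_card, ← hcard, hm, one_mul]))
    refine ⟨m, by omega, by omega, hm1, hm, ?_⟩
    rw [show n - n₀ = b by omega]
    exact hlift _ (by rw [hm]; exact Nat.pow_pos hq.out.pos) h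

end CfsgLib.Transfer.HHB
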