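import Cfsg.Agent.Lib.Transfer.Fusion
import Cfsg.Agent.Lib.Techniques.GoodTransfer
import Cfsg.Agent.Lib.PGroup.Basic
import Cfsg.Prelude.Def_BaumannBlocks
import Mathlib.Algebra.Group.ForwardDiff

/-!
The theorem of Hall and Wielandt on the largest `p`-factor group.
-/

set_option autoImplicit false

namespace CfsgLib.Transfer

open Cfsg Subgroup
open scoped commutatorElement fwdDiff

universe u

variable {G : Type u} [Group G] [Finite G] {p : ℕ} [hp : Fact p.Prime]

/-- Tate's theorem for a subgroup containing a Sylow subgroup. -/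
theorem subgroupOf_pResidual_le_of_hom (P : Sylow p G) {H : Subgroup G} (hP : (P : Subgroup G) ≤ H)
    (h : ∀ (A : Type u) [CommGroup A], (∀ a : A, a ^ p = 1) → ∀ χ : H →* A,
      ∀ x : H, (x : G) ∈ pResidual p G → χ x = 1) :
    (pResidual p G).subgroupOf H ≤ pResidual p H := by
  by_contra hne
  set S := (pResidual p G).subgroupOf H with hS
  set K := pResidual p H with hK
  have hSN : S.Normal := pResidual_normal_inst.comap _
  have hKS : K ≤ S := map_le_iff_le_comap.1 (map_subtype_pResidual_le H)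
  let π₀ := QuotientGroup.mk' K
  have : Group.IsNilpotent (H ⧸ K) := isPGroup_quotient_pResidual.isNilpotent
  have hnormS : (S.map π₀).Normal := hSN.map π₀ (QuotientGroup.mk'_surjective K)
  let L : Subgroup H := Subgroup.comap π₀ ⁅S.map π₀, (⊤ : Subgroup (H ⧸ K))⁆
  have hnot : ¬ S ≤ L := by
    intro hle
    have hle' : S.map π₀ ≤ ⁅S.map π₀, (⊤ : Subgroup (H ⧸ K))⁆ := map_le_iff_le_comap.2 hle
    have : ∀ n, S.map π₀ ≤ (⊤ : Subgroup (H ⧸ K)).lowerCentralSeries n := by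
      intro n
      induction n with
      | zero => exact le_top
      | succ n ih =>
        rw [Subgroup.lowerCentralSeries_succ]
        exact hle'.trans (commutator_mono ih le_rfl)
    obtain ⟨n, hn⟩ := Subgroup.nilpotent_iff_lowerCentralSeries.1 (inferInstance : Group.IsNilpotent (H ⧸ K))
    refine hne ?_
    rw [← QuotientGroup.ker_mk' K, ← Subgroup.map_eq_bot_iff]
    exact le_bot_iff.1 (hn ▸ this n)
  have hLS : L ≤ S := by
    intro x hx
    obtain ⟨y, hy, hyx⟩ : π₀ x ∈ S.map π₀ :=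
      (Subgroup.commutator_le_left (S.map π₀) (⊤ : Subgroup (H ⧸ K))) (hx : π₀ x ∈ ⁅S.map π₀, (⊤ : Subgroup (H ⧸ K))⁆)
    have := mul_mem hy (hKS (QuotientGroup.eq.1 hyx))
    rwa [mul_inv_cancel_left] at this
  have hLN : L.Normal := inferInstanceAs (Subgroup.comap π₀ ⁅S.map π₀, (⊤ : Subgroup (H ⧸ K))⁆).Normal
  have hKL : K ≤ L := fun x hx => by
    show π₀ x ∈ ⁅S.map π₀, (⊤ : Subgroup (H ⧸ K))⁆
    rw [show π₀ x = 1 from (QuotientGroup.eq_one_iff x).2 hx]
    exact one_mem _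
  let π := QuotientGroup.mk' L
  have hEp : IsPGroup p (H ⧸ L) :=
    (isPGroup_quotient_pResidual (G := H) (p := p)).of_surjective (QuotientGroup.map K L (MonoidHom.id H) hKL)
      fun e => by
        obtain ⟨x, rfl⟩ := QuotientGroup.mk'_surjective L e
        exact ⟨QuotientGroup.mk' K x, rfl⟩
  let Z : Subgroup (H ⧸ L) := S.map π
  have hZc : ∀ z ∈ Z, ∀ e, e * z = z * e := by
    rintro _ ⟨s, hs, rfl⟩ e
    obtain ⟨x, rfl⟩ := QuotientGroup.mk'_surjective L e
    rw [← map_mul, ← map_mul]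
    refine (QuotientGroup.eq_iff_div_mem.2 ?_).symm
    show π₀ (s * x / (x * s)) ∈ ⁅S.map π₀, (⊤ : Subgroup (H ⧸ K))⁆
    rw [show s * x / (x * s) = ⁅s, x⁆ by rw [commutatorElement_def, div_eq_mul_inv]; group,
      map_commutatorElement]
    exact commutator_mem_commutator (mem_map_of_mem π₀ hs) (mem_top _)
  have : IsMulCommutative Z := ⟨⟨fun a b => Subtype.ext (hZc b b.2 a)⟩⟩
  have hZp : IsPGroup p Z := hEp.to_subgroup Z
  let q : H ⧸ L →* G ⧸ pResidual p G :=
    QuotientGroup.lift L ((QuotientGroup.mk' (pResidual p G)).comp H.subtype)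
      fun x hx => (QuotientGroup.eq_one_iff (N := pResidual p G) ((x : G))).2 (hLS hx)
  have hq : ∀ x : H, q (π x) = ((x : G) : G ⧸ pResidual p G) := fun x => rfl
  have hqZ : ∀ e, q e = 1 → e ∈ Z := by
    intro e he
    obtain ⟨x, rfl⟩ := QuotientGroup.mk'_surjective L e
    exact mem_map_of_mem π ((QuotientGroup.eq_one_iff (x : G)).1 he)
  let W : Subgroup ((H ⧸ L) × G) :=
    { carrier := {w | q w.1 = (w.2 : G ⧸ pResidual p G)}
      mul_mem' := fun {a b} (ha : q a.1 = _) (hb : q b.1 = _) =>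
        show q (a.1 * b.1) = _ by rw [map_mul, ha, hb, ← QuotientGroup.mk_mul, Prod.snd_mul]
      one_mem' := show q 1 = _ by rw [map_one, Prod.snd_one, QuotientGroup.mk_one]
      inv_mem' := fun {a} (ha : q a.1 = _) =>
        show q a.1⁻¹ = _ by rw [map_inv, ha, ← QuotientGroup.mk_inv, Prod.snd_inv] }
  let snd : W →* G := (MonoidHom.snd _ _).comp W.subtype
  have hsnd : Function.Surjective snd := by
    intro g
    have hg : g ∈ pResidual p G ⊔ (P : Subgroup G) := pResidual_sup_sylow P ▸ mem_top g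
    rw [← SetLike.mem_coe, normal_mul] at hg
    obtain ⟨r, hr, x, hx, rfl⟩ := hg
    refine ⟨⟨(π ⟨x, hP hx⟩, r * x), ?_⟩, rfl⟩
    show q (π ⟨x, hP hx⟩) = _
    rw [hq, QuotientGroup.mk_mul, (QuotientGroup.eq_one_iff r).2 hr, one_mul]
  let X : Subgroup W := H.comap snd
  have hXi : X.index.Coprime p := by
    rw [index_comap_of_surjective _ hsnd]
    exact Nat.Coprime.coprime_dvd_left (Subgroup.index_dvd_of_le hP) (coprime_of_not_dvd P.not_dvd_index)
  let σ : X →* H ⧸ L := π.comp ((snd.comp X.subtype).codRestrict H fun w => w.2)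
  let fst : X →* H ⧸ L := (MonoidHom.fst _ _).comp (W.subtype.comp X.subtype)
  have hfZ : ∀ w : X, (σ w)⁻¹ * fst w ∈ Z := by
    intro w
    refine hqZ _ ?_
    rw [map_mul, map_inv, show q (fst w) = _ from (w : W).2, inv_mul_eq_one]
    rfl
  open scoped IsMulCommutative in
  let f : X →* Z :=
    { toFun := fun w => ⟨(σ w)⁻¹ * fst w, hfZ w⟩
      map_one' := Subtype.ext (show (σ 1)⁻¹ * fst 1 = 1 by
        rw [map_one, map_one, inv_one, one_mul])
      map_mul' := fun a b => Subtype.ext (show (σ (a * b))⁻¹ * fst (a * b) =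
          (σ a)⁻¹ * fst a * ((σ b)⁻¹ * fst b) by
        rw [map_mul, map_mul, mul_inv_rev,
          show (σ b)⁻¹ * (σ a)⁻¹ * (fst a * fst b) = (σ b)⁻¹ * ((σ a)⁻¹ * fst a) * fst b by
            group,
          hZc _ (hfZ a) (σ b)⁻¹, mul_assoc]) }
  open scoped IsMulCommutative in
  let τ : W →* Z := MonoidHom.transfer f
  have hτR : ∀ (r : G) (hr : r ∈ pResidual p G) (h1 : ((1, r) : _ × G) ∈ W),
      τ ⟨(1, r), h1⟩ = 1 := by
    intro r hr h1
    let ι : pResidual p G →* W :=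
      { toFun := fun r => ⟨(1, (r : G)),
          show q 1 = _ by rw [map_one]; exact ((QuotientGroup.eq_one_iff (r : G)).2 r.2).symm⟩
        map_one' := rfl
        map_mul' := fun a b => Subtype.ext (Prod.ext (one_mul 1).symm rfl) }
    exact hom_pResidual_eq_one hZp (τ.comp ι) ⟨r, hr⟩
  have hτZ : ∀ (z : Z) (hz : (((z : H ⧸ L), 1) : _ × G) ∈ W),
      τ ⟨(z, 1), hz⟩ = z ^ X.index := by
    intro z hz
    open scoped IsMulCommutative in
    have hzX : (⟨(z, 1), hz⟩ : W) ∈ X := one_mem H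
    have hcent : ∀ w : W, w * ⟨(z, 1), hz⟩ = ⟨(z, 1), hz⟩ * w := fun w =>
      Subtype.ext (Prod.ext (hZc z z.2 w.1.1) (by simp))
    have key : ∀ (k : ℕ) (g₀ : W), g₀⁻¹ * (⟨(z, 1), hz⟩ : W) ^ k * g₀ ∈ X →
        g₀⁻¹ * (⟨(z, 1), hz⟩ : W) ^ k * g₀ = (⟨(z, 1), hz⟩ : W) ^ k := fun k g₀ _ => by
      rw [mul_assoc, ← (Commute.pow_right (hcent g₀) k).eq, inv_mul_cancel_left]
    open scoped IsMulCommutative in
    have h2 : τ ⟨(z, 1), hz⟩ = f ⟨_, _⟩ := MonoidHom.transfer_eq_pow f _ key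
    rw [h2, show (⟨(⟨(z, 1), hz⟩ : W) ^ X.index, _⟩ : X) = ⟨_, hzX⟩ ^ X.index from Subtype.ext rfl,
      map_pow]
    refine congrArg (· ^ X.index) (Subtype.ext ?_)
    show (σ ⟨_, hzX⟩)⁻¹ * (z : H ⧸ L) = z
    rw [show σ ⟨_, hzX⟩ = 1 from map_one π, inv_one, one_mul]
  let B : Subgroup (H ⧸ L) := (τ.ker).map ((MonoidHom.fst _ _).comp W.subtype)
  have hB : B ⊔ Z = ⊤ := by
    rw [eq_top_iff]
    intro e _
    obtain ⟨x, rfl⟩ := QuotientGroup.mk'_surjective L e
    have hw : ((π x, (x : G)) : _ × G) ∈ W := hq x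
    obtain ⟨z, hz⟩ := (hZp.powEquiv hXi.symm).surjective (τ ⟨_, hw⟩)
    have hzW : (((z : H ⧸ L), 1) : _ × G) ∈ W := by
      obtain ⟨s, hs, hse⟩ := z.2
      show q z = _
      rw [← hse, hq, QuotientGroup.mk_one]
      exact (QuotientGroup.eq_one_iff (s : G)).2 hs
    have hker : (⟨_, hw⟩ : W) * ⟨_, hzW⟩⁻¹ ∈ τ.ker := by
      rw [MonoidHom.mem_ker, map_mul, map_inv, hτZ, mul_inv_eq_one]
      exact hz.symm
    have h3 := mul_mem (mem_sup_left (T := Z) (mem_map_of_mem ((MonoidHom.fst _ _).comp W.subtype) hker))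
      (mem_sup_right (S := B) z.2)
    simpa [π] using h3
  have hZΦ : Z ≤ frattini (H ⧸ L) := by
    rw [frattini, Order.radical]
    refine le_iInf₂ fun M hM => ?_
    haveI : M.Normal := CfsgLib.PGroup.normal_of_isCoatom hEp hM
    have hidx : Nat.card ((H ⧸ L) ⧸ M) = p := CfsgLib.PGroup.index_of_isCoatom hEp hM
    haveI : IsCyclic ((H ⧸ L) ⧸ M) := isCyclic_of_prime_card hidx
    letI : CommGroup ((H ⧸ L) ⧸ M) := IsCyclic.commGroup
    rintro _ ⟨s, hs, rfl⟩
    have := h ((H ⧸ L) ⧸ M) (fun a => hidx ▸ pow_card_eq_one') ((QuotientGroup.mk' M).comp π) s hs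
    exact (QuotientGroup.eq_one_iff _).1 this
  have hBtop : B = ⊤ :=
    frattini_nongenerating (top_le_iff.1 (hB ▸ sup_le_sup_left hZΦ B))
  apply hnot
  intro s hs
  obtain ⟨⟨⟨e, r⟩, hw⟩, hker, he⟩ := hBtop ▸ mem_top (π s)
  replace he : e = π s := he
  subst he
  have hr : r ∈ pResidual p G := by
    rw [← QuotientGroup.eq_one_iff, ← show q (π s) = (r : G ⧸ pResidual p G) from hw, hq,
      QuotientGroup.eq_one_iff]
    exact hs
  have hzW : ((π s, 1) : _ × G) ∈ W := by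
    show q (π s) = _
    rw [hq, QuotientGroup.mk_one, QuotientGroup.eq_one_iff]; exact hs
  have hrW : ((1, r) : _ × G) ∈ W := by
    show q 1 = _
    rw [map_one, eq_comm, QuotientGroup.eq_one_iff]; exact hr
  rw [SetLike.mem_coe, MonoidHom.mem_ker,
    show (⟨(π s, r), hw⟩ : W) = ⟨_, hzW⟩ * ⟨_, hrW⟩ from
      Subtype.ext (Prod.ext (mul_one _).symm (one_mul r).symm),
    map_mul, hτR r hr, mul_one, hτZ ⟨π s, mem_map_of_mem π hs⟩] at hker
  have : (⟨π s, mem_map_of_mem π hs⟩ : Z) = 1 :=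
    (hZp.powEquiv hXi.symm).injective (show (⟨π s, mem_map_of_mem π hs⟩ : Z) ^ X.index = 1 ^ X.index by
      rw [hker, one_pow])
  exact (QuotientGroup.eq_one_iff s).1 (congrArg Subtype.val this)

omit [Finite G] in
/-- The product of `p` conjugates is an iterated commutator modulo `p`. -/
theorem prod_conj_eq_iter {A : Type*} [CommGroup A] (hA : ∀ a : A, a ^ p = 1) {M : Subgroup G} (φ : M →* A)
    (w z : G) (hz : ∀ x ∈ M, z⁻¹ * x * z ∈ M) (hw : w ∈ M)
    (hiter : (fun y : G => y⁻¹ * z⁻¹ * y * z)^[p - 1] w = 1)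
    (Φ : G → A) (hΦ : ∀ x (hx : x ∈ M), Φ x = φ ⟨x, hx⟩) :
    ∏ i ∈ Finset.range p, Φ ((z ^ i)⁻¹ * w * z ^ i) = 1 := by
  set f := fun y : G => y⁻¹ * z⁻¹ * y * z with hf
  have hzn : ∀ (i : ℕ), ∀ x ∈ M, (z ^ i)⁻¹ * x * z ^ i ∈ M := by
    intro i
    induction i with
    | zero => intro x hx; simpa using hx
    | succ i ih =>
      intro x hx
      have := hz _ (ih x hx)
      rwa [show (z ^ (i + 1))⁻¹ * x * z ^ (i + 1) = z⁻¹ * ((z ^ i)⁻¹ * x * z ^ i) * z by rw [pow_succ]; group]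
  have hfM : ∀ k, f^[k] w ∈ M := by
    intro k
    induction k with
    | zero => exact hw
    | succ k ih =>
      rw [Function.iterate_succ_apply']
      show (f^[k] w)⁻¹ * z⁻¹ * f^[k] w * z ∈ M
      rw [mul_assoc (f^[k] w)⁻¹ z⁻¹, mul_assoc (f^[k] w)⁻¹]
      exact mul_mem (inv_mem ih) (hz _ ih)
  let h : ℕ → ℕ → Additive A := fun k i => Additive.ofMul (Φ ((z ^ i)⁻¹ * f^[k] w * z ^ i))
  have hΦmul : ∀ x y, x ∈ M → y ∈ M → Φ (x * y) = Φ x * Φ y := fun x y hx hy => by
    rw [hΦ x hx, hΦ y hy, hΦ _ (mul_mem hx hy), ← map_mul]; rfl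
  have hΦinv : ∀ x, x ∈ M → Φ x⁻¹ = (Φ x)⁻¹ := fun x hx => by
    rw [hΦ x hx, hΦ _ (inv_mem hx), ← map_inv]; rfl
  have hΔ : ∀ k, h (k + 1) = Δ_[1] (h k) := by
    intro k
    funext i
    show Additive.ofMul (Φ ((z ^ i)⁻¹ * f^[k + 1] w * z ^ i)) = h k (i + 1) - h k i
    have hm := hzn i _ (hfM k)
    have hm' := hzn (i + 1) _ (hfM k)
    rw [Function.iterate_succ_apply', show (z ^ i)⁻¹ * f (f^[k] w) * z ^ i =
      ((z ^ i)⁻¹ * f^[k] w * z ^ i)⁻¹ * ((z ^ (i + 1))⁻¹ * f^[k] w * z ^ (i + 1)) by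
        rw [hf, pow_succ]; group, hΦmul _ _ (inv_mem hm) hm', hΦinv _ hm, mul_comm]
    exact congrArg Additive.ofMul (div_eq_mul_inv _ _).symm
  have hiterΔ : ∀ k, h k = (Δ_[1])^[k] (h 0) := by
    intro k
    induction k with
    | zero => rfl
    | succ k ih => rw [Function.iterate_succ_apply', ← ih, hΔ]
  have h0 : h (p - 1) 0 = 0 := by
    show Additive.ofMul (Φ ((z ^ 0)⁻¹ * f^[p - 1] w * z ^ 0)) = 0
    rw [hiter, pow_zero, inv_one, one_mul, mul_one, hΦ 1 (one_mem M)]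
    exact congrArg Additive.ofMul (map_one φ)
  rw [hiterΔ, fwdDiff_iter_eq_sum_shift, show p - 1 + 1 = p by have := hp.out.pos; omega] at h0
  have hcoef : ∀ k ∈ Finset.range p, ((-1 : ℤ) ^ (p - 1 - k) * (p - 1).choose k) • h 0 (0 + k • 1) = h 0 k := by
    intro k hk
    rw [Finset.mem_range] at hk
    rw [zero_add, smul_eq_mul, mul_one]
    have e : (((-1 : ℤ) ^ (p - 1 - k) * ((p - 1).choose k : ℤ) - 1 : ℤ) : ZMod p) = 0 := by
      push_cast
      rw [← Nat.choose_symm (show k ≤ p - 1 by omega),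
        CfsgLib.Techniques.GoodTransfer.choose_pred_mul_neg_one_pow (p - 1 - k) (by omega), sub_self]
    obtain ⟨c, hc⟩ := (ZMod.intCast_zmod_eq_zero_iff_dvd _ _).1 e
    rw [show (-1 : ℤ) ^ (p - 1 - k) * ((p - 1).choose k : ℤ) = 1 + c * p by linarith, add_smul, one_smul,
      mul_smul, natCast_zsmul]
    have : p • h 0 k = 0 := congrArg Additive.ofMul (hA _)
    rw [this, smul_zero, add_zero]
  rw [Finset.sum_congr rfl hcoef] at h0
  exact congrArg Additive.toMul h0

/-- Hall and Wielandt, homomorphism form. -/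
theorem hom_eq_one_of_engel (P : Sylow p G) {Q : Subgroup G} (hQ : IsWeaklyClosed Q (P : Subgroup G))
    (hz : ∀ u ∈ (P : Subgroup G), ∀ z ∈ Q, (fun y : G => y⁻¹ * z⁻¹ * y * z)^[p - 1] u = 1)
    {A : Type*} [CommGroup A] (hA : ∀ a : A, a ^ p = 1) :
    ∀ χ : normalizer (Q : Set G) →* A,
    ∀ u, ∀ hu : u ∈ normalizer (Q : Set G), u ∈ (P : Subgroup G) → u ∈ pResidual p G → χ ⟨u, hu⟩ = 1 := by
  classical
  set H := normalizer (Q : Set G) with hH
  intros χ
  have hPH : (P : Subgroup G) ≤ H := by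
    intro g hg
    refine mem_normalizer_fintype fun x hx => ?_
    have hle : Q.map (MulAut.conj g).toMonoidHom ≤ (P : Subgroup G) := by
      rintro _ ⟨y, hy, rfl⟩
      exact mul_mem (mul_mem hg (hQ.1 hy)) (inv_mem hg)
    show g * x * g⁻¹ ∈ Q
    rw [← hQ.2 g hle]
    exact ⟨x, hx, rfl⟩
  have hQH : Q ≤ H := Subgroup.le_normalizer
  have hfix : ∀ t : G, (∀ q ∈ Q, t⁻¹ * q * t ∈ H) → t ∈ H := by
    intro t ht
    set S := Q.map (MulAut.conj t⁻¹).toMonoidHom
    have hSH : S ≤ H := by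
      rintro _ ⟨q, hq, rfl⟩
      simpa using ht q hq
    obtain ⟨h, hh, hconj⟩ := exists_conj_mem_sylow_of_le P hPH hSH ((P.2.to_le hQ.1).map _)
    have hle : Q.map (MulAut.conj (h * t⁻¹)).toMonoidHom ≤ (P : Subgroup G) := by
      rintro _ ⟨q, hq, rfl⟩
      have := hconj _ ⟨q, hq, rfl⟩
      simpa [mul_assoc] using this
    have hn : h * t⁻¹ ∈ H := by
      refine mem_normalizer_fintype fun x hx => ?_
      show h * t⁻¹ * x * (h * t⁻¹)⁻¹ ∈ Q
      rw [← hQ.2 _ hle]
      exact ⟨x, hx, rfl⟩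
    have := inv_mem (mul_mem (inv_mem hh) hn)
    rwa [inv_mul_cancel_left, inv_inv] at this
  let Φ : G → A := fun x => if hx : x ∈ H then χ ⟨x, hx⟩ else 1
  have hΦ : ∀ x (hx : x ∈ H), Φ x = χ ⟨x, hx⟩ := fun x hx => dif_pos hx
  have hΦmul : ∀ x y, x ∈ H → y ∈ H → Φ (x * y) = Φ x * Φ y := fun x y hx hy => by
    rw [hΦ x hx, hΦ y hy, hΦ _ (mul_mem hx hy), ← map_mul]; rfl
  have hΦone : Φ 1 = 1 := (hΦ 1 (one_mem H)).trans (map_one χ)
  have hΦconj : ∀ h ∈ H, ∀ y ∈ H, Φ (h * y * h⁻¹) = Φ y := fun h hh y hy => by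
    rw [hΦmul _ _ (mul_mem hh hy) (inv_mem hh), hΦmul _ _ hh hy, mul_comm (Φ h), mul_assoc,
      ← hΦmul _ _ hh (inv_mem hh), mul_inv_cancel, hΦone, mul_one]
  -- the cocycle
  let c : G → G ⧸ H → A := fun x q => Φ ((x • q).out⁻¹ * x * q.out)
  have hmemc : ∀ (x : G) (q : G ⧸ H), (x • q).out⁻¹ * x * q.out ∈ H := by
    intro x q
    rw [mul_assoc, ← QuotientGroup.eq, QuotientGroup.out_eq']
    conv_lhs => rw [← QuotientGroup.out_eq' q]
    rfl
  have hcmul : ∀ x y q, c (x * y) q = c x (y • q) * c y q := by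
    intro x y q
    show Φ _ = Φ _ * Φ _
    rw [← hΦmul _ _ (hmemc x _) (hmemc y q), mul_smul]
    congr 1
    group
  letI := Fintype.ofFinite (G ⧸ H)
  let V : G →* A := MonoidHom.mk' (fun x => ∏ q, c x q) fun x y => by
    simp only [hcmul, Finset.prod_mul_distrib]
    congr 1
    exact Equiv.prod_comp (MulAction.toPerm y) (fun q => c x q)
  have hAp : IsPGroup p A := fun a => ⟨1, by rw [pow_one]; exact hA a⟩
  suffices key : ∀ (n : ℕ) (u : G) (hu : u ∈ H), orderOf u = n → u ∈ (P : Subgroup G) → u ∈ pResidual p G →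
      Φ u = 1 from fun u hu huP huR => (hΦ u hu).symm.trans (key _ u hu rfl huP huR)
  intro n
  induction n using Nat.strong_induction_on with
  | _ n ih =>
  intro u huH hn huP huR
  -- invariant sets without fixed points
  have hfree : ∀ F : Finset (G ⧸ H), (∀ q ∈ F, u • q ∈ F) → (∀ q ∈ F, u • q ≠ q) → ∏ q ∈ F, c u q = 1 := by
    intro F
    induction F using Finset.strongInduction with
    | _ F ihF =>
    intro hinv hne
    rcases F.eq_empty_or_nonempty with rfl | ⟨q, hq⟩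
    · exact Finset.prod_empty
    have hpowF : ∀ i : ℕ, (u ^ i) • q ∈ F := by
      intro i
      induction i with
      | zero => rwa [pow_zero, one_smul]
      | succ i ihi => rw [pow_succ', mul_smul]; exact hinv _ ihi
    set l := MulAction.period u q with hl
    have hlpos : 0 < l := MulAction.period_pos_of_orderOf_pos (orderOf_pos u) q
    have hl1 : l ≠ 1 := fun e => hne q hq (by
      have := MulAction.pow_period_smul u q
      rwa [← hl, e, pow_one] at this)
    set C : Finset (G ⧸ H) := (Finset.range l).image fun i => (u ^ i) • q with hC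
    have hCF : C ⊆ F := Finset.image_subset_iff.2 fun i _ => hpowF i
    have hinj : Set.InjOn (fun i : ℕ => (u ^ i) • q) ↑(Finset.range l) := by
      intro i hi j hj h
      rw [Finset.coe_range, Set.mem_Iio] at hi hj
      simp only at h
      rw [← MulAction.pow_mod_period_smul i, ← MulAction.pow_mod_period_smul j, Nat.mod_eq_of_lt hi,
        Nat.mod_eq_of_lt hj] at h
      rcases le_total i j with hle | hle
      · obtain ⟨d, rfl⟩ := Nat.exists_eq_add_of_le hle
        rw [pow_add, mul_smul] at h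
        have := MulAction.pow_smul_eq_iff_period_dvd.1 (smul_left_cancel _ h).symm
        rw [← hl] at this
        have := Nat.eq_zero_of_dvd_of_lt this (by omega)
        omega
      · obtain ⟨d, rfl⟩ := Nat.exists_eq_add_of_le hle
        rw [pow_add, mul_smul] at h
        have := MulAction.pow_smul_eq_iff_period_dvd.1 (smul_left_cancel _ h)
        rw [← hl] at this
        have := Nat.eq_zero_of_dvd_of_lt this (by omega)
        omega
    have hCprod : ∏ x ∈ C, c u x = c (u ^ l) q := by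
      rw [hC, Finset.prod_image hinj]
      clear_value l
      clear hl hlpos hl1 hC hCF hinj C
      induction l with
      | zero => rw [Finset.prod_range_zero, pow_zero]; show 1 = Φ _; rw [one_smul, mul_one, inv_mul_cancel, hΦone]
      | succ m ihm => rw [Finset.prod_range_succ, ihm, pow_succ', hcmul, mul_comm]
    have hval : c (u ^ l) q = 1 := by
      set v := (u ^ l • q).out⁻¹ * u ^ l * q.out with hv
      have hql : u ^ l • q = q := by rw [hl]; exact MulAction.pow_period_smul u q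
      have hvH : v ∈ H := hmemc _ q
      have hvconj : v = q.out⁻¹ * u ^ l * q.out := by rw [hv, hql]
      obtain ⟨a, ha⟩ := P.2 ⟨u, huP⟩
      have ha' : u ^ p ^ a = 1 := congrArg Subtype.val ha
      have hvp : v ^ p ^ a = 1 := by
        rw [hvconj, show q.out⁻¹ * u ^ l * q.out = q.out⁻¹ * u ^ l * (q.out⁻¹)⁻¹ by group, conj_pow,
          ← pow_mul, mul_comm, pow_mul, ha', one_pow, mul_one, mul_inv_cancel]
      obtain ⟨h, hh, hhP⟩ := exists_conj_mem_of_mem P hPH hvH hvp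
      have hlt : orderOf (h * v * h⁻¹) < n := by
        have e : orderOf (h * v * h⁻¹) = orderOf (u ^ l) := by
          rw [hvconj]
          exact (SemiconjBy.orderOf_eq _ (show SemiconjBy (h * q.out⁻¹) (u ^ l) _ by
            unfold SemiconjBy; group)).symm
        rw [e, orderOf_pow, hn]
        obtain ⟨k, hk, hkl⟩ := (Nat.dvd_prime_pow hp.out).1 (MulAction.period_dvd_orderOf u q |>.trans
          (orderOf_dvd_of_pow_eq_one ha'))
        have hpl : p ∣ l := by
          rw [hl, hkl]; exact dvd_pow_self p fun e => hl1 (by rw [hl, hkl, e, pow_zero])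
        have hg : 1 < n.gcd l := by
          rw [← hn, Nat.gcd_eq_right (MulAction.period_dvd_orderOf u q)]
          omega
        exact Nat.div_lt_self (hn ▸ orderOf_pos u) hg
      have := ih _ hlt (h * v * h⁻¹) (hPH hhP) rfl hhP
        (pResidual_normal_inst.conj_mem _ (hvconj ▸ (by
          simpa using pResidual_normal_inst.conj_mem _ (pow_mem huR l) q.out⁻¹)) h)
      rw [hΦconj h hh v hvH] at this
      exact this
    rw [← Finset.prod_sdiff hCF, hCprod, hval, mul_one]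
    refine ihF (F \ C) (Finset.sdiff_ssubset hCF ⟨q, Finset.mem_image.2 ⟨0, Finset.mem_range.2 hlpos, by simp⟩⟩)
      (fun x hx => ?_) (fun x hx => hne x (Finset.mem_sdiff.1 hx).1)
    rw [Finset.mem_sdiff] at hx ⊢
    refine ⟨hinv x hx.1, fun hxC => hx.2 ?_⟩
    obtain ⟨i, -, hi⟩ := Finset.mem_image.1 hxC
    refine Finset.mem_image.2 ⟨(i + (l - 1)) % l, Finset.mem_range.2 (Nat.mod_lt _ hlpos), ?_⟩
    rw [hl, MulAction.pow_mod_period_smul]
    refine smul_left_cancel u ?_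
    rw [← mul_smul, ← pow_succ', add_assoc, Nat.sub_add_cancel (by rw [← hl]; omega), pow_add, mul_smul,
      MulAction.pow_period_smul]
    exact hi
  -- the orbits of `⟨Q, u⟩`
  set N := Q ⊔ Subgroup.zpowers u with hN
  have hNP : N ≤ (P : Subgroup G) := sup_le hQ.1 (zpowers_le.2 huP)
  have hNp : IsPGroup p N := P.2.to_le hNP
  set q₀ : G ⧸ H := ((1 : G) : G ⧸ H) with hq₀
  have hstab₀ : ∀ x ∈ H, x • q₀ = q₀ := by
    intro x hx
    show (((x * 1 : G)) : G ⧸ H) = _
    rw [hq₀, mul_one, QuotientGroup.eq, mul_one]; exact inv_mem hx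
  have hV : V u = c u q₀ := by
    show ∏ q, c u q = c u q₀
    rw [← Finset.mul_prod_erase _ _ (Finset.mem_univ q₀)]
    refine (mul_eq_left).2 ?_
    rw [Finset.prod_partition (MulAction.orbitRel ↥N (G ⧸ H))]
    refine Finset.prod_eq_one fun O hO => ?_
    obtain ⟨q, hq, rfl⟩ := Finset.mem_image.1 hO
    have hqne := (Finset.mem_erase.1 hq).1
    set F := (Finset.univ.erase q₀).filter (fun y => (Quotient.mk (MulAction.orbitRel ↥N (G ⧸ H)) y) =
      Quotient.mk (MulAction.orbitRel ↥N (G ⧸ H)) q) with hF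
    have hFmem : ∀ y, y ∈ F ↔ ∃ m ∈ N, m • q = y := by
      intro y
      rw [hF, Finset.mem_filter, Finset.mem_erase, Quotient.eq, MulAction.orbitRel_apply, MulAction.mem_orbit_iff]
      constructor
      · rintro ⟨-, m, rfl⟩; exact ⟨m, m.2, rfl⟩
      · rintro ⟨m, hm, rfl⟩
        refine ⟨⟨fun e => hqne ?_, Finset.mem_univ _⟩, ⟨m, hm⟩, rfl⟩
        rw [← inv_smul_eq_iff.2 e.symm, hstab₀ _ (hPH (inv_mem (hNP hm)))]
    have hR : (MulAction.stabilizer G q).subgroupOf N ≠ ⊤ := by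
      intro e
      refine hqne ?_
      obtain ⟨t, rfl⟩ := QuotientGroup.mk_surjective q
      refine QuotientGroup.eq.2 ?_
      rw [mul_one]
      refine inv_mem (hfix t fun x hx => ?_)
      have hxs : (⟨x, mem_sup_left hx⟩ : N) ∈ (MulAction.stabilizer G (t : G ⧸ H)).subgroupOf N := e ▸ mem_top _
      have h1 : ((x * t : G) : G ⧸ H) = (t : G ⧸ H) := hxs
      rw [eq_comm, QuotientGroup.eq, ← mul_assoc] at h1
      exact h1
    haveI : Finite N := inferInstance
    obtain ⟨M, hM, hRM⟩ := (eq_top_or_exists_le_coatom _).resolve_left hR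
    haveI hMn : M.Normal := CfsgLib.PGroup.normal_of_isCoatom hNp hM
    have hMidx : M.index = p := CfsgLib.PGroup.index_of_isCoatom hNp hM
    have hfixM : ∀ m : N, (m : G) • q = q → m ∈ M := fun m hm => hRM hm
    have huN : u ∈ N := mem_sup_right (mem_zpowers u)
    by_cases huM : (⟨u, huN⟩ : N) ∈ M
    swap
    · -- `u` has no fixed point
      refine hfree F (fun y hy => ?_) (fun y hy e => huM ?_)
      · obtain ⟨m, hm, rfl⟩ := (hFmem y).1 hy
        exact (hFmem _).2 ⟨u * m, mul_mem huN hm, mul_smul u m q⟩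
      · obtain ⟨m, hm, rfl⟩ := (hFmem y).1 hy
        have h1 := hfixM ⟨m⁻¹ * u * m, mul_mem (mul_mem (inv_mem hm) huN) hm⟩ (by
          show (m⁻¹ * u * m) • q = q
          rw [mul_smul, mul_smul, e, inv_smul_smul])
        have h2 := hMn.conj_mem _ h1 ⟨m, hm⟩
        convert h2 using 1
        refine Subtype.ext ?_
        show u = m * (m⁻¹ * u * m) * m⁻¹
        group
    -- some element of `Q` lies outside `M`
    obtain ⟨z, hzQ, hzM⟩ : ∃ z, ∃ hz : z ∈ Q, (⟨z, mem_sup_left hz⟩ : N) ∉ M := by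
      by_contra! hall
      refine hM.1 (eq_top_iff.2 ?_)
      rintro ⟨x, hx⟩ -
      have hle : N ≤ M.map N.subtype :=
        sup_le (fun y hy => ⟨_, hall y hy, rfl⟩) (zpowers_le.2 ⟨_, huM, rfl⟩)
      obtain ⟨y, hy, hyx⟩ := hle hx
      exact (Subtype.ext hyx : y = ⟨x, hx⟩) ▸ hy
    have hzN : z ∈ N := mem_sup_left hzQ
    let zN : N := ⟨z, hzN⟩
    -- cosets of `M`
    have hcos : ∀ m : N, ∃ i < p, (zN ^ i)⁻¹ * m ∈ M := by
      intro m
      have hc : Nat.card (N ⧸ M) = p := hMidx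
      have hne1 : (zN : N ⧸ M) ≠ 1 := fun e => hzM ((QuotientGroup.eq_one_iff _).1 e)
      have hord : orderOf (zN : N ⧸ M) = p := orderOf_eq_prime (hc ▸ pow_card_eq_one') hne1
      have hmem : (m : N ⧸ M) ∈ Subgroup.zpowers (zN : N ⧸ M) := mem_zpowers_of_prime_card hc hne1
      obtain ⟨i, hi, him⟩ := Finset.mem_image.1 (mem_zpowers_iff_mem_range_orderOf.1 hmem)
      refine ⟨i, hord ▸ Finset.mem_range.1 hi, ?_⟩
      rw [← QuotientGroup.eq_one_iff, QuotientGroup.mk_mul, QuotientGroup.mk_inv, QuotientGroup.mk_pow,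
        show (zN : N ⧸ M) ^ i = (m : N ⧸ M) from him, inv_mul_cancel]
    have huniq : ∀ i j : ℕ, i < p → j < p → (zN ^ i)⁻¹ * zN ^ j ∈ M → i = j := by
      intro i j hi hj h
      have hc : Nat.card (N ⧸ M) = p := hMidx
      have hne1 : (zN : N ⧸ M) ≠ 1 := fun e => hzM ((QuotientGroup.eq_one_iff _).1 e)
      have hord : orderOf (zN : N ⧸ M) = p := orderOf_eq_prime (hc ▸ pow_card_eq_one') hne1
      have h2 := QuotientGroup.eq.2 h
      rw [QuotientGroup.mk_pow, QuotientGroup.mk_pow, pow_eq_pow_iff_modEq, hord] at h2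
      exact Nat.ModEq.eq_of_lt_of_lt h2 hi hj
    set B : Finset (G ⧸ H) := Finset.univ.filter (fun y => ∃ m : N, m ∈ M ∧ (m : G) • q = y) with hB
    have hBmem : ∀ y, y ∈ B ↔ ∃ m : N, m ∈ M ∧ (m : G) • q = y := fun y => by simp [hB]
    have hset : F = (Finset.range p ×ˢ B).image (fun iy => (z ^ iy.1) • iy.2) := by
      ext y
      rw [hFmem, Finset.mem_image]
      constructor
      · rintro ⟨m, hm, rfl⟩
        obtain ⟨i, hi, hmi⟩ := hcos ⟨m, hm⟩
        refine ⟨(i, (((zN ^ i)⁻¹ * ⟨m, hm⟩ : N) : G) • q), Finset.mem_product.2 ⟨Finset.mem_range.2 hi,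
          (hBmem _).2 ⟨_, hmi, rfl⟩⟩, ?_⟩
        rw [← mul_smul]
        congr 1
        show z ^ i * ((z ^ i)⁻¹ * m) = m
        rw [mul_inv_cancel_left]
      · rintro ⟨⟨i, y'⟩, hiy, rfl⟩
        obtain ⟨m, -, rfl⟩ := (hBmem y').1 (Finset.mem_product.1 hiy).2
        exact ⟨z ^ i * (m : G), mul_mem (pow_mem hzN i) m.2, mul_smul _ _ _⟩
    have hinjB : Set.InjOn (fun iy : ℕ × (G ⧸ H) => (z ^ iy.1) • iy.2) ↑(Finset.range p ×ˢ B) := by
      rintro ⟨i, y⟩ hiy ⟨j, y'⟩ hjy h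
      rw [Finset.mem_coe, Finset.mem_product, Finset.mem_range] at hiy hjy
      obtain ⟨m, hm, rfl⟩ := (hBmem y).1 hiy.2
      obtain ⟨m', hm', rfl⟩ := (hBmem y').1 hjy.2
      simp only at h
      have h1 : ((zN ^ j * m')⁻¹ * (zN ^ i * m) : N) ∈ M := hfixM _ (by
        show ((z ^ j * (m' : G))⁻¹ * (z ^ i * (m : G))) • q = q
        rw [mul_smul, mul_smul, h, ← mul_smul (z ^ j), inv_smul_smul])
      have h2 : (zN ^ j)⁻¹ * zN ^ i ∈ M := by
        have := mul_mem (mul_mem hm' h1) (inv_mem hm)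
        rwa [show m' * ((zN ^ j * m')⁻¹ * (zN ^ i * m)) * m⁻¹ = (zN ^ j)⁻¹ * zN ^ i by group] at this
      have hij := huniq j i hjy.1 hiy.1 h2
      subst hij
      simp only [smul_left_cancel_iff] at h
      rw [h]
    rw [hset, Finset.prod_image hinjB, Finset.prod_product]
    -- the transfer to `B`
    have hBperm : ∀ m : N, m ∈ M → ∀ y ∈ B, (m : G) • y ∈ B := by
      intro m hm y hy
      obtain ⟨m', hm', rfl⟩ := (hBmem y).1 hy
      exact (hBmem _).2 ⟨m * m', mul_mem hm hm', mul_smul _ _ _⟩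
    have hBsum : ∀ (m : N), m ∈ M → ∀ F : G ⧸ H → A, ∏ y ∈ B, F ((m : G) • y) = ∏ y ∈ B, F y := by
      intro m hm F
      exact Finset.prod_bij' (fun y _ => (m : G) • y) (fun y _ => ((m⁻¹ : N) : G) • y)
        (fun y hy => hBperm m hm y hy) (fun y hy => hBperm _ (inv_mem hm) y hy)
        (fun y _ => by rw [Subgroup.coe_inv, inv_smul_smul]) (fun y _ => by rw [Subgroup.coe_inv, smul_inv_smul])
        (fun y _ => rfl)
    let M' : Subgroup G := M.map N.subtype
    let φ : M' →* A := MonoidHom.mk' (fun x => ∏ y ∈ B, c x y) fun x x' => by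
      obtain ⟨m', hm', hx'⟩ := x'.2
      simp only [Subgroup.coe_mul, hcmul, Finset.prod_mul_distrib]
      congr 1
      rw [← show (m' : G) = (x' : G) from hx']
      exact hBsum m' hm' _
    let Ψ : G → A := fun x => ∏ y ∈ B, c x y
    have hzM' : ∀ x ∈ M', z⁻¹ * x * z ∈ M' := by
      rintro _ ⟨m, hm, rfl⟩
      refine ⟨zN⁻¹ * m * zN, ?_, rfl⟩
      simpa using hMn.conj_mem m hm zN⁻¹
    have huM' : u ∈ M' := ⟨_, huM, rfl⟩
    refine Eq.trans ?_ (prod_conj_eq_iter hA φ u z hzM' huM' (hz u huP z hzQ) Ψ fun x _ => rfl)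
    refine Finset.prod_congr rfl fun i _ => ?_
    show ∏ y ∈ B, c u (z ^ i • y) = ∏ y ∈ B, c ((z ^ i)⁻¹ * u * z ^ i) y
    set u' := (z ^ i)⁻¹ * u * z ^ i with hu'
    have hu'M : ((zN ^ i)⁻¹ * ⟨u, huN⟩ * zN ^ i : N) ∈ M := by
      simpa using hMn.conj_mem _ huM (zN ^ i)⁻¹
    have e : ∀ y, c u (z ^ i • y) * c (z ^ i) y = c (z ^ i) (u' • y) * c u' y := by
      intro y
      rw [← hcmul, ← hcmul, hu', mul_assoc (z ^ i)⁻¹, mul_inv_cancel_left]
    have e2 := Finset.prod_congr rfl (s₁ := B) fun y (_ : y ∈ B) => e y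
    rw [Finset.prod_mul_distrib, Finset.prod_mul_distrib,
      show ∏ y ∈ B, c (z ^ i) (u' • y) = ∏ y ∈ B, c (z ^ i) y from hBsum _ hu'M (fun y => c (z ^ i) y),
      mul_comm] at e2
    exact mul_left_cancel e2
  have hq0 : q₀.out ∈ H := by
    have h1 : (q₀.out : G ⧸ H) = ((1 : G) : G ⧸ H) := QuotientGroup.out_eq' q₀
    rw [QuotientGroup.eq, mul_one] at h1
    exact inv_mem_iff.1 h1
  have hcq : c u q₀ = Φ u := by
    show Φ _ = _
    rw [hstab₀ u huH]
    conv_lhs => rw [show q₀.out⁻¹ * u * q₀.out = q₀.out⁻¹ * u * (q₀.out⁻¹)⁻¹ by group]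
    exact hΦconj _ (inv_mem hq0) u huH
  rw [← hcq, ← hV]
  exact MonoidHom.mem_ker.1 (pResidual_le_ker hAp V huR)

/-- Hall and Wielandt. -/
theorem hall_wielandt (P : Sylow p G) {Q : Subgroup G} (hQ : IsWeaklyClosed Q (P : Subgroup G))
    (hz : ∀ u ∈ (P : Subgroup G), ∀ z ∈ Q, (fun y : G => y⁻¹ * z⁻¹ * y * z)^[p - 1] u = 1) :
    pResidualOf p (normalizer (Q : Set G)) = pResidual p G ⊓ normalizer (Q : Set G) := by
  set H := normalizer (Q : Set G) with hH
  have hPH : (P : Subgroup G) ≤ H := by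
    intro g hg
    refine mem_normalizer_fintype fun x hx => ?_
    have hle : Q.map (MulAut.conj g).toMonoidHom ≤ (P : Subgroup G) := by
      rintro _ ⟨y, hy, rfl⟩
      exact mul_mem (mul_mem hg (hQ.1 hy)) (inv_mem hg)
    show g * x * g⁻¹ ∈ Q
    rw [← hQ.2 g hle]
    exact ⟨x, hx, rfl⟩
  refine le_antisymm (le_inf (map_subtype_pResidual_le H) (map_subtype_le _)) fun x hx => ?_
  refine ⟨⟨x, hx.2⟩, subgroupOf_pResidual_le_of_hom P hPH (fun A _ hA χ y hy => ?_) hx.1, rfl⟩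
  have hAp : IsPGroup p A := fun a => ⟨1, by rw [pow_one]; exact hA a⟩
  -- reduce to `p`-elements
  have hker : pResidual p H ≤ χ.ker := pResidual_le_ker hAp χ
  have hmem : y ∈ pResidual p H ⊔ ((P : Subgroup G).subgroupOf H) := by
    have := pResidual_sup_sylow (G := H) (P.subtype hPH)
    rw [Sylow.coe_subtype] at this
    rw [this]; exact mem_top y
  obtain ⟨k, hk, s, hs, rfl⟩ := mem_sup_of_normal_left.1 hmem
  rw [map_mul, MonoidHom.mem_ker.1 (hker hk), one_mul]
  refine hom_eq_one_of_engel P hQ hz hA χ (s : G) s.2 hs ?_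
  have : (k : G) ∈ pResidual p G := map_subtype_pResidual_le H ⟨k, hk, rfl⟩
  have := mul_mem (inv_mem this) hy
  simpa using this

end CfsgLib.Transfer
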