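import Cfsg.Agent.Lib.Transfer.ReducedModel
import Cfsg.Agent.Lib.Transfer.SectionFree
import Cfsg.Agent.Lib.Transfer.FusionS4
import Cfsg.Agent.Lib.Fusion.GroupSystem
import Cfsg.Agent.Lib.LocalEven.QdOver
import Cfsg.Agent.Lib.PStab.QdSection

/-!
The fusion system of a finite group is free of `Qd(p)` exactly when the group is, for `p` odd.
-/

set_option autoImplicit false

open Cfsg Cfsg.FusionSystem
open scoped commutatorElement

namespace CfsgLib.Transfer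

open CfsgLib.Fusion CfsgLib.LocalEven

universe u

variable {p : ℕ} [hp : Fact p.Prime]

set_option quotPrecheck false in
local notation "QQ" => ↥(Cfsg.qdOver (ZMod p))

/-- A section `Qd(p)` survives the quotient by a normal subgroup of order prime to `p`. -/
theorem involves_quotient_of_coprime {G : Type*} [Group G] [Finite G] {K : Subgroup G} [K.Normal]
    (hK : (Nat.card K).Coprime p) (h : Involves ↥(Cfsg.qd p) G) : Involves ↥(Cfsg.qd p) (G ⧸ K) := by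
  obtain ⟨X, f, hf⟩ := CfsgLib.LocalEven.Offender.exists_hom_of_involves h
  let φ : X →* QQ := f
  have hφ : Function.Surjective φ := hf
  set K' := K.subgroupOf X with hK'
  have hker : ∀ x : X, x ∈ K' → φ x = 1 := by
    intro x hx
    have hco : (orderOf (φ x)).Coprime p := by
      refine Nat.Coprime.coprime_dvd_left (orderOf_map_dvd φ x) ?_
      rw [← Subgroup.orderOf_coe]
      exact hK.coprime_dvd_left (Subgroup.orderOf_dvd_natCard _ hx)
    have hfix : ∀ t ∈ (QdOver.trans : Subgroup QQ), φ x * t = t * φ x := by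
      intro t ht
      obtain ⟨y, rfl⟩ := hφ t
      have h1 : x * y * x⁻¹ * y⁻¹ ∈ K' := by
        rw [show x * y * x⁻¹ * y⁻¹ = x * (y * x⁻¹ * y⁻¹) by group]
        exact mul_mem hx ((inferInstance : K'.Normal).conj_mem _ (inv_mem hx) y)
      have h2 : φ (x * y * x⁻¹ * y⁻¹) ∈ (QdOver.trans : Subgroup QQ) := by
        rw [map_mul, map_mul, map_mul, map_inv, map_inv]
        exact mul_mem (QdOver.conj_trans ht) (inv_mem ht)
      obtain ⟨i, hi⟩ := IsPGroup.iff_orderOf.1 (QdOver.isPGroup_trans (p := p)) ⟨_, h2⟩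
      rw [Subgroup.orderOf_mk] at hi
      have h3 : φ (x * y * x⁻¹ * y⁻¹) = 1 := orderOf_eq_one_iff.1 (Nat.eq_one_of_dvd_coprimes
        (Nat.Coprime.pow_right i (hK.coprime_dvd_left ((orderOf_map_dvd φ _).trans (by
          rw [← Subgroup.orderOf_coe]; exact Subgroup.orderOf_dvd_natCard _ h1)))) dvd_rfl hi.dvd)
      rw [map_mul, map_mul, map_mul, map_inv, map_inv, mul_inv_eq_one, mul_inv_eq_iff_eq_mul] at h3
      exact h3
    have hlin : QdOver.lin (φ x) = 1 := by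
      have key : ∀ v : Fin 2 → ZMod p, (QdOver.lin (φ x)).1.mulVec v = v := by
        intro v
        have ht : QdOver.aff 1 v ∈ (QdOver.trans : Subgroup QQ) := QdOver.mem_trans.2 (QdOver.lin_aff _ _)
        have h1 := QdOver.tr_conj (M := φ x) ht
        rw [hfix _ ht, mul_inv_cancel_right, QdOver.tr_aff] at h1
        exact h1.symm
      refine Subtype.ext (Matrix.ext_of_mulVec_single fun i => ?_)
      simp only [key, Matrix.SpecialLinearGroup.coe_one, Matrix.one_mulVec]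
    obtain ⟨i, hi⟩ := IsPGroup.iff_orderOf.1 (QdOver.isPGroup_trans (p := p))
      ⟨_, QdOver.mem_trans.2 hlin⟩
    rw [Subgroup.orderOf_mk] at hi
    exact orderOf_eq_one_iff.1 (Nat.eq_one_of_dvd_coprimes (hco.pow_right i) dvd_rfl hi.dvd)
  set π := QuotientGroup.mk' K
  let θ : X →* X.map π := π.subgroupMap X
  have hθ : Function.Surjective θ := π.subgroupMap_surjective X
  have hle : θ.ker ≤ φ.ker := fun x hx =>
    hker x ((QuotientGroup.eq_one_iff (x : G)).1 (congrArg Subtype.val (MonoidHom.mem_ker.1 hx)))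
  let ψ : X.map π →* QQ := θ.liftOfSurjective hθ ⟨φ, hle⟩
  refine CfsgLib.LocalEven.Offender.involves_of_hom (X.map π) ψ fun t => ?_
  obtain ⟨x, rfl⟩ := hφ t
  exact ⟨θ x, θ.liftOfRightInverse_comp_apply _ _ _ x⟩

/-- A section `Qd(p)` gives a pair inducing transvections on a section of a `p`-subgroup. -/
theorem exists_qd_pair {G : Type u} [Group G] [Finite G] (h : Involves ↥(Cfsg.qd p) G) :
    ∃ (U U₀ : Subgroup G) (a b : G), IsPGroup p U ∧ U₀ ≤ U ∧
      U ≤ Subgroup.normalizer (U₀ : Set G) ∧ (∀ x ∈ U, x ^ p ∈ U₀) ∧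
      (∀ x ∈ U, ∀ y ∈ U, x * y * x⁻¹ * y⁻¹ ∈ U₀) ∧
      (∀ c ∈ ({a, b} : Set G), c ∈ Subgroup.normalizer (U : Set G) ∧
        c ∈ Subgroup.normalizer (U₀ : Set G) ∧ ∀ x ∈ U, ⁅⁅x, c⁆, c⁆ ∈ U₀) ∧
      (p ≠ 2 → ∀ k : ℕ, ∃ x ∈ U,
        x * ((a * b⁻¹ * a) ^ p ^ k * x * ((a * b⁻¹ * a) ^ p ^ k)⁻¹)⁻¹ ∉ U₀) := by
  obtain ⟨X, f, hf⟩ := CfsgLib.LocalEven.Offender.exists_hom_of_involves h
  let φ : X →* QQ := f
  have hφ : Function.Surjective φ := hf
  set W := (QdOver.trans : Subgroup QQ).comap φ with hW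
  have hWn : W.Normal := QdOver.trans_normal.comap φ
  obtain ⟨P₀⟩ : Nonempty (Sylow p W) := inferInstance
  set UX : Subgroup X := (P₀ : Subgroup W).map W.subtype with hUX
  have hUW : ∀ x ∈ UX, φ x ∈ (QdOver.trans : Subgroup QQ) := by
    rintro _ ⟨x, -, rfl⟩; exact x.2
  have hcov : ∀ t ∈ (QdOver.trans : Subgroup QQ), ∃ x ∈ UX, φ x = t := by
    let g : W →* (QdOver.trans : Subgroup QQ) := φ.subgroupComap QdOver.trans
    have hg : Function.Surjective g := MonoidHom.subgroupComap_surjective_of_surjective φ _ hφ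
    intro t ht
    have htop := top_unique ((P₀.mapSurjective hg).3 ((QdOver.isPGroup_trans (p := p)).to_subgroup ⊤) le_top).le
    obtain ⟨x, hx, hxt⟩ := htop.ge (Subgroup.mem_top ⟨t, ht⟩)
    exact ⟨x, ⟨x, hx, rfl⟩, congrArg Subtype.val hxt⟩
  have hlift : ∀ M : QQ, ∃ n ∈ Subgroup.normalizer (UX : Set X), φ n = M := by
    intro M
    obtain ⟨x, rfl⟩ := hφ M
    have hx : x ∈ Subgroup.normalizer (UX : Set X) ⊔ W :=
      (Sylow.normalizer_sup_eq_top P₀).symm ▸ Subgroup.mem_top x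
    rw [Subgroup.mem_sup_of_normal_right] at hx
    obtain ⟨n, hn, w, hw, rfl⟩ := hx
    obtain ⟨y, hy, hye⟩ := hcov _ hw
    exact ⟨n * y, mul_mem hn (Subgroup.le_normalizer hy), by rw [map_mul, map_mul, hye]⟩
  obtain ⟨a, ha, hae⟩ := hlift (QdOver.aff (QdOver.upSL 1) 0)
  obtain ⟨b, hb, hbe⟩ := hlift (QdOver.aff (QdOver.lowSL 1) 0)
  set U₀X : Subgroup X := UX ⊓ φ.ker with hU₀X
  have hU₀n : ∀ c ∈ Subgroup.normalizer (UX : Set X), c ∈ Subgroup.normalizer (U₀X : Set X) := by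
    intro c hc
    refine Subgroup.mem_normalizer_iff.2 fun x => ?_
    simp only [hU₀X, Subgroup.mem_inf, MonoidHom.mem_ker, map_mul, map_inv]
    rw [← Subgroup.mem_normalizer_iff.1 hc x]
    simp
  let i := X.subtype
  have hnorm : ∀ (A : Subgroup X) (c : X), c ∈ Subgroup.normalizer (A : Set X) →
      i c ∈ Subgroup.normalizer ((A.map i : Subgroup G) : Set G) := fun A c hc =>
    Subgroup.le_normalizer_map i ⟨c, hc, rfl⟩
  have hinU₀ : ∀ x ∈ UX, φ x = 1 → i x ∈ U₀X.map i := fun x hx hx' => ⟨x, ⟨hx, hx'⟩, rfl⟩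
  have hcomm : ∀ {t : QQ}, t ∈ (QdOver.trans : Subgroup QQ) → ∀ c : QQ,
      t * c * t⁻¹ * c⁻¹ ∈ (QdOver.trans : Subgroup QQ) ∧
      QdOver.tr (t * c * t⁻¹ * c⁻¹) = QdOver.tr t - (QdOver.lin c).1.mulVec (QdOver.tr t) := by
    intro t ht c
    have h1 : c * t⁻¹ * c⁻¹ ∈ (QdOver.trans : Subgroup QQ) := QdOver.conj_trans (inv_mem ht)
    have h2 : QdOver.tr t⁻¹ = - QdOver.tr t := by
      have h3 := QdOver.tr_mul t t⁻¹
      rw [mul_inv_cancel, QdOver.tr_one, QdOver.mem_trans.1 ht] at h3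
      simp only [Matrix.SpecialLinearGroup.coe_one, Matrix.one_mulVec] at h3
      exact eq_neg_of_add_eq_zero_left h3.symm
    rw [show t * c * t⁻¹ * c⁻¹ = t * (c * t⁻¹ * c⁻¹) by group]
    refine ⟨mul_mem ht h1, ?_⟩
    rw [QdOver.tr_mul, QdOver.tr_conj (inv_mem ht), h2, Matrix.mulVec_neg, QdOver.mem_trans.1 ht]
    simp only [Matrix.SpecialLinearGroup.coe_one, Matrix.one_mulVec]
    abel
  have hquad : ∀ (c : X) (A : Matrix.SpecialLinearGroup (Fin 2) (ZMod p)),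
      φ c = QdOver.aff A 0 → c ∈ Subgroup.normalizer (UX : Set X) →
      (∀ v : Fin 2 → ZMod p, v - A.1.mulVec v - A.1.mulVec (v - A.1.mulVec v) = 0) →
      ∀ x ∈ UX.map i, ⁅⁅x, i c⁆, i c⁆ ∈ U₀X.map i := by
    rintro c A hc hcn hA _ ⟨x, hx, rfl⟩
    rw [← map_commutatorElement, ← map_commutatorElement]
    have hmem : ∀ y ∈ UX, ⁅y, c⁆ ∈ UX := fun y hy => by
      rw [commutatorElement_def, show y * c * y⁻¹ * c⁻¹ = y * (c * y⁻¹ * c⁻¹) by group]
      exact mul_mem hy ((Subgroup.mem_normalizer_iff.1 hcn _).1 (inv_mem hy))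
    refine hinU₀ _ (hmem _ (hmem x hx)) (QdOver.ext' ?_ ?_)
    · rw [map_one]; exact QdOver.mem_trans.1 (hUW _ (hmem _ (hmem x hx)))
    · have e1 := hcomm (hUW x hx) (φ c)
      have e2 := hcomm e1.1 (φ c)
      rw [map_commutatorElement, map_commutatorElement, commutatorElement_def, commutatorElement_def,
        e2.2, e1.2, hc, QdOver.lin_aff, QdOver.tr_one]
      exact hA _
  have hup : ∀ v : Fin 2 → ZMod p, v - (QdOver.upSL (1 : ZMod p)).1.mulVec v -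
      (QdOver.upSL (1 : ZMod p)).1.mulVec (v - (QdOver.upSL (1 : ZMod p)).1.mulVec v) = 0 := by
    intro v
    ext j; fin_cases j <;> simp [Matrix.vecHead, Matrix.vecTail]
  have hlow : ∀ v : Fin 2 → ZMod p, v - (QdOver.lowSL (1 : ZMod p)).1.mulVec v -
      (QdOver.lowSL (1 : ZMod p)).1.mulVec (v - (QdOver.lowSL (1 : ZMod p)).1.mulVec v) = 0 := by
    intro v
    ext j; fin_cases j <;> simp [Matrix.vecHead, Matrix.vecTail]
  refine ⟨UX.map i, U₀X.map i, i a, i b, (P₀.2.map _).map _, Subgroup.map_mono inf_le_left, ?_, ?_, ?_, ?_, ?_⟩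
  · rintro _ ⟨x, hx, rfl⟩
    exact hnorm U₀X x (hU₀n x (Subgroup.le_normalizer hx))
  · rintro _ ⟨x, hx, rfl⟩
    rw [← map_pow]
    refine hinU₀ _ (pow_mem hx _) ?_
    rw [map_pow]
    refine QdOver.ext' (by rw [map_pow, QdOver.mem_trans.1 (hUW x hx), one_pow, map_one]) ?_
    have key : ∀ n : ℕ, QdOver.tr (φ x ^ n) = n • QdOver.tr (φ x) := by
      intro n
      induction n with
      | zero => simp
      | succ n ih =>
        rw [pow_succ, QdOver.tr_mul, map_pow, QdOver.mem_trans.1 (hUW x hx), one_pow, ih, succ_nsmul']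
        simp only [Matrix.SpecialLinearGroup.coe_one, Matrix.one_mulVec]
    rw [key, QdOver.tr_one]
    ext j
    simp
  · rintro _ ⟨x, hx, rfl⟩ _ ⟨y, hy, rfl⟩
    rw [← map_inv, ← map_inv, ← map_mul, ← map_mul, ← map_mul]
    refine hinU₀ _ (mul_mem (mul_mem (mul_mem hx hy) (inv_mem hx)) (inv_mem hy)) (QdOver.ext' ?_ ?_)
    · rw [map_one]
      exact QdOver.mem_trans.1 (hUW _ (mul_mem (mul_mem (mul_mem hx hy) (inv_mem hx)) (inv_mem hy)))
    · rw [map_mul, map_mul, map_mul, map_inv, map_inv, (hcomm (hUW x hx) (φ y)).2,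
        QdOver.mem_trans.1 (hUW y hy), QdOver.tr_one]
      simp
  · rintro c (rfl | rfl)
    · exact ⟨hnorm _ _ ha, hnorm _ _ (hU₀n _ ha), hquad a _ hae ha hup⟩
    · exact ⟨hnorm _ _ hb, hnorm _ _ (hU₀n _ hb), hquad b _ hbe hb hlow⟩
  · intro hp2 k
    obtain ⟨x, hx, hxe⟩ := hcov (QdOver.aff 1 ![1, 0]) (QdOver.mem_trans.2 (QdOver.lin_aff _ _))
    refine ⟨i x, ⟨x, hx, rfl⟩, ?_⟩
    rintro ⟨y, ⟨-, hy⟩, hye⟩
    set m := a * b⁻¹ * a with hm
    have hy' : y = x * (m ^ p ^ k * x * (m ^ p ^ k)⁻¹)⁻¹ := Subtype.ext (hye.trans (by simp [i, m]))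
    rw [hy'] at hy
    replace hy : φ (x * (m ^ p ^ k * x * (m ^ p ^ k)⁻¹)⁻¹) = 1 := hy
    rw [map_mul, map_inv, mul_inv_eq_one, map_mul, map_mul, map_inv, map_pow] at hy
    have h1 := congrArg QdOver.tr hy
    rw [QdOver.tr_conj (hUW x hx), hxe, QdOver.tr_aff] at h1
    simp only [map_pow, map_mul, map_inv, hm, hae, hbe, QdOver.lin_aff] at h1
    set w : Matrix.SpecialLinearGroup (Fin 2) (ZMod p) :=
      QdOver.upSL 1 * (QdOver.lowSL 1)⁻¹ * QdOver.upSL 1 with hw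
    have hw2 : w * w = -1 := by
      ext r s
      fin_cases r <;> fin_cases s <;>
        simp [w, Matrix.SpecialLinearGroup.coe_mul, Matrix.SpecialLinearGroup.coe_inv,
          Matrix.adjugate_fin_two_of, Matrix.mul_apply, Fin.sum_univ_two]
    obtain ⟨j, hj⟩ := (hp.out.odd_of_ne_two hp2).pow (n := k)
    have key : ∀ j : ℕ, (w ^ (2 * j + 1)).1 0 0 = 0 := by
      intro j
      induction j with
      | zero =>
        simp [w, Matrix.SpecialLinearGroup.coe_mul, Matrix.SpecialLinearGroup.coe_inv,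
          Matrix.adjugate_fin_two_of, Matrix.mul_apply, Fin.sum_univ_two]
      | succ j ih =>
        rw [show 2 * (j + 1) + 1 = 2 + (2 * j + 1) by ring, pow_add, pow_two, hw2,
          Matrix.SpecialLinearGroup.coe_mul, Matrix.SpecialLinearGroup.coe_neg,
          Matrix.SpecialLinearGroup.coe_one, neg_mul, one_mul, Matrix.neg_apply, ih, neg_zero]
    rw [hj] at h1
    have h2 := congrFun h1 0
    have h3 : (1 : ZMod p) = (w ^ (2 * j + 1)).1 0 0 := by
      simpa [Matrix.mulVec, dotProduct, Fin.sum_univ_two] using h2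
    exact one_ne_zero (h3.trans (key j))

section Main

variable {G : Type u} [Group G] [Finite G] (P : Sylow p G)

/-- The normalizer of a fully normalized centric subgroup, reduced, is a model. -/
theorem isModel_normalizer {Q : Subgroup G} (hQ : Q ≤ P)
    (hn : (groupFusionSystem (P : Subgroup G)).IsFullyNormalized Q)
    (hc : (groupFusionSystem (P : Subgroup G)).IsCentric Q) :
    (normSys (groupFusionSystem (P : Subgroup G)) Q (rfl : normalizerIn (P : Subgroup G) Q = _) hQ).IsModel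
      p (Subgroup.normalizer (Q : Set G) ⧸ pPrimeCore p (Subgroup.normalizer (Q : Set G)))
      ((QuotientGroup.mk' (pPrimeCore p (Subgroup.normalizer (Q : Set G)))).comp
        (Subgroup.inclusion (inf_le_right : normalizerIn (P : Subgroup G) Q ≤ Subgroup.normalizer (Q : Set G)))) := by
  have hTp : IsPGroup p (normalizerIn (P : Subgroup G) Q) := isPGroup_of_le_sylow P (normalizerIn_le Q)
  set j := Subgroup.inclusion (inf_le_right : normalizerIn (P : Subgroup G) Q ≤ Subgroup.normalizer (Q : Set G))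
    with hj
  have hjr : j.range = (normalizerIn (P : Subgroup G) Q).subgroupOf (Subgroup.normalizer (Q : Set G)) := by
    ext x
    exact ⟨fun ⟨y, hy⟩ => hy ▸ y.2, fun hx => ⟨⟨x, hx⟩, rfl⟩⟩
  obtain ⟨T, hT⟩ := (exists_sylow_iff hTp).2 ((isFullyNormalized_groupFusion_iff P hQ).1 hn)
  refine isModel_reduced hTp (le_normalizerIn hQ) (fun y hy => hc.2 Q (isConj_refl hQ) ⟨hy.1.1, hy.2⟩)
    ⟨Subgroup.inclusion_injective _, fun M hM φ hφ => ⟨?_, ?_⟩⟩ T (hT.trans hjr.symm) ?_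
  · rintro ⟨-, -, -, ψ, ⟨hW, hψP, g, hg⟩, hψe, hψQ⟩
    refine ⟨⟨g, mem_normalizer_of_forall fun x hx => ?_⟩, fun x => Subtype.ext ?_⟩
    · rw [← hg ⟨x, (le_sup_right : Q ≤ M ⊔ Q) hx⟩]
      exact (show img ψ Q = Q from hψQ).le (apply_mem_img ψ hx)
    · show φ x = g * (x : G) * g⁻¹
      rw [← hψe, hg]
      rfl
  · rintro ⟨⟨g, hgQ⟩, hg⟩
    have hgx : ∀ x : M, φ x = g * (x : G) * g⁻¹ := fun x => congrArg Subtype.val (hg x)
    have hMP : M ≤ P := hM.trans (normalizerIn_le Q)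
    have hW : ∀ x : ↥(M ⊔ Q), conjHom (M ⊔ Q) g x ∈ (P : Subgroup G) := by
      have hle : M ⊔ Q ≤ (P : Subgroup G).comap (MulAut.conj g).toMonoidHom := sup_le
        (fun x hx => by
          show g * x * g⁻¹ ∈ (P : Subgroup G)
          rw [← hgx ⟨x, hx⟩]
          exact (hφ ⟨x, hx⟩).1)
        fun x hx => hQ ((Subgroup.mem_normalizer_iff.1 hgQ x).1 hx)
      exact fun x => hle x.2
    have hψ : conjHom (M ⊔ Q) g ∈ (groupFusionSystem (P : Subgroup G)).Hom (M ⊔ Q) :=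
      ⟨sup_le hMP hQ, hW, g, fun x => rfl⟩
    exact mem_normalizerHom_of_img hψ le_sup_left le_sup_right
      (conj_img_eq hgQ le_sup_right) (fun x => (hgx x).symm) hM hφ
  · refine ⟨?_⟩
    rintro _ ⟨x, hx, rfl⟩ g
    exact ⟨⟨g * x * (g : G)⁻¹, le_normalizerIn hQ ((Subgroup.mem_normalizer_iff.1 g.2 _).1 hx)⟩,
      (Subgroup.mem_normalizer_iff.1 g.2 _).1 hx, rfl⟩

/-- A section `Qd(p)` gives one in the normalizer of a fully normalized centric subgroup. -/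
theorem exists_local_qd (hp2 : p ≠ 2) (h : Involves ↥(Cfsg.qd p) G) :
    ∃ Q : Subgroup G, (groupFusionSystem (P : Subgroup G)).IsFullyNormalized Q ∧
      (groupFusionSystem (P : Subgroup G)).IsCentric Q ∧
        Involves ↥(Cfsg.qd p) (Subgroup.normalizer (Q : Set G)) := by
  classical
  set F := groupFusionSystem (P : Subgroup G)
  have hF : F.IsSaturated p := isSaturated_groupFusion P
  obtain ⟨U₀, A₀, a₀, b₀, hU₀p, hA₀, hA₀n, hpow₀, hcom₀, hpair₀, hne₀⟩ := exists_qd_pair h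
  obtain ⟨P₁, hP₁⟩ := hU₀p.exists_le_sylow
  obtain ⟨g₁, hg₁⟩ := MulAction.exists_smul_eq G P₁ P
  have hU₁P : conjSub g₁ U₀ ≤ P := by
    rintro _ ⟨u, hu, rfl⟩
    rw [← hg₁, Sylow.coe_subgroup_smul]
    exact Subgroup.smul_mem_pointwise_smul u (MulAut.conj g₁) _ (hP₁ hu)
  obtain ⟨U, hU, hUn⟩ := exists_fullyNormalized F hU₁P
  obtain ⟨-, -, g₂, rfl⟩ := isConj_groupFusion_iff.1 hU
  rw [conjSub_conjSub] at hU hUn
  set g := g₂ * g₁
  set U := conjSub g U₀ with hUdef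
  set A := conjSub g A₀ with hAdef
  set κ : G →* G := (MulAut.conj g).toMonoidHom with hκ
  have hκU : ∀ x ∈ U₀, κ x ∈ U := fun x hx => ⟨x, hx, rfl⟩
  have hκn : ∀ (B : Subgroup G) (c : G), c ∈ Subgroup.normalizer (B : Set G) →
      κ c ∈ Subgroup.normalizer (conjSub g B : Set G) := fun B c hc =>
    Subgroup.le_normalizer_map κ ⟨c, hc, rfl⟩
  have hUP : U ≤ P := hUn.1
  set R := centralizerIn (P : Subgroup G) U with hR
  set C := Subgroup.centralizer (U : Set G) with hC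
  have hRidx : ¬ p ∣ R.relIndex C :=
    (isFullyCentralized_groupFusion_iff P hUP).1 (fullyCentralized_of_fullyNormalized P.2 hF hUn)
  have hfrat : ∀ n ∈ Subgroup.normalizer (U : Set G), ∃ c ∈ C, c * n ∈ Subgroup.normalizer (R : Set G) := by
    intro n hn
    have hle : conjSub n R ≤ C := by
      rintro _ ⟨r, hr, rfl⟩
      refine Subgroup.mem_centralizer_iff.2 fun u hu => ?_
      have h1 := hr.2 (n⁻¹ * u * n) ((Subgroup.mem_normalizer_iff''.1 hn u).1 hu)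
      show u * (n * r * n⁻¹) = n * r * n⁻¹ * u
      calc u * (n * r * n⁻¹) = n * (n⁻¹ * u * n * r) * n⁻¹ := by group
        _ = n * (r * (n⁻¹ * u * n)) * n⁻¹ := by rw [h1]
        _ = _ := by group
    obtain ⟨y, hy, hyR⟩ := exists_conj_mem_of_le
      ((isPGroup_of_le_sylow P (centralizerIn_le U)).map (MulAut.conj n).toMonoidHom)
      (isPGroup_of_le_sylow P (centralizerIn_le U)) hle inf_le_right hRidx
    refine ⟨y, hy, mem_normalizer_of_forall fun r hr => ?_⟩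
    have h1 := hyR (n * r * n⁻¹) ⟨r, hr, rfl⟩
    rwa [show y * n * r * (y * n)⁻¹ = y * (n * r * n⁻¹) * y⁻¹ by group]
  set G₁ : Subgroup G := Subgroup.normalizer (U : Set G) ⊓ Subgroup.normalizer (A : Set G) ⊓
    Subgroup.normalizer (R : Set G) with hG₁
  have hAU : A ≤ U := Subgroup.map_mono hA₀
  have hCA : C ≤ Subgroup.normalizer (A : Set G) :=
    (Subgroup.centralizer_le hAU).trans (Subgroup.centralizer_le_normalizer _)
  have hUG₁ : U ≤ G₁ := by
    refine le_inf (le_inf Subgroup.le_normalizer ?_) fun u hu =>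
      Subgroup.centralizer_le_normalizer _ (Subgroup.mem_centralizer_iff.2 fun r hr => (hr.2 u hu).symm)
    rintro _ ⟨u, hu, rfl⟩
    exact hκn A₀ u (hA₀n hu)
  have hmk : ∀ c ∈ ({a₀, b₀} : Set G), ∃ c' ∈ G₁, ∃ z ∈ C, c' = z * κ c := by
    intro c hc
    obtain ⟨h1, h2, -⟩ := hpair₀ c hc
    obtain ⟨z, hz, hzn⟩ := hfrat _ (hκn U₀ c h1)
    exact ⟨z * κ c, ⟨⟨mul_mem (Subgroup.centralizer_le_normalizer _ hz) (hκn U₀ c h1),
      mul_mem (hCA hz) (hκn A₀ c h2)⟩, hzn⟩, z, hz, rfl⟩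
  obtain ⟨a, ha, za, hza, hae⟩ := hmk a₀ (Or.inl rfl)
  obtain ⟨b, hb, zb, hzb, hbe⟩ := hmk b₀ (Or.inr rfl)
  set ρ := Subgroup.normalizerMonoidHom U with hρ
  have hρe : ∀ (c c₀ z : G) (hc : c ∈ Subgroup.normalizer (U : Set G))
      (hc₀ : κ c₀ ∈ Subgroup.normalizer (U : Set G)), z ∈ C → c = z * κ c₀ →
      ρ ⟨c, hc⟩ = ρ ⟨κ c₀, hc₀⟩ := by
    intro c c₀ z hc hc₀ hz he
    refine MulEquiv.ext fun u => Subtype.ext ?_
    show c * u * c⁻¹ = κ c₀ * u * (κ c₀)⁻¹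
    have h1 := Subgroup.mem_centralizer_iff.1 hz _ ((Subgroup.mem_normalizer_iff.1 hc₀ u).1 u.2)
    rw [he]
    calc z * κ c₀ * u * (z * κ c₀)⁻¹ = z * (κ c₀ * u * (κ c₀)⁻¹) * z⁻¹ := by group
      _ = κ c₀ * u * (κ c₀)⁻¹ * z * z⁻¹ := by rw [h1]
      _ = _ := by group
  -- the section
  set Q := U ⊔ R with hQ
  have hQc : F.IsCentric Q := isCentric_sup_centralizerIn P.2 hF hUn
  have hG₁Q : G₁ ≤ Subgroup.normalizer (Q : Set G) := fun x hx => mem_normalizer_of_forall fun q hq => by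
    have hle : Q ≤ Q.comap (MulAut.conj x).toMonoidHom := sup_le
      (fun u hu => (le_sup_left : U ≤ Q) ((Subgroup.mem_normalizer_iff.1 hx.1.1 u).1 hu))
      fun r hr => (le_sup_right : R ≤ Q) ((Subgroup.mem_normalizer_iff.1 hx.2 r).1 hr)
    exact hle hq
  have : (A.subgroupOf G₁).Normal :=
    (Subgroup.normal_subgroupOf_iff_le_normalizer (hAU.trans hUG₁)).2 (inf_le_left.trans inf_le_right)
  set π := QuotientGroup.mk' (A.subgroupOf G₁) with hπ
  have hπs : Function.Surjective π := QuotientGroup.mk'_surjective _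
  have hπA : ∀ x : G₁, π x = 1 ↔ (x : G) ∈ A := fun x => QuotientGroup.eq_one_iff x
  set V := (U.subgroupOf G₁).map π with hV
  have : (U.subgroupOf G₁).Normal :=
    (Subgroup.normal_subgroupOf_iff_le_normalizer hUG₁).2 (inf_le_left.trans inf_le_left)
  have : V.Normal := ‹(U.subgroupOf G₁).Normal›.map π hπs
  have hVc : ∀ x ∈ V, ∀ y ∈ V, x * y = y * x := by
    rintro _ ⟨⟨x, hxG⟩, hx, rfl⟩ _ ⟨⟨y, hyG⟩, hy, rfl⟩
    obtain ⟨x₀, hx₀, hxe⟩ := hx
    obtain ⟨y₀, hy₀, hye⟩ := hy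
    rw [← mul_inv_eq_one, mul_inv_rev, ← mul_assoc, ← map_inv, ← map_inv, ← map_mul, ← map_mul,
      ← map_mul, hπA]
    exact ⟨_, hcom₀ x₀ hx₀ y₀ hy₀, by
      simp only [map_mul, map_inv]
      show κ x₀ * κ y₀ * (κ x₀)⁻¹ * (κ y₀)⁻¹ = x * y * x⁻¹ * y⁻¹
      rw [show κ x₀ = x from hxe, show κ y₀ = y from hye]⟩
  have hVp : ∀ x ∈ V, x ^ p = 1 := by
    rintro _ ⟨⟨x, hxG⟩, hx, rfl⟩
    obtain ⟨x₀, hx₀, hxe⟩ := hx
    rw [← map_pow, hπA]
    exact ⟨x₀ ^ p, hpow₀ x₀ hx₀, by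
      rw [map_pow]
      show κ x₀ ^ p = x ^ p
      rw [show κ x₀ = x from hxe]⟩
  have hquad : ∀ (c c₀ z : G) (hcG : c ∈ G₁), c₀ ∈ ({a₀, b₀} : Set G) → z ∈ C → c = z * κ c₀ →
      CfsgLib.PStab.IsQuad V (π ⟨c, hcG⟩) := by
    rintro c c₀ z hcG hc₀ hz he _ ⟨⟨x, hxG⟩, hx, rfl⟩
    obtain ⟨x₀, hx₀, hxe⟩ := hx
    obtain ⟨h1, -, h3⟩ := hpair₀ c₀ hc₀
    rw [← map_commutatorElement, ← map_commutatorElement, hπA]
    have hcU : c ∈ Subgroup.normalizer (U : Set G) := hcG.1.1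
    have hsame : ∀ u ∈ U, ⁅u, c⁆ = ⁅u, κ c₀⁆ := by
      intro u hu
      have hu' : u⁻¹ ∈ U := inv_mem hu
      have h4 := congrArg Subtype.val (DFunLike.congr_fun (hρe c c₀ z hcU (hκn U₀ c₀ h1) hz he) ⟨u⁻¹, hu'⟩)
      rw [commutatorElement_def, commutatorElement_def, show u * c * u⁻¹ * c⁻¹ = u * (c * u⁻¹ * c⁻¹) by group,
        show u * κ c₀ * u⁻¹ * (κ c₀)⁻¹ = u * (κ c₀ * u⁻¹ * (κ c₀)⁻¹) by group]
      exact congrArg (u * ·) h4
    refine ⟨⁅⁅x₀, c₀⁆, c₀⁆, h3 x₀ hx₀, ?_⟩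
    show κ ⁅⁅x₀, c₀⁆, c₀⁆ = ⁅⁅x, c⁆, c⁆
    have hxU : x ∈ U := ⟨x₀, hx₀, hxe⟩
    have hmem : ⁅x, c⁆ ∈ U := by
      rw [commutatorElement_def, show x * c * x⁻¹ * c⁻¹ = x * (c * x⁻¹ * c⁻¹) by group]
      exact mul_mem hxU ((Subgroup.mem_normalizer_iff.1 hcU _).1 (inv_mem hxU))
    rw [hsame _ hmem, hsame _ hxU, map_commutatorElement, map_commutatorElement, show κ x₀ = x from hxe]
  refine ?_
  set a' : G₁ := ⟨a, ha⟩
  set b' : G₁ := ⟨b, hb⟩
  have hh : π (a' * b'⁻¹ * a') ∈ Subgroup.closure ({π a', π b'} : Set (G₁ ⧸ A.subgroupOf G₁)) := by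
    have h1 : π a' ∈ Subgroup.closure ({π a', π b'} : Set (G₁ ⧸ A.subgroupOf G₁)) :=
      Subgroup.subset_closure (Or.inl rfl)
    have h2 : π b' ∈ Subgroup.closure ({π a', π b'} : Set (G₁ ⧸ A.subgroupOf G₁)) :=
      Subgroup.subset_closure (Or.inr rfl)
    rw [map_mul, map_mul, map_inv]
    exact mul_mem (mul_mem h1 (inv_mem h2)) h1
  have hinv : Involves ↥(Cfsg.qd p) (G₁ ⧸ A.subgroupOf G₁) := by
    refine CfsgLib.PStab.involves_qd_of_pair_elem hp2 hVc hVp (hquad a a₀ za ha (Or.inl rfl) hza hae)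
      (hquad b b₀ zb hb (Or.inr rfl) hzb hbe) hh fun k hk => ?_
    obtain ⟨x₀, hx₀, hxne⟩ := hne₀ hp2 k
    apply hxne
    have hxU : κ x₀ ∈ U := hκU x₀ hx₀
    set m := (a' * b'⁻¹ * a') ^ p ^ k with hm
    rw [← map_pow, ← hm] at hk
    have h1 := Subgroup.mem_centralizer_iff.1 hk (π ⟨κ x₀, hUG₁ hxU⟩) ⟨⟨κ x₀, hUG₁ hxU⟩, hxU, rfl⟩
    have h2 : π (⟨κ x₀, hUG₁ hxU⟩ * (m * ⟨κ x₀, hUG₁ hxU⟩ * m⁻¹)⁻¹) = 1 := by
      simp only [map_mul, map_inv]
      rw [← h1]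
      group
    obtain ⟨w, hw, hwe⟩ := (hπA _).1 h2
    have ha₀U := hκn U₀ a₀ (hpair₀ a₀ (Or.inl rfl)).1
    have hb₀U := hκn U₀ b₀ (hpair₀ b₀ (Or.inr rfl)).1
    have h3 : ρ ((⟨a, ha.1.1⟩ * ⟨b, hb.1.1⟩⁻¹ * ⟨a, ha.1.1⟩ : Subgroup.normalizer (U : Set G)) ^ p ^ k) =
        ρ ((⟨κ a₀, ha₀U⟩ * ⟨κ b₀, hb₀U⟩⁻¹ * ⟨κ a₀, ha₀U⟩ : Subgroup.normalizer (U : Set G)) ^ p ^ k) := by
      simp only [map_pow, map_mul, map_inv, hρe a a₀ za ha.1.1 ha₀U hza hae,
        hρe b b₀ zb hb.1.1 hb₀U hzb hbe]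
    have h4 : (m : G) * κ x₀ * (m : G)⁻¹ =
        κ ((a₀ * b₀⁻¹ * a₀) ^ p ^ k * x₀ * ((a₀ * b₀⁻¹ * a₀) ^ p ^ k)⁻¹) := by
      have h5 := congrArg Subtype.val (DFunLike.congr_fun h3 ⟨κ x₀, hxU⟩)
      simp only [map_mul, map_inv, map_pow]
      exact h5
    have h6 : κ w = κ (x₀ * ((a₀ * b₀⁻¹ * a₀) ^ p ^ k * x₀ * ((a₀ * b₀⁻¹ * a₀) ^ p ^ k)⁻¹)⁻¹) := by
      rw [map_mul, map_inv, ← h4]
      exact hwe
    rw [← (MulAut.conj g).injective h6]
    exact hw
  have hN : Involves ↥(Cfsg.qd p) (Subgroup.normalizer (Q : Set G)) :=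
    CfsgLib.LocalEven.Offender.involves_of_injective (Subgroup.inclusion hG₁Q) (Subgroup.inclusion_injective _)
      (CfsgLib.LocalEven.Offender.involves_of_surjective π hπs hinv)
  obtain ⟨Q', hQ', hQ'n⟩ := exists_fullyNormalized F hQc.1
  refine ⟨Q', hQ'n, CfsgLib.Fusion.isCentric_of_isConj hQc hQ', ?_⟩
  obtain ⟨-, -, g₃, rfl⟩ := isConj_groupFusion_iff.1 hQ'
  rw [← map_conj_normalizer]
  exact involves_of_equiv ((MulAut.conj g₃).subgroupMap _) hN

/-- **The group criterion.** -/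
theorem isSectionFree_qd_iff (hp2 : p ≠ 2) :
    (groupFusionSystem (P : Subgroup G)).IsSectionFree p ↥(Cfsg.qd p) ↔ ¬ Involves ↥(Cfsg.qd p) G := by
  constructor
  · intro hfree h
    obtain ⟨Q, hn, hc, hinv⟩ := exists_local_qd P hp2 h
    refine hfree Q hn hc _ (fun _ => rfl) _ _ (isModel_normalizer P hn.1 hn hc) ?_
    exact involves_quotient_of_coprime (Cores.coprime_card_pPrimeCore p) hinv
  · intro h Q hn hc N hN L _ ι hM hinv
    obtain rfl : N = normSys (groupFusionSystem (P : Subgroup G)) Q rfl hn.1 := ext_hom hN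
    have h1 := involves_of_isModel P.2 rfl hn.1 (isCentric_normSys_self' rfl hn.1 hc) hM
      (isModel_normalizer P hn.1 hn hc) hinv
    exact h (CfsgLib.LocalEven.Offender.involves_of_injective (Subgroup.normalizer (Q : Set G)).subtype
      (Subgroup.subtype_injective _)
      (CfsgLib.LocalEven.Offender.involves_of_surjective _ (QuotientGroup.mk'_surjective _) h1))

end Main

end CfsgLib.Transfer
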