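import Cfsg.Agent.Lib.Transfer.Basic
import Cfsg.Agent.Lib.FGS.PByCyclic
import Cfsg.Agent.Lib.Invol.Dihedral
import Mathlib.LinearAlgebra.Matrix.Charpoly.FiniteField
import Mathlib.GroupTheory.Transfer
import Mathlib.Tactic

/-!
Groups with a cyclic Sylow `p`-subgroup all of whose `p'`-subgroups are abelian.
-/

set_option autoImplicit false

namespace CfsgLib.Transfer.AbPrime

open Subgroup
open Cfsg (HasNormalPComplement pResidual)

universe u

variable {G : Type u} [Group G] [Finite G] {p : ℕ} [hp : Fact p.Prime]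

/-- Every subgroup of order prime to `p` is abelian. -/
def AbP (p : ℕ) (G : Type u) [Group G] : Prop :=
  ∀ H : Subgroup G, ¬ p ∣ Nat.card H → IsMulCommutative H

omit [Finite G] hp in
theorem comm_of (hab : AbP p G) {H : Subgroup G} (h : ¬ p ∣ Nat.card H) {a b : G} (ha : a ∈ H) (hb : b ∈ H) :
    a * b = b * a :=
  congrArg Subtype.val ((hab H h).is_comm.comm ⟨a, ha⟩ ⟨b, hb⟩)

theorem sup_zpowers_comm (hab : AbP p G) {K : Subgroup G} (hK : ¬ p ∣ Nat.card K) {m : G}
    (hm : m ∈ normalizer (K : Set G)) (hmo : (orderOf m).Coprime p) :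
    ∀ k ∈ K, m * k = k * m := by
  obtain ⟨-, hdvd, -⟩ := CfsgLib.FGS.PByCyclic.sup_zpowers_card_dvd K hm _ rfl
  have hnd : ¬ p ∣ Nat.card ↥(K ⊔ zpowers m) := by
    rw [← (K.subgroupOf (K ⊔ zpowers m)).card_mul_index,
      Nat.card_congr (subgroupOfEquivOfLe (le_sup_left : K ≤ K ⊔ zpowers m)).toEquiv]
    intro h
    rcases hp.out.dvd_mul.1 h with h | h
    · exact hK h
    · exact not_dvd_of_coprime (hmo.coprime_dvd_left hdvd) h
  exact fun k hk => comm_of hab hnd (mem_sup_right (mem_zpowers m)) (mem_sup_left hk)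

theorem mem_sylow_of_normalizes (Q : Sylow p G) {u : G} (hu : u ∈ normalizer ((Q : Subgroup G) : Set G))
    {k : ℕ} (hk : orderOf u = p ^ k) : u ∈ (Q : Subgroup G) := by
  have h1 : IsPGroup p ↥((Q : Subgroup G) ⊔ zpowers u) :=
    Q.2.to_sup_of_normal_left' (CfsgLib.FGS.isPGroup_zpowers hk) (zpowers_le.2 hu)
  exact (Q.3 h1 le_sup_left).le (mem_sup_right (mem_zpowers u))

omit [Finite G] hp in
theorem comm_of_cyclic {S : Subgroup G} (hc : IsCyclic S) {a b : G} (ha : a ∈ S) (hb : b ∈ S) :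
    a * b = b * a :=
  congrArg Subtype.val ((IsCyclic.commGroup (α := S)).mul_comm ⟨a, ha⟩ ⟨b, hb⟩)

theorem exists_orderOf_eq_pow {S : Subgroup G} (hS : IsPGroup p S) {a : G} (ha : a ∈ S) (ha1 : a ≠ 1) :
    ∃ i : ℕ, orderOf (a ^ i) = p := by
  obtain ⟨k, hk⟩ := IsPGroup.iff_orderOf.1 hS ⟨a, ha⟩
  rw [Subgroup.orderOf_mk] at hk
  rcases k with _ | k
  · exact absurd (orderOf_eq_one_iff.1 (by rw [hk, pow_zero])) ha1
  refine ⟨p ^ k, ?_⟩
  rw [orderOf_pow, hk, Nat.gcd_eq_right (pow_dvd_pow p k.le_succ), pow_succ,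
    Nat.mul_div_cancel_left _ (pow_pos hp.out.pos k)]

theorem centralizes_of_fix {S : Subgroup G} (hS : IsPGroup p S) (hc : IsCyclic S) {m a : G}
    (hm : m ∈ normalizer (S : Set G)) (hmo : (orderOf m).Coprime p) (ha : a ∈ S) (ha1 : a ≠ 1)
    (hfix : m * a = a * m) : ∀ s ∈ S, m * s = s * m := by
  obtain ⟨i, hi⟩ := exists_orderOf_eq_pow hS ha ha1
  refine CfsgLib.FGS.PByCyclic.commute_of_fix_omega S hS hc hm hmo (pow_mem ha i) hi ?_
  rw [mul_inv_eq_iff_eq_mul]
  exact (show Commute m a from hfix).pow_right i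

theorem exists_mover (hno : ¬ HasNormalPComplement p G) (Q : Sylow p G) (hc : IsCyclic Q) :
    ∃ m ∈ normalizer ((Q : Subgroup G) : Set G), (orderOf m).Coprime p ∧
      ∀ a ∈ (Q : Subgroup G), m * a = a * m → a = 1 := by
  by_contra hcon
  push Not at hcon
  refine hno ((hasNormalPComplement_iff_sylow Q).2 ?_)
  have hle : normalizer ((Q : Subgroup G) : Set G) ≤ centralizer ((Q : Subgroup G) : Set G) := by
    intro x hx
    obtain ⟨i, j, ⟨k, hk⟩, hj, hij, -⟩ := CfsgLib.FGS.exists_p_parts p x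
    rw [← hij]
    refine mul_mem (mem_centralizer_iff.2 fun b hb =>
      comm_of_cyclic hc hb (mem_sylow_of_normalizes Q (pow_mem hx i) hk)) ?_
    obtain ⟨a, ha, hfix, ha1⟩ := hcon _ (pow_mem hx j) hj
    exact mem_centralizer_iff.2 fun b hb =>
      (centralizes_of_fix Q.2 hc (pow_mem hx j) hj ha ha1 hfix b hb).symm
  exact ⟨_, inferInstance, MonoidHom.ker_transferSylow_isComplement' Q hle⟩

/-- A normal subgroup containing a mover contains the Sylow subgroup. -/
theorem sylow_le_of_mover (Q : Sylow p G) (hc : IsCyclic Q) {m : G}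
    (hm : m ∈ normalizer ((Q : Subgroup G) : Set G)) (hfree : ∀ a ∈ (Q : Subgroup G), m * a = a * m → a = 1)
    {C : Subgroup G} [hC : C.Normal] (hmC : m ∈ C) : (Q : Subgroup G) ≤ C := by
  let f : ↥(Q : Subgroup G) → ↥(Q : Subgroup G) := fun a =>
    ⟨m * (a : G) * m⁻¹ * (a : G)⁻¹, mul_mem ((mem_normalizer_iff.1 hm _).1 a.2) (inv_mem a.2)⟩
  have hinj : Function.Injective f := by
    intro a b hab
    have h : m * (a : G) * m⁻¹ * (a : G)⁻¹ = m * (b : G) * m⁻¹ * (b : G)⁻¹ := congrArg Subtype.val hab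
    have hba : (b : G)⁻¹ * a = 1 := by
      refine hfree _ (mul_mem (inv_mem b.2) a.2) ?_
      have h1 : m * ((b : G)⁻¹ * a) * m⁻¹ = (b : G)⁻¹ * a := by
        have hA : m * (a : G) * m⁻¹ ∈ (Q : Subgroup G) := (mem_normalizer_iff.1 hm _).1 a.2
        have hB : m * (b : G) * m⁻¹ ∈ (Q : Subgroup G) := (mem_normalizer_iff.1 hm _).1 b.2
        rw [show m * ((b : G)⁻¹ * a) * m⁻¹ = (m * (b : G) * m⁻¹)⁻¹ * (m * a * m⁻¹) by group,
          show m * (a : G) * m⁻¹ = m * (a : G) * m⁻¹ * (a : G)⁻¹ * a by group, h,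
          show (m * (b : G) * m⁻¹)⁻¹ * (m * (b : G) * m⁻¹ * (b : G)⁻¹ * a) = (b : G)⁻¹ * a by group]
      exact mul_inv_eq_iff_eq_mul.1 h1
    exact Subtype.ext (inv_mul_eq_one.1 hba).symm
  intro x hx
  obtain ⟨a, ha⟩ := Finite.injective_iff_surjective.1 hinj ⟨x, hx⟩
  have h : m * (a : G) * m⁻¹ * (a : G)⁻¹ = x := congrArg Subtype.val ha
  rw [← h, show m * (a : G) * m⁻¹ * (a : G)⁻¹ = m * ((a : G) * m⁻¹ * (a : G)⁻¹) by group]
  exact mul_mem hmC (hC.conj_mem _ (inv_mem hmC) a)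

section simple

variable (hab : AbP p G) (hcyc : ∀ Q : Sylow p G, IsCyclic Q) (hno : ¬ HasNormalPComplement p G)
  (hnn : ∀ Q : Sylow p G, ¬ (Q : Subgroup G).Normal) (hodd : p ≠ 2)
  (hsimp : ∀ N : Subgroup G, N.Normal → N = ⊥ ∨ N = ⊤)
  (hind : ∀ H : Subgroup G, H ≠ ⊤ → HasNormalPComplement p H ∨ ∀ S : Sylow p H, (S : Subgroup H).Normal)

include hcyc hno hind in
theorem le_normalizer_of_mover (Q : Sylow p G) {H : Subgroup G} (hH : H ≠ ⊤)
    (hQH : (Q : Subgroup G) ≤ H) {m : G} (hmH : m ∈ H) (hm : m ∈ normalizer ((Q : Subgroup G) : Set G))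
    (hmo : (orderOf m).Coprime p) (hfree : ∀ a ∈ (Q : Subgroup G), m * a = a * m → a = 1) :
    H ≤ normalizer ((Q : Subgroup G) : Set G) := by
  rcases hind H hH with h | h
  · exfalso
    have hmC := mem_centralizer_of_hasNormalPComplement h (Q := (Q : Subgroup G).subgroupOf H)
      (Q.2.comap_subtype) (g := ⟨m, hmH⟩) (by
        rw [Subgroup.mem_normalizer_iff]
        exact fun x => Subgroup.mem_normalizer_iff.1 hm x)
      (by rwa [Subgroup.orderOf_mk])
    have hall : ∀ a ∈ (Q : Subgroup G), a = 1 := fun a ha => hfree a ha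
      (congrArg Subtype.val (mem_centralizer_iff.1 hmC ⟨a, hQH ha⟩ ha)).symm
    refine hno ((hasNormalPComplement_iff_sylow Q).2 ⟨⊤, inferInstance, ?_⟩)
    rw [show (Q : Subgroup G) = ⊥ from (eq_bot_iff_forall _).2 hall]
    exact isComplement'_top_bot
  · intro x hx
    have hn := h (Q.subtype hQH)
    rw [Subgroup.mem_normalizer_iff]
    intro a
    constructor
    · intro ha
      exact hn.conj_mem ⟨a, hQH ha⟩ ha ⟨x, hx⟩
    · intro ha
      have h2 := hn.conj_mem ⟨x * a * x⁻¹, hQH ha⟩ ha ⟨x⁻¹, inv_mem hx⟩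
      have h3 : x⁻¹ * (x * a * x⁻¹) * x⁻¹⁻¹ ∈ (Q : Subgroup G) := h2
      rwa [show x⁻¹ * (x * a * x⁻¹) * x⁻¹⁻¹ = a by group] at h3

include hcyc hno hnn hsimp hind in
/-- The Sylow subgroups form a TI set. -/
theorem sylow_eq_of_mem {Q₁ Q₂ : Sylow p G} {a : G} (h₁ : a ∈ (Q₁ : Subgroup G))
    (h₂ : a ∈ (Q₂ : Subgroup G)) (ha : a ≠ 1) : Q₁ = Q₂ := by
  obtain ⟨i, hi⟩ := exists_orderOf_eq_pow Q₁.2 h₁ ha
  set q := a ^ i with hq
  have hq1 : q ∈ (Q₁ : Subgroup G) := pow_mem h₁ i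
  have hq2 : q ∈ (Q₂ : Subgroup G) := pow_mem h₂ i
  set X := zpowers q with hX
  obtain ⟨m, hm, hmo, hfree⟩ := exists_mover hno Q₁ (hcyc Q₁)
  have hNX : normalizer ((Q₁ : Subgroup G) : Set G) ≤ normalizer (X : Set G) := by
    intro x hx
    refine CfsgLib.FGS.PByCyclic.mem_normalizer_of_conj fun s hs => ?_
    obtain ⟨j, rfl⟩ := hs
    show x * q ^ j * x⁻¹ ∈ X
    rw [← conj_zpow]
    exact zpow_mem (CfsgLib.FGS.PByCyclic.conj_mem_zpowers_of_cyclic _ (hcyc Q₁) hx hq1) j
  have htop : normalizer (X : Set G) ≠ ⊤ := by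
    intro h
    rcases hsimp X (normalizer_eq_top_iff.1 h) with h1 | h1
    · rw [hX, zpowers_eq_bot] at h1
      rw [h1, orderOf_one] at hi
      exact hp.out.one_lt.ne hi
    · exact hnn Q₁ ((top_le_iff.1 (h1.ge.trans (zpowers_le.2 hq1)) : (Q₁ : Subgroup G) = ⊤) ▸ inferInstance)
  have hN := le_normalizer_of_mover hcyc hno hind Q₁ htop (le_normalizer.trans hNX) (hNX hm) hm hmo hfree
  refine Sylow.ext (Q₂.3 Q₁.2 fun x hx => ?_)
  obtain ⟨k, hk⟩ := IsPGroup.iff_orderOf.1 Q₂.2 ⟨x, hx⟩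
  rw [Subgroup.orderOf_mk] at hk
  refine mem_sylow_of_normalizes Q₁ (hN ?_) hk
  refine CfsgLib.FGS.PByCyclic.mem_normalizer_of_conj fun s hs => ?_
  obtain ⟨j, rfl⟩ := hs
  show x * q ^ j * x⁻¹ ∈ X
  rw [← conj_zpow, comm_of_cyclic (hcyc Q₂) hx hq2, mul_inv_cancel_right]
  exact zpow_mem (mem_zpowers q) j

include hcyc hno hnn hsimp hind in
theorem mem_normalizer_of_conj_mem (Q : Sylow p G) {g a : G} (ha : a ∈ (Q : Subgroup G)) (ha1 : a ≠ 1)
    (hga : g * a * g⁻¹ ∈ (Q : Subgroup G)) : g ∈ normalizer ((Q : Subgroup G) : Set G) := by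
  refine Sylow.smul_eq_iff_mem_normalizer.1 ?_
  refine sylow_eq_of_mem hcyc hno hnn hsimp hind (a := g * a * g⁻¹) ?_ hga (by simpa using ha1)
  exact ⟨a, ha, rfl⟩

include hcyc hno hnn hsimp hind in
theorem mem_centralizer_sylow (Q : Sylow p G) {w a : G} (hw : (orderOf w).Coprime p)
    (ha : a ∈ (Q : Subgroup G)) (ha1 : a ≠ 1) (h : w * a = a * w) :
    w ∈ normalizer ((Q : Subgroup G) : Set G) ∧ ∀ s ∈ (Q : Subgroup G), w * s = s * w := by
  have hN := mem_normalizer_of_conj_mem hcyc hno hnn hsimp hind Q (g := w) ha ha1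
    (by rw [h, mul_inv_cancel_right]; exact ha)
  exact ⟨hN, centralizes_of_fix Q.2 (hcyc Q) hN hw ha ha1 h⟩

omit [Finite G] in
theorem coprime_two (hodd : p ≠ 2) {t : G} (ht : orderOf t = 2) : (orderOf t).Coprime p := by
  rw [ht]
  exact (Nat.coprime_primes Nat.prime_two hp.out).2 (Ne.symm hodd)

include hcyc in
/-- The `p'`-part of the centraliser of a Sylow subgroup. -/
theorem exists_prime_core_centralizer (Q : Sylow p G) :
    ∃ K : Subgroup G, ¬ p ∣ Nat.card K ∧
      (∀ w : G, (orderOf w).Coprime p → (∀ s ∈ (Q : Subgroup G), w * s = s * w) → w ∈ K) ∧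
      normalizer ((Q : Subgroup G) : Set G) ≤ normalizer (K : Set G) := by
  set C := centralizer ((Q : Subgroup G) : Set G) with hC
  have hQC : (Q : Subgroup G) ≤ C := fun a ha => mem_centralizer_iff.2 fun b hb => comm_of_cyclic (hcyc Q) hb ha
  have hcompl : HasNormalPComplement p C := by
    refine (hasNormalPComplement_iff_sylow (Q.subtype hQC)).2
      ⟨_, inferInstance, MonoidHom.ker_transferSylow_isComplement' (Q.subtype hQC) fun x _ => ?_⟩
    exact mem_centralizer_iff.2 fun b hb => Subtype.ext (mem_centralizer_iff.1 x.2 b hb)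
  haveI := pResidual_characteristic (G := C) (p := p)
  refine ⟨(pResidual p C).map C.subtype, ?_, fun w hw hcomm => ?_, ?_⟩
  · rw [card_map_of_injective C.subtype_injective]
    exact not_dvd_of_coprime (hasNormalPComplement_iff_pResidual.1 hcompl)
  · exact ⟨⟨w, mem_centralizer_iff.2 fun b hb => (hcomm b hb).symm⟩,
      mem_pResidual_of_coprime (by rwa [Subgroup.orderOf_mk]), rfl⟩
  · intro x hx
    refine CfsgLib.FGS.PByCyclic.mem_normalizer_of_conj fun s hs => ?_
    obtain ⟨c, hc, rfl⟩ := hs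
    have hxC : ∀ d ∈ C, x * d * x⁻¹ ∈ C := fun d hd => mem_centralizer_iff.2 fun b hb => by
      have h1 := mem_centralizer_iff.1 hd (x⁻¹ * b * x) ((mem_normalizer_iff''.1 hx b).1 hb)
      calc b * (x * d * x⁻¹) = x * (x⁻¹ * b * x * d) * x⁻¹ := by group
        _ = x * (d * (x⁻¹ * b * x)) * x⁻¹ := by rw [h1]
        _ = x * d * x⁻¹ * b := by group
    refine ⟨⟨x * c * x⁻¹, hxC c c.2⟩, ?_, rfl⟩
    have hco := hasNormalPComplement_iff_pResidual.1 hcompl
    obtain ⟨k, hk⟩ := index_pResidual (G := C) (p := p)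
    show (⟨x * c * x⁻¹, hxC c c.2⟩ : C) ∈ pResidual p C
    refine (mem_iff_coprime_orderOf hco hk _).2 ?_
    rw [Subgroup.orderOf_mk, ← MulAut.conj_apply, MulEquiv.orderOf_eq, Subgroup.orderOf_coe]
    exact (mem_iff_coprime_orderOf hco hk c).1 hc

include hab hcyc hno hnn hodd hsimp hind in
theorem centralizer_involution_eq (Q : Sylow p G) {t a : G} (ht : orderOf t = 2) (ha : a ∈ (Q : Subgroup G))
    (ha1 : a ≠ 1) (h : t * a = a * t) :
    centralizer ({t} : Set G) = normalizer ((Q : Subgroup G) : Set G) := by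
  obtain ⟨-, hC⟩ := mem_centralizer_sylow hcyc hno hnn hsimp hind Q (coprime_two hodd ht) ha ha1 h
  obtain ⟨K, hK, hKmem, hKN⟩ := exists_prime_core_centralizer hcyc Q
  have htK := hKmem t (coprime_two hodd ht) hC
  have hNle : normalizer ((Q : Subgroup G) : Set G) ≤ centralizer ({t} : Set G) := by
    intro x hx
    obtain ⟨i, j, ⟨k, hk⟩, hj, hij, -⟩ := CfsgLib.FGS.exists_p_parts p x
    rw [← hij]
    refine mul_mem (mem_centralizer_singleton_iff.2 ?_) (mem_centralizer_singleton_iff.2 ?_)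
    · exact (hC _ (mem_sylow_of_normalizes Q (pow_mem hx i) hk)).symm
    · exact sup_zpowers_comm hab hK (hKN (pow_mem hx j)) hj t htK
  refine le_antisymm ?_ hNle
  obtain ⟨m, hm, hmo, hfree⟩ := exists_mover hno Q (hcyc Q)
  refine le_normalizer_of_mover hcyc hno hind Q ?_ (le_normalizer.trans hNle) (hNle hm) hm hmo hfree
  intro htop
  have hz : ∀ g : G, g * t = t * g := fun g => mem_centralizer_singleton_iff.1 (htop.ge (mem_top g))
  have hn : (zpowers t).Normal := ⟨fun s hs g => by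
    obtain ⟨j, rfl⟩ := hs
    show g * t ^ j * g⁻¹ ∈ zpowers t
    rw [← conj_zpow, hz g, mul_inv_cancel_right]
    exact ⟨j, rfl⟩⟩
  rcases hsimp _ hn with h1 | h1
  · rw [zpowers_eq_bot] at h1; rw [h1, orderOf_one] at ht; omega
  · have hall : ∀ g : G, g ∈ zpowers t := fun g => h1.ge (mem_top g)
    obtain ⟨j, hj⟩ := hall a
    obtain ⟨k, hk⟩ := IsPGroup.iff_orderOf.1 Q.2 ⟨a, ha⟩
    rw [Subgroup.orderOf_mk] at hk
    refine ha1 (orderOf_eq_one_iff.1 (Nat.eq_one_of_dvd_coprimes ((coprime_two hodd ht).pow_right k)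
      (orderOf_dvd_of_mem_zpowers (hall a)) (hk ▸ dvd_rfl)))

omit hp in
theorem invol_inverts (Q : Sylow p G) (hc : IsCyclic Q) {u : G} (hu2 : u * u = 1)
    (huN : u ∈ normalizer ((Q : Subgroup G) : Set G))
    (hfree : ∀ s ∈ (Q : Subgroup G), u * s = s * u → s = 1) :
    ∀ s ∈ (Q : Subgroup G), u * s * u⁻¹ = s⁻¹ := by
  intro s hs
  have hs' : u * s * u⁻¹ ∈ (Q : Subgroup G) := (mem_normalizer_iff.1 huN s).1 hs
  have hui : u⁻¹ = u := inv_eq_of_mul_eq_one_right hu2
  refine eq_inv_of_mul_eq_one_left (hfree _ (mul_mem hs' hs) ?_)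
  have h1 : u * (u * s * u⁻¹ * s) * u⁻¹ = u * s * u⁻¹ * s := by
    rw [show u * (u * s * u⁻¹ * s) * u⁻¹ = (u * u) * s * (u * u)⁻¹ * (u * s * u⁻¹) by group, hu2, inv_one,
      one_mul, mul_one, comm_of_cyclic hc hs hs']
  exact mul_inv_eq_iff_eq_mul.1 h1

omit hp in
theorem orderOf_two_iff {x : G} : orderOf x = 2 ↔ x * x = 1 ∧ x ≠ 1 := by
  rw [orderOf_eq_prime_iff, pow_two]

/-- An involution commutes with an inverted element of order prime to `p` only if it is an involution. -/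
theorem sq_eq_one_of_inverted {G : Type u} [Group G] [Finite G] (hab : AbP p G) (hodd : p ≠ 2) {t c : G}
    (ht : orderOf t = 2) (hc : (orderOf c).Coprime p) (hinv : t * c * t⁻¹ = c⁻¹) :
    c * c = 1 ∧ t * c = c * t := by
  have hK : ¬ p ∣ Nat.card (zpowers c) := by
    rw [Nat.card_zpowers]; exact not_dvd_of_coprime hc
  have htN : t ∈ normalizer (zpowers c : Set G) := CfsgLib.FGS.PByCyclic.mem_normalizer_of_conj fun s hs => by
    obtain ⟨j, rfl⟩ := hs
    show t * c ^ j * t⁻¹ ∈ zpowers c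
    rw [← conj_zpow, hinv]
    exact zpow_mem (inv_mem (mem_zpowers c)) j
  have h := sup_zpowers_comm hab hK htN (coprime_two hodd ht) c (mem_zpowers c)
  refine ⟨?_, h⟩
  rw [h, mul_inv_cancel_right] at hinv
  nth_rewrite 2 [hinv]
  exact mul_inv_cancel c

include hab hcyc hno hnn hodd hsimp hind in
theorem exists_move_two {R : Sylow 2 G} :
    (∀ x ∈ (R : Subgroup G), ∀ x' ∈ (R : Subgroup G), x * x' = x' * x) ∧
    ((R : Subgroup G) = ⊥ ∨ ∃ y ∈ normalizer ((R : Subgroup G) : Set G), (∃ k, orderOf y = p ^ k) ∧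
      y ∉ centralizer ((R : Subgroup G) : Set G)) := by
  haveI : Fact (Nat.Prime 2) := ⟨Nat.prime_two⟩
  have hR : ¬ p ∣ Nat.card (R : Subgroup G) := by
    obtain ⟨k, hk⟩ := IsPGroup.iff_card.1 R.2
    rw [hk]
    exact fun h => hodd ((Nat.prime_dvd_prime_iff_eq hp.out Nat.prime_two).1 (hp.out.dvd_of_dvd_pow h))
  refine ⟨fun x hx x' hx' => comm_of hab hR hx hx', ?_⟩
  by_contra hcon
  push Not at hcon
  obtain ⟨hne, hcen⟩ := hcon
  have hle : normalizer ((R : Subgroup G) : Set G) ≤ centralizer ((R : Subgroup G) : Set G) := by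
    intro x hx
    obtain ⟨i, j, hi, hj, hij, -⟩ := CfsgLib.FGS.exists_p_parts p x
    rw [← hij]
    exact mul_mem (hcen _ (pow_mem hx i) hi) (mem_centralizer_iff.2 fun b hb =>
      (sup_zpowers_comm hab hR (pow_mem hx j) hj b hb).symm)
  have hK := MonoidHom.ker_transferSylow_isComplement' R hle
  rcases hsimp (MonoidHom.transferSylow R hle).ker inferInstance with h | h
  · rw [h] at hK
    obtain ⟨k, hk⟩ := IsPGroup.iff_card.1 R.2
    rw [isComplement'_bot_left.1 hK, card_top] at hk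
    refine hno ?_
    refine ⟨default, ⊤, inferInstance, ?_⟩
    rw [show ((default : Sylow p G) : Subgroup G) = ⊥ from card_eq_one.1 ?_]
    · exact isComplement'_top_bot
    obtain ⟨a, ha⟩ := IsPGroup.iff_card.1 (default : Sylow p G).2
    exact Nat.eq_one_of_dvd_coprimes
      (((Nat.coprime_primes hp.out Nat.prime_two).2 hodd).pow a k) (ha ▸ dvd_rfl) (hk ▸ card_subgroup_dvd_card _)
  · rw [h, isComplement'_top_left] at hK
    exact hne hK

/-- Involutions. -/
abbrev Inv (G : Type u) [Group G] := {x : G // orderOf x = 2}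

include hab hcyc hno hnn hodd hsimp hind in
/-- Some involution centralises a nontrivial `p`-element. -/
theorem exists_central (hev : 2 ∣ Nat.card G) :
    ∃ (Q : Sylow p G) (t a : G), orderOf t = 2 ∧ a ∈ (Q : Subgroup G) ∧ a ≠ 1 ∧ t * a = a * t := by
  classical
  haveI : Fact (Nat.Prime 2) := ⟨Nat.prime_two⟩
  by_contra hcon
  push Not at hcon
  -- `hcon`: no involution commutes with a nontrivial `p`-element
  have hpel : ∀ {t b : G}, orderOf t = 2 → (∃ k, orderOf b = p ^ k) → t * b = b * t → b = 1 := by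
    intro t b ht ⟨k, hk⟩ h
    obtain ⟨Q, hQ⟩ := (CfsgLib.FGS.isPGroup_zpowers hk).exists_le_sylow
    by_contra hb
    exact hcon Q t b ht (hQ (mem_zpowers b)) hb h
  have hprod : ∀ {t u : G}, orderOf t = 2 → orderOf u = 2 → t * u ≠ u * t →
      ∃ Q : Sylow p G, t * u ∈ (Q : Subgroup G) ∧ t * u ≠ 1 ∧ t ∈ normalizer ((Q : Subgroup G) : Set G) := by
    intro t u ht hu hne
    obtain ⟨ht2, -⟩ := orderOf_two_iff.1 ht
    obtain ⟨hu2, -⟩ := orderOf_two_iff.1 hu
    have hti : t⁻¹ = t := inv_eq_of_mul_eq_one_right ht2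
    have hui : u⁻¹ = u := inv_eq_of_mul_eq_one_right hu2
    set d := t * u with hd
    have hinv : ∀ n : ℕ, t * d ^ n * t⁻¹ = (d ^ n)⁻¹ := by
      intro n
      rw [← conj_pow, ← inv_pow]
      congr 1
      rw [hd, mul_inv_rev, hti, hui, ← mul_assoc, ht2, one_mul]
    obtain ⟨i, j, ⟨k, hk⟩, hj, hij, -⟩ := CfsgLib.FGS.exists_p_parts p d
    obtain ⟨hc2, hct⟩ := sq_eq_one_of_inverted hab hodd ht hj (hinv j)
    have hc1 : d ^ j = 1 := by
      by_contra hc
      have hb := hpel (orderOf_two_iff.2 ⟨hc2, hc⟩) ⟨k, hk⟩ ((Commute.refl d).pow_pow j i).eq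
      rw [hb, one_mul] at hij
      rw [hij] at hct hc2
      apply hne
      calc t * u = d := rfl
        _ = d⁻¹ := (inv_eq_of_mul_eq_one_right hc2).symm
        _ = u * t := by rw [hd, mul_inv_rev, hti, hui]
    rw [hc1, mul_one] at hij
    rw [hij] at hk
    have hd1 : d ≠ 1 := fun h => hne (by
      rw [← mul_left_cancel_iff (a := t), ← mul_assoc, ht2, one_mul]
      have : u = t := by rw [← hti]; exact eq_inv_of_mul_eq_one_right h
      rw [this, ht2, mul_one])
    obtain ⟨Q, hQ⟩ := (CfsgLib.FGS.isPGroup_zpowers hk).exists_le_sylow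
    refine ⟨Q, hQ (mem_zpowers d), hd1, ?_⟩
    refine mem_normalizer_of_conj_mem hcyc hno hnn hsimp hind Q (hQ (mem_zpowers d)) hd1 ?_
    have := hinv 1
    rw [pow_one] at this
    rw [this]
    exact inv_mem (hQ (mem_zpowers d))
  by_cases hex : ∃ (t : G) (Q : Sylow p G), orderOf t = 2 ∧ t ∈ normalizer ((Q : Subgroup G) : Set G)
  swap
  · -- all involutions commute
    push Not at hex
    obtain ⟨t₀, ht₀⟩ := exists_prime_orderOf_dvd_card' (G := G) 2 hev
    set S := closure {x : G | orderOf x = 2}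
    have hS : S ≤ centralizer (S : Set G) := by
      rw [centralizer_closure, closure_le]
      intro x hx
      refine mem_centralizer_iff.2 fun y hy => ?_
      by_contra hne
      obtain ⟨Q, -, -, hN⟩ := hprod (t := y) (u := x) hy hx hne
      exact hex y Q hy hN
    have hSn : S.Normal := ⟨fun s hs g => by
      have hle : S ≤ S.comap (MulAut.conj g).toMonoidHom := (closure_le _).2 fun x hx =>
        subset_closure (show orderOf (MulAut.conj g x) = 2 by rw [MulEquiv.orderOf_eq]; exact hx)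
      exact hle hs⟩
    rcases hsimp S hSn with h | h
    · have : t₀ ∈ S := subset_closure ht₀
      rw [h, mem_bot] at this
      rw [this, orderOf_one] at ht₀
      omega
    · obtain ⟨m, -, -, hfree⟩ := exists_mover hno default (hcyc default)
      refine hno ⟨default, ⊤, inferInstance, ?_⟩
      rw [show ((default : Sylow p G) : Subgroup G) = ⊥ from (eq_bot_iff_forall _).2 fun a ha =>
        hfree a ha ((mem_centralizer_iff.1 (hS (h.ge (mem_top a))) m (h.ge (mem_top m))))]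
      exact isComplement'_top_bot
  obtain ⟨t, Q₀, ht, htN⟩ := hex
  obtain ⟨ht2, -⟩ := orderOf_two_iff.1 ht
  obtain ⟨R, hR⟩ := (CfsgLib.FGS.isPGroup_zpowers (k := 1) (ht.trans (pow_one 2).symm)).exists_le_sylow
  have htR : t ∈ (R : Subgroup G) := hR (mem_zpowers t)
  obtain ⟨hRc, hRy⟩ := exists_move_two hab hcyc hno hnn hodd hsimp hind (R := R)
  rcases hRy with hbot | ⟨y, hyN, hyp, hyC⟩
  · rw [hbot, mem_bot] at htR
    rw [htR, orderOf_one] at ht
    omega
  have hy1 : y ≠ 1 := fun h => hyC (h ▸ one_mem _)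
  obtain ⟨k, hk⟩ := hyp
  have hYp : IsPGroup p (zpowers y) := CfsgLib.FGS.isPGroup_zpowers hk
  -- the involutions
  letI : MulAction (zpowers y) (Inv G) :=
    { smul := fun g x => ⟨(g : G) * x.1 * (g : G)⁻¹, by rw [← MulAut.conj_apply, MulEquiv.orderOf_eq]; exact x.2⟩
      one_smul := fun x => Subtype.ext (show ((1 : zpowers y) : G) * x.1 * ((1 : zpowers y) : G)⁻¹ = x.1 by simp)
      mul_smul := fun g h x => Subtype.ext (show ((g * h : zpowers y) : G) * x.1 * ((g * h : zpowers y) : G)⁻¹ =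
        (g : G) * ((h : G) * x.1 * (h : G)⁻¹) * (g : G)⁻¹ by rw [Subgroup.coe_mul]; group) }
  have hfix : ∀ x : Inv G, x ∉ MulAction.fixedPoints (zpowers y) (Inv G) := fun x hx => by
    have h : y * x.1 * y⁻¹ = x.1 := congrArg Subtype.val (hx ⟨y, mem_zpowers y⟩)
    exact hy1 (hpel x.2 ⟨k, hk⟩ (mul_inv_eq_iff_eq_mul.1 h).symm)
  have hI : p ∣ Nat.card (Inv G) := by
    refine Nat.modEq_zero_iff_dvd.1 ((hYp.card_modEq_card_fixedPoints (Inv G)).trans ?_)
    rw [show Nat.card (MulAction.fixedPoints (zpowers y) (Inv G)) = 0 from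
      Nat.card_eq_zero.2 (Or.inl ⟨fun x => hfix x.1 x.2⟩)]
  have hcomR : ∀ x : Inv G, x.1 * t = t * x.1 → x.1 ∈ (R : Subgroup G) := by
    intro x hx
    have hCt : ¬ p ∣ Nat.card (centralizer ({t} : Set G)) := fun hd => by
      obtain ⟨⟨b, hb⟩, hbo⟩ := exists_prime_orderOf_dvd_card' (G := centralizer ({t} : Set G)) p hd
      rw [Subgroup.orderOf_mk] at hbo
      have hb1 := hpel ht ⟨1, by rw [hbo, pow_one]⟩ (mem_centralizer_singleton_iff.1 hb).symm
      rw [hb1, orderOf_one] at hbo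
      exact hp.out.one_lt.ne hbo
    have hxR : x.1 ∈ normalizer ((R : Subgroup G) : Set G) := by
      refine CfsgLib.FGS.PByCyclic.mem_normalizer_of_conj fun s hs => ?_
      rw [comm_of hab hCt (mem_centralizer_singleton_iff.2 hx)
        (mem_centralizer_singleton_iff.2 (hRc s hs t htR)), mul_inv_cancel_right]
      exact hs
    exact mem_sylow_of_normalizes (p := 2) R hxR (k := 1) (x.2.trans (pow_one 2).symm)
  let Com := {x : Inv G // x.1 * t = t * x.1}
  have hCom : p ∣ Nat.card Com := by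
    letI : MulAction (zpowers y) Com :=
      { smul := fun g x => ⟨g • x.1, by
          have hg : (g : G) ∈ normalizer ((R : Subgroup G) : Set G) := zpowers_le.2 hyN g.2
          exact hRc _ ((mem_normalizer_iff.1 hg _).1 (hcomR x.1 x.2)) t htR⟩
        one_smul := fun x => Subtype.ext (one_smul (zpowers y) x.1)
        mul_smul := fun g h x => Subtype.ext (mul_smul g h x.1) }
    refine Nat.modEq_zero_iff_dvd.1 ((hYp.card_modEq_card_fixedPoints Com).trans ?_)
    rw [show Nat.card (MulAction.fixedPoints (zpowers y) Com) = 0 from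
      Nat.card_eq_zero.2 (Or.inl ⟨fun x => hfix x.1.1 fun g => congrArg Subtype.val (x.2 g)⟩)]
  let F := {Q : Sylow p G // t ∈ normalizer ((Q : Subgroup G) : Set G)}
  have hinv : ∀ Q : F, ∀ s ∈ ((Q.1 : Sylow p G) : Subgroup G), t * s * t⁻¹ = s⁻¹ := fun Q =>
    invol_inverts Q.1 (hcyc Q.1) ht2 Q.2 fun s hs h => hpel ht
      (by obtain ⟨a, ha⟩ := IsPGroup.iff_orderOf.1 Q.1.2 ⟨s, hs⟩; exact ⟨a, by rwa [Subgroup.orderOf_mk] at ha⟩) h
  have hti : t⁻¹ = t := inv_eq_of_mul_eq_one_right ht2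
  have hNon : Nat.card {x : Inv G // x.1 * t ≠ t * x.1} =
      Nat.card (Σ Q : F, {s : ((Q.1 : Sylow p G) : Subgroup G) // s ≠ 1}) := by
    symm
    have hmk : ∀ z : Σ Q : F, {s : ((Q.1 : Sylow p G) : Subgroup G) // s ≠ 1},
        orderOf (t * (z.2.1 : G)) = 2 ∧ t * (z.2.1 : G) * t ≠ t * (t * (z.2.1 : G)) := by
      rintro ⟨Q, ⟨s, hs⟩, hs1⟩
      have h1 := hinv Q s hs
      rw [hti] at h1
      have hs1' : s ≠ 1 := fun h => hs1 (Subtype.ext h)
      have hne : t * s * t ≠ t * (t * s) := by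
        rw [h1, ← mul_assoc, ht2, one_mul]
        intro h
        exact hs1' (hpel ht (by obtain ⟨a, ha⟩ := IsPGroup.iff_orderOf.1 Q.1.2 ⟨s, hs⟩
                                exact ⟨a, by rwa [Subgroup.orderOf_mk] at ha⟩) (by
          rw [← mul_inv_eq_iff_eq_mul, hti, h1, h]))
      refine ⟨orderOf_two_iff.2 ⟨?_, fun h => hne (by rw [h]; simp)⟩, hne⟩
      show t * s * (t * s) = 1
      rw [← mul_assoc, h1, inv_mul_cancel]
    refine Nat.card_congr (Equiv.ofBijective (fun z => (⟨⟨t * (z.2.1 : G), (hmk z).1⟩, (hmk z).2⟩ :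
      {x : Inv G // x.1 * t ≠ t * x.1})) ⟨?_, ?_⟩)
    · rintro ⟨Q, ⟨s, hs⟩, hs1⟩ ⟨Q', ⟨s', hs'⟩, hs1'⟩ h
      have h2 : s = s' := mul_left_cancel (congrArg Subtype.val (congrArg Subtype.val h))
      subst h2
      obtain rfl : Q = Q' := Subtype.ext (sylow_eq_of_mem hcyc hno hnn hsimp hind hs hs' fun h => hs1 (Subtype.ext h))
      rfl
    · rintro ⟨⟨x, hx⟩, hne⟩
      obtain ⟨Q, hQ, hd1, hN⟩ := hprod ht hx (Ne.symm hne)
      exact ⟨⟨⟨Q, hN⟩, ⟨t * x, hQ⟩, fun h => hd1 (congrArg Subtype.val h)⟩,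
        Subtype.ext (Subtype.ext (by show t * (t * x) = x; rw [← mul_assoc, ht2, one_mul]))⟩
  set q := Nat.card (Q₀ : Subgroup G) with hq
  have hq1 : Nat.card (Σ Q : F, {s : ((Q.1 : Sylow p G) : Subgroup G) // s ≠ 1}) = Nat.card F * (q - 1) := by
    letI := Fintype.ofFinite F
    rw [Nat.card_sigma, Finset.sum_congr rfl (g := fun _ => q - 1), Finset.sum_const, smul_eq_mul,
      Finset.card_univ, ← Nat.card_eq_fintype_card]
    intro Q _
    letI := Fintype.ofFinite ((Q.1 : Sylow p G) : Subgroup G)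
    rw [Nat.card_eq_fintype_card, Fintype.card_subtype_compl, Fintype.card_subtype_eq, ← Nat.card_eq_fintype_card,
      hq, Sylow.card_eq_multiplicity, Sylow.card_eq_multiplicity]
  have hF : ¬ p ∣ Nat.card F := by
    intro hd
    have heq : Nat.card F = Nat.card (MulAction.orbit (centralizer ({t} : Set G)) Q₀) := by
      refine Nat.card_congr (Equiv.subtypeEquivRight fun Q => ?_)
      constructor
      · intro hQ
        obtain ⟨g, rfl⟩ := MulAction.exists_smul_eq G Q₀ Q
        have hu : g⁻¹ * t * g ∈ normalizer ((Q₀ : Subgroup G) : Set G) := by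
          refine Sylow.smul_eq_iff_mem_normalizer.1 ?_
          rw [mul_smul, mul_smul, Sylow.smul_eq_iff_mem_normalizer.2 hQ, inv_smul_smul]
        have hu2 : orderOf (g⁻¹ * t * g) = 2 := by
          rw [show g⁻¹ * t * g = MulAut.conj g⁻¹ t by simp, MulEquiv.orderOf_eq, ht]
        have hu2' := (orderOf_two_iff.1 hu2).1
        set u := g⁻¹ * t * g with hudef
        set x := t * u with hxdef
        have hui : u⁻¹ = u := inv_eq_of_mul_eq_one_right hu2'
        have hxN : x ∈ normalizer ((Q₀ : Subgroup G) : Set G) := mul_mem htN hu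
        have hinvu := invol_inverts Q₀ (hcyc Q₀) hu2' hu fun s hs h => hpel hu2
          (by obtain ⟨a, ha⟩ := IsPGroup.iff_orderOf.1 Q₀.2 ⟨s, hs⟩; exact ⟨a, by rwa [Subgroup.orderOf_mk] at ha⟩) h
        have hxC : ∀ s ∈ (Q₀ : Subgroup G), x * s = s * x := fun s hs => by
          have h1 := hinv ⟨Q₀, htN⟩ _ (inv_mem hs)
          rw [inv_inv] at h1
          rw [← mul_inv_eq_iff_eq_mul, hxdef, show t * u * s * (t * u)⁻¹ = t * (u * s * u⁻¹) * t⁻¹ by group,
            hinvu s hs, h1]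
        obtain ⟨i, j, ⟨a, ha⟩, hj, hij, -⟩ := CfsgLib.FGS.exists_p_parts p x
        have hxinv : t * x ^ j * t⁻¹ = (x ^ j)⁻¹ := by
          rw [← conj_pow, ← inv_pow]
          congr 1
          rw [hxdef, mul_inv_rev, hti, hui, ← mul_assoc, ht2, one_mul]
        have hc1 : x ^ j = 1 := by
          obtain ⟨hc2, -⟩ := sq_eq_one_of_inverted hab hodd ht hj hxinv
          by_contra hc
          obtain ⟨s, hs, hs1⟩ := SetLike.exists_of_lt (bot_lt_iff_ne_bot.2 fun (h0 : (Q₀ : Subgroup G) = ⊥) => hnn Q₀ (by rw [h0]; infer_instance))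
          exact hs1 (mem_bot.2 (hpel (orderOf_two_iff.2 ⟨hc2, hc⟩)
            (by obtain ⟨a, ha⟩ := IsPGroup.iff_orderOf.1 Q₀.2 ⟨s, hs⟩; exact ⟨a, by rwa [Subgroup.orderOf_mk] at ha⟩)
            ((show Commute x s from hxC s hs).pow_left j).eq))
        have hxQ : x ∈ (Q₀ : Subgroup G) := by
          rw [← hij, hc1, mul_one]
          exact mem_sylow_of_normalizes Q₀ (pow_mem hxN i) ha
        -- a square root of `x`
        obtain ⟨a', ha'⟩ := IsPGroup.iff_card.1 Q₀.2
        have hcop : (Nat.card (Q₀ : Subgroup G)).Coprime 2 := ha' ▸ ((Nat.coprime_primes hp.out Nat.prime_two).2 hodd).pow_left a'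
        obtain ⟨r, hr⟩ := (powCoprime hcop).surjective ⟨x, hxQ⟩
        have hr' : (r : G) ^ 2 = x := congrArg Subtype.val hr
        have hgu : (g * (r : G)⁻¹) * t = t * (g * (r : G)⁻¹) := by
          have h1 := hinv ⟨Q₀, htN⟩ (r : G) r.2
          rw [hti] at h1
          calc g * (r : G)⁻¹ * t = g * (t * (r : G) * t) * t := by rw [h1]
            _ = g * (t * (r : G)) * (t * t) := by group
            _ = g * (t * (r : G) ^ 2) * (r : G)⁻¹ := by rw [ht2, mul_one, pow_two]; group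
            _ = g * (t * (t * u)) * (r : G)⁻¹ := by rw [hr', hxdef]
            _ = g * u * (r : G)⁻¹ := by rw [← mul_assoc t t, ht2, one_mul]
            _ = t * (g * (r : G)⁻¹) := by rw [hudef]; group
        refine ⟨⟨g * (r : G)⁻¹, mem_centralizer_singleton_iff.2 hgu⟩, ?_⟩
        show (g * (r : G)⁻¹) • Q₀ = g • Q₀
        rw [mul_smul, Sylow.smul_eq_iff_mem_normalizer.2 (inv_mem (le_normalizer r.2))]
      · rintro ⟨⟨c, hc⟩, rfl⟩
        show t ∈ normalizer (((c • Q₀ : Sylow p G) : Subgroup G) : Set G)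
        refine Sylow.smul_eq_iff_mem_normalizer.1 ?_
        rw [← mul_smul, ← mem_centralizer_singleton_iff.1 hc, mul_smul,
          Sylow.smul_eq_iff_mem_normalizer.2 htN]
    rw [heq] at hd
    have hd2 : p ∣ Nat.card (centralizer ({t} : Set G)) := by
      refine hd.trans ?_
      rw [Nat.card_congr (MulAction.orbitEquivQuotientStabilizer _ Q₀)]
      exact card_quotient_dvd_card _
    obtain ⟨⟨b, hb⟩, hbo⟩ := exists_prime_orderOf_dvd_card' (G := centralizer ({t} : Set G)) p hd2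
    rw [Subgroup.orderOf_mk] at hbo
    have hb1 := hpel ht ⟨1, by rw [hbo, pow_one]⟩ (mem_centralizer_singleton_iff.1 hb).symm
    rw [hb1, orderOf_one] at hbo
    exact hp.out.one_lt.ne hbo
  letI := Fintype.ofFinite (Inv G)
  have hsum : Nat.card Com + Nat.card F * (q - 1) = Nat.card (Inv G) := by
    rw [← hq1, ← hNon, ← Nat.card_sum]
    exact Nat.card_congr (Equiv.sumCompl _)
  have hdiv : p ∣ Nat.card F * (q - 1) := (Nat.dvd_add_right hCom).1 (hsum ▸ hI)
  obtain ⟨a, ha⟩ := IsPGroup.iff_card.1 Q₀.2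
  rcases hp.out.dvd_mul.1 hdiv with h | h
  · exact hF h
  · have hq0 : 1 ≤ q := Nat.card_pos
    have hpq : p ∣ q := by
      rcases a with _ | a
      · exfalso; exact hnn Q₀ (Subgroup.card_eq_one.1 (by rw [ha, pow_zero]) ▸ inferInstance)
      · rw [hq, ha]; exact dvd_pow_self p a.succ_ne_zero
    have h1 := (Nat.dvd_add_right h).1 (by rwa [Nat.sub_add_cancel hq0] : p ∣ q - 1 + 1)
    exact hp.out.not_dvd_one h1

include hab hcyc hno hnn hodd hsimp hind in
/-- The central involution of a Sylow subgroup is unique in any Sylow `2`-subgroup, and all involutions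
are conjugate to one. -/
theorem central_unique_aux (R : Sylow 2 G) (Q : Sylow p G) {z : G} (hz : orderOf z = 2)
    (hzR : z ∈ (R : Subgroup G)) (hzQ : ∀ s ∈ (Q : Subgroup G), z * s = s * z) :
    (∀ a ∈ (R : Subgroup G), orderOf a = 2 → (∀ s ∈ (Q : Subgroup G), a * s = s * a) → a = z) ∧
      ∀ b ∈ (R : Subgroup G), orderOf b = 2 → ∃ g : G, g * z * g⁻¹ = b := by
  classical
  haveI : Fact (Nat.Prime 2) := ⟨Nat.prime_two⟩
  obtain ⟨hRc, hRy⟩ := exists_move_two hab hcyc hno hnn hodd hsimp hind (R := R)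
  rcases hRy with hbot | ⟨y₀, hy₀N, ⟨k₀, hk₀⟩, hy₀C⟩
  · rw [hbot, mem_bot] at hzR
    rw [hzR, orderOf_one] at hz
    omega
  have hQne : (Q : Subgroup G) ≠ ⊥ := fun (h0 : (Q : Subgroup G) = ⊥) => hnn Q (by rw [h0]; infer_instance)
  obtain ⟨s₁, hs₁, hs₁1⟩ := SetLike.exists_of_lt (bot_lt_iff_ne_bot.2 hQne)
  rw [mem_bot] at hs₁1
  have hCz := centralizer_involution_eq hab hcyc hno hnn hodd hsimp hind Q hz hs₁ hs₁1 (hzQ s₁ hs₁)
  have hRQ : (R : Subgroup G) ≤ normalizer ((Q : Subgroup G) : Set G) := fun r hr =>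
    hCz ▸ mem_centralizer_singleton_iff.2 (hRc r hr z hzR)
  have hRp : ∀ r ∈ (R : Subgroup G), (orderOf r).Coprime p := fun r hr => by
    obtain ⟨a, ha⟩ := IsPGroup.iff_orderOf.1 R.2 ⟨r, hr⟩
    rw [Subgroup.orderOf_mk] at ha
    rw [ha]
    exact ((Nat.coprime_primes Nat.prime_two hp.out).2 (Ne.symm hodd)).pow_left a
  -- elements of `Q` normalising `R` centralise it
  have hQR : ∀ y, y ∈ normalizer ((Q : Subgroup G) : Set G) → (∃ a, orderOf y = p ^ a) →
      y ∈ normalizer ((R : Subgroup G) : Set G) → y ∈ centralizer ((R : Subgroup G) : Set G) := by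
    intro y hyQ ⟨a, ha⟩ hyR
    have hy := mem_sylow_of_normalizes Q hyQ ha
    refine mem_centralizer_iff.2 fun r hr => ?_
    have h1 : y * r * y⁻¹ * r⁻¹ ∈ (R : Subgroup G) := mul_mem ((mem_normalizer_iff.1 hyR r).1 hr) (inv_mem hr)
    have h2 : y * r * y⁻¹ * r⁻¹ ∈ (Q : Subgroup G) := by
      rw [show y * r * y⁻¹ * r⁻¹ = y * (r * y⁻¹ * r⁻¹) by group]
      exact mul_mem hy ((mem_normalizer_iff.1 (hRQ hr) _).1 (inv_mem hy))
    obtain ⟨b, hb⟩ := IsPGroup.iff_orderOf.1 Q.2 ⟨_, h2⟩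
    rw [Subgroup.orderOf_mk] at hb
    have h3 := orderOf_eq_one_iff.1 (Nat.eq_one_of_dvd_coprimes ((hRp _ h1).pow_right b) dvd_rfl (hb ▸ dvd_rfl))
    exact (mul_inv_eq_iff_eq_mul.1 (mul_inv_eq_one.1 h3)).symm
  -- replace `y₀` by an element of order `p`
  have hex : ∃ n, y₀ ^ p ^ n ∈ centralizer ((R : Subgroup G) : Set G) :=
    ⟨k₀, by rw [← hk₀, pow_orderOf_eq_one]; exact one_mem _⟩
  obtain ⟨n, hn⟩ : ∃ n, Nat.find hex = n + 1 :=
    ⟨Nat.find hex - 1, (Nat.sub_add_cancel (Nat.one_le_iff_ne_zero.2 fun h => hy₀C (by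
      have := Nat.find_spec hex
      rwa [h, pow_zero, pow_one] at this))).symm⟩
  set y := y₀ ^ p ^ n with hy
  have hyC : y ∉ centralizer ((R : Subgroup G) : Set G) := Nat.find_min hex (by omega)
  have hyR : y ∈ normalizer ((R : Subgroup G) : Set G) := pow_mem hy₀N _
  have hypow : ∃ a, orderOf y = p ^ a := by
    obtain ⟨a, -, ha⟩ := (Nat.dvd_prime_pow hp.out).1 (hk₀ ▸ orderOf_pow_dvd (x := y₀) (p ^ n))
    exact ⟨a, ha⟩
  have hyQ : y ∉ normalizer ((Q : Subgroup G) : Set G) := fun h => hyC (hQR y h hypow hyR)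
  have hyp : y ^ p = 1 := by
    by_contra hne
    have h1 : y ^ p ∈ centralizer ((R : Subgroup G) : Set G) := by
      rw [hy, ← pow_mul, ← pow_succ, ← hn]; exact Nat.find_spec hex
    obtain ⟨a, ha⟩ := hypow
    obtain ⟨b, -, hb⟩ := (Nat.dvd_prime_pow hp.out).1 (ha ▸ orderOf_pow_dvd (x := y) p)
    have h2 : y ^ p ∈ normalizer ((Q : Subgroup G) : Set G) :=
      hCz ▸ mem_centralizer_singleton_iff.2 (mem_centralizer_iff.1 h1 z hzR).symm
    have h3 := mem_sylow_of_normalizes Q h2 hb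
    exact hyQ (mem_normalizer_of_conj_mem hcyc hno hnn hsimp hind Q h3 hne
      (by rw [(Commute.self_pow y p).eq, mul_inv_cancel_right]; exact h3))
  let cen : G → Prop := fun a => ∀ s ∈ (Q : Subgroup G), a * s = s * a
  let Ω := {a : G // a ∈ (R : Subgroup G) ∧ orderOf a = 2}
  letI := Fintype.ofFinite Ω
  let A := Finset.univ.filter fun a : Ω => cen a.1
  let B := Finset.univ.filter fun a : Ω => ¬ cen a.1
  let cj : ℕ → Ω → Ω := fun i a => ⟨y ^ i * a.1 * (y ^ i)⁻¹,
    (mem_normalizer_iff.1 (pow_mem hyR i) _).1 a.2.1,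
    by rw [← MulAut.conj_apply, MulEquiv.orderOf_eq]; exact a.2.2⟩
  have hback : ∀ (i : ℕ) (a : Ω), cen a.1 → cen (cj i a).1 → ¬ p ∣ i → False := by
    intro i a ha ha' hi
    have e1 := centralizer_involution_eq hab hcyc hno hnn hodd hsimp hind Q a.2.2 hs₁ hs₁1 (ha s₁ hs₁)
    have e2 := centralizer_involution_eq hab hcyc hno hnn hodd hsimp hind Q (cj i a).2.2 hs₁ hs₁1 (ha' s₁ hs₁)
    have h1 : y ^ i * s₁ * (y ^ i)⁻¹ ∈ (Q : Subgroup G) := by
      obtain ⟨b, hb⟩ := IsPGroup.iff_orderOf.1 Q.2 ⟨s₁, hs₁⟩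
      rw [Subgroup.orderOf_mk] at hb
      refine mem_sylow_of_normalizes Q ?_ (k := b) (by rw [← MulAut.conj_apply, MulEquiv.orderOf_eq, hb])
      rw [← e2, mem_centralizer_singleton_iff]
      show y ^ i * s₁ * (y ^ i)⁻¹ * (y ^ i * a.1 * (y ^ i)⁻¹) = y ^ i * a.1 * (y ^ i)⁻¹ * (y ^ i * s₁ * (y ^ i)⁻¹)
      rw [show y ^ i * s₁ * (y ^ i)⁻¹ * (y ^ i * a.1 * (y ^ i)⁻¹) = y ^ i * (s₁ * a.1) * (y ^ i)⁻¹ by group,
        ← ha s₁ hs₁]
      group
    have h2 := mem_normalizer_of_conj_mem hcyc hno hnn hsimp hind Q hs₁ hs₁1 h1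
    obtain ⟨j, hj⟩ : ∃ j, (y ^ i) ^ j = y := by
      refine exists_pow_eq_self_of_coprime ?_
      exact Nat.Coprime.coprime_dvd_right (orderOf_dvd_of_pow_eq_one hyp)
        (coprime_of_not_dvd hi)
    exact hyQ (hj ▸ pow_mem h2 j)
  have hinj : ∀ (i i' : ℕ) (a a' : Ω), cen a.1 → cen a'.1 → i ≤ i' → i' < p → cj i a = cj i' a' → i = i' ∧ a = a' := by
    intro i i' a a' ha ha' hii hi'p h
    have h' : y ^ i * a.1 * (y ^ i)⁻¹ = y ^ i' * a'.1 * (y ^ i')⁻¹ := congrArg Subtype.val h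
    obtain ⟨d, rfl⟩ := Nat.exists_eq_add_of_le hii
    have h2 : cj d a' = a := Subtype.ext (by
      show y ^ d * a'.1 * (y ^ d)⁻¹ = a.1
      rw [pow_add] at h'
      calc y ^ d * a'.1 * (y ^ d)⁻¹ = (y ^ i)⁻¹ * (y ^ i * y ^ d * a'.1 * (y ^ i * y ^ d)⁻¹) * y ^ i := by group
        _ = a.1 := by rw [← h']; group)
    rcases Nat.eq_zero_or_pos d with rfl | hd
    · refine ⟨rfl, ?_⟩
      rw [← h2]
      exact Subtype.ext (by show y ^ 0 * a'.1 * (y ^ 0)⁻¹ = a'.1; simp)
    · exact (hback d a' ha' (by rw [h2]; exact ha) (Nat.not_dvd_of_pos_of_lt hd (by omega))).elim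
  have himg : ∀ x ∈ A ×ˢ Finset.Icc 1 (p - 1), cj x.2 x.1 ∈ B := by
    intro x hx
    obtain ⟨hxA, hxi⟩ := Finset.mem_product.1 hx
    obtain ⟨h1, h2⟩ := Finset.mem_Icc.1 hxi
    refine Finset.mem_filter.2 ⟨Finset.mem_univ _, fun h => ?_⟩
    exact hback x.2 x.1 (Finset.mem_filter.1 hxA).2 h (Nat.not_dvd_of_pos_of_lt h1 (by omega))
  have hcard1 : A.card * (p - 1) ≤ B.card := by
    have := Finset.card_le_card_of_injOn (fun x : Ω × ℕ => cj x.2 x.1) (fun x hx => himg x hx) (by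
      rintro ⟨a, i⟩ hx ⟨a', i'⟩ hx' h
      simp only [Finset.coe_product, Set.mem_prod, Finset.mem_coe, Finset.mem_Icc] at hx hx'
      have ha := (Finset.mem_filter.1 hx.1).2
      have ha' := (Finset.mem_filter.1 hx'.1).2
      rcases le_total i i' with hle | hle
      · obtain ⟨rfl, rfl⟩ := hinj i i' a a' ha ha' hle (by omega) h; rfl
      · obtain ⟨rfl, rfl⟩ := hinj i' i a' a ha' ha hle (by omega) h.symm; rfl)
    simpa [Finset.card_product] using this
  have hinvB : ∀ b ∈ B, ∀ s ∈ (Q : Subgroup G), b.1 * s * b.1⁻¹ = s⁻¹ := by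
    intro b hb
    refine invol_inverts Q (hcyc Q) (orderOf_two_iff.1 b.2.2).1 (hRQ b.2.1) fun s hs h => ?_
    by_contra hs1
    exact (Finset.mem_filter.1 hb).2 (mem_centralizer_sylow hcyc hno hnn hsimp hind Q (hRp _ b.2.1) hs hs1 h).2
  have hcard2 : B.card ≤ A.card + 1 := by
    rcases B.eq_empty_or_nonempty with h | ⟨b₀, hb₀⟩
    · simp [h]
    have h1 : (B.erase b₀).card ≤ A.card := by
      refine Finset.card_le_card_of_injOn (fun b => if h : b₀.1 * b.1 = 1 then b₀ else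
        (⟨b₀.1 * b.1, mul_mem b₀.2.1 b.2.1, orderOf_two_iff.2 ⟨by
          rw [show b₀.1 * b.1 * (b₀.1 * b.1) = b₀.1 * (b.1 * b₀.1) * b.1 by group, hRc _ b.2.1 _ b₀.2.1,
            ← mul_assoc, (orderOf_two_iff.1 b₀.2.2).1, one_mul, (orderOf_two_iff.1 b.2.2).1], h⟩⟩ : Ω)) ?_ ?_
      · intro b hb
        obtain ⟨hne, hbB⟩ := Finset.mem_erase.1 hb
        have hne1 : ¬ b₀.1 * b.1 = 1 := fun h => hne (Subtype.ext (by
          rw [eq_comm, ← inv_eq_of_mul_eq_one_right h, inv_eq_of_mul_eq_one_right (orderOf_two_iff.1 b₀.2.2).1]))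
        simp only [dif_neg hne1]
        refine Finset.mem_filter.2 ⟨Finset.mem_univ _, fun s hs => mul_inv_eq_iff_eq_mul.1 ?_⟩
        show b₀.1 * b.1 * s * (b₀.1 * b.1)⁻¹ = s
        rw [show b₀.1 * b.1 * s * (b₀.1 * b.1)⁻¹ = b₀.1 * (b.1 * s * b.1⁻¹) * b₀.1⁻¹ by group,
          hinvB b hbB s hs, hinvB b₀ hb₀ _ (inv_mem hs), inv_inv]
      · intro b hb b' hb' h
        have hn : ∀ c ∈ B.erase b₀, ¬ b₀.1 * c.1 = 1 := fun c hc h => (Finset.mem_erase.1 hc).1 (Subtype.ext (by
          rw [eq_comm, ← inv_eq_of_mul_eq_one_right h, inv_eq_of_mul_eq_one_right (orderOf_two_iff.1 b₀.2.2).1]))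
        simp only [dif_neg (hn b hb), dif_neg (hn b' hb')] at h
        exact Subtype.ext (mul_left_cancel (congrArg Subtype.val h))
    rw [Finset.card_erase_of_mem hb₀] at h1
    omega
  let z' : Ω := ⟨z, hzR, hz⟩
  have hzA : z' ∈ A := Finset.mem_filter.2 ⟨Finset.mem_univ _, hzQ⟩
  have hA0 : 1 ≤ A.card := Finset.card_pos.2 ⟨z', hzA⟩
  have hp3 : 3 ≤ p := by have := hp.out.two_le; omega
  have hA1 : A.card = 1 := by
    by_contra h
    have h2 : 2 ≤ A.card := by omega
    have h3 : A.card * 2 ≤ A.card * (p - 1) := Nat.mul_le_mul_left _ (by omega)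
    omega
  refine ⟨fun a ha ha2 hca => congrArg Subtype.val (Finset.card_le_one.1 hA1.le ⟨a, ha, ha2⟩
    (Finset.mem_filter.2 ⟨Finset.mem_univ _, hca⟩) z' hzA), fun b hb hb2 => ?_⟩
  by_cases hcb : cen b
  · refine ⟨1, ?_⟩
    have := congrArg Subtype.val (Finset.card_le_one.1 hA1.le ⟨b, hb, hb2⟩
      (Finset.mem_filter.2 ⟨Finset.mem_univ _, hcb⟩) z' hzA)
    simpa using this.symm
  · have hsurj := Finset.surj_on_of_inj_on_of_card_le (s := Finset.Icc 1 (p - 1)) (t := B)
      (fun i _ => cj i z') (fun i hi => himg (z', i) (Finset.mem_product.2 ⟨hzA, hi⟩))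
      (fun i i' hi hi' h => by
        simp only [Finset.mem_Icc] at hi hi'
        rcases le_total i i' with hle | hle
        · exact (hinj i i' z' z' hzQ hzQ hle (by omega) h).1
        · exact (hinj i' i z' z' hzQ hzQ hle (by omega) h.symm).1.symm)
      (by rw [Nat.card_Icc]; omega)
    obtain ⟨i, -, hi⟩ := hsurj ⟨b, hb, hb2⟩ (Finset.mem_filter.2 ⟨Finset.mem_univ _, hcb⟩)
    exact ⟨y ^ i, (congrArg Subtype.val hi).symm⟩

include hab hcyc hno hnn hodd hsimp hind in
/-- No such simple group of even order. -/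
theorem false_of_simple (hev : 2 ∣ Nat.card G) : False := by
  classical
  haveI : Fact (Nat.Prime 2) := ⟨Nat.prime_two⟩
  obtain ⟨Q₁, z₁, a, hz₁, ha, ha1, hz₁a⟩ := exists_central hab hcyc hno hnn hodd hsimp hind hev
  obtain ⟨-, hz₁Q⟩ := mem_centralizer_sylow hcyc hno hnn hsimp hind Q₁ (coprime_two hodd hz₁) ha ha1 hz₁a
  obtain ⟨R, hR⟩ := (CfsgLib.FGS.isPGroup_zpowers (k := 1) (hz₁.trans (pow_one 2).symm)).exists_le_sylow
  have hzR := hR (mem_zpowers z₁)
  have hQne : ∀ Q : Sylow p G, ∃ s ∈ (Q : Subgroup G), s ≠ 1 := fun Q => by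
    obtain ⟨s, hs, hs1⟩ := SetLike.exists_of_lt (bot_lt_iff_ne_bot.2 fun (h0 : (Q : Subgroup G) = ⊥) => hnn Q (by rw [h0]; infer_instance))
    exact ⟨s, hs, fun h => hs1 (mem_bot.2 h)⟩
  -- all involutions are conjugate
  have hconj : ∀ x : G, orderOf x = 2 → ∃ g, g * z₁ * g⁻¹ = x := by
    intro x hx
    obtain ⟨R', hR'⟩ := (CfsgLib.FGS.isPGroup_zpowers (k := 1) (hx.trans (pow_one 2).symm)).exists_le_sylow
    obtain ⟨h, hh⟩ := MulAction.exists_smul_eq G R R'
    have hx' : x ∈ ((h • R : Sylow 2 G) : Subgroup G) := hh ▸ hR' (mem_zpowers x)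
    obtain ⟨b, hb, rfl⟩ := hx'
    have hb2 : orderOf b = 2 := by
      rw [← hx]; exact (MulEquiv.orderOf_eq (MulAut.conj h) b).symm
    obtain ⟨g, rfl⟩ := (central_unique_aux hab hcyc hno hnn hodd hsimp hind R Q₁ hz₁ hzR hz₁Q).2 b hb hb2
    exact ⟨h * g, by show h * g * z₁ * (h * g)⁻¹ = h * (g * z₁ * g⁻¹) * h⁻¹; group⟩
  -- every involution centralises a Sylow subgroup, and conversely
  have hcenQ : ∀ x : G, orderOf x = 2 → ∃ Q : Sylow p G, ∀ s ∈ (Q : Subgroup G), x * s = s * x := by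
    intro x hx
    obtain ⟨g, rfl⟩ := hconj x hx
    refine ⟨g • Q₁, fun s hs => ?_⟩
    obtain ⟨b, hb, rfl⟩ := hs
    show g * z₁ * g⁻¹ * (g * b * g⁻¹) = g * b * g⁻¹ * (g * z₁ * g⁻¹)
    rw [show g * z₁ * g⁻¹ * (g * b * g⁻¹) = g * (z₁ * b) * g⁻¹ by group, hz₁Q b hb]
    group
  have hQinv : ∀ Q : Sylow p G, ∃ z, orderOf z = 2 ∧ ∀ s ∈ (Q : Subgroup G), z * s = s * z := by
    intro Q
    obtain ⟨g, rfl⟩ := MulAction.exists_smul_eq G Q₁ Q
    refine ⟨g * z₁ * g⁻¹, by rw [← MulAut.conj_apply, MulEquiv.orderOf_eq]; exact hz₁, fun s hs => ?_⟩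
    obtain ⟨b, hb, rfl⟩ := hs
    show g * z₁ * g⁻¹ * (g * b * g⁻¹) = g * b * g⁻¹ * (g * z₁ * g⁻¹)
    rw [show g * z₁ * g⁻¹ * (g * b * g⁻¹) = g * (z₁ * b) * g⁻¹ by group, hz₁Q b hb]
    group
  have hCeq : ∀ (x : G) (Q : Sylow p G), orderOf x = 2 → (∀ s ∈ (Q : Subgroup G), x * s = s * x) →
      centralizer ({x} : Set G) = normalizer ((Q : Subgroup G) : Set G) := fun x Q hx hxQ => by
    obtain ⟨s, hs, hs1⟩ := hQne Q
    exact centralizer_involution_eq hab hcyc hno hnn hodd hsimp hind Q hx hs hs1 (hxQ s hs)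
  have huniq : ∀ (Q : Sylow p G) (x x' : G), orderOf x = 2 → orderOf x' = 2 →
      (∀ s ∈ (Q : Subgroup G), x * s = s * x) → (∀ s ∈ (Q : Subgroup G), x' * s = s * x') → x' = x := by
    intro Q x x' hx hx' hxQ hx'Q
    obtain ⟨s, hs, hs1⟩ := hQne Q
    have hcomm : x * x' = x' * x := (mem_centralizer_singleton_iff.1 (show x' ∈ centralizer ({x} : Set G) by
      rw [hCeq x Q hx hxQ]
      exact (mem_centralizer_sylow hcyc hno hnn hsimp hind Q (coprime_two hodd hx') hs hs1 (hx'Q s hs)).1)).symm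
    have hP : IsPGroup 2 ↥(zpowers x ⊔ zpowers x') :=
      (CfsgLib.FGS.isPGroup_zpowers (k := 1) (hx.trans (pow_one 2).symm)).to_sup_of_normal_left'
        (CfsgLib.FGS.isPGroup_zpowers (k := 1) (hx'.trans (pow_one 2).symm))
        (zpowers_le.2 (centralizer_le_normalizer _ (mem_centralizer_iff.2 fun w hw => by
          obtain ⟨i, rfl⟩ := hw
          exact ((show Commute x x' from hcomm).zpow_left i).eq)))
    obtain ⟨R', hR'⟩ := hP.exists_le_sylow
    exact (central_unique_aux hab hcyc hno hnn hodd hsimp hind R' Q hx (hR' (mem_sup_left (mem_zpowers x))) hxQ).1 x'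
      (hR' (mem_sup_right (mem_zpowers x'))) hx' hx'Q
  have hinvert : ∀ (Q : Sylow p G) (z u : G), orderOf z = 2 → (∀ s ∈ (Q : Subgroup G), z * s = s * z) →
      orderOf u = 2 → u * z = z * u → u ≠ z →
      u ∈ normalizer ((Q : Subgroup G) : Set G) ∧ ∀ s ∈ (Q : Subgroup G), u * s * u⁻¹ = s⁻¹ := by
    intro Q z u hz hzQ hu huz hne
    have huN : u ∈ normalizer ((Q : Subgroup G) : Set G) := hCeq z Q hz hzQ ▸ mem_centralizer_singleton_iff.2 huz
    refine ⟨huN, invol_inverts Q (hcyc Q) (orderOf_two_iff.1 hu).1 huN fun s hs h => ?_⟩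
    by_contra hs1
    exact hne (huniq Q z u hz hu hzQ (mem_centralizer_sylow hcyc hno hnn hsimp hind Q (coprime_two hodd hu) hs hs1 h).2)
  -- the commuting graph on involutions
  let adj : Inv G → Inv G → Prop := fun x y => x ≠ y ∧ x.1 * y.1 = y.1 * x.1
  letI := Fintype.ofFinite (Inv G)
  let nb : Inv G → Finset (Inv G) := fun x => Finset.univ.filter (adj x)
  let z₀ : Inv G := ⟨z₁, hz₁⟩
  set d := (nb z₀).card with hd
  have hreg : ∀ x, (nb x).card = d := by
    intro x
    obtain ⟨g, hg⟩ := hconj x.1 x.2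
    let e : Inv G ≃ Inv G := (MulAut.conj g).toEquiv.subtypeEquiv fun w => by
      show orderOf w = 2 ↔ orderOf (MulAut.conj g w) = 2
      rw [MulEquiv.orderOf_eq]
    have hex : e z₀ = x := Subtype.ext hg
    rw [hd, ← hex, show nb (e z₀) = (nb z₀).map e.toEmbedding from ?_, Finset.card_map]
    ext w
    simp only [nb, Finset.mem_map_equiv, Finset.mem_filter, Finset.mem_univ, true_and, adj]
    obtain ⟨v, rfl⟩ := e.surjective w
    rw [e.symm_apply_apply]
    have hv : (e z₀).1 * (e v).1 = (e v).1 * (e z₀).1 ↔ z₀.1 * v.1 = v.1 * z₀.1 := by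
      show MulAut.conj g z₀.1 * MulAut.conj g v.1 = MulAut.conj g v.1 * MulAut.conj g z₀.1 ↔ _
      rw [← map_mul, ← map_mul, (MulAut.conj g).injective.eq_iff]
    rw [e.injective.ne_iff, hv]
  have hcommon : ∀ x y : Inv G, x ≠ y → (nb x ∩ nb y).card = 1 := by
    intro x y hxy
    obtain ⟨hx2, -⟩ := orderOf_two_iff.1 x.2
    obtain ⟨hy2, -⟩ := orderOf_two_iff.1 y.2
    have hxi : x.1⁻¹ = x.1 := inv_eq_of_mul_eq_one_right hx2
    have hyi : y.1⁻¹ = y.1 := inv_eq_of_mul_eq_one_right hy2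
    rw [Finset.card_eq_one]
    by_cases hc : x.1 * y.1 = y.1 * x.1
    · have hxy1 : x.1 * y.1 ≠ 1 := fun h => hxy (Subtype.ext (by rw [← hyi]; exact eq_inv_of_mul_eq_one_left h))
      let w : Inv G := ⟨x.1 * y.1, orderOf_two_iff.2 ⟨by
        rw [show x.1 * y.1 * (x.1 * y.1) = x.1 * (y.1 * x.1) * y.1 by group, ← hc, ← mul_assoc, hx2, one_mul, hy2], hxy1⟩⟩
      obtain ⟨Q, hQ⟩ := hcenQ x.1 x.2
      refine ⟨w, Finset.ext fun v => ?_⟩
      simp only [nb, Finset.mem_inter, Finset.mem_filter, Finset.mem_univ, true_and, Finset.mem_singleton, adj]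
      constructor
      · rintro ⟨⟨hxv, hxvc⟩, hyv, hyvc⟩
        obtain ⟨-, hy'⟩ := hinvert Q x.1 y.1 x.2 hQ y.2 hc.symm fun h => hxy (Subtype.ext h.symm)
        obtain ⟨-, hv'⟩ := hinvert Q x.1 v.1 x.2 hQ v.2 hxvc.symm fun h => hxv (Subtype.ext h.symm)
        have hyv1 : y.1 * v.1 ≠ 1 := fun h => hyv (Subtype.ext (by
          rw [← inv_eq_of_mul_eq_one_right h, hyi]))
        have hvi : v.1⁻¹ = v.1 := inv_eq_of_mul_eq_one_right (orderOf_two_iff.1 v.2).1
        have h1 := huniq Q x.1 (y.1 * v.1) x.2 (orderOf_two_iff.2 ⟨by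
          rw [show y.1 * v.1 * (y.1 * v.1) = y.1 * (v.1 * y.1) * v.1 by group, ← hyvc, ← mul_assoc, hy2, one_mul,
            (orderOf_two_iff.1 v.2).1], hyv1⟩) hQ fun s hs => mul_inv_eq_iff_eq_mul.1 (by
          rw [show y.1 * v.1 * s * (y.1 * v.1)⁻¹ = y.1 * (v.1 * s * v.1⁻¹) * y.1⁻¹ by group, hv' s hs,
            hy' _ (inv_mem hs), inv_inv])
        refine Subtype.ext ?_
        show v.1 = x.1 * y.1
        rw [hc, ← h1, ← mul_assoc, hy2, one_mul]
      · rintro rfl
        refine ⟨⟨fun h => ?_, ?_⟩, fun h => ?_, ?_⟩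
        · exact (orderOf_two_iff.1 y.2).2 (left_eq_mul.1 (congrArg Subtype.val h : x.1 = x.1 * y.1))
        · show x.1 * (x.1 * y.1) = x.1 * y.1 * x.1
          rw [mul_assoc, ← hc]
        · exact (orderOf_two_iff.1 x.2).2 (right_eq_mul.1 (congrArg Subtype.val h : y.1 = x.1 * y.1))
        · show y.1 * (x.1 * y.1) = x.1 * y.1 * y.1
          rw [← mul_assoc, ← hc]
    · set c := x.1 * y.1 with hcdef
      have hinvx : x.1 * c * x.1⁻¹ = c⁻¹ := by rw [hcdef, mul_inv_rev, hxi, hyi, ← mul_assoc, hx2, one_mul]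
      have hinvy : y.1 * c * y.1⁻¹ = c⁻¹ := by
        rw [hcdef, mul_inv_rev, hxi, hyi, mul_assoc (y.1), mul_assoc (x.1), hy2, mul_one]
      obtain ⟨i, j, ⟨k, hk⟩, hj, hij, -⟩ := CfsgLib.FGS.exists_p_parts p c
      set b := c ^ i with hb
      have hbx : x.1 * b * x.1⁻¹ = b⁻¹ := by rw [hb, ← conj_pow, hinvx, inv_pow]
      have hby : y.1 * b * y.1⁻¹ = b⁻¹ := by rw [hb, ← conj_pow, hinvy, inv_pow]
      have hb1 : b ≠ 1 := by
        intro h
        rw [h, one_mul] at hij
        obtain ⟨hc2, -⟩ := sq_eq_one_of_inverted hab hodd x.2 (hij ▸ hj) hinvx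
        exact hc (calc c = c⁻¹ := (inv_eq_of_mul_eq_one_right hc2).symm
          _ = y.1 * x.1 := by rw [hcdef, mul_inv_rev, hxi, hyi])
      have hbne : b ≠ b⁻¹ := fun h => CfsgLib.FGS.PByCyclic.ne_inv_of_orderOf_eq (p := p) hodd
        (q := b ^ p ^ (k - 1)) (by
          rcases k with _ | k
          · exact absurd (orderOf_eq_one_iff.1 (by rw [hk, pow_zero])) hb1
          · rw [orderOf_pow, hk, Nat.add_sub_cancel, Nat.gcd_eq_right (pow_dvd_pow p k.le_succ), pow_succ,
              Nat.mul_div_cancel_left _ (pow_pos hp.out.pos k)]) (by rw [← inv_pow, ← h])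
      obtain ⟨Q, hQ⟩ := (CfsgLib.FGS.isPGroup_zpowers hk).exists_le_sylow
      have hbQ := hQ (mem_zpowers b)
      obtain ⟨z, hz, hzQ⟩ := hQinv Q
      have hxN := mem_normalizer_of_conj_mem hcyc hno hnn hsimp hind Q hbQ hb1 (g := x.1) (hbx ▸ inv_mem hbQ)
      have hyN := mem_normalizer_of_conj_mem hcyc hno hnn hsimp hind Q hbQ hb1 (g := y.1) (hby ▸ inv_mem hbQ)
      refine ⟨⟨z, hz⟩, Finset.ext fun v => ?_⟩
      simp only [nb, Finset.mem_inter, Finset.mem_filter, Finset.mem_univ, true_and, Finset.mem_singleton, adj]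
      constructor
      · rintro ⟨⟨-, hxv⟩, -, hyv⟩
        refine Subtype.ext (huniq Q z v.1 hz v.2 hzQ ?_)
        have hvc : Commute v.1 c := (show Commute v.1 x.1 from hxv.symm).mul_right hyv.symm
        exact (mem_centralizer_sylow hcyc hno hnn hsimp hind Q (coprime_two hodd v.2) hbQ hb1 (hvc.pow_right i).eq).2
      · rintro rfl
        have key : ∀ w : G, w * b * w⁻¹ = b⁻¹ → w ∈ normalizer ((Q : Subgroup G) : Set G) → w ≠ z ∧ w * z = z * w :=
          fun w hw hwN => ⟨fun h => hbne (by rw [← hw, h, hzQ b hbQ, mul_inv_cancel_right]),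
            mem_centralizer_singleton_iff.1 ((hCeq z Q hz hzQ).symm ▸ hwN)⟩
        exact ⟨⟨fun h => (key x.1 hbx hxN).1 (congrArg Subtype.val h), (key x.1 hbx hxN).2⟩,
          fun h => (key y.1 hby hyN).1 (congrArg Subtype.val h), (key y.1 hby hyN).2⟩
  have hd3 : 3 ≤ d := by
    obtain ⟨g, hg⟩ : ∃ g : G, g * z₁ ≠ z₁ * g := by
      by_contra h
      push Not at h
      obtain ⟨m, -, -, -⟩ := exists_mover hno Q₁ (hcyc Q₁)
      have htop : centralizer ({z₁} : Set G) = ⊤ := (eq_top_iff' _).2 fun g => mem_centralizer_singleton_iff.2 (h g)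
      exact hnn Q₁ (normalizer_eq_top_iff.1 ((hCeq z₁ Q₁ hz₁ hz₁Q).symm.trans htop))
    let u₀ : Inv G := ⟨g * z₁ * g⁻¹, by rw [← MulAut.conj_apply, MulEquiv.orderOf_eq]; exact hz₁⟩
    have hne : z₀ ≠ u₀ := fun h => hg (mul_inv_eq_iff_eq_mul.1 (congrArg Subtype.val h).symm)
    obtain ⟨u, hu⟩ := Finset.card_pos.1 (by rw [hcommon z₀ u₀ hne]; exact one_pos)
    have hu' : adj z₀ u := (Finset.mem_filter.1 (Finset.mem_inter.1 hu).1).2
    obtain ⟨huN, huinv⟩ := hinvert Q₁ z₁ u.1 hz₁ hz₁Q u.2 hu'.2.symm fun h => hu'.1 (Subtype.ext h.symm)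
    have hui : u.1⁻¹ = u.1 := inv_eq_of_mul_eq_one_right (orderOf_two_iff.1 u.2).1
    obtain ⟨s, hs, hs1⟩ := hQne Q₁
    letI := Fintype.ofFinite (Q₁ : Subgroup G)
    have hmk : ∀ b : (Q₁ : Subgroup G), orderOf (u.1 * b) = 2 := by
      intro b
      refine orderOf_two_iff.2 ⟨?_, fun h => ?_⟩
      · have h1 := huinv b b.2
        rw [hui] at h1
        rw [← mul_assoc, h1, inv_mul_cancel]
      · have huQ : u.1 ∈ (Q₁ : Subgroup G) := by
          rw [eq_inv_of_mul_eq_one_left h]; exact inv_mem b.2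
        obtain ⟨a, ha⟩ := IsPGroup.iff_orderOf.1 Q₁.2 ⟨_, huQ⟩
        rw [Subgroup.orderOf_mk, u.2] at ha
        have h2 : 2 = 1 := Nat.eq_one_of_dvd_coprimes
          (((Nat.coprime_primes Nat.prime_two hp.out).2 (Ne.symm hodd)).pow_right a) dvd_rfl (ha ▸ dvd_rfl)
        omega
    calc 3 ≤ p := by have := hp.out.two_le; omega
      _ ≤ Nat.card (Q₁ : Subgroup G) := by
          obtain ⟨a, ha⟩ := IsPGroup.iff_card.1 Q₁.2
          rcases a with _ | a
          · exact absurd ((Subgroup.card_eq_one.1 (by rw [ha, pow_zero]) : (Q₁ : Subgroup G) = ⊥) ▸ hs) (by simpa using hs1)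
          · rw [ha]; exact Nat.le_self_pow a.succ_ne_zero p
      _ = (Finset.univ : Finset (Q₁ : Subgroup G)).card := by rw [Finset.card_univ, Nat.card_eq_fintype_card]
      _ ≤ d := by
          refine Finset.card_le_card_of_injOn (fun b => (⟨u.1 * b, hmk b⟩ : Inv G)) (fun b _ => ?_)
            (fun b _ b' _ h => Subtype.ext (mul_left_cancel (congrArg Subtype.val h)))
          refine Finset.mem_filter.2 ⟨Finset.mem_univ _, fun h => ?_, ?_⟩
          · have h1 : u.1 = z₁ * (b : G)⁻¹ := by rw [show z₁ = u.1 * b from congrArg Subtype.val h]; group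
            obtain ⟨s, hs, hs1⟩ := hQne Q₁
            have h2 := huinv s hs
            rw [h1, show z₁ * (b : G)⁻¹ * s * (z₁ * (b : G)⁻¹)⁻¹ = z₁ * ((b : G)⁻¹ * s * b) * z₁⁻¹ by group,
              show (b : G)⁻¹ * s * b = s by rw [mul_assoc, comm_of_cyclic (hcyc Q₁) hs b.2, inv_mul_cancel_left],
              hz₁Q s hs, mul_inv_cancel_right] at h2
            obtain ⟨i, hi⟩ := exists_orderOf_eq_pow Q₁.2 hs hs1
            exact CfsgLib.FGS.PByCyclic.ne_inv_of_orderOf_eq hodd hi (by rw [← inv_pow, ← h2])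
          · show z₁ * (u.1 * b) = u.1 * b * z₁
            rw [← mul_assoc, hu'.2, mul_assoc, hz₁Q b b.2, mul_assoc]
  -- the friendship argument
  obtain ⟨r, hr, hrd⟩ := Nat.exists_prime_and_dvd (n := d - 1) (by omega)
  haveI : Fact r.Prime := ⟨hr⟩
  have hdr : (d : ZMod r) = 1 := by
    obtain ⟨c, hc⟩ := hrd
    rw [show d = 1 + r * c by omega, Nat.cast_add, Nat.cast_mul, ZMod.natCast_self, zero_mul, add_zero, Nat.cast_one]
  let A : Matrix (Inv G) (Inv G) (ZMod r) := fun x y => if adj x y then 1 else 0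
  let J : Matrix (Inv G) (Inv G) (ZMod r) := fun _ _ => 1
  have hsym : ∀ x y, adj x y ↔ adj y x := fun x y => ⟨fun h => ⟨h.1.symm, h.2.symm⟩, fun h => ⟨h.1.symm, h.2.symm⟩⟩
  have hA2 : A * A = J := by
    ext x y
    rw [Matrix.mul_apply]
    simp only [A, J, mul_ite, mul_one, mul_zero, ← ite_and]
    rw [Finset.sum_boole]
    by_cases hxy : x = y
    · subst hxy
      rw [show (Finset.univ.filter fun w => adj w x ∧ adj x w) = nb x from
        Finset.filter_congr fun w _ => ⟨fun h => h.2, fun h => ⟨(hsym x w).1 h, h⟩⟩, hreg, hdr]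
    · rw [show (Finset.univ.filter fun w => adj w y ∧ adj x w) = nb x ∩ nb y from ?_, hcommon x y hxy, Nat.cast_one]
      ext w
      simp only [nb, Finset.mem_inter, Finset.mem_filter, Finset.mem_univ, true_and, hsym y w]
      exact and_comm
  have hAJ : A * J = J := by
    ext x y
    rw [Matrix.mul_apply]
    simp only [A, J, mul_one]
    rw [Finset.sum_boole, show (Finset.univ.filter (adj x)).card = d from hreg x, hdr]
  have hJk : ∀ k : ℕ, A ^ (k + 2) = J := by
    intro k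
    induction k with
    | zero => rw [pow_two]; exact hA2
    | succ k ih => rw [show k + 1 + 2 = (k + 2) + 1 by ring, pow_succ', ih, hAJ]
  have htr : Matrix.trace A = 0 := Finset.sum_eq_zero fun x _ => if_neg fun h => h.1 rfl
  have hn : (Fintype.card (Inv G) : ZMod r) = 1 := by
    have h4 : J * J = J := by
      rw [← hJk 0]
      rw [← pow_add, show 0 + 2 + (0 + 2) = 2 + 2 from rfl, hJk 2, hJk 0]
    have h5 := congrFun (congrFun h4 z₀) z₀
    rw [Matrix.mul_apply] at h5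
    simpa [J] using h5
  have h := ZMod.trace_pow_card A
  have e : A ^ r = J := by
    rw [← hJk (r - 2), Nat.sub_add_cancel hr.two_le]
  rw [htr, zero_pow hr.ne_zero, e] at h
  have h6 : Matrix.trace J = (Fintype.card (Inv G) : ZMod r) := by
    show ∑ _x : Inv G, (1 : ZMod r) = _
    simp
  rw [h6, hn] at h
  exact one_ne_zero h

end simple

/-- The dichotomy, given solvability of groups of odd order. -/
theorem dichotomy (hFT : ∀ (H : Type u) [Group H] [Finite H], Odd (Nat.card H) → Group.IsSolvable H) :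
    ∀ (n : ℕ) (G : Type u) [Group G] [Finite G], Nat.card G = n → AbP p G →
      ∀ P : Sylow p G, IsCyclic P → HasNormalPComplement p G ∨ (P : Subgroup G).Normal := by
  intro n
  induction n using Nat.strong_induction_on with
  | _ n ih =>
  intro G _ _ hn hab P hcP
  by_contra hcon
  push Not at hcon
  obtain ⟨hno, hnP⟩ := hcon
  have hcyc : ∀ Q : Sylow p G, IsCyclic Q := fun Q => (P.equiv Q).isCyclic.1 hcP
  have hnn : ∀ Q : Sylow p G, ¬ (Q : Subgroup G).Normal := fun Q hQ => by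
    haveI := hQ
    letI := Sylow.unique_of_normal Q hQ
    exact hnP (Subsingleton.elim Q P ▸ hQ)
  have hp2 : p ≠ 2 := by
    rintro rfl
    have hdvd : 2 ∣ Nat.card G := by
      by_contra h
      exact hnP (((eq_bot_iff_forall _).2 fun a ha => by
        obtain ⟨k, hk⟩ := IsPGroup.iff_orderOf.1 P.2 ⟨a, ha⟩
        rw [Subgroup.orderOf_mk] at hk
        rcases k with _ | k
        · exact orderOf_eq_one_iff.1 (by rw [hk, pow_zero])
        · exact absurd ((hk ▸ dvd_pow_self 2 k.succ_ne_zero).trans (orderOf_dvd_natCard a)) h) ▸ inferInstance)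
    exact hno ((hasNormalPComplement_iff_sylow P).2 ⟨_, inferInstance,
      MonoidHom.ker_transferSylow_isComplement' P
        (IsCyclic.normalizer_le_centralizer ((Nat.minFac_eq_two_iff _).2 hdvd) hcP)⟩)
  have hind : ∀ H : Subgroup G, H ≠ ⊤ → HasNormalPComplement p H ∨ ∀ S : Sylow p H, (S : Subgroup H).Normal := by
    intro H hH
    have hlt : Nat.card H < n := hn ▸ lt_of_le_of_ne H.card_le_card_group fun h => hH (eq_top_of_card_eq H h)
    have habH : AbP p H := fun K hK => by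
      have h := hab (K.map H.subtype) (by rwa [card_map_of_injective H.subtype_injective])
      exact ⟨⟨fun a b => Subtype.ext (Subtype.ext (congrArg Subtype.val (h.is_comm.comm
        ⟨_, a, a.2, rfl⟩ ⟨_, b, b.2, rfl⟩) : ((a : H) : G) * (b : H) = (b : H) * (a : H)))⟩⟩
    have hc : ∀ S : Sylow p H, IsCyclic S := by
      intro S
      obtain ⟨Q, hQ⟩ := (S.2.map H.subtype).exists_le_sylow
      haveI := hcyc Q
      exact isCyclic_of_injective ((Subgroup.inclusion hQ).comp
        ((S : Subgroup H).equivMapOfInjective H.subtype H.subtype_injective).toMonoidHom)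
        ((Subgroup.inclusion_injective hQ).comp (MulEquiv.injective _))
    by_cases hcompl : HasNormalPComplement p H
    · exact Or.inl hcompl
    · exact Or.inr fun S => (ih _ hlt H rfl habH S (hc S)).resolve_left hcompl
  -- no normal p'-subgroup
  have hcore' : ∀ K : Subgroup G, K.Normal → ¬ p ∣ Nat.card K → K = ⊥ := by
    intro K hK hKp
    by_contra hne
    have hlt : Nat.card (G ⧸ K) < n := by
      rw [← hn, Subgroup.card_eq_card_quotient_mul_card_subgroup K]
      exact lt_mul_of_one_lt_right Nat.card_pos ((Subgroup.one_lt_card_iff_ne_bot K).2 hne)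
    let π := QuotientGroup.mk' K
    have habQ : AbP p (G ⧸ K) := fun H hH => by
      have hnd : ¬ p ∣ Nat.card (H.comap π) := by
        rw [← (K.subgroupOf (H.comap π)).card_mul_index,
          Nat.card_congr (subgroupOfEquivOfLe (fun x hx => by
            rw [mem_comap, show π x = 1 from (QuotientGroup.eq_one_iff x).2 hx]; exact one_mem H)).toEquiv]
        have hidx : (K.subgroupOf (H.comap π)).index = Nat.card H := by
          rw [← Subgroup.relIndex]
          refine (congrArg (fun L : Subgroup G => L.relIndex (H.comap π)) (QuotientGroup.ker_mk' K).symm).trans ?_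
          rw [relIndex_ker, map_comap_eq_self_of_surjective (QuotientGroup.mk'_surjective K)]
        rw [hidx]
        intro h
        rcases hp.out.dvd_mul.1 h with h | h
        · exact hKp h
        · exact hH h
      refine ⟨⟨fun a b => Subtype.ext ?_⟩⟩
      obtain ⟨x, hx⟩ := QuotientGroup.mk'_surjective K a.1
      obtain ⟨y, hy⟩ := QuotientGroup.mk'_surjective K b.1
      show a.1 * b.1 = b.1 * a.1
      rw [← hx, ← hy, ← map_mul, ← map_mul, comm_of hab hnd
        (show x ∈ H.comap π by rw [mem_comap, hx]; exact a.2) (show y ∈ H.comap π by rw [mem_comap, hy]; exact b.2)]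
    set P' := P.mapSurjective (QuotientGroup.mk'_surjective K)
    have hc' : IsCyclic P' := by
      haveI := hcP
      exact isCyclic_of_surjective (π.subgroupMap (P : Subgroup G)) (π.subgroupMap_surjective _)
    rcases ih _ hlt (G ⧸ K) rfl habQ P' hc' with h | h
    · apply hno
      obtain ⟨N, hN, hNc, k, hk⟩ := hasNormalPComplement_iff.1 h
      refine hasNormalPComplement_of (N := N.comap π) inferInstance ?_ (k := k)
        (by rw [index_comap_of_surjective _ (QuotientGroup.mk'_surjective K), hk])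
      have hcard : Nat.card (N.comap π) = Nat.card K * Nat.card N := by
        rw [← (K.subgroupOf (N.comap π)).card_mul_index,
          Nat.card_congr (subgroupOfEquivOfLe (fun x hx => by
            rw [mem_comap, show π x = 1 from (QuotientGroup.eq_one_iff x).2 hx]; exact one_mem N)).toEquiv,
          ← Subgroup.relIndex]
        congr 1
        refine (congrArg (fun L : Subgroup G => L.relIndex (N.comap π)) (QuotientGroup.ker_mk' K).symm).trans ?_
        rw [relIndex_ker, map_comap_eq_self_of_surjective (QuotientGroup.mk'_surjective K)]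
      rw [hcard]
      exact (coprime_of_not_dvd hKp).mul_left hNc
    · have hL : (((P' : Subgroup (G ⧸ K))).comap π).Normal := h.comap π
      have hPL : (P : Subgroup G) ≤ ((P' : Subgroup (G ⧸ K))).comap π := fun x hx => ⟨x, hx, rfl⟩
      obtain ⟨m, hm, hmo, hfree⟩ := exists_mover hno P hcP
      have hmK : ∀ k ∈ K, m * k = k * m :=
        sup_zpowers_comm hab hKp (normalizer_eq_top (H := K) ▸ mem_top m) hmo
      have hPC : (P : Subgroup G) ≤ centralizer (K : Set G) :=
        sylow_le_of_mover P hcP hm hfree (mem_centralizer_iff.2 fun k hk => (hmK k hk).symm)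
      refine hnP (normalizer_eq_top_iff.1 (top_le_iff.1 ?_))
      have hfr := Sylow.normalizer_sup_eq_top (P.subtype hPL)
      rw [← hfr]
      refine sup_le (le_of_eq ?_) ?_
      · congr 2
        ext x
        exact ⟨fun ⟨y, hy, hyx⟩ => hyx ▸ hy, fun hx => ⟨⟨x, hPL hx⟩, hx, rfl⟩⟩
      · intro x hx
        obtain ⟨a, ha, hxa⟩ := (hx : π x ∈ (P : Subgroup G).map π)
        have hk : x * a⁻¹ ∈ K := by
          rw [← QuotientGroup.eq_one_iff]
          show π (x * a⁻¹) = 1
          rw [map_mul, map_inv, ← hxa, mul_inv_cancel]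
        rw [show x = x * a⁻¹ * a by group]
        refine mul_mem (centralizer_le_normalizer _ ?_) (le_normalizer ha)
        exact mem_centralizer_iff.2 fun b hb => (mem_centralizer_iff.1 (hPC hb) _ hk).symm
  -- no normal p-subgroup
  have hcore : ∀ R : Subgroup G, R.Normal → IsPGroup p R → R = ⊥ := by
    intro R hR hRp
    by_contra hne
    have hRP : R ≤ (P : Subgroup G) := by
      obtain ⟨Q, hQ⟩ := hRp.exists_le_sylow
      obtain ⟨g, rfl⟩ := MulAction.exists_smul_eq G Q P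
      exact fun r hr => ⟨g⁻¹ * r * g, hQ (by simpa using hR.conj_mem r hr g⁻¹), by
        show g * (g⁻¹ * r * g) * g⁻¹ = r; group⟩
    obtain ⟨r, hr, hr1⟩ := SetLike.exists_of_lt (bot_lt_iff_ne_bot.2 hne)
    set C := centralizer (R : Set G)
    haveI : C.Normal := normal_centralizer
    have hPC : (P : Subgroup G) ≤ C := fun x hx => mem_centralizer_iff.2 fun b hb => comm_of_cyclic hcP (hRP hb) hx
    have hC : C ≠ ⊤ := fun htop => by
      obtain ⟨m, -, -, hfree⟩ := exists_mover hno P hcP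
      exact hr1 (mem_bot.2 (hfree r (hRP hr) (mem_centralizer_iff.1 (show m ∈ C by rw [htop]; exact mem_top m) r hr).symm))
    rcases hind C hC with h | h
    · haveI := pResidual_characteristic (G := C) (p := p)
      have h1 := hcore' ((pResidual p C).map C.subtype) inferInstance (by
        rw [card_map_of_injective C.subtype_injective]
        exact not_dvd_of_coprime (hasNormalPComplement_iff_pResidual.1 h))
      have h2 : pResidual p C = ⊥ := map_injective C.subtype_injective (h1.trans (Subgroup.map_bot _).symm)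
      obtain ⟨k, hk⟩ := index_pResidual (G := C) (p := p)
      rw [h2, index_bot] at hk
      exact hnP (P.3 (IsPGroup.of_card hk) hPC ▸ inferInstance)
    · haveI := Sylow.characteristic_of_normal (P.subtype hPC) (h _)
      have h1 : (((P.subtype hPC : Sylow p C) : Subgroup C).map C.subtype).Normal := inferInstance
      rw [Sylow.coe_subtype, map_subgroupOf_eq_of_le hPC] at h1
      exact hnP h1
  have hsimp : ∀ N : Subgroup G, N.Normal → N = ⊥ ∨ N = ⊤ := by
    intro N hN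
    by_contra h
    push Not at h
    rcases hind N h.2 with h1 | h1
    · haveI := pResidual_characteristic (G := N) (p := p)
      have h2 := hcore' ((pResidual p N).map N.subtype) inferInstance (by
        rw [card_map_of_injective N.subtype_injective]
        exact not_dvd_of_coprime (hasNormalPComplement_iff_pResidual.1 h1))
      have h3 : pResidual p N = ⊥ := map_injective N.subtype_injective (h2.trans (Subgroup.map_bot _).symm)
      obtain ⟨k, hk⟩ := index_pResidual (G := N) (p := p)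
      rw [h3, index_bot] at hk
      exact h.1 (hcore N hN (IsPGroup.of_card hk))
    · let S : Sylow p N := default
      haveI := Sylow.characteristic_of_normal S (h1 S)
      have h2 := hcore ((S : Subgroup N).map N.subtype) inferInstance (S.2.map _)
      refine h.1 (hcore' N hN fun hd => ?_)
      obtain ⟨k, hk⟩ := IsPGroup.iff_card.1 S.2
      have h3 : (S : Subgroup N) = ⊥ := map_injective N.subtype_injective (h2.trans (Subgroup.map_bot _).symm)
      have := S.dvd_card_of_dvd_card hd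
      rw [h3, card_bot] at this
      exact hp.out.not_dvd_one this
  by_cases hev : 2 ∣ Nat.card G
  · exact false_of_simple hab hcyc hno hnn hp2 hsimp hind hev
  · haveI : Nontrivial G := by
      by_contra h
      rw [not_nontrivial_iff_subsingleton] at h
      exact hnP ((Subsingleton.elim (P : Subgroup G) ⊥) ▸ inferInstance)
    haveI : IsSimpleGroup G := ⟨fun N hN => hsimp N hN⟩
    haveI := hFT G (Nat.odd_iff.2 (Nat.two_dvd_ne_zero.1 hev))
    refine hnP ⟨fun a ha g => ?_⟩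
    have hcomm : ∀ x y : G, x * y = y * x := IsSimpleGroup.comm_iff_isSolvable.2 inferInstance
    rw [hcomm g a, mul_inv_cancel_right]
    exact ha

end CfsgLib.Transfer.AbPrime
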