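import Cfsg.Agent.Lib.Transfer.Factorizable
import Cfsg.Agent.Lib.PStab.Offender.Components
import Cfsg.Agent.S0601
import Cfsg.Agent.Lib.Fusion.PSolvableRealization
import Cfsg.Agent.Lib.Cores.PConstrained
import Cfsg.Agent.Lib.Solvable.CoprimeAction
import Cfsg.Agent.Lib.Solvable.MinimalNormal

/-!
Prime divisors of automizers of `p`-subgroups reappear at subgroups that are characteristic in a Sylow
`p`-subgroup, for `p`-soluble automizers and `{p, q} ≠ {2, 3}`.
-/

set_option autoImplicit false

universe u v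

namespace CfsgLib.AutomizerDivisor

open Subgroup Cfsg
open scoped commutatorElement

variable {G : Type*} [Group G] {H : Type*} [Group H] {p q : ℕ}

/-- `q` divides the order of the automizer of `K`. -/
def Moves (q : ℕ) (K : Subgroup G) : Prop :=
  q ∣ (centralizer (K : Set G)).relIndex (normalizer (K : Set G))

theorem conj_mem_centralizer {K : Subgroup G} {g c : G} (hg : g ∈ normalizer (K : Set G))
    (hc : c ∈ centralizer (K : Set G)) : g * c * g⁻¹ ∈ centralizer (K : Set G) := by
  rw [mem_centralizer_iff]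
  intro x hx
  have hx' : g⁻¹ * x * g ∈ K := by
    have := (mem_normalizer_iff.1 (inv_mem hg) x).1 hx
    simpa using this
  have h := mem_centralizer_iff.1 hc _ hx'
  calc x * (g * c * g⁻¹) = g * (g⁻¹ * x * g * c) * g⁻¹ := by group
    _ = g * (c * (g⁻¹ * x * g)) * g⁻¹ := by rw [h]
    _ = g * c * g⁻¹ * x := by group

/-- A part of the normalizer already shows `q`. -/
theorem moves_of_le [Finite G] {K M : Subgroup G} (hM : M ≤ normalizer (K : Set G))
    (h : q ∣ (centralizer (K : Set G)).relIndex M) : Moves q K := by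
  refine h.trans ?_
  set C := centralizer (K : Set G)
  set N := normalizer (K : Set G)
  haveI : (C.subgroupOf N).Normal :=
    ⟨fun c hc g => mem_subgroupOf.2 (conj_mem_centralizer g.2 (mem_subgroupOf.1 hc))⟩
  rw [← relIndex_subgroupOf (H := C) hM]
  exact relIndex_dvd_index_of_normal (C.subgroupOf N) _

theorem moves_map [Finite H] {f : G →* H} (hf : Function.Injective f) {K : Subgroup G} (h : Moves q K) :
    Moves q (K.map f) := by
  refine moves_of_le (le_normalizer_map f (H := K)) (h.trans ?_)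
  rw [← relIndex_comap]
  refine relIndex_dvd_of_le_left _ fun c hc => mem_centralizer_iff.2 fun x hx => hf ?_
  rw [map_mul, map_mul]
  exact mem_centralizer_iff.1 hc (f x) ⟨x, hx, rfl⟩

theorem moves_of_surj {f : G →* H} {K : Subgroup G}
    (hN : (normalizer (K : Set G)).map f = normalizer ((K.map f : Subgroup H) : Set H))
    (h : Moves q (K.map f)) : Moves q K := by
  refine h.trans ?_
  rw [← hN, ← relIndex_comap]
  refine relIndex_dvd_of_le_left _ fun c hc => mem_centralizer_iff.2 ?_
  rintro _ ⟨x, hx, rfl⟩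
  rw [← map_mul, ← map_mul, mem_centralizer_iff.1 hc x hx]

/-! ### Subgroups characteristic in a subgroup -/

/-- `K ≤ S` is invariant under the automorphisms of `S`. -/
def CharIn (K S : Subgroup G) : Prop :=
  K ≤ S ∧ ∀ (e : S ≃* S) (x : S), (x : G) ∈ K → (e x : G) ∈ K

theorem charIn_refl_map {S : Subgroup G} (K : Subgroup S) [hK : K.Characteristic] :
    CharIn (K.map S.subtype) S := by
  refine ⟨map_subtype_le K, fun e x ⟨y, hy, hyx⟩ => ⟨e x, ?_, rfl⟩⟩
  obtain rfl : y = x := Subtype.ext hyx
  exact (characteristic_iff_map_le.1 hK e) ⟨y, hy, rfl⟩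

theorem CharIn.bot {S : Subgroup G} : CharIn ⊥ S := ⟨bot_le, fun e x hx => by
  obtain rfl : x = 1 := Subtype.ext (mem_bot.1 hx)
  simp⟩

theorem CharIn.mem_normalizer [Finite G] {K S : Subgroup G} (h : CharIn K S) {g : G}
    (hg : g ∈ normalizer (S : Set G)) : g ∈ normalizer (K : Set G) := by
  refine CfsgLib.Solvable.mem_normalizer_of_conj_mem fun x hx => ?_
  have hS : S.map (MulAut.conj g).toMonoidHom = S := mem_normalizer_iff_map_conj_eq.1 hg
  exact h.2 ((S.equivMapOfInjective _ (MulAut.conj g).injective).trans (MulEquiv.subgroupCongr hS)) ⟨x, h.1 hx⟩ hx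

theorem CharIn.map {K S : Subgroup G} (h : CharIn K S) (f : G →* H) (hf : Function.Injective f) :
    CharIn (K.map f) (S.map f) := by
  refine ⟨map_mono h.1, fun e x ⟨y, hy, hyx⟩ => ?_⟩
  set eS := S.equivMapOfInjective f hf
  have hx : eS ⟨y, h.1 hy⟩ = x := Subtype.ext hyx
  have h2 := h.2 ((eS.trans e).trans eS.symm) ⟨y, h.1 hy⟩ hy
  refine ⟨_, h2, ?_⟩
  have h3 : eS (((eS.trans e).trans eS.symm) ⟨y, h.1 hy⟩) = e x := by
    simp [hx]
  exact congrArg Subtype.val h3

theorem CharIn.trans {K T S : Subgroup G} (h1 : CharIn K T) (h2 : CharIn T S) : CharIn K S := by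
  refine ⟨h1.1.trans h2.1, fun e x hx => ?_⟩
  let e' : T ≃* T :=
    { toFun := fun t => ⟨(e ⟨t, h2.1 t.2⟩ : G), h2.2 e ⟨t, h2.1 t.2⟩ t.2⟩
      invFun := fun t => ⟨(e.symm ⟨t, h2.1 t.2⟩ : G), h2.2 e.symm ⟨t, h2.1 t.2⟩ t.2⟩
      left_inv := fun t => Subtype.ext (congrArg (fun z : S => (z : G)) (e.symm_apply_apply ⟨t, h2.1 t.2⟩) :)
      right_inv := fun t => Subtype.ext (congrArg (fun z : S => (z : G)) (e.apply_symm_apply ⟨t, h2.1 t.2⟩) :)
      map_mul' := fun a b => Subtype.ext
        (congrArg (fun z : S => (z : G)) (map_mul e ⟨a, h2.1 a.2⟩ ⟨b, h2.1 b.2⟩) :) }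
  exact h1.2 e' ⟨x, h1.1 hx⟩ hx

theorem CharIn.inf_centralizer {W S : Subgroup G} (h : CharIn W S) :
    CharIn (S ⊓ centralizer (W : Set G)) S := by
  refine ⟨inf_le_left, fun e x hx => mem_inf.2 ⟨(e x).2, mem_centralizer_iff.2 fun w hw => ?_⟩⟩
  have hw' : (e.symm ⟨w, h.1 hw⟩ : G) ∈ W := h.2 e.symm ⟨w, h.1 hw⟩ hw
  have hc : e.symm ⟨w, h.1 hw⟩ * x = x * e.symm ⟨w, h.1 hw⟩ :=
    Subtype.ext (mem_centralizer_iff.1 hx.2 _ hw')
  have h2 := congrArg e hc
  rw [map_mul, map_mul, e.apply_symm_apply] at h2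
  exact congrArg Subtype.val h2

/-- Preimages of characteristic subgroups. -/
theorem CharIn.comap {f : G →* H} {S : Subgroup G} {K : Subgroup H} (hker : CharIn (f.ker ⊓ S) S)
    (h : CharIn K (S.map f)) : CharIn (S ⊓ K.comap f) S := by
  refine ⟨inf_le_left, fun e x hx => mem_inf.2 ⟨(e x).2, ?_⟩⟩
  set φ := f.subgroupMap S with hφ
  have hφs : Function.Surjective φ := f.subgroupMap_surjective S
  have hd : ∀ d : S ≃* S, φ.ker ≤ (φ.comp d.toMonoidHom).ker := fun d y hy => by
    have h1 : (y : G) ∈ f.ker ⊓ S := mem_inf.2 ⟨congrArg Subtype.val (MonoidHom.mem_ker.1 hy), y.2⟩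
    exact MonoidHom.mem_ker.2 (Subtype.ext (hker.2 d y h1).1)
  let d1 := φ.liftOfSurjective hφs ⟨φ.comp e.toMonoidHom, hd e⟩
  let d2 := φ.liftOfSurjective hφs ⟨φ.comp e.symm.toMonoidHom, hd e.symm⟩
  have hd1 : ∀ y, d1 (φ y) = φ (e y) := fun y => MonoidHom.liftOfRightInverse_comp_apply _ _ _ _ y
  have hd2 : ∀ y, d2 (φ y) = φ (e.symm y) := fun y => MonoidHom.liftOfRightInverse_comp_apply _ _ _ _ y
  let ebar : S.map f ≃* S.map f := MonoidHom.toMulEquiv d1 d2
    (MonoidHom.ext fun z => by
      obtain ⟨y, rfl⟩ := hφs z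
      show d2 (d1 (φ y)) = φ y
      rw [hd1, hd2, e.symm_apply_apply])
    (MonoidHom.ext fun z => by
      obtain ⟨y, rfl⟩ := hφs z
      show d1 (d2 (φ y)) = φ y
      rw [hd2, hd1, e.apply_symm_apply])
  have h2 := h.2 ebar (φ x) hx.2
  rw [show ebar (φ x) = φ (e x) from hd1 x] at h2
  exact h2

theorem map_inf_comap_eq {f : G →* H} {S : Subgroup G} {K : Subgroup H} (h : K ≤ S.map f) :
    (S ⊓ K.comap f).map f = K := by
  refine le_antisymm ?_ fun y hy => ?_
  · rintro _ ⟨x, hx, rfl⟩
    exact hx.2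
  · obtain ⟨x, hx, rfl⟩ := h hy
    exact ⟨x, ⟨hx, hy⟩, rfl⟩

theorem charIn_omega (p : ℕ) (S : Subgroup G) : CharIn (Transfer.omegaCenterOf p S) S := by
  have hK : (Transfer.omegaCenterOf p (⊤ : Subgroup S)).Characteristic := by
    rw [characteristic_iff_map_eq]
    intro e
    rw [Transfer.omegaCenterOf_map _ e.injective.injOn]
    exact congrArg _ (map_top_of_surjective _ e.surjective)
  have h := charIn_refl_map (Transfer.omegaCenterOf p (⊤ : Subgroup S))
  rwa [Transfer.omegaCenterOf_map _ S.subtype_injective.injOn, ← MonoidHom.range_eq_map, range_subtype] at h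

theorem charIn_thompson (p : ℕ) (S : Subgroup G) : CharIn (thompsonSubgroupOf p S) S := by
  haveI := Transfer.thompsonSubgroup_characteristic (G := S) p
  exact charIn_refl_map (thompsonSubgroup p S)

/-! ### Groups with trivial `p'`-core -/

variable [hp : Fact p.Prime]

theorem omega_ne_bot [Finite G] {S : Subgroup G} (hS : IsPGroup p S) (h : S ≠ ⊥) :
    Transfer.omegaCenterOf p S ≠ ⊥ := by
  haveI : Nontrivial S := (nontrivial_iff_ne_bot S).2 h
  have hc := hS.center_nontrivial
  obtain ⟨z, hz, hzo⟩ := CfsgLib.PGroup.exists_orderOf_eq hS (H := center S) ((nontrivial_iff_ne_bot _).1 hc)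
  intro e
  have h1 : (z : G) ∈ Transfer.omegaCenterOf p S := by
    refine CfsgLib.PGroup.mem_omegaOne ⟨z.2, mem_centralizer_iff.2 fun y hy => ?_⟩ ?_
    · exact congrArg Subtype.val (mem_center_iff.1 hz ⟨y, hy⟩)
    · rw [← Subgroup.coe_pow, ← hzo, pow_orderOf_eq_one, Subgroup.coe_one]
  rw [e, mem_bot] at h1
  rw [orderOf_eq_one_iff.2 (Subtype.ext h1 : z = 1)] at hzo
  exact hp.out.ne_one hzo.symm

theorem thompson_ne_bot [Finite G] {S : Subgroup G} (hS : IsPGroup p S) (h : S ≠ ⊥) :
    thompsonSubgroupOf p S ≠ ⊥ := by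
  obtain ⟨A, hA⟩ := Transfer.maxEA_nonempty (G := S) p
  haveI : Nontrivial S := (nontrivial_iff_ne_bot S).2 h
  obtain ⟨z, -, hzo⟩ := CfsgLib.PGroup.exists_orderOf_eq hS (H := (⊤ : Subgroup S)) top_ne_bot
  intro e
  rw [thompsonSubgroupOf, map_eq_bot_iff_of_injective _ S.subtype_injective] at e
  have hAbot : A = ⊥ := eq_bot_iff.2 (e ▸ Transfer.le_thompsonSubgroup hA)
  have hzE : IsElementaryAbelian p (zpowers z) := by
    refine PGroup.isElementaryAbelian_mk ?_ ?_
    · intro a ha b hb
      obtain ⟨i, rfl⟩ := mem_zpowers_iff.1 ha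
      obtain ⟨j, rfl⟩ := mem_zpowers_iff.1 hb
      exact zpow_mul_comm z i j
    · intro a ha
      obtain ⟨i, rfl⟩ := mem_zpowers_iff.1 ha
      rw [← zpow_natCast, ← zpow_mul, mul_comm, zpow_mul, zpow_natCast, ← hzo, pow_orderOf_eq_one, one_zpow]
  have hle := hA.2 (zpowers z) hzE
  rw [hAbot, card_bot, Nat.card_zpowers, hzo] at hle
  exact absurd hle (not_le.2 hp.out.one_lt)

/-- A self-centralising normal `p`-subgroup kills the `p'`-core. -/
theorem pPrimeCore_eq_bot_of_normal [Finite G] {P : Subgroup G} [P.Normal] (hP : IsPGroup p P)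
    (hC : centralizer (P : Set G) ≤ P) : pPrimeCore p G = ⊥ := by
  haveI : (pPrimeCore p G).Normal := by
    haveI := Cores.pPrimeCore_characteristic (G := G) p
    infer_instance
  obtain ⟨k, hk⟩ := IsPGroup.iff_card.1 hP
  have hd : Disjoint (pPrimeCore p G) P := disjoint_iff.2 (CfsgLib.Solvable.disjoint_of_coprime (by
    rw [hk]
    exact (Cores.coprime_card_pPrimeCore p).pow_right k))
  rw [eq_bot_iff]
  intro x hx
  have hxP : x ∈ P := hC (mem_centralizer_iff.2 fun y hy =>
    (Subgroup.commute_of_normal_of_disjoint _ _ inferInstance inferInstance hd x y hx hy).symm.eq)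
  exact hd.le_bot ⟨hx, hxP⟩

/-- A subgroup of index prime to `p` keeps a trivial `p'`-core. -/
theorem pPrimeCore_subgroup_eq_bot [Finite G] (hsol : IsPSolvable p G) (hO : pPrimeCore p G = ⊥)
    (U : Subgroup G) (hU : ¬ p ∣ U.index) : pPrimeCore p U = ⊥ := by
  obtain ⟨S⟩ : Nonempty (Sylow p U) := inferInstance
  have hSG : ¬ p ∣ ((S : Subgroup U).map U.subtype).index := by
    rw [index_map_subtype]
    exact fun h => (hp.out.dvd_mul.1 h).elim (Sylow.not_dvd_index _) hU
  set T := (S.2.map U.subtype).toSylow hSG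
  have hVU : pCore p G ≤ U := (Cores.pCore_le_sylow T).trans (map_subtype_le _)
  haveI : ((pCore p G).subgroupOf U).Normal := inferInstance
  refine pPrimeCore_eq_bot_of_normal (P := (pCore p G).subgroupOf U)
    ((Cores.isPGroup_pCore p).of_equiv (subgroupOfEquivOfLe hVU).symm) fun x hx => ?_
  refine mem_subgroupOf.2 (Transfer.centralizer_pCore_le_of_isPSolvable hsol hO (mem_centralizer_iff.2 fun y hy => ?_))
  exact congrArg Subtype.val (mem_centralizer_iff.1 hx ⟨y, hVU hy⟩ hy)

omit hp in
/-- A complete product. -/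
theorem dvd_or_dvd_of_product [Finite G] (hq : q.Prime) {C N : Subgroup G} (h : ∀ g : G, ∃ c ∈ C, ∃ n ∈ N, g = c * n)
    (hd : q ∣ Nat.card G) : q ∣ Nat.card C ∨ q ∣ Nat.card N := by
  rw [← C.card_mul_index] at hd
  refine (hq.dvd_mul.1 hd).imp_right fun h1 => h1.trans ?_
  have hinj : C.index = C.relIndex N := by
    refine le_antisymm ?_ ?_
    · let f : N ⧸ C.subgroupOf N → G ⧸ C := Quotient.map' (fun n : N => (n : G)) fun a b hab => by
        rw [QuotientGroup.leftRel_apply] at hab ⊢
        exact hab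
      refine Nat.card_le_card_of_surjective f fun y => ?_
      induction y using QuotientGroup.induction_on with
      | _ g =>
        obtain ⟨c, hc, n, hn, hg⟩ := h g⁻¹
        refine ⟨QuotientGroup.mk (⟨n⁻¹, inv_mem hn⟩ : N), QuotientGroup.eq.2 ?_⟩
        have : n⁻¹⁻¹ * g = c⁻¹ := by
          rw [inv_inv, ← inv_inv g, hg, mul_inv_rev, mul_inv_cancel_left]
        rw [this]
        exact inv_mem hc
    · refine Nat.card_le_card_of_injective (α := N ⧸ C.subgroupOf N) (β := G ⧸ C)
        (Quotient.map' (fun n : N => (n : G)) fun a b hab => by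
          rw [QuotientGroup.leftRel_apply] at hab ⊢
          exact hab) fun a b => ?_
      induction a using QuotientGroup.induction_on with
      | _ a =>
      induction b using QuotientGroup.induction_on with
      | _ b =>
        intro hab
        exact QuotientGroup.eq.2 (mem_subgroupOf.2 (QuotientGroup.eq.1 hab))
  rw [hinj]
  exact Subgroup.index_dvd_card _

/-- The conclusion for a group with trivial `p'`-core. -/
def Good (p q : ℕ) (M : Type*) [Group M] : Prop :=
  ∃ (S : Sylow p M) (K : Subgroup M), CharIn K (S : Subgroup M) ∧ Moves q K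

theorem good_of_subgroup [Finite G] {U : Subgroup G} (hU : ¬ p ∣ U.index) (h : Good p q U) : Good p q G := by
  obtain ⟨S, K, hK, hm⟩ := h
  have hSG : ¬ p ∣ ((S : Subgroup U).map U.subtype).index := by
    rw [index_map_subtype]
    exact fun h => (hp.out.dvd_mul.1 h).elim (Sylow.not_dvd_index _) hU
  exact ⟨(S.2.map U.subtype).toSylow hSG, K.map U.subtype, hK.map _ U.subtype_injective,
    moves_map U.subtype_injective hm⟩

/-- Groups of order `p ^ a q ^ b`. -/
theorem good_two_primes (hq : q.Prime) (hpq : p ≠ q) (h23 : ¬ ((p = 2 ∧ q = 3) ∨ (p = 3 ∧ q = 2))) :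
    ∀ (n : ℕ) (T : Type u) [Group T] [Finite T], Nat.card T = n → IsPSolvable p T → pPrimeCore p T = ⊥ →
      q ∣ Nat.card T → (∀ r : ℕ, r.Prime → r ∣ Nat.card T → r = p ∨ r = q) → Good p q T := by
  intro n
  induction n using Nat.strong_induction_on with
  | _ n ih =>
  intro T _ _ hn hsol hO hqT hpr
  haveI : Nontrivial T := Finite.one_lt_card_iff_nontrivial.1
    (lt_of_lt_of_le hq.one_lt (Nat.le_of_dvd Nat.card_pos hqT))
  have hsub : ∀ U : Subgroup T, U ≠ ⊤ → ¬ p ∣ U.index → q ∣ Nat.card U → Good p q T := fun U hU hpU hqU =>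
    good_of_subgroup hpU (ih _ (hn ▸ lt_of_le_of_ne (card_le_card_group U) fun e => hU (eq_top_of_card_eq U e)) U rfl
      (Transfer.isPSolvable_subgroup hsol U) (pPrimeCore_subgroup_eq_bot hsol hO U hpU) hqU
      fun r hr hd => hpr r hr (hd.trans (card_subgroup_dvd_card U)))
  have hCV := Transfer.centralizer_pCore_le_of_isPSolvable hsol hO
  obtain ⟨S⟩ : Nonempty (Sylow p T) := inferInstance
  have hS : (S : Subgroup T) ≠ ⊥ := by
    intro e
    have hV : pCore p T = ⊥ := eq_bot_iff.2 (e ▸ Cores.pCore_le_sylow S)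
    obtain ⟨x, hx⟩ := exists_ne (1 : T)
    have := hCV (mem_centralizer_iff.2 fun y hy => by
      rw [hV] at hy
      rw [mem_bot.1 hy, one_mul, mul_one] : x ∈ centralizer (pCore p T : Set T))
    rw [hV, mem_bot] at this
    exact hx this
  -- a nontrivial normal subgroup characteristic in `S`
  by_cases hW : ∃ W : Subgroup T, W.Normal ∧ W ≠ ⊥ ∧ CharIn W (S : Subgroup T)
  · obtain ⟨W, hWn, hW1, hWS⟩ := hW
    by_cases hqi : q ∣ (centralizer (W : Set T)).index
    · refine ⟨S, W, hWS, ?_⟩
      rwa [Moves, normalizer_eq_top, relIndex_top_right]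
    set C := centralizer (W : Set T) with hC
    haveI : C.Normal := inferInstance
    rcases eq_or_ne C ⊤ with hCt | hCt
    · -- `W` is central
      set π := QuotientGroup.mk' W with hπ
      have hπs : Function.Surjective π := QuotientGroup.mk'_surjective W
      have hWp : IsPGroup p W := S.2.to_le hWS.1
      have hO' : pPrimeCore p (T ⧸ W) = ⊥ := by
        set N := (pPrimeCore p (T ⧸ W)).comap π with hN
        haveI : (pPrimeCore p (T ⧸ W)).Normal := by
          haveI := Cores.pPrimeCore_characteristic (G := T ⧸ W) p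
          infer_instance
        haveI : N.Normal := Normal.comap inferInstance π
        have hWN : W ≤ N := fun w hw => by
          show π w ∈ pPrimeCore p (T ⧸ W)
          rw [show π w = 1 from (QuotientGroup.eq_one_iff w).2 hw]
          exact one_mem _
        set W' := W.subgroupOf N
        haveI : W'.Normal := inferInstance
        have hW' : IsPGroup p W' := hWp.of_equiv (subgroupOfEquivOfLe hWN).symm
        have hcard : W'.index = Nat.card (pPrimeCore p (T ⧸ W)) := by
          show W.relIndex N = _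
          rw [show W.relIndex N = π.ker.relIndex N by rw [QuotientGroup.ker_mk'], relIndex_ker,
            map_comap_eq_self_of_surjective hπs]
        have hcop : (Nat.card W').Coprime W'.index := by
          obtain ⟨k, hk⟩ := IsPGroup.iff_card.1 hW'
          rw [hk, hcard]
          exact (Cores.coprime_card_pPrimeCore p).symm.pow_left k
        obtain ⟨J, hJ⟩ := Subgroup.exists_right_complement'_of_coprime hcop
        have hJn : J.Normal := by
          refine ⟨fun j hj g => ?_⟩
          obtain ⟨⟨w, j'⟩, hwj⟩ := hJ.2 g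
          simp only at hwj
          have hwc : ∀ y : N, (w : N) * y = y * w := fun y => Subtype.ext
            (mem_centralizer_iff.1 (hCt.ge (mem_top ((y : N) : T))) _ (mem_subgroupOf.1 w.2))
          subst hwj
          have : (w : N) * j' * j * ((w : N) * j')⁻¹ = j' * j * (j' : N)⁻¹ := by
            calc (w : N) * j' * j * ((w : N) * j')⁻¹ = w * (j' * j * (j' : N)⁻¹) * (w : N)⁻¹ := by group
              _ = _ := by rw [hwc, mul_inv_cancel_right]
          rw [this]
          exact mul_mem (mul_mem j'.2 hj) (inv_mem j'.2)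
        have hJle : J ≤ pPrimeCore p N := Cores.le_pPrimeCore (by
          rw [← hJ.symm.index_eq_card, hcard]
          exact Cores.coprime_card_pPrimeCore p)
        have hJbot : J = ⊥ := by
          have h1 := (map_mono (f := N.subtype) hJle).trans (Cores.map_subtype_pPrimeCore_le_of_normal p N)
          rw [hO, le_bot_iff, map_eq_bot_iff_of_injective _ N.subtype_injective] at h1
          exact h1
        rw [hJbot] at hJ
        have h2 : W' = ⊤ := isComplement'_bot_right.1 hJ
        rw [h2, index_top] at hcard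
        exact eq_bot_of_card_eq _ hcard.symm
      have hlt : Nat.card (T ⧸ W) < n := hn ▸ CfsgLib.Solvable.card_quotient_lt W hW1
      have hqb : q ∣ Nat.card (T ⧸ W) := by
        obtain ⟨k, hk⟩ := IsPGroup.iff_card.1 hWp
        have h1 := W.card_mul_index
        rw [index_eq_card, hk] at h1
        rw [← h1] at hqT
        exact (hq.dvd_mul.1 hqT).resolve_left fun h =>
          hpq ((Nat.prime_dvd_prime_iff_eq hq hp.out).1 (hq.dvd_of_dvd_pow h)).symm
      obtain ⟨Sb, Kb, hKb, hmb⟩ := ih _ hlt (T ⧸ W) rfl (Transfer.isPSolvable_quotient hsol W) hO' hqb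
        fun r hr hd => hpr r hr (hd.trans (card_quotient_dvd_card W))
      obtain ⟨S', rfl⟩ := Sylow.mapSurjective_surjective hπs p Sb
      rw [Sylow.coe_mapSurjective] at hKb
      have hWS' : CharIn W (S' : Subgroup T) := by
        obtain ⟨g, rfl⟩ := MulAction.exists_smul_eq T S S'
        rw [Sylow.coe_subgroup_smul, CfsgLib.Solvable.conj_smul_eq_map]
        have h1 := hWS.map (MulAut.conj g).toMonoidHom (MulAut.conj g).injective
        rwa [show W.map (MulAut.conj g).toMonoidHom = W from
          mem_normalizer_iff_map_conj_eq.1 (by rw [normalizer_eq_top]; trivial)] at h1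
      have hker : CharIn (π.ker ⊓ (S' : Subgroup T)) (S' : Subgroup T) := by
        rw [QuotientGroup.ker_mk', inf_eq_left.2 hWS'.1]
        exact hWS'
      refine ⟨S', _, CharIn.comap hker hKb, moves_of_surj (f := π) ?_ ?_⟩
      · refine le_antisymm (le_normalizer_map π) fun y hy => ?_
        obtain ⟨g, rfl⟩ := hπs y
        refine ⟨g, ?_, rfl⟩
        have hKW : (S' : Subgroup T) ⊓ Kb.comap π = Kb.comap π := by
          refine inf_eq_right.2 fun x hx => ?_
          obtain ⟨s, hs, hsx⟩ := hKb.1 hx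
          have h1 : s⁻¹ * x ∈ W := QuotientGroup.eq.1 hsx
          simpa using mul_mem hs (hWS'.1 h1)
        rw [map_inf_comap_eq hKb.1] at hy
        rw [SetLike.mem_coe, hKW]
        refine mem_normalizer_iff.2 fun x => ?_
        rw [mem_comap, mem_comap, map_mul, map_mul, map_inv]
        exact mem_normalizer_iff.1 hy _
      · rwa [map_inf_comap_eq hKb.1]
    · -- recursion inside the centralizer
      have hqC : q ∣ Nat.card C := by
        rw [← C.card_mul_index] at hqT
        exact (hq.dvd_mul.1 hqT).resolve_right hqi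
      have hOC : pPrimeCore p C = ⊥ := by
        have h1 := Cores.map_subtype_pPrimeCore_le_of_normal p C
        rwa [hO, le_bot_iff, map_eq_bot_iff_of_injective _ C.subtype_injective] at h1
      obtain ⟨Sc, K, hK, hm⟩ := ih _ (hn ▸ lt_of_le_of_ne (card_le_card_group C) fun e => hCt (eq_top_of_card_eq C e))
        C rfl (Transfer.isPSolvable_subgroup hsol C) hOC hqC fun r hr hd => hpr r hr (hd.trans (card_subgroup_dvd_card C))
      obtain ⟨S', hS'⟩ := (Sc.2.map C.subtype).exists_le_sylow
      have heq : (Sc : Subgroup C).map C.subtype = (S' : Subgroup T) ⊓ C := by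
        refine le_antisymm (le_inf hS' (map_subtype_le _)) fun x hx => ?_
        have h1 : ((S' : Subgroup T).subgroupOf C) = (Sc : Subgroup C) :=
          Sc.3 (S'.2.comap_of_injective C.subtype C.subtype_injective) (map_le_iff_le_comap.1 hS')
        exact ⟨⟨x, hx.2⟩, h1 ▸ hx.1, rfl⟩
      have hWS' : CharIn W (S' : Subgroup T) := by
        obtain ⟨g, rfl⟩ := MulAction.exists_smul_eq T S S'
        rw [Sylow.coe_subgroup_smul, CfsgLib.Solvable.conj_smul_eq_map]
        have h1 := hWS.map (MulAut.conj g).toMonoidHom (MulAut.conj g).injective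
        rwa [show W.map (MulAut.conj g).toMonoidHom = W from
          mem_normalizer_iff_map_conj_eq.1 (by rw [normalizer_eq_top]; trivial)] at h1
      exact ⟨S', K.map C.subtype, (heq ▸ hK.map C.subtype C.subtype_injective).trans hWS'.inf_centralizer,
        moves_map C.subtype_injective hm⟩
  -- otherwise the factorization gives a proper subgroup
  have h6 : ¬ (p = 2 ∨ p = 3) ∨ ¬ 6 ∣ Nat.card T := by
    by_contra h
    push Not at h
    rcases h.1 with h2 | h3
    · rcases hpr 3 Nat.prime_three ((by norm_num : 3 ∣ 6).trans h.2) with h' | h'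
      · omega
      · exact h23 (Or.inl ⟨h2, h'.symm⟩)
    · rcases hpr 2 Nat.prime_two ((by norm_num : 2 ∣ 6).trans h.2) with h' | h'
      · omega
      · exact h23 (Or.inr ⟨h3, h'.symm⟩)
  obtain ⟨hDn, hDe, hD⟩ := Cfsg.Agent.S0601.result hCV
  set D := ⨆ S : Sylow p T, Cfsg.omegaOne p ((S : Subgroup T) ⊓ centralizer ((S : Subgroup T) : Set T))
  haveI : D.Normal := hDn
  have hfac : IsThompsonFactorizable p T := by
    refine (Transfer.isThompsonFactorizable_iff hO).2 ?_
    by_contra hne
    have hps : PStab.BestOff.PSep p D := ⟨hDe, hsol, Transfer.pCore_quotient_centralizer_eq_bot D hD⟩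
    obtain ⟨a, ha⟩ := hps.exists_trElt hne
    obtain ⟨h1, h2⟩ := hps.six_dvd ha
    rcases h6 with h | h
    · exact h h1
    · exact h h2
  set Z := Transfer.omegaCenterOf p (S : Subgroup T) with hZ
  set J := thompsonSubgroupOf p (S : Subgroup T) with hJ
  have hprod : ∀ g : T, ∃ c ∈ centralizer (Z : Set T), ∃ m ∈ normalizer (J : Set T), g = c * m := by
    intro g
    obtain ⟨x, hx, c, hc, m, hm, hg⟩ := hfac S g
    rw [hO, mem_bot] at hx
    exact ⟨c, hc, m, hm, by rw [hg, hx, one_mul]⟩
  have hSC : (S : Subgroup T) ≤ centralizer (Z : Set T) := fun s hs => mem_centralizer_iff.2 fun z hz =>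
    ((mem_centralizer_iff.1 (PGroup.omegaOne_le p _ hz).2) s hs).symm
  have hSN : (S : Subgroup T) ≤ normalizer (J : Set T) := fun s hs =>
    (charIn_thompson p _).mem_normalizer (le_normalizer hs)
  have hidx : ∀ U : Subgroup T, (S : Subgroup T) ≤ U → ¬ p ∣ U.index := fun U hU h =>
    Sylow.not_dvd_index S (h.trans (index_dvd_of_le hU))
  rcases dvd_or_dvd_of_product hq hprod hqT with hd | hd
  · refine hsub _ (fun e => hW ⟨Z, ⟨fun z hz g => ?_⟩, omega_ne_bot S.2 hS, charIn_omega p _⟩) (hidx _ hSC) hd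
    have h1 := mem_centralizer_iff.1 (e.ge (mem_top g)) z hz
    rwa [← h1, mul_inv_cancel_right]
  · exact hsub _ (fun e => hW ⟨J, normalizer_eq_top_iff.1 e, thompson_ne_bot S.2 hS, charIn_thompson p _⟩)
      (hidx _ hSN) hd

/-- A subgroup of index prime to `p` whose order is divisible by `q` and by no prime outside `{p, q}`. -/
theorem exists_pq_subgroup (hq : q.Prime) (hpq : p ≠ q) :
    ∀ (n : ℕ) (M : Type u) [Group M] [Finite M], Nat.card M = n → IsPSolvable p M → q ∣ Nat.card M →
      ∃ T : Subgroup M, ¬ p ∣ T.index ∧ q ∣ Nat.card T ∧ ∀ r : ℕ, r.Prime → r ∣ Nat.card T → r = p ∨ r = q := by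
  intro n
  induction n using Nat.strong_induction_on with
  | _ n ih =>
  intro M _ _ hn hsol hqM
  haveI : Fact q.Prime := ⟨hq⟩
  haveI : Nontrivial M := Finite.one_lt_card_iff_nontrivial.1
    (lt_of_lt_of_le hq.one_lt (Nat.le_of_dvd Nat.card_pos hqM))
  by_cases hO : pPrimeCore p M = ⊥
  · -- quotient by the `p`-core
    set N := pCore p M
    have hN : N ≠ ⊥ := by
      intro e
      obtain ⟨x, hx⟩ := exists_ne (1 : M)
      have := Transfer.centralizer_pCore_le_of_isPSolvable hsol hO (mem_centralizer_iff.2 fun y hy => by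
        rw [show pCore p M = ⊥ from e] at hy
        rw [mem_bot.1 hy, one_mul, mul_one] : x ∈ centralizer (pCore p M : Set M))
      rw [show pCore p M = ⊥ from e, mem_bot] at this
      exact hx this
    obtain ⟨k, hk⟩ := IsPGroup.iff_card.1 (Cores.isPGroup_pCore (G := M) p)
    have hqb : q ∣ Nat.card (M ⧸ N) := by
      have h1 := N.card_mul_index
      rw [index_eq_card, show Nat.card N = p ^ k from hk] at h1
      rw [← h1] at hqM
      exact (hq.dvd_mul.1 hqM).resolve_left fun h =>
        hpq ((Nat.prime_dvd_prime_iff_eq hq hp.out).1 (hq.dvd_of_dvd_pow h)).symm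
    obtain ⟨T, hT1, hT2, hT3⟩ := ih _ (hn ▸ CfsgLib.Solvable.card_quotient_lt N hN) (M ⧸ N) rfl
      (Transfer.isPSolvable_quotient hsol N) hqb
    refine ⟨T.comap (QuotientGroup.mk' N), ?_, ?_, fun r hr hd => ?_⟩
    · rwa [index_comap_of_surjective _ (QuotientGroup.mk'_surjective N)]
    · rw [CfsgLib.Solvable.card_comap_mk']
      exact hT2.trans (dvd_mul_left _ _)
    · rw [CfsgLib.Solvable.card_comap_mk', show Nat.card N = p ^ k from hk] at hd
      rcases hr.dvd_mul.1 hd with h | h
      · exact Or.inl ((Nat.prime_dvd_prime_iff_eq hr hp.out).1 (hr.dvd_of_dvd_pow h))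
      · exact hT3 r hr h
  · set N := pPrimeCore p M with hNdef
    haveI hNn : N.Normal := by
      haveI := Cores.pPrimeCore_characteristic (G := M) p
      infer_instance
    have hNcop : (Nat.card N).Coprime p := Cores.coprime_card_pPrimeCore p
    by_cases hqN : q ∣ Nat.card N
    · -- an invariant Sylow subgroup
      obtain ⟨S⟩ : Nonempty (Sylow p M) := inferInstance
      obtain ⟨a, ha⟩ := IsPGroup.iff_card.1 S.2
      have hSN : (S : Subgroup M) ≤ normalizer (N : Set M) := by rw [normalizer_eq_top]; exact le_top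
      haveI : Group.IsNilpotent (S : Subgroup M) := S.2.isNilpotent
      have hcop : (Nat.card (S : Subgroup M)).Coprime (Nat.card N) := by
        rw [ha]
        exact hNcop.symm.pow_left a
      obtain ⟨Q, hQ⟩ := CfsgLib.Solvable.exists_invariant_sylow (S : Subgroup M) N hSN hcop (Or.inl inferInstance) q
      set Qm := (Q : Subgroup N).map N.subtype
      obtain ⟨b, hb⟩ := IsPGroup.iff_card.1 (Q.2.map N.subtype)
      have hd : Qm ⊓ (S : Subgroup M) = ⊥ := (IsPGroup.disjoint_of_ne q p hpq.symm _ _ (Q.2.map _) S.2).eq_bot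
      have hcard := CfsgLib.Solvable.card_sup_of_disjoint hQ hd
      rw [ha, show Nat.card Qm = q ^ b from hb] at hcard
      have hqQ : q ∣ Nat.card Qm := by
        rw [CfsgLib.Solvable.card_sylow_map]
        exact Q.dvd_card_of_dvd_card hqN
      refine ⟨Qm ⊔ S, fun h => Sylow.not_dvd_index S (h.trans (index_dvd_of_le le_sup_right)),
        hqQ.trans (card_dvd_of_le le_sup_left), fun r hr hd' => ?_⟩
      rw [hcard] at hd'
      rcases hr.dvd_mul.1 hd' with h | h
      · exact Or.inr ((Nat.prime_dvd_prime_iff_eq hr hq).1 (hr.dvd_of_dvd_pow h))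
      · exact Or.inl ((Nat.prime_dvd_prime_iff_eq hr hp.out).1 (hr.dvd_of_dvd_pow h))
    · have hqb : q ∣ Nat.card (M ⧸ N) := by
        have h1 := N.card_mul_index
        rw [index_eq_card] at h1
        rw [← h1] at hqM
        exact (hq.dvd_mul.1 hqM).resolve_left hqN
      obtain ⟨T, hT1, hT2, hT3⟩ := ih _ (hn ▸ CfsgLib.Solvable.card_quotient_lt N hO) (M ⧸ N) rfl
        (Transfer.isPSolvable_quotient hsol N) hqb
      set π := QuotientGroup.mk' N with hπ
      set U := T.comap π with hU
      have hNU : N ≤ U := (QuotientGroup.ker_mk' N).ge.trans (MonoidHom.ker_le_comap π T)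
      have hcardU : Nat.card U = Nat.card N * Nat.card T := CfsgLib.Solvable.card_comap_mk' N T
      have hNc : Nat.card (N.subgroupOf U) = Nat.card N := Nat.card_congr (subgroupOfEquivOfLe hNU).toEquiv
      have hidx : (N.subgroupOf U).index = Nat.card T := by
        have h1 := (N.subgroupOf U).card_mul_index
        rw [hNc, hcardU] at h1
        exact Nat.eq_of_mul_eq_mul_left Nat.card_pos h1
      have hcop : (Nat.card (N.subgroupOf U)).Coprime (N.subgroupOf U).index := by
        rw [hNc, hidx]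
        refine Nat.coprime_of_dvd fun r hr h1 h2 => ?_
        rcases hT3 r hr h2 with rfl | rfl
        · exact hr.ne_one (Nat.eq_one_of_dvd_coprimes hNcop h1 dvd_rfl)
        · exact hqN h1
      obtain ⟨J, hJ⟩ := Subgroup.exists_right_complement'_of_coprime hcop
      have hJc : Nat.card (J.map U.subtype) = Nat.card T := by
        rw [card_map_of_injective U.subtype_injective, ← hidx]
        exact hJ.symm.index_eq_card.symm
      refine ⟨J.map U.subtype, ?_, hJc ▸ hT2, fun r hr hd => hT3 r hr (hJc ▸ hd)⟩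
      intro h
      have h1 := (J.map U.subtype).card_mul_index
      rw [hJc] at h1
      have h2 := T.card_mul_index
      have h3 := N.card_mul_index
      rw [index_eq_card, ← h2, ← h1] at h3
      have h4 : (J.map U.subtype).index = Nat.card N * T.index := by
        refine Nat.eq_of_mul_eq_mul_left (Nat.card_pos (α := T)) ?_
        rw [← h3]
        ring
      rw [h4] at h
      rcases hp.out.dvd_mul.1 h with h5 | h5
      · exact hp.out.ne_one (Nat.eq_one_of_dvd_coprimes hNcop h5 dvd_rfl)
      · exact hT1 h5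

/-- `p`-soluble groups with trivial `p'`-core. -/
theorem good_of_pSolvable {M : Type u} [Group M] [Finite M] (hq : q.Prime) (hpq : p ≠ q)
    (h23 : ¬ ((p = 2 ∧ q = 3) ∨ (p = 3 ∧ q = 2))) (hsol : IsPSolvable p M) (hO : pPrimeCore p M = ⊥)
    (hqM : q ∣ Nat.card M) : Good p q M := by
  obtain ⟨T, hT1, hT2, hT3⟩ := exists_pq_subgroup hq hpq _ M rfl hsol hqM
  exact good_of_subgroup hT1 (good_two_primes hq hpq h23 _ T rfl (Transfer.isPSolvable_subgroup hsol T)
    (pPrimeCore_subgroup_eq_bot hsol hO T hT1) hT2 hT3)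

/-- Some subgroup normal in the Sylow subgroup has automizer of order divisible by `q`. -/
theorem exists_normal_in_sylow [Finite G] (hq : q.Prime) (hpq : p ≠ q)
    (h23 : ¬ ((p = 2 ∧ q = 3) ∨ (p = 3 ∧ q = 2)))
    (hsol : ∀ H : Subgroup G, IsPGroup p H → IsPSolvable p
      (↥(normalizer (H : Set G)) ⧸ (centralizer (H : Set G)).subgroupOf (normalizer (H : Set G))))
    {H₀ : Subgroup G} (hH₀ : IsPGroup p H₀) (hq₀ : Moves q H₀) (P : Sylow p G) :
    ∃ K : Subgroup G, K ≤ (P : Subgroup G) ∧ (P : Subgroup G) ≤ normalizer (K : Set G) ∧ Moves q K := by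
  classical
  let m : Subgroup G → ℕ := fun H => (Nat.card (normalizer (H : Set G))).factorization p
  let score : Subgroup G → ℕ := fun H => m H * (Nat.card G + 1) + Nat.card H
  have : Fintype (Subgroup G) := Fintype.ofFinite _
  obtain ⟨H, hHmem, hmax⟩ := Finset.exists_max_image
    (Finset.univ.filter fun H : Subgroup G => IsPGroup p H ∧ Moves q H) score
    ⟨H₀, Finset.mem_filter.2 ⟨Finset.mem_univ _, hH₀, hq₀⟩⟩
  obtain ⟨-, hH, hqH⟩ := Finset.mem_filter.1 hHmem
  have hmax' : ∀ K : Subgroup G, IsPGroup p K → Moves q K → m K ≤ m H ∧ (m H ≤ m K → Nat.card K ≤ Nat.card H) := by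
    intro K hK hKm
    have h := hmax K (Finset.mem_filter.2 ⟨Finset.mem_univ _, hK, hKm⟩)
    simp only [score] at h
    have h1 := card_le_card_group H
    have h2 := card_le_card_group K
    refine ⟨?_, fun h3 => ?_⟩
    · by_contra hlt
      push Not at hlt
      nlinarith
    · nlinarith
  set L := normalizer (H : Set G) with hL
  have hHL : H ≤ L := le_normalizer
  set HL := H.subgroupOf L
  set CL := (centralizer (H : Set G)).subgroupOf L with hCL
  haveI hCLn : CL.Normal :=
    ⟨fun c hc g => mem_subgroupOf.2 (conj_mem_centralizer g.2 (mem_subgroupOf.1 hc))⟩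
  haveI hHLn : HL.Normal := normal_in_normalizer
  have hCLeq : CL = centralizer (HL : Set L) := by
    ext c
    rw [mem_subgroupOf, mem_centralizer_iff, mem_centralizer_iff]
    exact ⟨fun h x hx => Subtype.ext (h _ hx), fun h x hx => congrArg Subtype.val (h ⟨x, hHL hx⟩ hx)⟩
  obtain ⟨S⟩ : Nonempty (Sylow p L) := inferInstance
  have hScard : ∀ S : Sylow p L, Nat.card ((S : Subgroup L).map L.subtype) = p ^ m H := fun S => by
    rw [card_map_of_injective L.subtype_injective, S.card_eq_multiplicity]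
  obtain ⟨Tc, hTc⟩ := Transfer.exists_sylow_map_eq_inf CL S
  set R := (S : Subgroup L) ⊓ CL with hR
  have hRn : (S : Subgroup L) ≤ normalizer (R : Set L) :=
    CfsgLib.Solvable.le_normalizer_inf le_normalizer (by rw [normalizer_eq_top CL]; exact le_top)
  have hfr : normalizer (R : Set L) ⊔ CL = ⊤ := hTc ▸ Sylow.normalizer_sup_eq_top Tc
  set Rg := R.map L.subtype with hRg
  have hRH : Rg ≤ H := by
    set H' := H ⊔ Rg with hH'
    have hRL : Rg ≤ L := map_subtype_le R
    have hH'p : IsPGroup p H' :=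
      hH.to_sup_of_normal_left' ((S.2.to_le inf_le_left).map L.subtype) hRL
    set M := (normalizer (R : Set L)).map L.subtype with hM
    have hMN : M ≤ normalizer (H' : Set G) := by
      rintro _ ⟨g, hg, rfl⟩
      rw [mem_normalizer_iff_map_conj_eq, Subgroup.map_sup]
      congr 1
      · exact mem_normalizer_iff_map_conj_eq.1 g.2
      · exact mem_normalizer_iff_map_conj_eq.1 (le_normalizer_map L.subtype ⟨g, hg, rfl⟩)
    have hm : Moves q H' := by
      refine moves_of_le hMN ?_
      have h1 : CL.relIndex (normalizer (R : Set L)) = CL.index := by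
        rw [← relIndex_sup_right (K := CL) (H := normalizer (R : Set L)), hfr, relIndex_top_right]
      have h2 : (centralizer (H : Set G)).relIndex M = CL.index := by
        rw [hM, ← relIndex_comap, ← h1]
        rfl
      refine (show q ∣ (centralizer (H : Set G)).relIndex M by rw [h2]; exact hqH).trans ?_
      exact relIndex_dvd_of_le_left _ (centralizer_le (le_sup_left : H ≤ H'))
    have hSM : (S : Subgroup L).map L.subtype ≤ normalizer (H' : Set G) := (map_mono hRn).trans hMN
    have hmle : m H ≤ m H' := by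
      have h3 := card_dvd_of_le hSM
      rw [hScard] at h3
      exact (hp.out.pow_dvd_iff_le_factorization Nat.card_pos.ne').1 h3
    have h4 := eq_of_le_of_card_ge (le_sup_left : H ≤ H') ((hmax' H' hH'p hm).2 hmle)
    exact le_sup_right.trans h4.ge
  have hRHL : R ≤ HL := fun x hx => hRH ⟨x, hx, rfl⟩
  -- the centralizer has a normal `p`-complement
  have hcentral : ∀ t ∈ (Tc : Subgroup CL), ∀ c : CL, t * c = c * t := by
    intro t ht c
    have h1 : (t : L) ∈ R := hTc.le ⟨t, ht, rfl⟩
    have h2 : (c : L) ∈ centralizer (HL : Set L) := hCLeq ▸ c.2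
    exact Subtype.ext (mem_centralizer_iff.1 h2 _ (hRHL h1))
  haveI hTcn : (Tc : Subgroup CL).Normal := ⟨fun t ht c => by
    rw [← hcentral t ht c, mul_inv_cancel_right]
    exact ht⟩
  obtain ⟨J, hJ⟩ := Subgroup.exists_right_complement'_of_coprime Tc.card_coprime_index
  have hJn : J.Normal := by
    refine ⟨fun j hj g => ?_⟩
    obtain ⟨⟨w, j'⟩, hwj⟩ := hJ.2 g
    simp only at hwj
    subst hwj
    have : (w : CL) * j' * j * ((w : CL) * j')⁻¹ = j' * j * (j' : CL)⁻¹ := by
      calc (w : CL) * j' * j * ((w : CL) * j')⁻¹ = w * (j' * j * (j' : CL)⁻¹) * (w : CL)⁻¹ := by group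
        _ = _ := by rw [hcentral w w.2, mul_inv_cancel_right]
    rw [this]
    exact mul_mem (mul_mem j'.2 hj) (inv_mem j'.2)
  set K0 := pPrimeCore p L with hK0
  haveI hK0n : K0.Normal := by
    haveI := Cores.pPrimeCore_characteristic (G := L) p
    infer_instance
  have hJK : J.map CL.subtype ≤ K0 := by
    refine (map_mono (Cores.le_pPrimeCore (N := J) ?_)).trans (Cores.map_subtype_pPrimeCore_le_of_normal p CL)
    rw [← hJ.symm.index_eq_card]
    exact (hp.out.coprime_iff_not_dvd.2 (Sylow.not_dvd_index Tc)).symm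
  have hHLp : IsPGroup p HL := hH.of_equiv (subgroupOfEquivOfLe hHL).symm
  have hK0C : K0 ≤ CL := by
    rw [hCLeq]
    intro x hx
    obtain ⟨k, hk⟩ := IsPGroup.iff_card.1 hHLp
    have hd : Disjoint K0 HL := disjoint_iff.2 (CfsgLib.Solvable.disjoint_of_coprime (by
      rw [hk]
      exact (Cores.coprime_card_pPrimeCore p).pow_right k))
    exact mem_centralizer_iff.2 fun y hy =>
      (Subgroup.commute_of_normal_of_disjoint _ _ inferInstance inferInstance hd x y hx hy).symm.eq
  set π := QuotientGroup.mk' K0 with hπ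
  have hπs : Function.Surjective π := QuotientGroup.mk'_surjective K0
  have hπC : CL.map π ≤ R.map π := by
    rintro _ ⟨c, hc, rfl⟩
    obtain ⟨⟨w, j⟩, hwj⟩ := hJ.2 (⟨c, hc⟩ : CL)
    simp only at hwj
    refine ⟨((w : CL) : L), hTc.le ⟨_, w.2, rfl⟩, ?_⟩
    have h1 : ((j : CL) : L) ∈ K0 := hJK ⟨_, j.2, rfl⟩
    have h2 : c = ((w : CL) : L) * ((j : CL) : L) := congrArg Subtype.val hwj.symm
    rw [h2, map_mul π, show π ((j : CL) : L) = 1 from (QuotientGroup.eq_one_iff _).2 h1, mul_one]
  -- the quotient is `p`-soluble with trivial `p'`-core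
  let f : L ⧸ K0 →* L ⧸ CL := QuotientGroup.map K0 CL (MonoidHom.id L) hK0C
  have hfs : Function.Surjective f := fun y => by
    obtain ⟨g, rfl⟩ := QuotientGroup.mk'_surjective CL y
    exact ⟨π g, rfl⟩
  have hfk : IsPGroup p f.ker := by
    refine ((S.2.to_le inf_le_left : IsPGroup p R).map π).to_le fun y hy => hπC ?_
    obtain ⟨g, rfl⟩ := hπs y
    exact ⟨g, (QuotientGroup.eq_one_iff g).1 hy, rfl⟩
  have hsolb : IsPSolvable p (L ⧸ K0) := CfsgLib.Fusion.isPSolvable_of_ker_pGroup hfs hfk (hsol H hH)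
  have hcentb : centralizer ((HL.map π : Subgroup (L ⧸ K0)) : Set (L ⧸ K0)) ≤ HL.map π := by
    rw [← Cores.map_mk'_centralizer_of_coprime hHLp (Cores.coprime_card_pPrimeCore p), ← hCLeq]
    exact hπC.trans (map_mono hRHL)
  haveI : (HL.map π).Normal := hHLn.map π hπs
  have hOb : pPrimeCore p (L ⧸ K0) = ⊥ := pPrimeCore_eq_bot_of_normal (hHLp.map π) hcentb
  have hqb : q ∣ Nat.card (L ⧸ K0) := (show q ∣ CL.index from hqH).trans (by
    rw [index_eq_card]
    exact Subgroup.card_dvd_of_surjective f hfs)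
  obtain ⟨Sb, Kb, hKb, hmb⟩ := good_of_pSolvable hq hpq h23 hsolb hOb hqb
  obtain ⟨S₁, rfl⟩ := Sylow.mapSurjective_surjective hπs p Sb
  rw [Sylow.coe_mapSurjective] at hKb
  have hker : CharIn (π.ker ⊓ (S₁ : Subgroup L)) (S₁ : Subgroup L) := by
    obtain ⟨a, ha⟩ := IsPGroup.iff_card.1 S₁.2
    rw [QuotientGroup.ker_mk', CfsgLib.Solvable.disjoint_of_coprime (by
      rw [ha]
      exact (Cores.coprime_card_pPrimeCore p).pow_right a)]
    exact CharIn.bot
  have hchar := CharIn.comap hker hKb
  set K := (S₁ : Subgroup L) ⊓ Kb.comap π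
  have hKm : Moves q K := by
    refine moves_of_surj (f := π) ?_ (by rwa [map_inf_comap_eq hKb.1])
    exact Cores.map_mk'_normalizer_of_coprime (S₁.2.to_le inf_le_left) (Cores.coprime_card_pPrimeCore p)
  set Kg := K.map L.subtype with hKg
  set Sg := (S₁ : Subgroup L).map L.subtype with hSg
  have hcharg : CharIn Kg Sg := hchar.map L.subtype L.subtype_injective
  have hmg : Moves q Kg := moves_map L.subtype_injective hKm
  have hKp : IsPGroup p Kg := (S₁.2.map L.subtype).to_le hcharg.1
  obtain ⟨P₁, hP₁⟩ := (S₁.2.map L.subtype).exists_le_sylow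
  have hSP : Sg = (P₁ : Subgroup G) := by
    by_contra hne
    have hlt : Sg < (P₁ : Subgroup G) := lt_of_le_of_ne hP₁ hne
    set Q := (P₁ : Subgroup G) ⊓ normalizer (Sg : Set G) with hQ
    have hSQ : Sg < Q := by
      haveI : Group.IsNilpotent (P₁ : Subgroup G) := P₁.2.isNilpotent
      have hlt' : Sg.subgroupOf (P₁ : Subgroup G) < ⊤ :=
        lt_top_iff_ne_top.mpr fun h => hlt.not_ge (subgroupOf_eq_top.mp h)
      obtain ⟨y, hyN, hyQ⟩ := SetLike.exists_of_lt
        ((Group.normalizerCondition_of_isNilpotent (G := (P₁ : Subgroup G))) _ hlt')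
      refine lt_of_le_of_ne (le_inf hP₁ le_normalizer) fun h => hyQ (mem_subgroupOf.mpr ?_)
      rw [h]
      refine ⟨y.2, CfsgLib.Solvable.mem_normalizer_of_conj_mem fun z hz => ?_⟩
      rw [mem_normalizer_iff] at hyN
      exact mem_subgroupOf.mp ((hyN ⟨z, hP₁ hz⟩).mp (mem_subgroupOf.mpr hz))
    have hQN : Q ≤ normalizer (Kg : Set G) := fun g hg => hcharg.mem_normalizer hg.2
    obtain ⟨b, hb⟩ := IsPGroup.iff_card.1 (P₁.2.to_le (inf_le_left : Q ≤ _))
    have h5 : b ≤ m Kg := by
      have h6 := card_dvd_of_le hQN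
      rw [hb] at h6
      exact (hp.out.pow_dvd_iff_le_factorization Nat.card_pos.ne').1 h6
    have h7 : Nat.card Sg < Nat.card Q := by
      by_contra h8
      exact hSQ.ne (eq_of_le_of_card_ge hSQ.le (not_lt.1 h8))
    rw [hScard, hb] at h7
    have h9 := (Nat.pow_lt_pow_iff_right hp.out.one_lt).1 h7
    have h10 := (hmax' Kg hKp hmg).1
    omega
  obtain ⟨g, hg⟩ := MulAction.exists_smul_eq G P₁ P
  subst hg
  have hchar' := hcharg.map (MulAut.conj g).toMonoidHom (MulAut.conj g).injective
  rw [hSP, ← CfsgLib.Solvable.conj_smul_eq_map (H := (P₁ : Subgroup G)), ← Sylow.coe_subgroup_smul] at hchar'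
  exact ⟨_, hchar'.1, fun x hx => hchar'.mem_normalizer (le_normalizer hx),
    moves_map (MulAut.conj g).injective hmg⟩

end CfsgLib.AutomizerDivisor
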