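import Cfsg.Agent.Lib.PGroup.Basic

/-!
The `p`-th power map in `p`-groups of class at most three.
-/

namespace CfsgLib.Transfer

open Subgroup
open scoped commutatorElement

variable {R : Type*} [Group R]

/-- Class at most three: commutators of commutators with anything are central. -/
def ClassThree (R : Type*) [Group R] : Prop := ∀ a b c : R, ⁅⁅a, b⁆, c⁆ ∈ center R

theorem classThree_of_eq_bot (h : ⁅⁅commutator R, (⊤ : Subgroup R)⁆, (⊤ : Subgroup R)⁆ = ⊥) :
    ClassThree R := fun a b c => mem_center_iff.2 fun g => by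
  have h1 : ⁅⁅⁅a, b⁆, c⁆, g⁆ ∈ (⊥ : Subgroup R) := h ▸ commutator_mem_commutator
    (commutator_mem_commutator (commutator_mem_commutator (mem_top a) (mem_top b)) (mem_top c)) (mem_top g)
  exact (commutatorElement_eq_one_iff_mul_comm.1 (mem_bot.1 h1)).symm

theorem classThree_of_class_two (h : ∀ a b : R, ⁅a, b⁆ ∈ center R) : ClassThree R :=
  fun _ _ c => h _ c

theorem pow_mul_left_swap (h : ClassThree R) (x y : R) (n : ℕ) :
    y ^ n * x = x * y ^ n * ⁅y, x⁆ ^ n * ⁅⁅y, x⁆, x⁆ ^ n * ⁅⁅y, x⁆, y⁆ ^ (n + 1).choose 2 := by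
  set c := ⁅y, x⁆ with hc
  set d := ⁅c, x⁆ with hd
  set e := ⁅c, y⁆ with he
  have hd' : ∀ i (g : R), g * d ^ i = d ^ i * g := fun i => mem_center_iff.1 (pow_mem (h y x x) i)
  have he' : ∀ i (g : R), g * e ^ i = e ^ i * g := fun i => mem_center_iff.1 (pow_mem (h y x y) i)
  have hcy : ∀ k, c ^ k * y = y * c ^ k * e ^ k := fun k => by
    have h1 : ⁅c ^ k, y⁆ = e ^ k := PGroup.comm_pow_left (h y x y) k
    rw [he' k, ← h1, commutatorElement_def]; group
  have hyx : y * x = x * y * c * d * e := by
    have h1 : c * x = x * c * d := by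
      rw [show x * c * d = d * (x * c) from (by simpa using hd' 1 (x * c)), hd, commutatorElement_def]; group
    have h2 : c * y = y * c * e := by simpa using hcy 1
    calc y * x = c * x * y := by rw [hc, commutatorElement_def]; group
      _ = x * c * (d * y) := by rw [h1]; simp only [mul_assoc]
      _ = x * c * (y * d) := by rw [show y * d = d * y by simpa using hd' 1 y]
      _ = x * (c * y) * d := by simp only [mul_assoc]
      _ = x * y * c * (e * d) := by rw [h2]; simp only [mul_assoc]
      _ = x * y * c * d * e := by rw [show e * d = d * e by simpa using hd' 1 e]; simp only [mul_assoc]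
  induction n with
  | zero => simp
  | succ n ih =>
    have hch : (n + 1 + 1).choose 2 = (n + 1) + (n + 1).choose 2 := by
      rw [Nat.choose_succ_succ, Nat.choose_one_right]
    calc y ^ (n + 1) * x = y * (y ^ n * x) := by rw [pow_succ', mul_assoc]
      _ = y * x * (y ^ n * (c ^ n * (d ^ n * e ^ (n + 1).choose 2))) := by rw [ih]; simp only [mul_assoc]
      _ = x * y * c * (y ^ n * (c ^ n * (d ^ n * e ^ (n + 1).choose 2))) * (d * e) := by
          rw [hyx, mul_assoc (x * y * c) d e, mul_assoc _ (d * e),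
            show (d * e) * (y ^ n * (c ^ n * (d ^ n * e ^ (n + 1).choose 2))) =
              (y ^ n * (c ^ n * (d ^ n * e ^ (n + 1).choose 2))) * (d * e) from
              (mem_center_iff.1 (mul_mem (h y x x) (h y x y)) _).symm, ← mul_assoc _ _ (d * e)]
      _ = x * y * (c * y ^ n) * c ^ n * (d ^ n * e ^ (n + 1).choose 2 * (d * e)) := by simp only [mul_assoc]
      _ = x * y * (y ^ n * c * e ^ n) * c ^ n * (d ^ n * e ^ (n + 1).choose 2 * (d * e)) := by
          have h1 : ⁅c, y ^ n⁆ = e ^ n := PGroup.comm_pow_right (h y x y) n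
          rw [he' n, ← h1, show ⁅c, y ^ n⁆ * (y ^ n * c) = c * y ^ n by rw [commutatorElement_def]; group]
      _ = x * (y * y ^ n) * (c * c ^ n) * (d ^ n * (e ^ n * e ^ (n + 1).choose 2 * (d * e))) := by
          rw [mul_assoc (x * y), mul_assoc (y ^ n * c), ← he' n (c ^ n)]
          rw [← mul_assoc (y ^ n * c) (c ^ n) (e ^ n)]
          simp only [mul_assoc]
          rw [← mul_assoc (e ^ n) (d ^ n), ← he' n (d ^ n)]
          simp only [mul_assoc]
      _ = x * y ^ (n + 1) * c ^ (n + 1) * d ^ (n + 1) * e ^ (n + 1 + 1).choose 2 := by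
          rw [← pow_succ', ← pow_succ', hch, pow_add e (n + 1), pow_succ e n, pow_succ d n]
          rw [show e ^ n * e * e ^ (n + 1).choose 2 = e ^ n * e ^ (n + 1).choose 2 * e by
            rw [mul_assoc, mul_assoc, ← pow_succ', ← pow_succ]]
          simp only [mul_assoc]
          rw [← mul_assoc (e ^ (n + 1).choose 2) d, show e ^ (n + 1).choose 2 * d = d * e ^ (n + 1).choose 2 by
            simpa using (hd' 1 (e ^ (n + 1).choose 2))]
          rw [mul_assoc d, ← mul_assoc (e ^ n) d, show e ^ n * d = d * e ^ n by simpa using (hd' 1 (e ^ n))]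
          simp only [mul_assoc]

/-- The Hall–Petrescu formula in class three. -/
theorem mul_pow_classThree (h : ClassThree R) (x y : R) (n : ℕ) :
    (x * y) ^ n = x ^ n * y ^ n * ⁅y, x⁆ ^ n.choose 2 * ⁅⁅y, x⁆, x⁆ ^ (n + 1).choose 3 *
      ⁅⁅y, x⁆, y⁆ ^ (2 * (n + 1).choose 3) := by
  set c := ⁅y, x⁆ with hc
  set d := ⁅c, x⁆ with hd
  set e := ⁅c, y⁆ with he
  have hd' : ∀ i (g : R), g * d ^ i = d ^ i * g := fun i => mem_center_iff.1 (pow_mem (h y x x) i)
  have he' : ∀ i (g : R), g * e ^ i = e ^ i * g := fun i => mem_center_iff.1 (pow_mem (h y x y) i)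
  have hcx : ∀ k, c ^ k * x = x * c ^ k * d ^ k := fun k => by
    have h1 : ⁅c ^ k, x⁆ = d ^ k := PGroup.comm_pow_left (h y x x) k
    rw [hd' k, ← h1, commutatorElement_def]; group
  have hcy : ∀ k, c ^ k * y = y * c ^ k * e ^ k := fun k => by
    have h1 : ⁅c ^ k, y⁆ = e ^ k := PGroup.comm_pow_left (h y x y) k
    rw [he' k, ← h1, commutatorElement_def]; group
  induction n with
  | zero => simp [Nat.choose_eq_zero_of_lt]
  | succ n ih =>
    set a := n.choose 2
    set b := (n + 1).choose 3
    have e1 : (n + 1).choose 2 = a + n := by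
      rw [Nat.choose_succ_succ, Nat.choose_one_right, add_comm]
    have e2 : (n + 1 + 1).choose 3 = (a + n) + b := by
      rw [Nat.choose_succ_succ, ← e1]
    calc (x * y) ^ (n + 1) = x ^ n * y ^ n * c ^ a * (d ^ b * e ^ (2 * b)) * (x * y) := by
          rw [pow_succ, ih]; simp only [mul_assoc]
      _ = x ^ n * y ^ n * (c ^ a * x) * y * (d ^ b * e ^ (2 * b)) := by
          rw [mul_assoc _ (d ^ b * e ^ (2 * b)) (x * y),
            ← mem_center_iff.1 (mul_mem (pow_mem (h y x x) b) (pow_mem (h y x y) (2 * b))) (x * y)]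
          simp only [mul_assoc]
          rfl
      _ = x ^ n * (y ^ n * x) * (c ^ a * y) * (d ^ a * (d ^ b * e ^ (2 * b))) := by
          rw [hcx a]
          simp only [mul_assoc]
          rw [← mul_assoc (d ^ a) y, ← hd' a y]
          simp only [mul_assoc]
      _ = x ^ n * (x * y ^ n) * (c ^ n * (y * c ^ a)) * (d ^ n * e ^ (n + 1).choose 2) * (e ^ a * (d ^ a * (d ^ b * e ^ (2 * b)))) := by
          rw [pow_mul_left_swap h x y n, hcy a]
          simp only [mul_assoc]
          rw [← mul_assoc (e ^ (n + 1).choose 2) y, ← he' ((n + 1).choose 2) y]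
          simp only [mul_assoc]
          rw [← mul_assoc (d ^ n) y, ← hd' n y]
          simp only [mul_assoc]
          rw [← mul_assoc (e ^ (n + 1).choose 2) (c ^ a), ← he' ((n + 1).choose 2) (c ^ a)]
          simp only [mul_assoc]
          rw [← mul_assoc (d ^ n) (c ^ a), ← hd' n (c ^ a)]
          simp only [mul_assoc]
          rfl
      _ = x ^ (n + 1) * y ^ (n + 1) * c ^ (n + a) * (e ^ n * (d ^ n * e ^ (n + 1).choose 2)) *
          (e ^ a * (d ^ a * (d ^ b * e ^ (2 * b)))) := by
          rw [← mul_assoc (c ^ n), hcy n, pow_succ, pow_succ, pow_add c]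
          simp only [mul_assoc]
          rw [← mul_assoc (e ^ n) (c ^ a), ← he' n (c ^ a)]
          simp only [mul_assoc]
      _ = x ^ (n + 1) * y ^ (n + 1) * c ^ (n + 1).choose 2 * d ^ (n + 1 + 1).choose 3 *
          e ^ (2 * (n + 1 + 1).choose 3) := by
          have hde : ∀ i j, Commute (e ^ i) (d ^ j) := fun i j => hd' j (e ^ i)
          have key : e ^ n * (d ^ n * e ^ (n + 1).choose 2) * (e ^ a * (d ^ a * (d ^ b * e ^ (2 * b)))) =
              d ^ (n + 1 + 1).choose 3 * e ^ (2 * (n + 1 + 1).choose 3) := by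
            rw [e1, e2, show 2 * (a + n + b) = n + ((a + n) + (a + 2 * b)) by ring,
              show a + n + b = n + (a + b) by ring, pow_add d, pow_add d, pow_add e n, pow_add e (a + n), pow_add e a (2 * b)]
            rw [← mul_assoc (e ^ n), (hde n n).eq]
            simp only [mul_assoc]
            rw [← mul_assoc (e ^ a) (d ^ a), (hde a a).eq]
            simp only [mul_assoc]
            rw [← mul_assoc (e ^ a) (d ^ b), (hde a b).eq]
            simp only [mul_assoc]
            rw [← mul_assoc (e ^ (a + n)) (d ^ a), (hde (a + n) a).eq]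
            simp only [mul_assoc]
            rw [← mul_assoc (e ^ (a + n)) (d ^ b), (hde (a + n) b).eq]
            simp only [mul_assoc]
            rw [← mul_assoc (e ^ n) (d ^ a), (hde n a).eq]
            simp only [mul_assoc]
            rw [← mul_assoc (e ^ n) (d ^ b), (hde n b).eq]
            simp only [mul_assoc]
          rw [mul_assoc (x ^ (n + 1) * y ^ (n + 1) * c ^ (n + a)), key, e1, add_comm n a]
          simp only [mul_assoc]

theorem mul_pow_prime_of_powers (h : ClassThree R) {p : ℕ} (hp : p.Prime)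
    (hp3 : 3 < p) (x y : R) (hc : ⁅y, x⁆ ^ p = 1) :
    (x * y) ^ p = x ^ p * y ^ p := by
  obtain ⟨k, hk⟩ := hp.dvd_choose_self (k := 2) (by norm_num) (by omega)
  obtain ⟨l, hl⟩ : p ∣ (p + 1).choose 3 := hp.dvd_choose (by omega) (by omega) (by omega)
  have hd : ⁅⁅y, x⁆, x⁆ ^ p = 1 := by
    rw [← PGroup.comm_pow_left (h y x x), hc, commutatorElement_one_left]
  have he : ⁅⁅y, x⁆, y⁆ ^ p = 1 := by
    rw [← PGroup.comm_pow_left (h y x y), hc, commutatorElement_one_left]
  rw [mul_pow_classThree h, hk, hl, pow_mul, hc, one_pow, mul_one, pow_mul, hd, one_pow, mul_one,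
    show 2 * (p * l) = p * (2 * l) by ring, pow_mul, he, one_pow, mul_one]

theorem pow_eq_one_of_mem_closure (h : ClassThree R) {p : ℕ} (hp : p.Prime) (hp3 : 3 < p) {g : R}
    (hg : g ∈ closure {x : R | x ^ p = 1}) : g ^ p = 1 := by
  induction hg using closure_induction with
  | mem x hx => exact hx
  | one => exact one_pow p
  | inv x _ ih => rw [inv_pow, ih, inv_one]
  | mul x y _ _ ihx ihy =>
    obtain ⟨l, hl⟩ : p ∣ (p + 1).choose 2 := hp.dvd_choose (by omega) (by omega) (by omega)
    have he : ⁅⁅y, x⁆, y⁆ ^ p = 1 := by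
      rw [← PGroup.comm_pow_right (h y x y), ihy, commutatorElement_one_right]
    have hd : ⁅⁅y, x⁆, x⁆ ^ p = 1 := by
      rw [← PGroup.comm_pow_right (h y x x), ihx, commutatorElement_one_right]
    have hc : ⁅y, x⁆ ^ p = 1 := by
      have := pow_mul_left_swap h x y p
      rw [ihy, one_mul, mul_one, hd, mul_one, hl, pow_mul, he, one_pow, mul_one] at this
      exact mul_eq_left.1 this.symm
    rw [mul_pow_prime_of_powers h hp hp3 x y hc, ihx, ihy, one_mul]

end CfsgLib.Transfer
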