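import Cfsg.Agent.Lib.Transfer.DicksonOrbit

/-!
Dickson's theorem on the group generated by two transvections over the algebraic closure of a prime
field of odd order.
-/

namespace CfsgLib.Transfer

open Matrix MulAction
open scoped MatrixGroups LinearAlgebra.Projectivization

variable {p : ℕ} [hp : Fact p.Prime]

local notation "KK" => AlgebraicClosure (ZMod p)
local notation "PT" => ℙ (AlgebraicClosure (ZMod p)) (Fin 2 → AlgebraicClosure (ZMod p))

variable {X : Subgroup SL(2, AlgebraicClosure (ZMod p))} [Finite X]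
  {c : AlgebraicClosure (ZMod p)}

/-- The numerical dichotomy. -/
theorem dickson_numeric (hp2 : p ≠ 2) (hc : c ≠ 0) (hu : upperU c ∈ X) (hl : lowerU 1 ∈ X) :
    ((affineOrbit X).ncard = Nat.card (cornerSet X) ∧
      Nat.card (cornerSet X) ≤ 2 * Nat.card (diagSquares X) + 1) ∨
    (p = 3 ∧ Nat.card X = 120 ∧ ∀ M : X, M ^ 12 = 1 ∨ M ^ 10 = 1) := by
  classical
  have hneg := neg_one_mem_of_transvections hp2 hc hu hl
  set O := orbit X (lineInf : PT) with hO
  set q := Nat.card (cornerSet X) with hq
  set t := Nat.card (diagSquares X) with ht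
  set n := O.ncard with hn
  have ht0 : 0 < t := Nat.card_pos
  have hpq : p ∣ q := by
    have h1 : addOrderOf (⟨c, hu⟩ : cornerSet X) = p := by
      refine addOrderOf_eq_prime (Subtype.ext ?_) fun h => hc (congrArg Subtype.val h)
      rw [AddSubgroup.coe_nsmul, nsmul_eq_mul, CharP.cast_eq_zero, zero_mul]
      rfl
    exact h1 ▸ addOrderOf_dvd_natCard _
  have hq3 : 3 ≤ q := by
    have := Nat.le_of_dvd Nat.card_pos hpq
    have := hp.out.two_le
    omega
  obtain ⟨k, hk⟩ : ∃ k, (affineOrbit X).ncard = q * k := card_cornerSet_dvd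
  have hk0 : 0 < k := by
    rcases Nat.eq_zero_or_pos k with h | h
    · exfalso
      have := (Set.ncard_pos affineOrbit_finite).2 ⟨1, one_mem_affineOrbit hl⟩
      rw [hk, h, mul_zero] at this
      exact lt_irrefl _ this
    · exact h
  have hnk : n = 1 + q * k := by rw [hn, hO, card_orbit_lineInf, hk]
  have hXs : Nat.card X = n * (q * (2 * t)) := by
    rw [card_eq_orbit_mul (lineInf : PT), ← fixCount_true_eq, fixCount_true_lineInf,
      card_borel hp2 hneg]
  obtain ⟨Ω, hΩO, hΩinv, hΩfix, hΩpos, hsum⟩ := exists_fixed_sum hp2 hc hu hl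
  rw [fixCount_para_lineInf hp2 hneg, ← hq, ← hO, ← hn] at hsum
  have hOfin : O.Finite := orbit_lineInf_finite
  set f := fixCount X IsNonScalar with hf
  have hfO : ∀ x ∈ O, f x + 2 = q * (2 * t) := by
    intro x hx
    obtain ⟨g, rfl⟩ := hx
    show fixCount X IsNonScalar (g • (lineInf : PT)) + 2 = _
    rw [fixCount_smul X (fun g M h => h.conj g), fixCount_nonscalar hp2 hneg, ← fixCount_true_eq,
      fixCount_true_lineInf, card_borel hp2 hneg]
  have hsplit : ∑ x ∈ Ω, f x + n * 2 =
      ∑ x ∈ Ω.filter (fun x => x ∉ O), f x + n * (q * (2 * t)) := by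
    rw [← Finset.sum_filter_add_sum_filter_not Ω (fun x => x ∉ O) f, add_assoc]
    congr 1
    have e : Ω.filter (fun x => ¬ (x ∉ O)) = hOfin.toFinset := by
      ext x
      simp only [Finset.mem_filter, not_not, Set.Finite.mem_toFinset]
      exact ⟨And.right, fun h => ⟨hΩO x h, h⟩⟩
    rw [e, hn, Set.ncard_eq_toFinset_card _ hOfin, ← smul_eq_mul, ← Finset.sum_const, ← smul_eq_mul,
      ← Finset.sum_const, ← Finset.sum_add_distrib]
    exact Finset.sum_congr rfl fun x hx => hfO x ((Set.Finite.mem_toFinset _).1 hx)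
  set R := ∑ x ∈ Ω.filter (fun x => x ∉ O), f x with hR
  have hqt : q * (2 * t) = 2 * (q * t) := by ring
  have hq1 : 2 * (q - 1) + 2 = 2 * q := by omega
  have e1 : n * (2 * (q - 1)) + n * 2 = n * (2 * q) := by rw [← mul_add, hq1]
  -- the key equation
  have hRe : R + n * (2 * q) + 4 = n * (q * (2 * t)) + 4 * n := by rw [hXs] at hsum; omega
  have hRlt : R < Nat.card X := by
    have : 4 * n < n * (2 * q) := by
      rw [mul_comm 4 n]
      exact Nat.mul_lt_mul_of_pos_left (by omega) (by omega)
    omega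
  have hRpos : 0 < R := by
    have : n * (2 * q) ≤ n * (q * (2 * t)) := by
      refine Nat.mul_le_mul le_rfl ?_
      rw [hqt]
      exact Nat.mul_le_mul le_rfl (Nat.le_mul_of_pos_right _ ht0)
    have : 1 < n := by
      have : 0 < q * k := Nat.mul_pos (by omega) hk0
      omega
    omega
  obtain ⟨x, hx, hfx⟩ : ∃ x ∈ Ω.filter (fun x => x ∉ O), f x ≠ 0 :=
    Finset.exists_ne_zero_of_sum_ne_zero (by omega)
  have hxO : x ∉ O := (Finset.mem_filter.1 hx).2
  have hev : ∀ z : PT, 2 ∣ Nat.card (stabilizer X z) := by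
    intro z
    have : orderOf (⟨⟨-1, hneg⟩, neg_one_smul_line z⟩ : stabilizer X z) = 2 := by
      refine orderOf_eq_prime (Subtype.ext (Subtype.ext (by simp))) fun e => ?_
      have h := congrArg (fun M : stabilizer X z => ((M : X) : SL(2, KK)).1 0 0) e
      simp at h
      exact two_ne_zero_of_ne_two hp2 (by linear_combination -h)
    exact (congrArg (fun d => d ∣ Nat.card (stabilizer X z)) this).mp (orderOf_dvd_natCard _)
  have horb : ∀ z ∈ Ω.filter (fun x => x ∉ O), ∃ T : Finset PT, T ⊆ Ω.filter (fun x => x ∉ O) ∧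
      (T : Set PT) = orbit X z ∧ ∑ y ∈ T, f y + 2 * T.card = Nat.card X ∧
      4 * T.card ≤ Nat.card X := by
    intro z hz
    obtain ⟨hzΩ, hzO⟩ := Finset.mem_filter.1 hz
    have hfin : (orbit X z).Finite := Set.finite_range _
    refine ⟨hfin.toFinset, ?_, hfin.coe_toFinset, ?_, ?_⟩
    · intro y hy
      obtain ⟨g, rfl⟩ := (Set.Finite.mem_toFinset _).1 hy
      refine Finset.mem_filter.2 ⟨hΩinv g z hzΩ, fun h => hzO ?_⟩
      have := mem_orbit_of_mem_orbit g⁻¹ h
      rwa [inv_smul_smul] at this
    · rw [card_eq_orbit_mul z, ← fixCount_nonscalar hp2 hneg z, mul_add,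
        Set.ncard_eq_toFinset_card _ hfin, mul_comm _ 2]
      refine congrArg (· + _) (Finset.sum_const_nat fun y hy => ?_)
      obtain ⟨g, rfl⟩ := (Set.Finite.mem_toFinset _).1 hy
      exact fixCount_smul X (fun g M h => h.conj g) g z
    · rw [card_eq_orbit_mul z, Set.ncard_eq_toFinset_card _ hfin, mul_comm 4]
      refine Nat.mul_le_mul le_rfl ?_
      have h1 : 1 ≤ f z := (hΩpos z hzΩ).resolve_left hzO
      have h2 := fixCount_nonscalar hp2 hneg z
      have h3 : f z + 2 = Nat.card (stabilizer X z) := h2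
      obtain ⟨e, he⟩ := hev z
      omega
  obtain ⟨T, hTsub, hTorb, hTsum, hT4⟩ := horb x hx
  have hTeq : T = Ω.filter (fun x => x ∉ O) := by
    refine Finset.Subset.antisymm hTsub fun y hy => ?_
    by_contra hyT
    obtain ⟨T', hT'sub, hT'orb, hT'sum, hT'4⟩ := horb y hy
    have hdis : Disjoint T T' := by
      rw [Finset.disjoint_left]
      intro z h1 h2
      apply hyT
      rw [← Finset.mem_coe, hTorb]
      rw [← Finset.mem_coe, hTorb] at h1
      rw [← Finset.mem_coe, hT'orb] at h2
      rw [← orbit_eq_iff.2 h1, orbit_eq_iff.2 h2]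
      exact mem_orbit_self y
    have : ∑ z ∈ T, f z + ∑ z ∈ T', f z ≤ R := by
      rw [← Finset.sum_union hdis]
      exact Finset.sum_le_sum_of_subset (Finset.union_subset hTsub hT'sub)
    omega
  rw [hTeq, ← hR] at hTsum
  set N := (Ω.filter (fun x => x ∉ O)).card with hN
  have hN' : N + 2 * n = n * q + 2 := by
    have : n * (2 * q) = 2 * (n * q) := by ring
    rw [hXs] at hTsum
    omega
  have hTx : N = (orbit X x).ncard := by
    rw [← hTorb, Set.ncard_coe_finset, hN, hTeq]
  -- the orbit has length `q * m`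
  set m := 1 + k * (q - 2) with hm
  obtain ⟨q', hq'⟩ : ∃ q', q = q' + 2 := ⟨q - 2, by omega⟩
  have hNm : N = q * m := by
    rw [hnk, hq'] at hN'
    rw [hm, hq', Nat.add_sub_cancel]
    zify at hN' ⊢
    linear_combination hN'
  obtain ⟨e, he⟩ := hev x
  have hXT := card_eq_orbit_mul (X := X) x
  rw [← hTx, hNm, he, hXs] at hXT
  have hme : m * e = n * t := by
    have hq0 : 0 < 2 * q := by omega
    exact Nat.eq_of_mul_eq_mul_left hq0 (by linear_combination hXT.symm)
  have hnm : n = m + 2 * k := by rw [hnk, hm, hq', Nat.add_sub_cancel]; ring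
  have hm2t : m ∣ 2 * t := by
    have h1 : m ∣ n * t := ⟨e, hme.symm⟩
    rw [hnm, add_mul] at h1
    have h2 : m ∣ 2 * k * t := (Nat.dvd_add_right (dvd_mul_right m t)).1 h1
    have hco : Nat.Coprime m k := by rw [hm, Nat.coprime_add_mul_left_left]; simp
    rw [show 2 * k * t = k * (2 * t) by ring] at h2
    exact hco.dvd_of_dvd_mul_left h2
  have htq : t ∣ q - 1 := card_diagSquares_dvd
  have htle : t ≤ q - 1 := Nat.le_of_dvd (by omega) htq
  have hmle : m ≤ 2 * t := Nat.le_of_dvd (by omega) hm2t
  rcases (show k = 1 ∨ k = 2 ∨ 3 ≤ k by omega) with rfl | rfl | hk3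
  · left
    refine ⟨by rw [hk, mul_one], ?_⟩
    omega
  · exfalso
    have hco : Nat.Coprime m 2 := by rw [hm, Nat.coprime_add_mul_left_left]; simp
    have := Nat.le_of_dvd ht0 (hco.dvd_of_dvd_mul_left hm2t)
    omega
  · right
    have h3 : 3 * (q - 2) ≤ k * (q - 2) := Nat.mul_le_mul hk3 le_rfl
    have hq_eq : q = 3 := by omega
    rw [hq_eq] at hpq htle hm
    have hp3 : p = 3 := (Nat.prime_dvd_prime_iff_eq hp.out Nat.prime_three).1 hpq
    have hk_eq : k = 3 := by omega
    have ht_eq : t = 2 := by omega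
    have hn10 : n = 10 := by omega
    refine ⟨hp3, by rw [hXs, hn10, hq_eq, ht_eq], fun M => ?_⟩
    by_cases hns : IsNonScalar (M : SL(2, KK))
    · obtain ⟨a, b, hab, -⟩ := fixed_pair (two_ne_zero_of_ne_two hp2) hns
      have hfa : (M : SL(2, KK)) • a = a := (hab a).2 (Or.inl rfl)
      have hmem : M ∈ stabilizer X a := hfa
      have hpow : M ^ Nat.card (stabilizer X a) = 1 :=
        congrArg Subtype.val (pow_card_eq_one' (x := (⟨M, hmem⟩ : stabilizer X a)))
      by_cases haO : a ∈ O
      · left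
        rw [← fixCount_nonscalar hp2 hneg a, hfO a haO, hq_eq, ht_eq] at hpow
        exact hpow
      · right
        have haT : a ∈ T := hTeq ▸ Finset.mem_filter.2 ⟨hΩfix M hns a hfa, haO⟩
        rw [← Finset.mem_coe, hTorb] at haT
        have hA := card_eq_orbit_mul (X := X) a
        rw [orbit_eq_iff.2 haT, ← hTx, hNm, hXs, hn10, hq_eq, ht_eq,
          show m = 4 by rw [hk_eq] at hm; exact hm] at hA
        rw [show Nat.card (stabilizer X a) = 10 by omega] at hpow
        exact hpow
    · left
      simp only [IsNonScalar, not_and_or, not_not] at hns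
      rcases hns with h | h
      · rw [show M = 1 from Subtype.ext h, one_pow]
      · refine Subtype.ext ?_
        rw [SubgroupClass.coe_pow, h, Subgroup.coe_one, Even.neg_one_pow (by decide)]

/-- A subfield attached to the triangular part. -/
noncomputable def scalarField (hfin : ∀ x : KK, x ≠ 0 → ∃ n, 0 < n ∧ x ^ n = 1) (A : AddSubgroup KK) :
    Subfield KK where
  carrier := {z | ∀ a ∈ A, z * a ∈ A}
  one_mem' := fun a ha => by rwa [one_mul]
  mul_mem' := fun {x y} hx hy a ha => by rw [mul_assoc]; exact hx _ (hy a ha)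
  zero_mem' := fun a _ => by rw [zero_mul]; exact zero_mem A
  add_mem' := fun {x y} hx hy a ha => by rw [add_mul]; exact add_mem (hx a ha) (hy a ha)
  neg_mem' := fun {x} hx a ha => by rw [neg_mul]; exact neg_mem (hx a ha)
  inv_mem' := fun x hx a ha => by
    rcases eq_or_ne x 0 with rfl | h
    · rw [_root_.inv_zero, zero_mul]; exact zero_mem A
    · obtain ⟨n, hn, hxn⟩ := hfin x h
      obtain ⟨m, rfl⟩ := Nat.exists_eq_succ_of_ne_zero hn.ne'
      have e : x⁻¹ = x ^ m := inv_eq_of_mul_eq_one_right (by rw [← pow_succ']; exact hxn)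
      have hm : ∀ i, ∀ a ∈ A, x ^ i * a ∈ A := by
        intro i
        induction i with
        | zero => intro a ha; rwa [pow_zero, one_mul]
        | succ i ih => intro a ha; rw [pow_succ, mul_assoc]; exact ih _ (hx a ha)
      rw [e]; exact hm m a ha

theorem exists_pow_eq_one_algClosure (x : KK) (hx : x ≠ 0) : ∃ n, 0 < n ∧ x ^ n = 1 := by
  set E := IntermediateField.adjoin (ZMod p) {x}
  have : FiniteDimensional (ZMod p) E :=
    IntermediateField.adjoin.finiteDimensional (Algebra.IsIntegral.isIntegral x)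
  have : Finite E := Module.finite_of_finite (ZMod p)
  have hxE : (⟨x, IntermediateField.mem_adjoin_simple_self _ x⟩ : E) ≠ 0 := fun h =>
    hx (congrArg Subtype.val h)
  obtain ⟨n, hn, hxn⟩ := isOfFinOrder_iff_pow_eq_one.1 (isOfFinOrder_of_finite (Units.mk0 _ hxE))
  exact ⟨n, hn, congrArg (fun u : Eˣ => ((u : E) : KK)) hxn⟩

/-- A matrix with entries in `S` from unitriangular ones. -/
theorem range_map_subfield_le (S : Subfield KK) (hU : ∀ a ∈ S, upperU a ∈ X)
    (hL : ∀ a ∈ S, lowerU a ∈ X) : (Matrix.SpecialLinearGroup.map S.subtype).range ≤ X := by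
  rintro M ⟨N, rfl⟩
  set M := Matrix.SpecialLinearGroup.map S.subtype N with hM
  have hS : ∀ i j, M.1 i j ∈ S := fun i j => (N.1 i j).2
  have key : ∀ M : SL(2, KK), (∀ i j, M.1 i j ∈ S) → M.1 1 0 ≠ 0 → M ∈ X := by
    intro M hS h10
    have hd := det_eq_sl2 M
    have e : M = upperU ((M.1 0 0 - 1) / M.1 1 0) * lowerU (M.1 1 0) *
        upperU ((M.1 1 1 - 1) / M.1 1 0) := by
      ext i j
      fin_cases i <;> fin_cases j <;> simp [Matrix.mul_apply, Fin.sum_univ_two] <;> field_simp <;>
        first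
          | ring1
          | linear_combination hd
          | linear_combination -hd
    rw [e]
    exact mul_mem (mul_mem (hU _ (div_mem (sub_mem (hS _ _) (one_mem S)) (hS _ _))) (hL _ (hS _ _)))
      (hU _ (div_mem (sub_mem (hS _ _) (one_mem S)) (hS _ _)))
  by_cases h10 : M.1 1 0 = 0
  · have h00 : M.1 0 0 ≠ 0 := left_ne_zero_of_mul_eq_one (borel_diag h10)
    have h : lowerU 1 * M ∈ X := by
      refine key _ ?_ ?_
      · intro i j
        rw [Matrix.SpecialLinearGroup.coe_mul, Matrix.mul_apply, Fin.sum_univ_two]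
        refine add_mem (mul_mem ?_ (hS _ _)) (mul_mem ?_ (hS _ _)) <;> fin_cases i <;>
          simp [one_mem, zero_mem]
      · simpa [Matrix.mul_apply, Fin.sum_univ_two, h10] using h00
    simpa using mul_mem (inv_mem (hL 1 (one_mem S))) h
  · exact key M hS h10

/-- The generic case: all matrices over a finite field. -/
theorem dickson_generic (hp2 : p ≠ 2) (hc : c ≠ 0)
    (hgen : X = Subgroup.closure {upperU c, lowerU 1})
    (hZ : (affineOrbit X).ncard = Nat.card (cornerSet X))
    (ht : Nat.card (cornerSet X) ≤ 2 * Nat.card (diagSquares X) + 1) :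
    ∃ S : Subfield KK, Finite S ∧ c ∈ S ∧ X = (Matrix.SpecialLinearGroup.map S.subtype).range := by
  classical
  have hu : upperU c ∈ X := hgen ▸ Subgroup.subset_closure (Or.inl rfl)
  have hl : lowerU 1 ∈ X := hgen ▸ Subgroup.subset_closure (Or.inr rfl)
  set A := cornerSet X with hA
  have hZ0 := zero_mem_affineOrbit hp2 hc hu hl
  have hAZ : ∀ a, a ∈ A → a ∈ affineOrbit X := fun a ha => by
    simpa using add_mem_affineOrbit hZ0 ha
  have hZA : affineOrbit X = (A : Set KK) := by
    refine (Set.eq_of_subset_of_ncard_le hAZ ?_ affineOrbit_finite).symm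
    rw [hZ]
    exact (Nat.card_coe_set_eq _).le
  set S := scalarField exists_pow_eq_one_algClosure A with hS
  -- `z ↦ z * c`
  let φ : S →+ A :=
    { toFun := fun z => ⟨(z : KK) * c, z.2 c hu⟩
      map_zero' := Subtype.ext (zero_mul c)
      map_add' := fun z w => Subtype.ext (add_mul _ _ c) }
  have hφ : Function.Injective φ := fun z w h =>
    Subtype.ext (mul_right_cancel₀ hc (congrArg Subtype.val h))
  have : Finite S := Finite.of_injective φ hφ
  have hdvd : Nat.card S ∣ Nat.card A := by
    rw [Nat.card_congr (AddMonoidHom.ofInjective hφ).toEquiv]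
    exact AddSubgroup.card_addSubgroup_dvd_card _
  have hSt : Nat.card (diagSquares X) < Nat.card S := by
    let g : diagSquares X → S := fun s => ⟨((s : KKˣ) : KK), fun a ha => mul_mem_cornerSet ha s.2⟩
    have hg : Function.Injective g := fun s r h =>
      Subtype.ext (Units.ext (congrArg Subtype.val h))
    have := Fintype.ofFinite S
    have := Fintype.ofFinite (diagSquares X)
    rw [Nat.card_eq_fintype_card, Nat.card_eq_fintype_card]
    refine Fintype.card_lt_of_injective_of_notMem g hg (b := 0) ?_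
    rintro ⟨s, hs⟩
    exact (s : KKˣ).ne_zero (congrArg Subtype.val hs)
  have hcardS : Nat.card S = Nat.card A := by
    obtain ⟨d, hd⟩ := hdvd
    have h0 : 0 < Nat.card A := Nat.card_pos
    rcases Nat.lt_or_ge d 2 with h | h
    · interval_cases d
      · omega
      · omega
    · have := Nat.mul_le_mul (le_refl (Nat.card S)) h
      omega
  have hφb : Function.Bijective φ := (Nat.bijective_iff_injective_and_card φ).2 ⟨hφ, hcardS⟩
  have hAS : ∀ a ∈ A, ∃ z ∈ S, a = z * c := fun a ha => by
    obtain ⟨z, hz⟩ := hφb.2 ⟨a, ha⟩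
    exact ⟨z, z.2, (congrArg Subtype.val hz).symm⟩
  have hcS : c ∈ S := by
    by_cases h1 : c + 1 = 0
    · rw [eq_neg_of_add_eq_zero_left h1]; exact neg_mem (one_mem S)
    · have hcZ : c ∈ affineOrbit X := hAZ c hu
      have h' : c / (c + 1) ∈ affineOrbit X := by
        have h2 := mem_orbit_of_mem_orbit (⟨_, hl⟩ : X) hcZ
        change (lowerU 1 : SL(2, KK)) • linePt c ∈ orbit X (lineInf : PT) at h2
        rw [smul_linePt (by simpa using h1)] at h2
        simpa [affineOrbit] using h2
      rw [hZA] at h'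
      obtain ⟨z, hz, hzc⟩ := hAS _ h'
      have hz' : z = (c + 1)⁻¹ :=
        mul_right_cancel₀ hc (by rw [← hzc, div_eq_mul_inv, mul_comm])
      have h3 : c + 1 ∈ S := by
        have := inv_mem hz
        rwa [hz', inv_inv] at this
      simpa using sub_mem h3 (one_mem S)
  have hSA : ∀ a, a ∈ S → a ∈ A := by
    intro a ha
    have : a / c ∈ S := div_mem ha hcS
    have h := (φ ⟨_, this⟩).2
    change a / c * c ∈ A at h
    rwa [div_mul_cancel₀ a hc] at h
  have hUS : ∀ a ∈ S, upperU a ∈ X := hSA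
  have hw : upperU (-1) * lowerU 1 * upperU (-1) ∈ X :=
    mul_mem (mul_mem (hUS _ (neg_mem (one_mem S))) hl) (hUS _ (neg_mem (one_mem S)))
  have hLS : ∀ a ∈ S, lowerU a ∈ X := by
    intro a ha
    have e : lowerU a = (upperU (-1) * lowerU 1 * upperU (-1)) * upperU (-a) *
        (upperU (-1) * lowerU 1 * upperU (-1))⁻¹ := by
      refine eq_mul_inv_of_mul_eq (Subtype.ext ?_)
      simp
    rw [e]
    exact mul_mem (mul_mem hw (hUS _ (neg_mem ha))) (inv_mem hw)
  refine ⟨S, ‹Finite S›, hcS, le_antisymm ?_ (range_map_subfield_le S hUS hLS)⟩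
  conv_lhs => rw [hgen]
  rw [Subgroup.closure_le]
  rintro _ (rfl | rfl)
  · exact ⟨⟨!![1, ⟨c, hcS⟩; 0, 1], by simp [Matrix.det_fin_two]⟩, by
      ext i j; fin_cases i <;> fin_cases j <;> rfl⟩
  · exact ⟨⟨!![1, 0; 1, 1], by simp [Matrix.det_fin_two]⟩, by
      ext i j; fin_cases i <;> fin_cases j <;> rfl⟩

/-- **Dickson's theorem** for two transvections. -/
theorem dickson (hp2 : p ≠ 2) (hc : c ≠ 0)
    (hgen : X = Subgroup.closure {upperU c, lowerU 1}) :
    (∃ S : Subfield KK, Finite S ∧ c ∈ S ∧ X = (Matrix.SpecialLinearGroup.map S.subtype).range) ∨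
      (p = 3 ∧ c ^ 2 = -1 ∧ Nat.card X = 120) := by
  have hu : upperU c ∈ X := hgen ▸ Subgroup.subset_closure (Or.inl rfl)
  have hl : lowerU 1 ∈ X := hgen ▸ Subgroup.subset_closure (Or.inr rfl)
  rcases dickson_numeric hp2 hc hu hl with ⟨hZ, ht⟩ | ⟨h3, hX, hord⟩
  · exact Or.inl (dickson_generic hp2 hc hgen hZ ht)
  right
  refine ⟨h3, ?_, hX⟩
  have : CharP KK 3 := h3 ▸ (inferInstance : CharP KK p)
  have : Fact (Nat.Prime 3) := ⟨Nat.prime_three⟩
  have h30 : (3 : KK) = 0 := by
    have := CharP.cast_eq_zero KK 3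
    simpa using this
  have h2 := two_ne_zero_of_ne_two (p := p) hp2
  have htrace : ∀ M : X, trSL (M : SL(2, KK)) = 0 ∨ trSL (M : SL(2, KK)) ^ 2 = 1 ∨
      trSL (M : SL(2, KK)) ^ 4 + 1 = 0 := by
    intro M
    obtain ⟨v, a, hv, hva⟩ : ∃ (v : Fin 2 → KK) (a : KK), v ≠ 0 ∧ (M : SL(2, KK)).1 *ᵥ v = a • v := by
      by_cases hns : IsNonScalar (M : SL(2, KK))
      · obtain ⟨x, y, hxy, -⟩ := fixed_pair h2 hns
        exact exists_eigen_of_smul_eq_self ((hxy x).2 (Or.inl rfl))
      · simp only [IsNonScalar, not_and_or, not_not] at hns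
        rcases hns with h | h
        · exact ⟨![1, 0], 1, fun h0 => one_ne_zero (congrFun h0 0), by simp [h]⟩
        · exact ⟨![1, 0], -1, fun h0 => one_ne_zero (congrFun h0 0), by simp [h, Matrix.neg_mulVec]⟩
    have hq := eigen_quadratic hv hva
    set τ := trSL (M : SL(2, KK)) with hτ
    have hpw : ∀ i : ℕ, M ^ i = 1 → a ^ i = 1 := by
      intro i hi
      have h := eigen_pow hva i
      rw [← SubgroupClass.coe_pow, hi, Subgroup.coe_one, Matrix.SpecialLinearGroup.coe_one,
        Matrix.one_mulVec] at h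
      obtain ⟨j, hj⟩ : ∃ j, v j ≠ 0 := by
        by_contra hall
        push Not at hall
        exact hv (funext hall)
      have hj' := congrFun h j
      simp only [Pi.smul_apply, smul_eq_mul] at hj'
      exact mul_right_cancel₀ hj (by rw [one_mul]; exact hj'.symm)
    have ha0 : a ≠ 0 := fun h => by rw [h] at hq; simp at hq
    rcases hord M with h | h
    · have h12 := hpw 12 h
      have h4 : (a ^ 4 - 1) ^ 3 = 0 := by
        linear_combination h12 - (a ^ 8 - a ^ 4) * h30
      have h4' := sub_eq_zero.1 (pow_eq_zero_iff (by norm_num) |>.1 h4)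
      rcases mul_self_eq_one_iff.1 (show (a * a) * (a * a) = 1 by linear_combination h4') with h' | h'
      · right; left
        have e : τ * a = 2 := by linear_combination -hq + h'
        have e' : (τ * a) * (τ * a) = 2 * 2 := by rw [e]
        linear_combination e' - τ * τ * h' + h30
      · left
        have e : τ * a = 0 := by linear_combination -hq + h'
        exact (mul_eq_zero.1 e).resolve_right ha0
    · have h10 := hpw 10 h
      have h5 : (a * a - 1) * (a ^ 8 + a ^ 6 + a ^ 4 + a ^ 2 + 1) = 0 := by linear_combination h10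
      rcases mul_eq_zero.1 h5 with h' | h'
      · right; left
        rw [sub_eq_zero] at h'
        have e : τ * a = 2 := by linear_combination -hq + h'
        have e' : (τ * a) * (τ * a) = 2 * 2 := by rw [e]
        linear_combination e' - τ * τ * h' + h30
      · right; right
        have e : τ * a = a * a + 1 := by linear_combination -hq
        have e2 : (τ * a) ^ 4 + a ^ 4 = 0 := by
          rw [e]
          linear_combination h' + (a ^ 6 + 2 * a ^ 4 + a ^ 2) * h30
        have e3 : a ^ 4 * (τ ^ 4 + 1) = 0 := by linear_combination e2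
        exact (mul_eq_zero.1 e3).resolve_left (pow_ne_zero _ ha0)
  have hnot : ∀ z : KK, z = 0 ∨ z = 1 ∨ z = -1 → c ≠ z + 1 ∧ c ≠ -z - 1 := by
    intro z hz
    set F3 := (ZMod.castHom (dvd_refl 3) KK).range with hF3
    have hzF : z ∈ F3 := by
      rcases hz with rfl | rfl | rfl
      · exact zero_mem _
      · exact one_mem _
      · exact neg_mem (one_mem _)
    have key : c ∉ F3 := by
      intro hcF
      obtain ⟨d, hd⟩ := hcF
      have hle : X ≤ (Matrix.SpecialLinearGroup.map (n := Fin 2) (ZMod.castHom (dvd_refl 3) KK)).range := by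
        rw [hgen, Subgroup.closure_le]
        rintro _ (rfl | rfl)
        · exact ⟨upperU d, by ext i j; fin_cases i <;> fin_cases j <;> simp [hd]⟩
        · exact ⟨lowerU 1, by ext i j; fin_cases i <;> fin_cases j <;> simp⟩
      have : Finite (Matrix.SpecialLinearGroup.map (n := Fin 2) (ZMod.castHom (dvd_refl 3) KK)).range :=
        Finite.of_surjective _ (MonoidHom.rangeRestrict_surjective _)
      have h2 : Nat.card X ≤ Nat.card SL(2, ZMod 3) :=
        (Nat.card_le_card_of_injective _ (Subgroup.inclusion_injective hle)).trans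
          (Nat.card_le_card_of_surjective _ (MonoidHom.rangeRestrict_surjective _))
      have h3' : Nat.card SL(2, ZMod 3) ≤ 81 := by
        refine (Nat.card_le_card_of_injective (fun M : SL(2, ZMod 3) => M.1)
          Subtype.coe_injective).trans ?_
        rw [Nat.card_eq_fintype_card]
        decide +kernel
      omega
    exact ⟨fun h => key (h ▸ add_mem hzF (one_mem _)), fun h => key (h ▸ sub_mem (neg_mem hzF) (one_mem _))⟩
  have hroot : ∀ x : KK, (x = 0 ∨ x ^ 2 = 1 ∨ x ^ 4 + 1 = 0) → (x = c - 1 ∨ x = -c - 1) →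
      x ^ 4 + 1 = 0 := by
    intro x hx hxc
    rcases hx with h | h | h
    · exfalso
      rcases hxc with e | e
      · exact (hnot x (Or.inl h)).1 (by rw [e]; ring)
      · exact (hnot x (Or.inl h)).2 (by rw [e]; ring)
    · exfalso
      have h' : x = 1 ∨ x = -1 := mul_self_eq_one_iff.1 (by rwa [← pow_two])
      rcases hxc with e | e
      · exact (hnot x (Or.inr h')).1 (by rw [e]; ring)
      · exact (hnot x (Or.inr h')).2 (by rw [e]; ring)
    · exact h
  have t1 := htrace ⟨upperU c * lowerU 1, mul_mem hu hl⟩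
  have t2 := htrace ⟨(upperU c)⁻¹ * lowerU 1, mul_mem (inv_mem hu) hl⟩
  have e1 : trSL (upperU c * lowerU 1) = c - 1 := by
    simp [trSL]; linear_combination h30
  have e2 : trSL ((upperU c)⁻¹ * lowerU 1) = -c - 1 := by
    simp [trSL, upperU_inv]; linear_combination h30
  change trSL (upperU c * lowerU 1) = 0 ∨ _ at t1
  change trSL ((upperU c)⁻¹ * lowerU 1) = 0 ∨ _ at t2
  rw [e1] at t1
  rw [e2] at t2
  have r1 := hroot _ t1 (Or.inl rfl)
  have r2 := hroot _ t2 (Or.inr rfl)
  have e : c * (c ^ 2 + 1) = 0 := by linear_combination r1 - r2 + (3 * c ^ 3 + 3 * c) * h30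
  linear_combination (mul_eq_zero.1 e).resolve_left hc

end CfsgLib.Transfer
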