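import Cfsg.Agent.Lib.Transfer.DicksonCount

/-!
The stabiliser of infinity in a finite group of `2 × 2` matrices of determinant one.
-/

namespace CfsgLib.Transfer

open Matrix MulAction
open scoped MatrixGroups LinearAlgebra.Projectivization

variable {p : ℕ} [hp : Fact p.Prime]

local notation "KK" => AlgebraicClosure (ZMod p)
local notation "PT" => ℙ (AlgebraicClosure (ZMod p)) (Fin 2 → AlgebraicClosure (ZMod p))

variable (X : Subgroup SL(2, AlgebraicClosure (ZMod p)))

/-- The triangular elements of `X`. -/
noncomputable def borel : Subgroup SL(2, KK) := X ⊓ stabilizer SL(2, KK) (lineInf : PT)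

theorem mem_borel {M : SL(2, KK)} : M ∈ borel X ↔ M ∈ X ∧ M.1 1 0 = 0 := by
  rw [borel, Subgroup.mem_inf, mem_stabilizer_iff, smul_lineInf]

theorem borel_diag {M : SL(2, KK)} (h : M.1 1 0 = 0) : M.1 0 0 * M.1 1 1 = 1 := by
  have := det_eq_sl2 M
  rw [h, mul_zero, sub_zero] at this
  exact this

/-- The upper left entry of a triangular element. -/
noncomputable def diagHom : borel X →* KKˣ :=
  ({ toFun := fun M => (M : SL(2, KK)).1 0 0
     map_one' := by simp
     map_mul' := fun a b => by
       simp [Matrix.mul_apply, Fin.sum_univ_two, ((mem_borel X).1 b.2).2] } : borel X →* KK).toHomUnits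

@[simp] theorem diagHom_coe (M : borel X) : (diagHom X M : KK) = (M : SL(2, KK)).1 0 0 := rfl

/-- The squares of the diagonal entries. -/
noncomputable def diagSquares : Subgroup KKˣ := (diagHom X).range.map (powMonoidHom 2)

variable [Finite X]

instance : Finite (borel X) := Finite.of_injective _ (Subgroup.inclusion_injective (inf_le_left :
  borel X ≤ X))

instance : Finite (diagHom X).range :=
  Finite.of_surjective (diagHom X).rangeRestrict (diagHom X).rangeRestrict_surjective

instance : Finite (diagSquares X) := by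
  refine Finite.of_surjective ((powMonoidHom 2 : KKˣ →* KKˣ).subgroupMap (diagHom X).range) ?_
  exact MonoidHom.subgroupMap_surjective _ _

theorem card_diagHom_ker : Nat.card (diagHom X).ker = Nat.card (cornerSet X) := by
  refine Nat.card_congr
    { toFun := fun M => ⟨(M : borel X).1.1 0 1, ?_⟩
      invFun := fun a => ⟨⟨upperU (a : KK), (mem_borel X).2 ⟨a.2, by simp⟩⟩, Units.ext (by simp)⟩
      left_inv := ?_
      right_inv := fun a => Subtype.ext (by simp) }
  · obtain ⟨⟨M, hM⟩, hk⟩ := M
    have h10 := ((mem_borel X).1 hM).2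
    have h00 : M.1 0 0 = 1 := congrArg Units.val (MonoidHom.mem_ker.1 hk)
    have h11 : M.1 1 1 = 1 := by have := borel_diag h10; rwa [h00, one_mul] at this
    have e : upperU (M.1 0 1) = M := by
      ext i j; fin_cases i <;> fin_cases j <;> simp [h10, h00, h11]
    show upperU (M.1 0 1) ∈ X
    rw [e]; exact ((mem_borel X).1 hM).1
  · rintro ⟨⟨M, hM⟩, hk⟩
    have h10 := ((mem_borel X).1 hM).2
    have h00 : M.1 0 0 = 1 := congrArg Units.val (MonoidHom.mem_ker.1 hk)
    have h11 : M.1 1 1 = 1 := by have := borel_diag h10; rwa [h00, one_mul] at this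
    refine Subtype.ext (Subtype.ext ?_)
    ext i j; fin_cases i <;> fin_cases j <;> simp [h10, h00, h11]

variable {X}

theorem card_borel (hp2 : p ≠ 2) (hneg : (-1 : SL(2, KK)) ∈ X) :
    Nat.card (borel X) = Nat.card (cornerSet X) * (2 * Nat.card (diagSquares X)) := by
  have h1 : Nat.card (borel X) = Nat.card (diagHom X).ker * Nat.card (diagHom X).range := by
    rw [← Nat.card_congr (QuotientGroup.quotientKerEquivRange (diagHom X)).toEquiv, mul_comm,
      ← Subgroup.card_eq_card_quotient_mul_card_subgroup]
  rw [h1, card_diagHom_ker]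
  congr 1
  set sq := (powMonoidHom 2 : KKˣ →* KKˣ).subgroupMap (diagHom X).range with hsq
  have h2 : Nat.card (diagHom X).range = Nat.card sq.ker * Nat.card (diagSquares X) := by
    rw [Subgroup.card_eq_card_quotient_mul_card_subgroup sq.ker,
      Nat.card_congr (QuotientGroup.quotientKerEquivOfSurjective sq
        (MonoidHom.subgroupMap_surjective _ _)).toEquiv, mul_comm]
    rfl
  rw [h2]
  congr 1
  have hm1 : (-1 : KKˣ) ∈ (diagHom X).range :=
    ⟨⟨-1, (mem_borel X).2 ⟨hneg, by simp⟩⟩, Units.ext (by simp)⟩
  have hne : (-1 : KKˣ) ≠ 1 := fun e => by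
    have := congrArg Units.val e
    simp only [Units.val_neg, Units.val_one] at this
    exact two_ne_zero_of_ne_two hp2 (by linear_combination -this)
  have hker : (sq.ker : Set (diagHom X).range) = {1, ⟨-1, hm1⟩} := by
    ext ⟨z, hz⟩
    simp only [SetLike.mem_coe, MonoidHom.mem_ker, Set.mem_insert_iff, Set.mem_singleton_iff]
    constructor
    · intro h
      have h' : z ^ 2 = 1 := congrArg Subtype.val h
      have hz2 : (z : KK) * z = 1 := by
        have := congrArg Units.val h'
        simpa [pow_two] using this
      replace h' : z = 1 ∨ z = -1 := (mul_self_eq_one_iff.1 hz2).imp (fun e => Units.ext e)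
        fun e => Units.ext (by rw [e]; simp)
      exact h'.imp (fun e => Subtype.ext e) fun e => Subtype.ext e
    · rintro (h | h) <;> apply Subtype.ext <;> show z ^ 2 = 1 <;>
        rw [show z = _ from congrArg Subtype.val h] <;> simp
  rw [show Nat.card sq.ker = (sq.ker : Set (diagHom X).range).ncard from Nat.card_coe_set_eq _, hker,
    Set.ncard_pair]
  exact fun e => hne (congrArg Subtype.val e).symm

theorem fixCount_true_lineInf :
    fixCount X (fun _ => True) (lineInf : PT) = Nat.card (borel X) := by
  refine Nat.card_congr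
    { toFun := fun M => ⟨M.1.1, Subgroup.mem_inf.2 ⟨M.1.2, M.2.2⟩⟩
      invFun := fun M => ⟨⟨M.1, (Subgroup.mem_inf.1 M.2).1⟩, trivial, (Subgroup.mem_inf.1 M.2).2⟩
      left_inv := fun _ => rfl
      right_inv := fun _ => rfl }

/-- The parabolic elements. -/
def IsPara (M : SL(2, KK)) : Prop := IsNonScalar M ∧ trSL M ^ 2 = 4

theorem IsPara.conj {M : SL(2, KK)} (g : SL(2, KK)) (h : IsPara M) : IsPara (g * M * g⁻¹) :=
  ⟨h.1.conj g, by rw [trSL_conj]; exact h.2⟩

theorem fixCount_para_lineInf (hp2 : p ≠ 2) (hneg : (-1 : SL(2, KK)) ∈ X) :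
    fixCount X IsPara (lineInf : PT) = 2 * (Nat.card (cornerSet X) - 1) := by
  have h2 := two_ne_zero_of_ne_two (p := p) hp2
  let g : Bool → KK → SL(2, KK) := fun e a => if e then upperU a else -upperU a
  have g00 : ∀ e a, (g e a).1 0 0 = if e then 1 else -1 := by
    intro e a; cases e <;> simp [g]
  have g01 : ∀ e a, (g e a).1 0 1 = if e then a else -a := by
    intro e a; cases e <;> simp [g]
  have hmem : ∀ e (a : cornerSet X), g e a ∈ X := by
    intro e a; cases e
    · exact neg_mem_of_neg_one hneg a.2
    · exact a.2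
  have hlow : ∀ e a, (g e a).1 1 0 = 0 := by
    intro e a; cases e <;> simp [g]
  have hpara : ∀ e (a : cornerSet X), a ≠ 0 → IsPara (g e a) := by
    intro e a ha
    have ha' : (a : KK) ≠ 0 := fun h => ha (Subtype.ext h)
    refine ⟨⟨fun h => ha' ?_, fun h => ha' ?_⟩, ?_⟩
    · have := g01 e a; rw [h] at this; cases e <;> simp at this ⊢ <;> (first | exact this | exact this.symm | exact congrArg Subtype.val this | exact congrArg Subtype.val this.symm | exact Subtype.ext this | exact Subtype.ext this.symm)
    · have := g01 e a; rw [h] at this; cases e <;> simp at this ⊢ <;> (first | exact this | exact this.symm | exact congrArg Subtype.val this | exact congrArg Subtype.val this.symm | exact Subtype.ext this | exact Subtype.ext this.symm)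
    · rw [sq_trace_eq_four_iff_of_lower (hlow e a)]
      cases e <;> simp [g]
  let f : Bool × {a : cornerSet X // a ≠ 0} →
      {M : X // IsPara (M : SL(2, KK)) ∧ (M : SL(2, KK)) • (lineInf : PT) = lineInf} :=
    fun ea => ⟨⟨g ea.1 (ea.2.1 : KK), hmem _ _⟩, hpara _ _ ea.2.2, (smul_lineInf _).2 (hlow _ _)⟩
  have hf : Function.Bijective f := by
    constructor
    · rintro ⟨e, a⟩ ⟨e', a'⟩ h
      have h' : g e (a.1 : KK) = g e' (a'.1 : KK) :=
        congrArg (fun M : {M : X // IsPara (M : SL(2, KK)) ∧
          (M : SL(2, KK)) • (lineInf : PT) = lineInf} => (M.1 : SL(2, KK))) h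
      have h00 := g00 e a.1
      rw [h', g00] at h00
      have he : e = e' := by
        cases e <;> cases e' <;> simp at h00 ⊢ <;>
          first | exact h2 (by linear_combination h00) | exact h2 (by linear_combination -h00)
      subst he
      have h01 := g01 e a.1
      rw [h', g01] at h01
      refine Prod.ext rfl (Subtype.ext (Subtype.ext ?_))
      cases e <;> simp at h01 <;> exact congrArg Subtype.val h01.symm
    · rintro ⟨⟨M, hMX⟩, ⟨hns, htr⟩, hfix⟩
      have h10 := (smul_lineInf M).1 hfix
      have heq := (sq_trace_eq_four_iff_of_lower h10).1 htr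
      have hd := borel_diag h10
      rw [← heq] at hd
      have key : ∀ e, (g e 0).1 0 0 = M.1 0 0 → ∃ x, f x = ⟨⟨M, hMX⟩, ⟨hns, htr⟩, hfix⟩ := by
        intro e he
        set a : KK := if e then M.1 0 1 else -M.1 0 1 with ha
        have hM : g e a = M := by
          rw [g00] at he
          ext i j
          fin_cases i <;> fin_cases j <;> cases e <;> simp at he <;>
            simp [g, ha, h10, ← he, ← heq]
        have haX : a ∈ cornerSet X := by
          cases e
          · show upperU a ∈ X
            have : -(g false a) = upperU a := by simp [g]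
            rw [← this, hM]; exact neg_mem_of_neg_one hneg hMX
          · show upperU a ∈ X
            have : g true a = upperU a := by simp [g]
            rw [← this, hM]; exact hMX
        have ha0 : (⟨a, haX⟩ : cornerSet X) ≠ 0 := by
          intro h
          have : a = 0 := congrArg Subtype.val h
          rw [this] at hM
          cases e <;> simp [g] at hM
          · exact hns.2 hM.symm
          · exact hns.1 hM.symm
        exact ⟨(e, ⟨⟨a, haX⟩, ha0⟩), Subtype.ext (Subtype.ext hM)⟩
      rcases mul_self_eq_one_iff.1 hd with h | h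
      · exact key true (by simp [g00, h])
      · exact key false (by simp [g00, h])
  have := Fintype.ofFinite (cornerSet X)
  classical
  rw [show fixCount X IsPara (lineInf : PT) = _ from (Nat.card_eq_of_bijective f hf).symm,
    Nat.card_prod, Nat.card_eq_fintype_card (α := Bool), Fintype.card_bool,
    Nat.card_eq_fintype_card, Nat.card_eq_fintype_card, Fintype.card_subtype_compl,
    Fintype.card_subtype_eq]

theorem mul_mem_cornerSet {a : KK} (ha : a ∈ cornerSet X) {s : KKˣ} (hs : s ∈ diagSquares X) :
    (s : KK) * a ∈ cornerSet X := by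
  obtain ⟨z, ⟨⟨M, hM⟩, rfl⟩, rfl⟩ := hs
  obtain ⟨hMX, h10⟩ := (mem_borel X).1 hM
  show upperU ((powMonoidHom 2 (diagHom X ⟨M, hM⟩) : KKˣ) * a : KK) ∈ X
  have hd := borel_diag h10
  have e : M * upperU a * M⁻¹ = upperU ((powMonoidHom 2 (diagHom X ⟨M, hM⟩) : KKˣ) * a : KK) := by
    refine Subtype.ext ?_
    rw [sl2_coe_conj, upperU_coe, conj_unipotent M.2, h10, upperU_coe]
    simp [powMonoidHom, pow_two, mul_comm]
  rw [← e]; exact mul_mem (mul_mem hMX ha) (inv_mem hMX)

theorem card_diagSquares_dvd : Nat.card (diagSquares X) ∣ Nat.card (cornerSet X) - 1 := by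
  set A' : Set KKˣ := {s | (s : KK) ∈ cornerSet X} with hA'
  have hpre : A' = QuotientGroup.mk ⁻¹' ((QuotientGroup.mk (s := diagSquares X)) '' A') := by
    refine Set.Subset.antisymm (Set.subset_preimage_image _ _) ?_
    rintro s ⟨r, hr, hrs⟩
    rw [QuotientGroup.eq] at hrs
    have := mul_mem_cornerSet hr hrs
    rw [← Units.val_mul, mul_comm, mul_inv_cancel_left] at this
    exact this
  have hcard : Nat.card A' = Nat.card (cornerSet X) - 1 := by
    classical
    have := Fintype.ofFinite (cornerSet X)
    rw [Nat.card_congr (β := {a : cornerSet X // a ≠ 0})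
      { toFun := fun s => ⟨⟨(s.1 : KK), s.2⟩, fun h => s.1.ne_zero (congrArg Subtype.val h)⟩
        invFun := fun a => ⟨Units.mk0 (a.1 : KK) fun h => a.2 (Subtype.ext h), a.1.2⟩
        left_inv := fun s => Subtype.ext (Units.ext rfl)
        right_inv := fun a => Subtype.ext (Subtype.ext rfl) },
      Nat.card_eq_fintype_card, Nat.card_eq_fintype_card, Fintype.card_subtype_compl,
      Fintype.card_subtype_eq]
  rw [← hcard, hpre, Nat.card_congr (QuotientGroup.preimageMkEquivSubgroupProdSet _ _), Nat.card_prod]
  exact dvd_mul_right _ _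

end CfsgLib.Transfer
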