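import Cfsg.Agent.Lib.Transfer.DicksonLine

/-!
Counting fixed points on the projective line for a finite group of `2 × 2` matrices of determinant one
which contains upper and lower transvections.
-/

namespace CfsgLib.Transfer

open Matrix MulAction
open scoped MatrixGroups LinearAlgebra.Projectivization

variable {p : ℕ} [hp : Fact p.Prime]

local notation "KK" => AlgebraicClosure (ZMod p)
local notation "PT" => ℙ (AlgebraicClosure (ZMod p)) (Fin 2 → AlgebraicClosure (ZMod p))

variable (X : Subgroup SL(2, AlgebraicClosure (ZMod p)))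

/-- The corners of the upper unitriangular elements of `X`. -/
def cornerSet : AddSubgroup KK where
  carrier := {a | upperU a ∈ X}
  zero_mem' := by simp [one_mem]
  add_mem' := fun {a b} ha hb => by
    show upperU (a + b) ∈ X
    rw [← upperU_mul]; exact mul_mem ha hb
  neg_mem' := fun {a} ha => by
    show upperU (-a) ∈ X
    rw [← upperU_inv]; exact inv_mem ha

@[simp] theorem mem_cornerSet {a : KK} : a ∈ cornerSet X ↔ upperU a ∈ X := Iff.rfl

/-- The number of elements of `X` fixing `x` with a property. -/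
noncomputable def fixCount (P : SL(2, KK) → Prop) (x : PT) : ℕ :=
  Nat.card {M : X // P M ∧ (M : SL(2, KK)) • x = x}

theorem fixCount_smul {P : SL(2, KK) → Prop} (hP : ∀ g M : SL(2, KK), P M → P (g * M * g⁻¹))
    (g : X) (x : PT) : fixCount X P (g • x) = fixCount X P x := by
  unfold fixCount
  refine (Nat.card_congr ((MulAut.conj g).toEquiv.subtypeEquiv fun M => ?_)).symm
  show (P M ∧ (M : SL(2, KK)) • x = x) ↔ P ((g * M * g⁻¹ : X) : SL(2, KK)) ∧
    ((g * M * g⁻¹ : X) : SL(2, KK)) • ((g : SL(2, KK)) • x) = (g : SL(2, KK)) • x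
  simp only [Subgroup.coe_mul, Subgroup.coe_inv, mul_smul, inv_smul_smul, smul_left_cancel_iff]
  refine and_congr_left fun _ => ⟨hP _ _, fun h => ?_⟩
  have := hP (g : SL(2, KK))⁻¹ _ h
  simpa [mul_assoc] using this

/-- The fixed points of the non-scalar elements together with the orbit of infinity. -/
def fixPts : Set PT :=
  orbit X (lineInf : PT) ∪ ⋃ M ∈ {M : X | IsNonScalar (M : SL(2, KK))}, {z | (M : SL(2, KK)) • z = z}

variable [Finite X]

theorem cornerSet_finite : (cornerSet X : Set KK).Finite :=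
  Set.Finite.of_injOn (f := fun a => upperU a) (fun a ha => ha)
    (fun a _ b _ h => upperU_inj h) (Set.toFinite (X : Set SL(2, KK)))

instance : Finite (cornerSet X) := (cornerSet_finite X).to_subtype

variable {X} {c : AlgebraicClosure (ZMod p)}

theorem eq_neg_one_of_orderOf_two (hp2 : p ≠ 2) {M : SL(2, KK)} (h : orderOf M = 2) : M = -1 := by
  have h2 : M ^ 2 = 1 := by
    have := pow_orderOf_eq_one M; rwa [h] at this
  have h2' : M.1 * M.1 = 1 := by
    rw [← Matrix.SpecialLinearGroup.coe_mul, ← pow_two, h2, Matrix.SpecialLinearGroup.coe_one]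
  rcases sl2_eq_of_sq_eq_one (two_ne_zero_of_ne_two hp2) M.2 h2' with e | e
  · rw [show M = 1 from Subtype.ext e, orderOf_one] at h
    exact absurd h (by decide)
  · exact Subtype.ext (by rw [e]; simp)

theorem neg_one_mem_of_transvections (hp2 : p ≠ 2) (hc : c ≠ 0) (hu : upperU c ∈ X)
    (hl : lowerU 1 ∈ X) : (-1 : SL(2, KK)) ∈ X := by
  have hev : ¬ Odd (Nat.card X) := fun ho => by
    have h := lower_eq_zero_of_odd ho X.subtype X.subtype_injective (e := ⟨_, hu⟩) hc rfl ⟨_, hl⟩
    simp at h
  rw [Nat.not_odd_iff_even] at hev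
  obtain ⟨w, hw⟩ := exists_prime_orderOf_dvd_card' (G := X) 2 hev.two_dvd
  rw [← Subgroup.orderOf_coe] at hw
  exact eq_neg_one_of_orderOf_two hp2 hw ▸ w.2

theorem upperU_pow_p (a : KK) : upperU a ^ p = 1 :=
  Subtype.ext (by
    rw [Matrix.SpecialLinearGroup.coe_pow, upperU_coe, unipotent_pow, CharP.cast_eq_zero, zero_mul,
      Matrix.SpecialLinearGroup.coe_one, Matrix.one_fin_two])

/-- Elements of order `p` fix a point of the orbit of infinity. -/
theorem exists_fixed_mem_orbit (hc : c ≠ 0) (hu : upperU c ∈ X) {M : X} (hM : M ^ p = 1) :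
    ∃ x ∈ orbit X (lineInf : PT), (M : SL(2, KK)) • x = x := by
  let ρ : X →* Matrix (Fin 2) (Fin 2) KK :=
    { toFun := fun g => (g : SL(2, KK)).1, map_one' := by simp, map_mul' := fun a b => by simp }
  have hpu : IsPGroup p (Subgroup.zpowers (⟨_, hu⟩ : X)) := by
    refine IsPGroup.of_card (n := 1) ?_
    rw [Nat.card_zpowers, pow_one]
    refine orderOf_eq_prime (Subtype.ext (upperU_pow_p c)) fun e => hc ?_
    have := congrArg (fun g : X => (g : SL(2, KK)).1 0 1) e
    simpa using this
  obtain ⟨T, hT⟩ := hpu.exists_le_sylow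
  have huT : (⟨_, hu⟩ : X) ∈ T := hT (Subgroup.mem_zpowers _)
  have hne : ρ ⟨_, hu⟩ ≠ 1 := fun e => hc (by
    have := congrFun (congrFun e 0) 1
    simpa [ρ] using this)
  obtain ⟨v, hv, hfix, -⟩ := PStab.exists_fixed_line ρ T.2 ⟨_, huT, hne⟩
  have hv1 : v 1 = 0 := by
    have := congrFun (hfix _ huT) 0
    simp [ρ, Matrix.mulVec, dotProduct, Fin.sum_univ_two] at this
    exact this.resolve_left hc
  have hv0 : v 0 ≠ 0 := fun h => hv (by ext i; fin_cases i <;> simp [h, hv1])
  have hTinf : ∀ t ∈ T, (t : SL(2, KK)) • (lineInf : PT) = lineInf := by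
    intro t ht
    rw [smul_lineInf]
    have := congrFun (hfix t ht) 1
    simp [ρ, Matrix.mulVec, dotProduct, Fin.sum_univ_two, hv1, hv0] at this
    exact this
  have hpM : IsPGroup p (Subgroup.zpowers M) := by
    intro ⟨g, hg⟩
    obtain ⟨i, rfl⟩ := Subgroup.mem_zpowers_iff.1 hg
    refine ⟨1, Subtype.ext ?_⟩
    show (M ^ i) ^ (p ^ 1) = 1
    rw [pow_one, ← zpow_natCast, ← _root_.zpow_mul, mul_comm, _root_.zpow_mul, zpow_natCast, hM, _root_.one_zpow]
  obtain ⟨T', hT'⟩ := hpM.exists_le_sylow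
  obtain ⟨g, hg⟩ := MulAction.exists_smul_eq X T T'
  refine ⟨g • (lineInf : PT), ⟨g, rfl⟩, ?_⟩
  have hMT : M ∈ ((g • T : Sylow p X) : Subgroup X) := hg ▸ hT' (Subgroup.mem_zpowers M)
  rw [Sylow.coe_subgroup_smul, Subgroup.mem_pointwise_smul_iff_inv_smul_mem] at hMT
  have h := hTinf _ hMT
  have e : ((MulAut.conj g)⁻¹ • M : X) = g⁻¹ * M * g := by simp [MulAut.smul_def, mul_assoc]
  rw [e, Subgroup.coe_mul, Subgroup.coe_mul, Subgroup.coe_inv, mul_smul, mul_smul,
    inv_smul_eq_iff] at h
  exact h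

theorem neg_one_smul_line (x : PT) : (-1 : SL(2, KK)) • x = x := by
  induction x using Projectivization.ind with
  | h v hv =>
    rw [Projectivization.smul_mk, Projectivization.mk_eq_mk_iff']
    refine ⟨-1, ?_⟩
    rw [Matrix.SpecialLinearGroup.smul_def]
    simp

theorem neg_mem_of_neg_one (hneg : (-1 : SL(2, KK)) ∈ X) {M : SL(2, KK)} (hM : M ∈ X) : -M ∈ X := by
  have : -M = -1 * M := by ext i j; simp
  rw [this]; exact mul_mem hneg hM

/-- A parabolic element fixes only points in the orbit of infinity. -/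
theorem parabolic_fixed_mem_orbit (hp2 : p ≠ 2) (hc : c ≠ 0) (hu : upperU c ∈ X)
    (hneg : (-1 : SL(2, KK)) ∈ X) {M : SL(2, KK)} (hMX : M ∈ X) (hns : IsNonScalar M)
    (hτ : trSL M ^ 2 = 4) {x : PT} (hx : M • x = x) : x ∈ orbit X (lineInf : PT) := by
  have h2 := two_ne_zero_of_ne_two (p := p) hp2
  obtain ⟨a, b, hab, heq⟩ := fixed_pair h2 hns
  have hone : ∀ z, M • z = z → z = a := fun z hz => by
    rcases (hab z).1 hz with h | h
    · exact h
    · exact h.trans (heq.2 hτ).symm
  obtain ⟨N, hNX, hNp, hNfix⟩ : ∃ N : SL(2, KK), N ∈ X ∧ N ^ p = 1 ∧ ∀ z : PT, N • z = z → M • z = z := by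
    have hd := det_eq_sl2 M
    have key : ∀ e : KK, e * e = 1 → trSL M = 2 * e → (M.1 - e • (1 : Matrix (Fin 2) (Fin 2) KK)) ^ p = 0 := by
      intro e he htr
      have hsq : (M.1 - e • (1 : Matrix (Fin 2) (Fin 2) KK)) ^ 2 = 0 := by
        unfold trSL at htr
        rw [pow_two]
        ext i j
        fin_cases i <;> fin_cases j <;> simp [Matrix.mul_apply, Fin.sum_univ_two]
        · linear_combination (M.1 0 0) * htr - hd + he
        · linear_combination (M.1 0 1) * htr
        · linear_combination (M.1 1 0) * htr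
        · linear_combination (M.1 1 1) * htr - hd + he
      exact pow_eq_zero_of_le hp.out.two_le hsq
    rcases (show trSL M = 2 * 1 ∨ trSL M = 2 * -1 by
      have : (trSL M - 2) * (trSL M + 2) = 0 := by linear_combination hτ
      rcases mul_eq_zero.1 this with h | h
      · exact Or.inl (by linear_combination h)
      · exact Or.inr (by linear_combination h)) with htr | htr
    · refine ⟨M, hMX, Subtype.ext ?_, fun z hz => hz⟩
      have h1 := key 1 (one_mul 1) htr
      rw [one_smul, sub_pow_char_of_commute _ (Commute.one_right _), one_pow, sub_eq_zero] at h1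
      rw [Matrix.SpecialLinearGroup.coe_pow, h1, Matrix.SpecialLinearGroup.coe_one]
    · refine ⟨-M, neg_mem_of_neg_one hneg hMX, Subtype.ext ?_, fun z hz => ?_⟩
      · have h1 := key (-1) (by simp) htr
        rw [neg_smul, one_smul, sub_pow_char_of_commute _ ((Commute.one_right _).neg_right),
          (hp.out.odd_of_ne_two hp2).neg_pow, one_pow, sub_eq_zero] at h1
        rw [Matrix.SpecialLinearGroup.coe_pow, Matrix.SpecialLinearGroup.coe_one,
          Matrix.SpecialLinearGroup.coe_neg, (hp.out.odd_of_ne_two hp2).neg_pow, h1, neg_neg]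
      · have e : -M = -1 * M := by ext i j; simp
        rwa [e, mul_smul, neg_one_smul_line] at hz
  obtain ⟨y, hy, hyf⟩ := exists_fixed_mem_orbit hc hu (M := ⟨N, hNX⟩) (Subtype.ext hNp)
  rwa [hone x hx, ← hone y (hNfix y hyf)]

end CfsgLib.Transfer
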