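import Cfsg.Agent.Lib.Transfer.DicksonBorel
import Mathlib.GroupTheory.GroupAction.Quotient

/-!
The orbit counting in Dickson's theorem on two transvections.
-/

namespace CfsgLib.Transfer

open Matrix MulAction
open scoped MatrixGroups LinearAlgebra.Projectivization

variable {p : ℕ} [hp : Fact p.Prime]

local notation "KK" => AlgebraicClosure (ZMod p)
local notation "PT" => ℙ (AlgebraicClosure (ZMod p)) (Fin 2 → AlgebraicClosure (ZMod p))

variable {X : Subgroup SL(2, AlgebraicClosure (ZMod p))} [Finite X]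
  {c : AlgebraicClosure (ZMod p)}

/-- The affine part of the orbit of infinity. -/
def affineOrbit (X : Subgroup SL(2, KK)) : Set KK := {a | linePt a ∈ orbit X (lineInf : PT)}

theorem orbit_lineInf_finite : (orbit X (lineInf : PT)).Finite := Set.finite_range _

theorem affineOrbit_finite : (affineOrbit X).Finite :=
  Set.Finite.of_injOn (f := linePt) (fun a ha => ha) (fun a _ b _ h => linePt_inj h) orbit_lineInf_finite

theorem orbit_lineInf_eq :
    orbit X (lineInf : PT) = insert lineInf (linePt '' affineOrbit X) := by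
  ext x
  rcases line_cases x with rfl | ⟨a, rfl⟩
  · simp [mem_orbit_self]
  · simp only [Set.mem_insert_iff, Set.mem_image]
    constructor
    · exact fun h => Or.inr ⟨a, h, rfl⟩
    · rintro (h | ⟨b, hb, hab⟩)
      · exact absurd h.symm (lineInf_ne_linePt a)
      · rw [← hab]; exact hb

theorem card_orbit_lineInf :
    (orbit X (lineInf : PT)).ncard = 1 + (affineOrbit X).ncard := by
  rw [orbit_lineInf_eq, Set.ncard_insert_of_notMem ?_ (affineOrbit_finite.image _),
    Set.ncard_image_of_injective _ (fun a b h => linePt_inj h), add_comm]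
  rintro ⟨a, -, h⟩
  exact lineInf_ne_linePt a h.symm

theorem add_mem_affineOrbit {a b : KK} (ha : a ∈ affineOrbit X) (hb : b ∈ cornerSet X) :
    a + b ∈ affineOrbit X := by
  obtain ⟨g, hg⟩ := ha
  refine ⟨⟨_, hb⟩ * g, ?_⟩
  show (upperU b * (g : SL(2, KK))) • (lineInf : PT) = _
  rw [mul_smul, show (g : SL(2, KK)) • (lineInf : PT) = linePt a from hg, upperU_smul_linePt]

theorem card_cornerSet_dvd : Nat.card (cornerSet X) ∣ (affineOrbit X).ncard := by
  have hpre : affineOrbit X =
      QuotientAddGroup.mk ⁻¹' ((QuotientAddGroup.mk (s := cornerSet X)) '' affineOrbit X) := by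
    refine Set.Subset.antisymm (Set.subset_preimage_image _ _) ?_
    rintro s ⟨r, hr, hrs⟩
    rw [QuotientAddGroup.eq] at hrs
    have := add_mem_affineOrbit hr hrs
    rwa [add_neg_cancel_left] at this
  rw [hpre, ← Nat.card_coe_set_eq,
    Nat.card_congr (QuotientAddGroup.preimageMkEquivAddSubgroupProdSet _ _), Nat.card_prod]
  exact dvd_mul_right _ _

theorem one_mem_affineOrbit (hl : lowerU 1 ∈ X) : (1 : KK) ∈ affineOrbit X :=
  ⟨⟨_, hl⟩, (smul_lineInf_eq_linePt (M := lowerU (1 : KK)) (by simp)).trans (by simp)⟩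

theorem zero_mem_affineOrbit (hp2 : p ≠ 2) (hc : c ≠ 0) (hu : upperU c ∈ X) (hl : lowerU 1 ∈ X) :
    (0 : KK) ∈ affineOrbit X := by
  refine parabolic_fixed_mem_orbit hp2 hc hu (neg_one_mem_of_transvections hp2 hc hu hl) hl
    ⟨fun e => ?_, fun e => ?_⟩ ?_ (smul_linePt_eq_self.2 (by simp))
  · have := congrArg (fun M : SL(2, KK) => M.1 1 0) e
    simp at this
  · have := congrArg (fun M : SL(2, KK) => M.1 1 0) e
    simp at this
  · simp [trSL]; norm_num

theorem fixCount_true_eq (x : PT) : fixCount X (fun _ => True) x = Nat.card (stabilizer X x) :=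
  Nat.card_congr
    { toFun := fun M => ⟨M.1, M.2.2⟩
      invFun := fun M => ⟨M.1, trivial, M.2⟩
      left_inv := fun _ => rfl
      right_inv := fun _ => rfl }

theorem card_eq_orbit_mul (x : PT) :
    Nat.card X = (orbit X x).ncard * Nat.card (stabilizer X x) := by
  rw [← MulAction.index_stabilizer, Subgroup.index_mul_card]

theorem fixCount_nonscalar (hp2 : p ≠ 2) (hneg : (-1 : SL(2, KK)) ∈ X) (x : PT) :
    fixCount X IsNonScalar x + 2 = Nat.card (stabilizer X x) := by
  have hne : (1 : X) ≠ ⟨-1, hneg⟩ := fun e => by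
    have h := congrArg (fun M : X => (M : SL(2, KK)).1 0 0) e
    simp at h
    exact two_ne_zero_of_ne_two hp2 (by linear_combination h)
  have h1 : (⟨-1, hneg⟩ : X) ∈ stabilizer X x := neg_one_smul_line x
  have hset : ((stabilizer X x : Set X)) =
      {M : X | IsNonScalar (M : SL(2, KK)) ∧ (M : SL(2, KK)) • x = x} ∪ {1, ⟨-1, hneg⟩} := by
    ext M
    simp only [SetLike.mem_coe, mem_stabilizer_iff, Set.mem_union, Set.mem_ofPred_eq, Set.mem_insert_iff,
      Set.mem_singleton_iff]
    constructor
    · intro h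
      by_cases h' : IsNonScalar (M : SL(2, KK))
      · exact Or.inl ⟨h', h⟩
      · simp only [IsNonScalar, not_and_or, not_not] at h'
        exact Or.inr (h'.imp (fun e => Subtype.ext e) fun e => Subtype.ext e)
    · rintro (h | rfl | rfl)
      · exact h.2
      · exact one_smul _ x
      · exact h1
  rw [show Nat.card (stabilizer X x) = (stabilizer X x : Set X).ncard from Nat.card_coe_set_eq _, hset,
    Set.ncard_union_eq ?_ (Set.toFinite _) (Set.toFinite _), Set.ncard_pair hne]
  · exact congrArg (· + 2) (Nat.card_coe_set_eq _)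
  · rw [Set.disjoint_left]
    rintro M ⟨hM, -⟩ (rfl | rfl)
    · exact hM.1 rfl
    · exact hM.2 rfl

/-- Double counting of fixed points. -/
theorem exists_fixed_sum (hp2 : p ≠ 2) (hc : c ≠ 0) (hu : upperU c ∈ X) (hl : lowerU 1 ∈ X) :
    ∃ Ω : Finset PT, (∀ x ∈ orbit X (lineInf : PT), x ∈ Ω) ∧
      (∀ (g : X), ∀ x ∈ Ω, g • x ∈ Ω) ∧
      (∀ (M : X), IsNonScalar (M : SL(2, KK)) → ∀ x, (M : SL(2, KK)) • x = x → x ∈ Ω) ∧
      (∀ x ∈ Ω, x ∈ orbit X (lineInf : PT) ∨ 1 ≤ fixCount X IsNonScalar x) ∧
      ∑ x ∈ Ω, fixCount X IsNonScalar x +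
          (orbit X (lineInf : PT)).ncard * fixCount X IsPara (lineInf : PT) + 4 =
        2 * Nat.card X := by
  classical
  have := Fintype.ofFinite X
  have hneg := neg_one_mem_of_transvections hp2 hc hu hl
  have h2 := two_ne_zero_of_ne_two (p := p) hp2
  have hfix : ∀ M : X, IsNonScalar (M : SL(2, KK)) → {z : PT | (M : SL(2, KK)) • z = z}.Finite := by
    intro M hM
    obtain ⟨a, b, hab, -⟩ := fixed_pair h2 hM
    exact (Set.toFinite {a, b}).subset fun z hz => (hab z).1 hz
  have hΩf : (fixPts X).Finite :=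
    orbit_lineInf_finite.union (Set.Finite.biUnion (Set.toFinite _) fun M hM => hfix M hM)
  set Ω := hΩf.toFinset with hΩ
  set O := (orbit_lineInf_finite (X := X)).toFinset with hO
  have hmem : ∀ x, x ∈ Ω ↔ (x ∈ orbit X (lineInf : PT) ∨
      ∃ M : X, IsNonScalar (M : SL(2, KK)) ∧ (M : SL(2, KK)) • x = x) := by
    intro x
    simp only [hΩ, Set.Finite.mem_toFinset, fixPts, Set.mem_union, Set.mem_iUnion, Set.mem_ofPred_eq,
      exists_prop]
  have hcount : ∀ (P : SL(2, KK) → Prop) (x : PT),
      fixCount X P x = ((Finset.univ.filter fun M : X => P (M : SL(2, KK))).filter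
        fun M : X => (M : SL(2, KK)) • x = x).card := by
    intro P x
    rw [fixCount, Nat.card_eq_fintype_card, Fintype.card_subtype, Finset.filter_filter]
  set NS := Finset.univ.filter fun M : X => IsNonScalar (M : SL(2, KK)) with hNS
  set PA := Finset.univ.filter fun M : X => IsPara (M : SL(2, KK)) with hPA
  have hswap : ∀ (S : Finset X) (T : Finset PT),
      ∑ x ∈ T, (S.filter fun M : X => (M : SL(2, KK)) • x = x).card =
        ∑ M ∈ S, (T.filter fun x => (M : SL(2, KK)) • x = x).card := fun S T =>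
    (Finset.sum_card_bipartiteAbove_eq_sum_card_bipartiteBelow
      (r := fun (M : X) (x : PT) => (M : SL(2, KK)) • x = x)).symm
  refine ⟨Ω, fun x hx => (hmem x).2 (Or.inl hx), ?_, fun M hM x hx => (hmem x).2 (Or.inr ⟨M, hM, hx⟩),
    ?_, ?_⟩
  · intro g x hx
    rcases (hmem x).1 hx with h | ⟨M, hM, hMx⟩
    · exact (hmem _).2 (Or.inl (mem_orbit_of_mem_orbit g h))
    · refine (hmem _).2 (Or.inr ⟨g * M * g⁻¹, hM.conj _, ?_⟩)
      show ((g : SL(2, KK)) * M * (g : SL(2, KK))⁻¹) • ((g : SL(2, KK)) • x) = (g : SL(2, KK)) • x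
      rw [mul_smul, mul_smul, inv_smul_smul, hMx]
  · intro x hx
    refine ((hmem x).1 hx).imp id fun ⟨M, hM, hMx⟩ => ?_
    exact Nat.card_pos_iff.2 ⟨⟨⟨M, hM, hMx⟩⟩, inferInstance⟩
  · have hNScard : NS.card + 2 = Nat.card X := by
      have hne : (1 : X) ≠ ⟨-1, hneg⟩ := fun e => by
        have h := congrArg (fun M : X => (M : SL(2, KK)).1 0 0) e
        simp at h
        exact h2 (by linear_combination h)
      have e : NS = Finset.univ \ {1, ⟨-1, hneg⟩} := by
        ext M
        rw [hNS, Finset.mem_filter, Finset.mem_sdiff, Finset.mem_insert, Finset.mem_singleton, not_or]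
        simp only [IsNonScalar, Finset.mem_univ, true_and]
        exact and_congr (not_congr ⟨fun e => Subtype.ext e, fun e => congrArg Subtype.val e⟩)
          (not_congr ⟨fun e => Subtype.ext e, fun e => congrArg Subtype.val e⟩)
      rw [e, Finset.card_sdiff_of_subset (Finset.subset_univ _), Finset.card_pair hne,
        Finset.card_univ, ← Nat.card_eq_fintype_card,
        Nat.sub_add_cancel]
      rw [Nat.card_eq_fintype_card]
      exact (Finset.card_pair hne).symm.le.trans (Finset.card_le_univ _)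
    have hsub : PA ⊆ NS := fun M hM => by
      simp only [hPA, hNS, Finset.mem_filter] at hM ⊢
      exact ⟨hM.1, hM.2.1⟩
    have hper : ∀ M ∈ NS, (Ω.filter fun x => (M : SL(2, KK)) • x = x).card =
        if M ∈ PA then 1 else 2 := by
      intro M hM
      have hM' : IsNonScalar (M : SL(2, KK)) := (Finset.mem_filter.1 hM).2
      obtain ⟨a, b, hab, heq⟩ := fixed_pair h2 hM'
      have e : (Ω.filter fun x => (M : SL(2, KK)) • x = x) = {a, b} := by
        ext x
        simp only [Finset.mem_filter, Finset.mem_insert, Finset.mem_singleton, ← hab x]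
        exact ⟨And.right, fun h => ⟨(hmem x).2 (Or.inr ⟨M, hM', h⟩), h⟩⟩
      rw [e]
      by_cases hp' : M ∈ PA
      · rw [if_pos hp', heq.2 (Finset.mem_filter.1 hp').2.2]; simp
      · rw [if_neg hp', Finset.card_pair]
        exact fun h => hp' (Finset.mem_filter.2 ⟨Finset.mem_univ _, hM', heq.1 h⟩)
    have hperO : ∀ M ∈ PA, (O.filter fun x => (M : SL(2, KK)) • x = x).card = 1 := by
      intro M hM
      have hM' := (Finset.mem_filter.1 hM).2
      obtain ⟨a, b, hab, heq⟩ := fixed_pair h2 hM'.1
      refine Finset.card_eq_one.2 ⟨a, ?_⟩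
      ext x
      simp only [Finset.mem_filter, Finset.mem_singleton, hO, Set.Finite.mem_toFinset]
      constructor
      · rintro ⟨-, h⟩
        rcases (hab x).1 h with h' | h'
        · exact h'
        · exact h'.trans (heq.2 hM'.2).symm
      · rintro rfl
        have hfx : (M : SL(2, KK)) • x = x := (hab x).2 (Or.inl rfl)
        exact ⟨parabolic_fixed_mem_orbit hp2 hc hu hneg M.2 hM'.1 hM'.2 hfx, hfx⟩
    have hOsum : ∑ x ∈ O, fixCount X IsPara x =
        (orbit X (lineInf : PT)).ncard * fixCount X IsPara (lineInf : PT) := by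
      rw [Set.ncard_eq_toFinset_card _ orbit_lineInf_finite, ← smul_eq_mul, ← Finset.sum_const]
      refine Finset.sum_congr rfl fun x hx => ?_
      obtain ⟨g, rfl⟩ := (Set.Finite.mem_toFinset _).1 hx
      exact fixCount_smul X (fun g M h => h.conj g) g _
    have s1 : ∑ x ∈ Ω, fixCount X IsNonScalar x = ∑ M ∈ NS, if M ∈ PA then 1 else 2 := by
      rw [Finset.sum_congr rfl fun x _ => hcount IsNonScalar x, hswap, Finset.sum_congr rfl hper]
    have s2 : ∑ x ∈ O, fixCount X IsPara x = PA.card := by
      rw [Finset.sum_congr rfl fun x _ => hcount IsPara x, hswap, Finset.sum_congr rfl hperO,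
        Finset.sum_const, smul_eq_mul, mul_one]
    have s3 : (∑ M ∈ NS, if M ∈ PA then 1 else 2) + PA.card = 2 * NS.card := by
      rw [Finset.sum_ite, Finset.sum_const, Finset.sum_const, Finset.filter_mem_eq_inter,
        Finset.inter_eq_right.2 hsub, Finset.filter_notMem_eq_sdiff,
        Finset.card_sdiff_of_subset hsub]
      have := Finset.card_le_card hsub
      simp only [smul_eq_mul]
      omega
    rw [s1, ← hOsum, s2]
    omega

end CfsgLib.Transfer
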