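import Cfsg.Agent.Lib.PGroup.Counting
import Cfsg.Agent.Lib.PGroup.Commutators
import Cfsg.Agent.Lib.PGroup.ElemAbelian
import Cfsg.Prelude.Def_PLocal
import Mathlib.GroupTheory.SemidirectProduct
import Mathlib.GroupTheory.Nilpotent

/-!
Thompson's replacement dichotomy and the Timmesfeld replacement theorem.
-/

namespace CfsgLib.Transfer

open Subgroup Cfsg
open scoped commutatorElement

variable {G : Type*} [Group G] {p : ℕ} {V A : Subgroup G}

/-- `|B| |C_V(B)|`. -/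
noncomputable def offVal (V B : Subgroup G) : ℕ :=
  Nat.card B * Nat.card ↥(V ⊓ centralizer (B : Set G))

theorem conj_mem_of_le_normalizer (hAV : A ≤ normalizer (V : Set G)) {a v : G} (ha : a ∈ A) (hv : v ∈ V) :
    a * v * a⁻¹ ∈ V := (mem_normalizer_iff.1 (hAV ha) v).1 hv

theorem comm_mem_of_le_normalizer (hAV : A ≤ normalizer (V : Set G)) {a v : G} (ha : a ∈ A) (hv : v ∈ V) :
    ⁅v, a⁆ ∈ V := by
  rw [commutatorElement_def, show v * a * v⁻¹ * a⁻¹ = v * (a * v⁻¹ * a⁻¹) by group]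
  exact mul_mem hv (conj_mem_of_le_normalizer hAV ha (inv_mem hv))

theorem comm_mul_eq (hV : IsMulCommutative V) (hAV : A ≤ normalizer (V : Set G)) {a u v : G} (ha : a ∈ A)
    (hu : u ∈ V) (hv : v ∈ V) : ⁅u * v, a⁆ = ⁅u, a⁆ * ⁅v, a⁆ := by
  have h := comm_mem_of_le_normalizer hAV ha hv
  have hc : ∀ x ∈ V, ∀ y ∈ V, x * y = y * x := fun x hx y hy =>
    congrArg Subtype.val (hV.is_comm.comm ⟨x, hx⟩ ⟨y, hy⟩)
  rw [commutatorElement_mul_left_eq_conj_mul, hc u hu _ h, mul_inv_cancel_right,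
    hc _ h _ (comm_mem_of_le_normalizer hAV ha hu)]

theorem commutator_le_base (hAV : A ≤ normalizer (V : Set G)) {U : Subgroup G} (hU : U ≤ V) : ⁅U, A⁆ ≤ V :=
  commutator_le.2 fun _ hu _ ha => comm_mem_of_le_normalizer hAV ha (hU hu)

theorem commutator_sup_eq (hV : IsMulCommutative V) (hAV : A ≤ normalizer (V : Set G)) {U₁ U₂ : Subgroup G}
    (h₁ : U₁ ≤ V) (h₂ : U₂ ≤ V) : ⁅U₁ ⊔ U₂, A⁆ = ⁅U₁, A⁆ ⊔ ⁅U₂, A⁆ := by
  refine le_antisymm (commutator_le.2 fun u hu a ha => ?_)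
    (sup_le (commutator_mono le_sup_left le_rfl) (commutator_mono le_sup_right le_rfl))
  rw [sup_eq_closure] at hu
  suffices u ∈ V ∧ ⁅u, a⁆ ∈ ⁅U₁, A⁆ ⊔ ⁅U₂, A⁆ from this.2
  induction hu using closure_induction with
  | mem x hx =>
    rcases hx with hx | hx
    · exact ⟨h₁ hx, mem_sup_left (commutator_mem_commutator hx ha)⟩
    · exact ⟨h₂ hx, mem_sup_right (commutator_mem_commutator hx ha)⟩
  | one => exact ⟨one_mem _, by simp⟩
  | mul x y _ _ hx hy =>
    exact ⟨mul_mem hx.1 hy.1, by rw [comm_mul_eq hV hAV ha hx.1 hy.1]; exact mul_mem hx.2 hy.2⟩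
  | inv x _ hx =>
    refine ⟨inv_mem hx.1, ?_⟩
    have h := comm_mul_eq hV hAV ha (inv_mem hx.1) hx.1
    rw [inv_mul_cancel, commutatorElement_one_left] at h
    rw [eq_inv_of_mul_eq_one_left h.symm]
    exact inv_mem hx.2

variable [Finite G]

/-- The cyclic case of the replacement dichotomy. -/
theorem card_le_replace_cyclic (hV : IsMulCommutative V) (hAV : A ≤ normalizer (V : Set G))
    (hab : ⁅A, A⁆ ≤ centralizer (V : Set G)) {u : G} (hu : u ∈ V) :
    offVal V A ≤ Nat.card ↥(A ⊓ centralizer ((⁅zpowers u, A⁆ : Subgroup G) : Set G)) *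
      Nat.card ↥(⁅zpowers u, A⁆ ⊔ (V ⊓ centralizer (A : Set G))) := by
  have hVc : ∀ x ∈ V, ∀ y ∈ V, x * y = y * x := fun x hx y hy =>
    congrArg Subtype.val (hV.is_comm.comm ⟨x, hx⟩ ⟨y, hy⟩)
  set C := V ⊓ centralizer (A : Set G) with hC
  set B := A ⊓ centralizer ((⁅zpowers u, A⁆ : Subgroup G) : Set G) with hB
  set X := ⁅zpowers u, A⁆ ⊔ C with hX
  have key : ∀ a ∈ A, ∀ b ∈ A, ⁅u, a⁆⁻¹ * ⁅u, b⁆ ∈ C → a⁻¹ * b ∈ B := by
    intro a ha b hb hq
    set x := a⁻¹ * b with hx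
    have hxA : x ∈ A := mul_mem (inv_mem ha) hb
    refine mem_inf.2 ⟨hxA, ?_⟩
    set q := ⁅u, a⁆⁻¹ * ⁅u, b⁆ with hq'
    have hfix : ⁅u, x⁆ = q := by
      have h1 : a⁻¹ * q * a = q := by
        rw [mul_assoc, ← (mem_centralizer_iff.1 hq.2 a ha), inv_mul_cancel_left]
      rw [← h1, hq', hx]
      simp only [commutatorElement_def]
      group
    have hxu : x * u * x⁻¹ = q⁻¹ * u := by
      rw [← hfix, commutatorElement_def]; group
    suffices h : ⁅zpowers u, A⁆ ≤ centralizer ({x} : Set G) from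
      mem_centralizer_iff.2 fun y hy => mem_centralizer_singleton_iff.1 (h hy)
    rw [commutator_le]
    rintro _ ⟨i, rfl⟩ c hc
    rw [mem_centralizer_singleton_iff]
    simp only
    have hcom : ⁅x, c⁆ ∈ centralizer (V : Set G) := hab (commutator_mem_commutator hxA hc)
    have hui : u ^ i ∈ V := zpow_mem hu i
    have hqi : q ^ i ∈ C := zpow_mem hq i
    have hxui : x * u ^ i * x⁻¹ = (q ^ i)⁻¹ * u ^ i := by
      rw [← conj_zpow, hxu, Commute.mul_zpow (hVc _ (inv_mem hq.1) _ hu), inv_zpow]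
    have h2 : x * ⁅u ^ i, c⁆ * x⁻¹ = ⁅(q ^ i)⁻¹ * u ^ i, ⁅x, c⁆ * c⁆ := by
      rw [← hxui]; simp only [commutatorElement_def]; group
    have hd : ⁅(q ^ i)⁻¹ * u ^ i, ⁅x, c⁆ * c⁆ = ⁅(q ^ i)⁻¹ * u ^ i, c⁆ := by
      have hw : (q ^ i)⁻¹ * u ^ i ∈ V := mul_mem (inv_mem hqi.1) hui
      rw [commutatorElement_mul_right_eq_mul_conj,
        commutatorElement_eq_one_iff_mul_comm.2 (mem_centralizer_iff.1 hcom _ hw), one_mul,
        ← mem_centralizer_iff.1 hcom _ (comm_mem_of_le_normalizer hAV hc hw), mul_inv_cancel_right]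
    rw [hd, comm_mul_eq hV hAV hc (inv_mem hqi.1) hui,
      commutatorElement_eq_one_iff_mul_comm.2 (mem_centralizer_iff.1 (inv_mem hqi.2) c hc).symm, one_mul] at h2
    calc ⁅u ^ i, c⁆ * x = (x * ⁅u ^ i, c⁆ * x⁻¹) * x := by rw [h2]
      _ = x * ⁅u ^ i, c⁆ := inv_mul_cancel_right _ _
  have hmem : ∀ a : A, ⁅u, (a : G)⁆ ∈ X := fun a =>
    mem_sup_left (commutator_mem_commutator (mem_zpowers u) a.2)
  let f : A ⧸ B.subgroupOf A → X ⧸ C.subgroupOf X := fun q => QuotientGroup.mk ⟨⁅u, (q.out : G)⁆, hmem q.out⟩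
  have hf : Function.Injective f := by
    intro q r h
    have h0 : (⟨_, hmem q.out⟩ : X)⁻¹ * ⟨_, hmem r.out⟩ ∈ C.subgroupOf X := QuotientGroup.eq.1 h
    have h1 : ⁅u, (q.out : G)⁆⁻¹ * ⁅u, (r.out : G)⁆ ∈ C := h0
    have h2 : (q.out⁻¹ * r.out : A) ∈ B.subgroupOf A := key _ q.out.2 _ r.out.2 h1
    rw [← QuotientGroup.out_eq' q, ← QuotientGroup.out_eq' r]
    exact QuotientGroup.eq.2 h2
  have hle : (B.subgroupOf A).index ≤ (C.subgroupOf X).index := Nat.card_le_card_of_injective f hf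
  unfold offVal
  rw [← (B.subgroupOf A).card_mul_index, ← hC,
    Nat.card_congr (subgroupOfEquivOfLe (inf_le_left : B ≤ A)).toEquiv, ← (C.subgroupOf X).card_mul_index,
    Nat.card_congr (subgroupOfEquivOfLe (le_sup_right : C ≤ X)).toEquiv]
  calc Nat.card B * (B.subgroupOf A).index * Nat.card C
      = Nat.card B * (Nat.card C * (B.subgroupOf A).index) := by ring
    _ ≤ Nat.card B * (Nat.card C * (C.subgroupOf X).index) :=
        Nat.mul_le_mul_left _ (Nat.mul_le_mul_left _ hle)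

/-- The replacement theorem: if no subgroup of `A` beats `A`, then `C_A([U,A])` does as well as `A`. -/
theorem replace_eq (hV : IsMulCommutative V) (hAV : A ≤ normalizer (V : Set G))
    (hab : ⁅A, A⁆ ≤ centralizer (V : Set G)) (hmax : ∀ B ≤ A, offVal V B ≤ offVal V A) :
    ∀ U : Subgroup G, U ≤ V →
      V ⊓ centralizer ((A ⊓ centralizer ((⁅U, A⁆ : Subgroup G) : Set G) : Subgroup G) : Set G) =
          ⁅U, A⁆ ⊔ (V ⊓ centralizer (A : Set G)) ∧
        offVal V (A ⊓ centralizer ((⁅U, A⁆ : Subgroup G) : Set G)) = offVal V A := by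
  have hVc : V ≤ centralizer (V : Set G) := le_centralizer V
  -- it suffices to have enough elements
  have hsuff : ∀ U ≤ V, offVal V A ≤ Nat.card ↥(A ⊓ centralizer ((⁅U, A⁆ : Subgroup G) : Set G)) *
        Nat.card ↥(⁅U, A⁆ ⊔ (V ⊓ centralizer (A : Set G))) →
      V ⊓ centralizer ((A ⊓ centralizer ((⁅U, A⁆ : Subgroup G) : Set G) : Subgroup G) : Set G) =
          ⁅U, A⁆ ⊔ (V ⊓ centralizer (A : Set G)) ∧
        offVal V (A ⊓ centralizer ((⁅U, A⁆ : Subgroup G) : Set G)) = offVal V A := by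
    intro U hU h
    set B := A ⊓ centralizer ((⁅U, A⁆ : Subgroup G) : Set G)
    set X := ⁅U, A⁆ ⊔ (V ⊓ centralizer (A : Set G))
    have hX : X ≤ V ⊓ centralizer (B : Set G) :=
      sup_le (le_inf (commutator_le_base hAV hU) (le_centralizer_iff.1 inf_le_right))
        (inf_le_inf_left _ (centralizer_le inf_le_left))
    have h1 : offVal V B ≤ offVal V A := hmax B inf_le_left
    have h2 : Nat.card B * Nat.card X ≤ offVal V B := Nat.mul_le_mul_left _ (card_le_of_le hX)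
    refine ⟨(eq_of_le_of_card_ge hX (Nat.le_of_mul_le_mul_left ?_ (Nat.card_pos (α := B)))).symm,
      le_antisymm h1 (h.trans h2)⟩
    exact h1.trans h
  intro U
  induction hn : Nat.card U using Nat.strong_induction_on generalizing U with
  | _ n ih =>
    subst hn
    intro hU
    refine hsuff U hU ?_
    rcases eq_or_ne U ⊥ with rfl | hne
    · simp only [commutator_bot_left, bot_sup_eq, coe_bot]
      refine Nat.mul_le_mul_right _ (card_le_of_le (le_inf le_rfl fun a _ => ?_))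
      simp [mem_centralizer_iff]
    obtain ⟨U', hU'⟩ : ∃ U', U' < U ∧ ∀ W, U' < W → W ≤ U → W = U := by
      obtain ⟨M, hM, hmax⟩ := Set.Finite.exists_maximal (s := {W : Subgroup G | W < U}) (Set.toFinite _)
        ⟨⊥, bot_lt_iff_ne_bot.2 hne⟩
      exact ⟨M, hM, fun W h1 h2 => by
        by_contra h3
        exact h1.not_ge (hmax (lt_of_le_of_ne h2 h3) h1.le)⟩
    obtain ⟨u, huU, huU'⟩ := SetLike.exists_of_lt hU'.1
    have hUeq : U' ⊔ zpowers u = U := hU'.2 _
      (lt_of_le_of_ne le_sup_left fun h => huU' (h.ge (mem_sup_right (mem_zpowers u))))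
      (sup_le hU'.1.le (zpowers_le.2 huU))
    have hlt : Nat.card U' < Nat.card U := by
      refine lt_of_le_of_ne (card_le_of_le hU'.1.le) fun h => hU'.1.ne (eq_of_le_of_card_ge hU'.1.le h.ge)
    obtain ⟨hX1, hf1⟩ := ih _ hlt U' rfl (hU'.1.le.trans hU)
    obtain ⟨hX2, hf2⟩ := hsuff (zpowers u) (zpowers_le.2 (hU huU))
      (card_le_replace_cyclic hV hAV hab (hU huU))
    set B1 := A ⊓ centralizer ((⁅U', A⁆ : Subgroup G) : Set G)
    set B2 := A ⊓ centralizer ((⁅zpowers u, A⁆ : Subgroup G) : Set G)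
    set C := V ⊓ centralizer (A : Set G)
    set X1 := ⁅U', A⁆ ⊔ C
    set X2 := ⁅zpowers u, A⁆ ⊔ C
    have hcomm : ⁅U, A⁆ = ⁅U', A⁆ ⊔ ⁅zpowers u, A⁆ := by
      rw [← hUeq]
      exact commutator_sup_eq hV hAV (hU'.1.le.trans hU) (zpowers_le.2 (hU huU))
    have hB : B1 ⊓ B2 ≤ A ⊓ centralizer ((⁅U, A⁆ : Subgroup G) : Set G) := by
      refine le_inf (inf_le_left.trans inf_le_left) (le_centralizer_iff.1 ?_)
      rw [hcomm]
      exact sup_le (le_centralizer_iff.1 (inf_le_left.trans inf_le_right))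
        (le_centralizer_iff.1 (inf_le_right.trans inf_le_right))
    have hXX : X1 ⊔ X2 = ⁅U, A⁆ ⊔ C := by
      rw [hcomm]
      exact le_antisymm (sup_le (sup_le_sup_right le_sup_left _) (sup_le_sup_right le_sup_right _))
        (sup_le (sup_le (le_sup_left.trans le_sup_left) (le_sup_left.trans le_sup_right))
          (le_sup_right.trans le_sup_left))
    have hi : X1 ⊓ X2 ≤ V ⊓ centralizer ((B1 ⊔ B2 : Subgroup G) : Set G) := by
      rw [← hX1, ← hX2]
      refine le_inf (inf_le_left.trans inf_le_left) (le_centralizer_iff.1 (sup_le ?_ ?_))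
      · exact le_centralizer_iff.1 (inf_le_left.trans inf_le_right)
      · exact le_centralizer_iff.1 (inf_le_right.trans inf_le_right)
    have e1 : Nat.card B1 * Nat.card X1 = offVal V A := by
      rw [← hf1]; show _ = Nat.card B1 * _; rw [hX1]
    have e2 : Nat.card B2 * Nat.card X2 = offVal V A := by
      rw [← hf2]; show _ = Nat.card B2 * _; rw [hX2]
    have h3 : Nat.card ↥(B1 ⊔ B2) * Nat.card ↥(X1 ⊓ X2) ≤ offVal V A :=
      (Nat.mul_le_mul_left _ (card_le_of_le hi)).trans (hmax _ (sup_le inf_le_left inf_le_left))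
    have h4 : offVal V A * offVal V A ≤
        (Nat.card ↥(B1 ⊓ B2) * Nat.card ↥(X1 ⊔ X2)) * (Nat.card ↥(B1 ⊔ B2) * Nat.card ↥(X1 ⊓ X2)) := by
      calc offVal V A * offVal V A = (Nat.card B1 * Nat.card B2) * (Nat.card X1 * Nat.card X2) := by
            conv_lhs => arg 1; rw [← e1]
            rw [← e2]; ring
        _ ≤ (Nat.card ↥(B1 ⊔ B2) * Nat.card ↥(B1 ⊓ B2)) * (Nat.card ↥(X1 ⊔ X2) * Nat.card ↥(X1 ⊓ X2)) :=
            Nat.mul_le_mul (PGroup.card_mul_card_le_sup_inf B1 B2) (PGroup.card_mul_card_le_sup_inf X1 X2)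
        _ = _ := by ring
    have hpos : 0 < offVal V A := Nat.mul_pos Nat.card_pos Nat.card_pos
    have h5 := Nat.le_of_mul_le_mul_right (h4.trans (Nat.mul_le_mul_left _ h3)) hpos
    rw [hXX] at h5
    exact h5.trans (Nat.mul_le_mul_right _ (card_le_of_le hB))

/-- An elementary abelian normalised subgroup on which `A` acts as a `p`-group is not `[W, A]`. -/
theorem eq_bot_of_commutator_eq [Fact p.Prime] {W : Subgroup G} (hW : IsElementaryAbelian p W)
    (hAW : A ≤ normalizer (W : Set G)) (hA : ∀ a ∈ A, a ^ p ∈ centralizer (W : Set G))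
    (h : ⁅W, A⁆ = W) : W = ⊥ := by
  set φ : A →* MulAut W := (W.normalizerMonoidHom).comp (inclusion hAW)
  have hr : IsPGroup p φ.range := by
    rintro ⟨_, a, rfl⟩
    refine ⟨1, Subtype.ext ?_⟩
    rw [pow_one]
    show (φ a) ^ p = 1
    rw [← map_pow]
    refine MulEquiv.ext fun w => Subtype.ext ?_
    show ((a ^ p : A) : G) * w * ((a ^ p : A) : G)⁻¹ = w
    rw [SubmonoidClass.coe_pow, ← mem_centralizer_iff.1 (hA a a.2) w w.2, mul_inv_cancel_right]
  set S := W ⋊[φ.range.subtype] φ.range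
  have hS : IsPGroup p S := by
    obtain ⟨i, hi⟩ := IsPGroup.iff_card.1 (PGroup.elemAb_isPGroup hW)
    obtain ⟨j, hj⟩ := IsPGroup.iff_card.1 hr
    exact IsPGroup.of_card (n := i + j) (by rw [SemidirectProduct.card, hi, hj, pow_add])
  have : Finite S := Finite.of_equiv _ SemidirectProduct.equivProd.symm
  have := hS.isNilpotent
  set ι : W →* S := SemidirectProduct.inl
  have hι : Function.Injective ι := SemidirectProduct.inl_injective
  have key : ι.range ≤ PGroup.bracketTop ι.range := by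
    rintro _ ⟨⟨w, hw⟩, rfl⟩
    have hmem : w ∈ W ∧ ∀ hw : w ∈ W, ι ⟨w, hw⟩ ∈ PGroup.bracketTop ι.range := by
      rw [← h] at hw
      induction hw using closure_induction with
      | mem x hx =>
        obtain ⟨v, hv, a, ha, rfl⟩ := hx
        refine ⟨comm_mem_of_le_normalizer hAW ha hv, fun hx => ?_⟩
        have h1 : ι ⟨⁅v, a⁆, hx⟩ = ⁅ι ⟨v, hv⟩, SemidirectProduct.inr (⟨φ ⟨a, ha⟩, ⟨a, ha⟩, rfl⟩ : φ.range)⁆ := by
          rw [commutatorElement_def (ι ⟨v, hv⟩), mul_assoc, mul_assoc, ← mul_assoc (SemidirectProduct.inr _), ← map_inv ι,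
            ← map_inv SemidirectProduct.inr, ← SemidirectProduct.inl_aut, ← map_mul]
          congr 1
          apply Subtype.ext
          show ⁅v, a⁆ = v * (a * v⁻¹ * a⁻¹)
          rw [commutatorElement_def]; group
        rw [h1]
        exact commutator_mem_commutator (MonoidHom.mem_range.2 ⟨_, rfl⟩) (mem_top _)
      | one => exact ⟨one_mem _, fun hw => by
          rw [show (⟨1, hw⟩ : W) = 1 from rfl, map_one]; exact one_mem _⟩
      | mul x y _ _ hx hy => exact ⟨mul_mem hx.1 hy.1, fun hw => by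
          rw [show (⟨x * y, hw⟩ : W) = ⟨x, hx.1⟩ * ⟨y, hy.1⟩ from rfl, map_mul]
          exact mul_mem (hx.2 _) (hy.2 _)⟩
      | inv x _ hx => exact ⟨inv_mem hx.1, fun hw => by
          rw [show (⟨x⁻¹, hw⟩ : W) = (⟨x, hx.1⟩)⁻¹ from rfl, map_inv]
          exact inv_mem (hx.2 _)⟩
    exact hmem.2 _
  have hbot := PGroup.eq_bot_of_le_bracketTop key
  refine eq_bot_iff.2 fun w hw => ?_
  have h2 : ι ⟨w, hw⟩ ∈ (⊥ : Subgroup S) := hbot ▸ ⟨_, rfl⟩
  rw [mem_bot, ← map_one ι] at h2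
  exact mem_bot.2 (congrArg Subtype.val (hι h2))

/-- A replaced offender is nontrivial on `V` if `A` is. -/
theorem commutator_eq_bot_of_replaced [Fact p.Prime] (hV : IsElementaryAbelian p V)
    (hAV : A ≤ normalizer (V : Set G)) (hA : ∀ a ∈ A, a ^ p ∈ centralizer (V : Set G))
    {U : Subgroup G} (hU : U ≤ V)
    (hX : V ⊓ centralizer ((A ⊓ centralizer ((⁅U, A⁆ : Subgroup G) : Set G) : Subgroup G) : Set G) =
      ⁅U, A⁆ ⊔ (V ⊓ centralizer (A : Set G)))
    (h : ⁅V, A ⊓ centralizer ((⁅U, A⁆ : Subgroup G) : Set G)⁆ = ⊥) : ⁅V, A⁆ = ⊥ := by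
  have hVC := commutator_eq_bot_iff_le_centralizer.1 h
  rw [inf_eq_left.2 hVC] at hX
  set C := V ⊓ centralizer (A : Set G)
  have hW : ⁅V, A⁆ ≤ V := commutator_le_base hAV le_rfl
  refine eq_bot_of_commutator_eq (PGroup.elemAb_mono hV hW) ?_ (fun a ha => centralizer_le hW (hA a ha))
    (le_antisymm (commutator_mono hW le_rfl) ?_)
  · intro a ha
    have key : ∀ a ∈ A, (⁅V, A⁆).map (MulAut.conj a).toMonoidHom ≤ ⁅V, A⁆ := by
      intro a ha
      rw [map_commutator]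
      refine commutator_mono ?_ ?_
      · rintro _ ⟨v, hv, rfl⟩
        exact conj_mem_of_le_normalizer hAV ha hv
      · rintro _ ⟨c, hc, rfl⟩
        exact mul_mem (mul_mem ha hc) (inv_mem ha)
    exact mem_normalizer_iff.2 fun x => ⟨fun hx => key a ha ⟨x, hx, rfl⟩, fun hx => by
      simpa [mul_assoc] using key a⁻¹ (inv_mem ha) ⟨_, hx, rfl⟩⟩
  · have hCA : ⁅C, A⁆ = ⊥ := commutator_eq_bot_iff_le_centralizer.2 inf_le_right
    calc ⁅V, A⁆ = ⁅⁅U, A⁆ ⊔ C, A⁆ := by rw [← hX]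
      _ = ⁅⁅U, A⁆, A⁆ ⊔ ⁅C, A⁆ := commutator_sup_eq hV.1 hAV (commutator_le_base hAV hU) inf_le_left
      _ ≤ ⁅⁅V, A⁆, A⁆ := by
          rw [hCA, sup_bot_eq]
          exact commutator_mono (commutator_mono hU le_rfl) le_rfl

end CfsgLib.Transfer
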