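import Cfsg.Agent.Lib.Transfer.Thompson
import Cfsg.Agent.Lib.Transfer.Sections
import Cfsg.Agent.Lib.Transfer.Factorizable
import Cfsg.Agent.Lib.Transfer.Timmesfeld
import Cfsg.Agent.Lib.PStab.Stable
import Cfsg.Agent.Lib.Cores.Local

/-!
The stable normal closure `W(S)` of `Ω₁(Z(S))`.
-/

namespace CfsgLib.Transfer

open Cfsg Subgroup
open scoped commutatorElement

universe u

variable {p : ℕ}

theorem isQuad_of_eq_bot {G : Type*} [Group G] [Finite G] {P : Subgroup G} {a : G}
    (h : ⁅⁅P, zpowers a⁆, zpowers a⁆ = ⊥) : PStab.IsQuad P a :=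
  PStab.isQuad_of_commutator_eq_bot h (mem_zpowers a)

section
variable {S : Type u} [Group S] [Finite S]

omit [Finite S] in
theorem omegaCenterThompson_characteristic : (omegaCenterThompson p S).Characteristic := by
  have := thompsonSubgroup_characteristic (G := S) p
  refine characteristic_iff_map_le.2 fun e => ?_
  refine (PGroup.map_omegaOne_le p _ _).trans (PGroup.omegaOne_mono ?_)
  refine (map_inf_le _ _ _).trans (inf_le_inf ?_ ?_)
  · exact characteristic_iff_map_le.1 this e
  · rintro _ ⟨x, hx, rfl⟩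
    refine mem_centralizer_iff.2 fun y hy => ?_
    obtain ⟨z, hz, rfl⟩ := (characteristic_iff_map_eq.1 this e).ge hy
    rw [← map_mul, ← map_mul, mem_centralizer_iff.1 hx z hz]

omit [Finite S] in
/-- `Ω₁(Z(J(S)))` maps onto a normal subgroup in each stable embedding. -/
theorem omegaCenterThompson_mem {H : Type u} [Group H] {τ : S →* H} (h : IsStableEmbedding p τ) :
    ((omegaCenterThompson p S).map τ).Normal := by
  obtain ⟨hinj, hfin, -, -, hJ, -⟩ := h
  set J := thompsonSubgroup p S
  set Jb := J.map τ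
  refine ⟨fun x hx g => ?_⟩
  have hc : ∀ y ∈ Jb, g⁻¹ * y * g ∈ Jb := fun y hy => hJ.conj_mem' y hy g
  have hle : (omegaCenterThompson p S).map τ ≤ omegaOne p (Jb ⊓ centralizer (Jb : Set H)) := by
    refine (PGroup.map_omegaOne_le p _ _).trans (PGroup.omegaOne_mono ?_)
    rintro _ ⟨x, ⟨hx1, hx2⟩, rfl⟩
    refine ⟨⟨x, hx1, rfl⟩, mem_centralizer_iff.2 ?_⟩
    rintro _ ⟨y, hy, rfl⟩
    rw [← map_mul, ← map_mul, mem_centralizer_iff.1 hx2 y hy]
  have hge : omegaOne p (Jb ⊓ centralizer (Jb : Set H)) ≤ (omegaCenterThompson p S).map τ := by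
    rw [omegaOne, closure_le]
    rintro _ ⟨⟨⟨x, hx, rfl⟩, hxc⟩, hxp⟩
    refine ⟨x, PGroup.mem_omegaOne ⟨hx, mem_centralizer_iff.2 fun y hy => hinj ?_⟩ (hinj (by rw [map_pow, hxp, map_one])), rfl⟩
    rw [map_mul, map_mul]
    exact mem_centralizer_iff.1 hxc _ ⟨y, hy, rfl⟩
  have : (Jb ⊓ centralizer (Jb : Set H)).Normal := by
    have := hJ
    infer_instance
  exact hge ((PGroup.omegaOne_normal p _).conj_mem x (hle hx) g)

theorem omegaCenterThompson_ge : omegaOne p (center S) ≤ omegaCenterThompson p S :=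
  omegaOne_center_le_omegaCenterThompson

theorem stableNormalClosure_le : stableNormalClosure p S ≤ omegaCenterThompson p S :=
  sInf_le ⟨omegaCenterThompson_ge, fun _ _ _ h => omegaCenterThompson_mem h⟩

omit [Finite S] in
theorem omegaOne_center_le_stableNormalClosure :
    omegaOne p (center S) ≤ stableNormalClosure p S := le_sInf fun _ hW => hW.1

theorem stableNormalClosure_map_normal {H : Type u} [Group H] {τ : S →* H} (h : IsStableEmbedding p τ) :
    ((stableNormalClosure p S).map τ).Normal := by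
  refine ⟨fun x hx g => ?_⟩
  obtain ⟨w, hw, rfl⟩ := hx
  obtain ⟨w₀, -, hw₀⟩ := (omegaCenterThompson_mem h).conj_mem _ ⟨w, stableNormalClosure_le hw, rfl⟩ g
  refine ⟨w₀, mem_sInf.2 fun W hW => ?_, hw₀⟩
  obtain ⟨w₁, hw₁, hw₁'⟩ := (hW.2 H τ h).conj_mem _ ⟨w, mem_sInf.1 hw W hW, rfl⟩ g
  rwa [h.1 (hw₀.trans hw₁'.symm)]

theorem stableNormalClosure_map {S' : Type u} [Group S'] (η : S ≃* S') :
    (stableNormalClosure p S).map η.toMonoidHom = stableNormalClosure p S' := by
  have : Finite S' := Finite.of_equiv _ η.toEquiv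
  have key : ∀ {A B : Type u} [Group A] [Group B] [Finite A] [Finite B] (e : A ≃* B),
      stableNormalClosure p A ≤ (stableNormalClosure p B).comap e.toMonoidHom := by
    intro A B _ _ _ _ e a ha
    rw [mem_comap, stableNormalClosure, mem_sInf]
    rintro W ⟨hW1, hW2⟩
    refine (mem_comap (f := e.toMonoidHom)).1 (mem_sInf.1 ha _ ⟨?_, fun H _ τ hτ => ?_⟩)
    · rw [← map_le_iff_le_comap]
      refine le_trans (PGroup.map_omegaOne_le p _ _) (le_trans (PGroup.omegaOne_mono ?_) hW1)
      rintro _ ⟨x, hx, rfl⟩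
      refine mem_center_iff.2 fun y => ?_
      obtain ⟨z, rfl⟩ := e.surjective y
      show e z * e x = e x * e z
      rw [← map_mul, ← map_mul, mem_center_iff.1 hx z]
    · obtain ⟨hinj, hfin, ⟨P, hP⟩, hc, hJ, hst⟩ := hτ
      set σ := τ.comp e.symm.toMonoidHom with hσ
      have hcomp : ∀ K : Subgroup A, (K.map e.toMonoidHom).map σ = K.map τ := fun K => by
        rw [Subgroup.map_map]
        congr 1
        ext x; simp [σ]
      have hJ' : thompsonSubgroup p B = (thompsonSubgroup p A).map e.toMonoidHom := (thompsonSubgroup_map e).symm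
      have hΩ : omegaCenterThompson p B = (omegaCenterThompson p A).map e.toMonoidHom := by
        rw [omegaCenterThompson_eq_sInf, omegaCenterThompson_eq_sInf]
        refine le_antisymm ?_ ?_
        · intro b hb
          refine ⟨e.symm b, mem_sInf.2 fun A' hA' => ?_, e.apply_symm_apply b⟩
          obtain ⟨x, hx, hxe⟩ := mem_sInf.1 hb _ (maxEA_map e hA')
          rw [← hxe]
          simpa using hx
        · rintro _ ⟨x, hx, rfl⟩
          refine mem_sInf.2 fun B' hB' => ?_
          obtain ⟨y, hy, hye⟩ := mem_sInf.1 hx _ (maxEA_map e.symm hB')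
          rw [← hye]
          simpa using hy
      have hemb : IsStableEmbedding p σ := by
        refine ⟨hinj.comp e.symm.injective, hfin, ⟨P, ?_⟩, hc, ?_, fun V _ hV => hst V ?_⟩
        · rw [hP, hσ, MonoidHom.range_comp, (MonoidHom.range_eq_top (f := e.symm.toMonoidHom)).2 e.symm.surjective, MonoidHom.range_eq_map]
        · rw [hJ', hcomp]; exact hJ
        · rwa [hΩ, hcomp] at hV
      have := hW2 H σ hemb
      convert this using 1
      rw [← hcomp, map_comap_eq_self_of_surjective e.surjective]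
  refine le_antisymm (map_le_iff_le_comap.2 (key η)) fun b hb => ?_
  exact ⟨η.symm b, key η.symm hb, η.apply_symm_apply b⟩

theorem stableNormalClosure_characteristic : (stableNormalClosure p S).Characteristic :=
  characteristic_iff_map_eq.2 fun e => stableNormalClosure_map e

theorem stableNormalClosure_ne_bot [Fact p.Prime] (hS : IsPGroup p S) [Nontrivial S] :
    stableNormalClosure p S ≠ ⊥ := fun h => by
  have hc : center S ≠ ⊥ := by have := hS.isNilpotent; exact Group.IsNilpotent.center_ne_bot S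
  exact PGroup.omegaOne_ne_bot hS hc (le_bot_iff.1 (h ▸ omegaOne_center_le_stableNormalClosure))

theorem stableNormalClosure_comm {x y : S} (hx : x ∈ stableNormalClosure p S)
    (hy : y ∈ stableNormalClosure p S) : x * y = y * x :=
  (mem_centralizer_iff.1 (PGroup.omegaOne_le p _ (stableNormalClosure_le hy)).2 x
    (PGroup.omegaOne_le p _ (stableNormalClosure_le hx)).1)

/-- No element acts quadratically and nontrivially on `W(S)`. -/
theorem centralizes_of_quad [Fact p.Prime] (x : S)
    (hq : PStab.IsQuad (stableNormalClosure p S) x) :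
    ∀ w ∈ stableNormalClosure p S, x * w = w * x := by
  classical
  set W := stableNormalClosure p S with hW
  set P : Subgroup S → Prop := fun U => ∀ a : S, PStab.IsQuad U a → ∀ u ∈ U, a * u = u * a
  obtain ⟨U, ⟨hUW, hUΩ, hUP⟩, hUmax⟩ := Set.Finite.exists_maximal
    (s := {U : Subgroup S | U ≤ W ∧ omegaOne p (center S) ≤ U ∧ P U}) (Set.toFinite _)
    ⟨omegaOne p (center S), omegaOne_center_le_stableNormalClosure, le_rfl, fun a _ u hu =>
      mem_center_iff.1 (PGroup.omegaOne_le p _ hu) a⟩
  suffices hWU : W ≤ U by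
    intro w hw
    exact hUP x (fun y hy => hq y (hUW hy)) w (hWU hw)
  refine sInf_le ⟨hUΩ, fun H _ τ hτ => ?_⟩
  have hWn := stableNormalClosure_map_normal hτ
  obtain ⟨hinj, hfin, ⟨Pτ, hPτ⟩, -, -, hst⟩ := hτ
  set V := normalClosure ((U.map τ : Subgroup H) : Set H) with hV
  have hVW : V ≤ W.map τ := by
    have := hWn
    exact normalClosure_le_normal (map_mono hUW)
  have hVle : V ≤ (omegaCenterThompson p S).map τ := hVW.trans (map_mono stableNormalClosure_le)
  set U' := V.comap τ with hU'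
  have hVU' : U'.map τ = V := by
    rw [hU', map_comap_eq, inf_eq_right]
    exact hVW.trans (map_le_range τ W)
  have hUU' : U ≤ U' := map_le_iff_le_comap.1 subset_normalClosure
  have hU'W : U' ≤ W := fun y hy => by
    obtain ⟨w, hw, hwy⟩ := hVW hy
    rwa [← hinj hwy]
  have hkey : P U' := by
    intro a ha v hv
    have hquad : PStab.IsQuad V (τ a) := by
      intro z hz
      obtain ⟨y, hy, rfl⟩ := hVU'.ge hz
      rw [← map_commutatorElement, ← map_commutatorElement, ha y hy, map_one]
    have hVn : V.Normal := normalClosure_normal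
    have haN : τ a ∈ normalizer (V : Set H) := by rw [normalizer_eq_top]; exact mem_top _
    have hcore := hst V hVle (τ a) ((PStab.isQuad_iff haN).1 hquad)
    set C := centralizer (V : Set H) with hC
    set π := QuotientGroup.mk' C
    have hcomm : ∀ z ∈ V, τ a * z = z * τ a := by
      intro z hz
      have hle : V ≤ centralizer ({τ a} : Set H) := by
        rw [hV, normalClosure, closure_le]
        intro z hz
        rw [Group.mem_conjugatesOfSet_iff] at hz
        obtain ⟨_, ⟨u, hu, rfl⟩, hconj⟩ := hz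
        obtain ⟨h, rfl⟩ := isConj_iff.1 hconj
        rw [SetLike.mem_coe, mem_centralizer_singleton_iff]
        -- the conjugate of `τ a` lies in the core, so has a representative in the image of `S`
        have h1 : π (h⁻¹ * τ a * h) ∈ pCore p (H ⧸ C) := by
          rw [map_mul, map_mul, map_inv]
          exact (inferInstance : (pCore p (H ⧸ C)).Normal).conj_mem' _ hcore _
        obtain ⟨b, hb, hbe⟩ := Cores.pCore_le_sylow (Pτ.mapSurjective (f := π) (QuotientGroup.mk'_surjective C)) h1
        rw [hPτ] at hb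
        obtain ⟨s, rfl⟩ := hb
        obtain ⟨c, hc, hcs⟩ : ∃ c ∈ C, τ s * c = h⁻¹ * τ a * h := (QuotientGroup.mk'_eq_mk' _).1 hbe
        have hact : ∀ z ∈ V, h⁻¹ * τ a * h * z * (h⁻¹ * τ a * h)⁻¹ = τ s * z * (τ s)⁻¹ := by
          intro z hz
          rw [← hcs]
          calc τ s * c * z * (τ s * c)⁻¹ = τ s * (c * z) * c⁻¹ * (τ s)⁻¹ := by group
            _ = τ s * (z * c) * c⁻¹ * (τ s)⁻¹ := by rw [mem_centralizer_iff.1 hc z hz]
            _ = τ s * z * (τ s)⁻¹ := by group
        have hq2 : PStab.IsQuad V (h⁻¹ * τ a * (h⁻¹)⁻¹) :=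
          PStab.isQuad_conj (by rw [normalizer_eq_top]; exact mem_top _) hquad
        rw [inv_inv] at hq2
        have hsquad : PStab.IsQuad U s := by
          intro y hy
          apply hinj
          have hyV : τ y ∈ V := subset_normalClosure ⟨y, hy, rfl⟩
          have hact' : ∀ z ∈ V, ⁅z, τ s⁆ = ⁅z, h⁻¹ * τ a * h⁆ := by
            intro z hz
            have h2 := hact z⁻¹ (inv_mem hz)
            calc ⁅z, τ s⁆ = z * (τ s * z⁻¹ * (τ s)⁻¹) := by rw [commutatorElement_def]; group
              _ = z * (h⁻¹ * τ a * h * z⁻¹ * (h⁻¹ * τ a * h)⁻¹) := by rw [h2]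
              _ = ⁅z, h⁻¹ * τ a * h⁆ := by rw [commutatorElement_def]; group
          have hmem : ⁅τ y, h⁻¹ * τ a * h⁆ ∈ V := by
            rw [commutatorElement_def]
            have := hVn.conj_mem _ (inv_mem hyV) (h⁻¹ * τ a * h)
            convert mul_mem hyV this using 1
            group
          rw [map_commutatorElement, map_commutatorElement, map_one, hact' _ hyV, hact' _ hmem]
          exact hq2 _ hyV
        have hsu : s * u = u * s := hUP s hsquad u hu
        have huV : τ u ∈ V := subset_normalClosure ⟨u, hu, rfl⟩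
        have h3 : h⁻¹ * τ a * h * τ u * (h⁻¹ * τ a * h)⁻¹ = τ u := by
          rw [hact _ huV, ← map_mul, hsu, map_mul, mul_inv_cancel_right]
        calc h * τ u * h⁻¹ * τ a = h * (h⁻¹ * τ a * h * τ u * (h⁻¹ * τ a * h)⁻¹) * h⁻¹ * τ a := by rw [h3]
          _ = τ a * (h * τ u * h⁻¹) := by group
      exact (mem_centralizer_singleton_iff.1 (hle hz)).symm
    apply hinj
    rw [map_mul, map_mul]
    exact hcomm _ hv
  have heq : U' ≤ U := hUmax ⟨hU'W, hUΩ.trans hUU', hkey⟩ hUU'
  have hVeq : U.map τ = V := le_antisymm subset_normalClosure (hVU'.ge.trans (map_mono heq))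
  rw [hVeq]
  exact normalClosure_normal

end

/-- In an action-`p`-stable group with `C(O_p) ≤ O_p` the subgroup `W(S)` is normal. -/
theorem stableNormalClosure_normal {G : Type*} [Group G] [Finite G] [Fact p.Prime]
    (hst : IsActionPStable p G) (hc : centralizer (pCore p G : Set G) ≤ pCore p G) (S : Sylow p G) :
    (((stableNormalClosure p ↥(S : Subgroup G)).map (S : Subgroup G).subtype)).Normal := by
  classical
  set O := pCore p G with hO
  set W₀ := stableNormalClosure p ↥(S : Subgroup G) with hW₀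
  set W := W₀.map (S : Subgroup G).subtype with hW
  have := stableNormalClosure_characteristic (p := p) (S := ↥(S : Subgroup G))
  have hWS : W ≤ (S : Subgroup G) := map_subtype_le _
  have hOS : O ≤ (S : Subgroup G) := Cores.pCore_le_sylow S
  have hSW : (S : Subgroup G) ≤ normalizer (W : Set G) := by
    rw [← normal_subgroupOf_iff_le_normalizer hWS, hW, subgroupOf,
      comap_map_eq_self_of_injective (S : Subgroup G).subtype_injective]
    infer_instance
  have hWc : ∀ a ∈ W, ∀ b ∈ W, a * b = b * a := by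
    rintro _ ⟨a, ha, rfl⟩ _ ⟨b, hb, rfl⟩
    exact congrArg Subtype.val (stableNormalClosure_comm ha hb)
  -- `W ≤ O_p(G)`
  have hWO : W ≤ O := by
    intro a ha
    have hquad : ⁅⁅O, zpowers a⁆, zpowers a⁆ = ⊥ := by
      rw [commutator_eq_bot_iff_le_centralizer]
      have h1 : ⁅O, zpowers a⁆ ≤ W := by
        refine (commutator_mono hOS (zpowers_le.2 ha)).trans ?_
        rw [commutator_le]
        intro s hs w hw
        rw [commutatorElement_def]
        exact mul_mem ((mem_normalizer_iff.1 (hSW hs) w).1 hw) (inv_mem hw)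
      refine h1.trans fun b hb => mem_centralizer_iff.2 ?_
      rintro _ ⟨i, rfl⟩
      exact hWc _ (zpow_mem ha i) b hb
    obtain ⟨D, hDn, hKD, ⟨k, hk⟩, haD⟩ := hst.2.1 a (hquad.le.trans bot_le)
    set K := sectionKernel O ((frattini ↥O).map O.subtype) with hK
    have hKp : IsPGroup p K := by
      rintro ⟨x, hx⟩
      obtain ⟨b, c, rfl, hb, hc', ⟨j, hj⟩, hcop⟩ := Cores.exists_pow_mul_pow p x
      refine ⟨j, Subtype.ext ?_⟩
      have hcK : c ∈ K := zpowers_le.2 hx hc'
      have hc1 : c = 1 := by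
        have h1 : c ∈ centralizer (O : Set G) := by
          refine PStab.mem_centralizer_of_frattini (Cores.isPGroup_pCore p)
            (by rw [normalizer_eq_top]; exact mem_top _) hcop fun y hy => ?_
          rw [← QuotientGroup.eq_one_iff]
          show QuotientGroup.mk' ((frattini ↥O).map O.subtype) ⁅c, y⁆ = 1
          rw [map_commutatorElement, commutatorElement_eq_one_iff_mul_comm]
          exact (mem_centralizer_iff.1 hcK _ (mem_map_of_mem _ hy)).symm
        obtain ⟨i, hi⟩ := IsPGroup.iff_orderOf.1 (Cores.isPGroup_pCore p) (⟨c, hc h1⟩ : O)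
        rw [orderOf_mk] at hi
        exact orderOf_eq_one_iff.1 (eq_one_of_coprime_of_pow hcop (k := i) hi.dvd)
      show (b * c) ^ p ^ j = 1
      rw [hc1, mul_one, ← hj, pow_orderOf_eq_one]
    obtain ⟨e, he⟩ := IsPGroup.iff_card.1 hKp
    have hDp : IsPGroup p D := IsPGroup.of_card (n := e + k) (by
      rw [← (K.subgroupOf D).card_mul_index, Nat.card_congr (subgroupOfEquivOfLe hKD).toEquiv, he, pow_add]
      congr 1)
    exact Cores.le_pCore hDp haD
  -- the normal closure is elementary abelian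
  set B := normalClosure (W : Set G) with hB
  have hBO : B ≤ O := normalClosure_le_normal hWO
  have hBS : B ≤ (S : Subgroup G) := hBO.trans hOS
  have hconj : ∀ g h : G, ∀ a ∈ W, ∀ b ∈ W, g * a * g⁻¹ * (h * b * h⁻¹) = h * b * h⁻¹ * (g * a * g⁻¹) := by
    intro g h a ha b hb
    set w := g⁻¹ * h * b * (g⁻¹ * h)⁻¹ with hw
    suffices a * w = w * a by
      calc g * a * g⁻¹ * (h * b * h⁻¹) = g * (a * w) * g⁻¹ := by rw [hw]; group
        _ = g * (w * a) * g⁻¹ := by rw [this]
        _ = h * b * h⁻¹ * (g * a * g⁻¹) := by rw [hw]; group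
    have hn : ∀ x ∈ W, (g⁻¹ * h) * x * (g⁻¹ * h)⁻¹ ∈ O := fun x hx =>
      (inferInstance : (pCore p G).Normal).conj_mem x (hWO hx) _
    have hwO : w ∈ O := hn b hb
    obtain ⟨a₀, ha₀, rfl⟩ := ha
    set w₀ : ↥(S : Subgroup G) := ⟨w, hOS hwO⟩ with hw₀
    have hq : PStab.IsQuad W₀ w₀ := by
      intro z hz
      apply Subtype.ext
      show ⁅⁅(z : G), w⁆, w⁆ = 1
      have hzW : (z : G) ∈ W := ⟨z, hz, rfl⟩
      have hzO : (z : G) ∈ O := hWO hzW
      set u := g⁻¹ * h
      have h1 : ⁅(z : G), w⁆ = u * ⁅u⁻¹ * (z : G) * u, b⁆ * u⁻¹ := by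
        simp only [hw, commutatorElement_def, u]; group
      have h2 : ⁅u⁻¹ * (z : G) * u, b⁆ ∈ W := by
        rw [commutatorElement_def]
        have h3 : u⁻¹ * (z : G) * u ∈ O := (inferInstance : (pCore p G).Normal).conj_mem' _ hzO u
        exact mul_mem ((mem_normalizer_iff.1 (hSW (hOS h3)) b).1 hb) (inv_mem hb)
      rw [commutatorElement_eq_one_iff_mul_comm, h1, hw]
      calc u * ⁅u⁻¹ * (z : G) * u, b⁆ * u⁻¹ * (u * b * u⁻¹) = u * (⁅u⁻¹ * (z : G) * u, b⁆ * b) * u⁻¹ := by group
        _ = u * (b * ⁅u⁻¹ * (z : G) * u, b⁆) * u⁻¹ := by rw [hWc _ h2 _ hb]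
        _ = u * b * u⁻¹ * (u * ⁅u⁻¹ * (z : G) * u, b⁆ * u⁻¹) := by group
    exact (congrArg Subtype.val (centralizes_of_quad w₀ hq a₀ ha₀)).symm
  have hBc : IsMulCommutative B := isMulCommutative_closure (by
    intro x hx y hy
    rw [Group.mem_conjugatesOfSet_iff] at hx hy
    obtain ⟨a, ha, hxa⟩ := hx
    obtain ⟨b, hb, hyb⟩ := hy
    obtain ⟨g, rfl⟩ := isConj_iff.1 hxa
    obtain ⟨h, rfl⟩ := isConj_iff.1 hyb
    exact hconj g h a ha b hb)
  have hWe : ∀ a ∈ W, a ^ p = 1 := by
    rintro _ ⟨a, ha, rfl⟩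
    rw [← map_pow, ((PGroup.mem_omegaOne_iff_of_comm (K := thompsonSubgroup p ↥(S : Subgroup G) ⊓
      centralizer (thompsonSubgroup p ↥(S : Subgroup G) : Set ↥(S : Subgroup G)))
      (fun x hx y hy => mem_centralizer_iff.1 hy.2 x hx.1)).1 (stableNormalClosure_le ha)).2, map_one]
  have hBe : IsElementaryAbelian p B := by
    refine PGroup.isElementaryAbelian_mk (fun x hx y hy => congrArg Subtype.val (hBc.is_comm.comm ⟨x, hx⟩ ⟨y, hy⟩)) fun x hx => ?_
    suffices x ∈ B ∧ x ^ p = 1 from this.2
    induction hx using closure_induction with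
    | mem y hy =>
      refine ⟨subset_closure hy, ?_⟩
      rw [Group.mem_conjugatesOfSet_iff] at hy
      obtain ⟨a, ha, hya⟩ := hy
      obtain ⟨g, rfl⟩ := isConj_iff.1 hya
      rw [conj_pow, hWe a ha, mul_one, mul_inv_cancel]
    | one => exact ⟨one_mem _, one_pow p⟩
    | mul y z _ _ hy hz =>
      refine ⟨mul_mem hy.1 hz.1, ?_⟩
      have hc' : Commute y z := congrArg Subtype.val (hBc.is_comm.comm ⟨y, hy.1⟩ ⟨z, hz.1⟩)
      rw [hc'.mul_pow, hy.2, hz.2, one_mul]
    | inv y _ hy => exact ⟨inv_mem hy.1, by rw [inv_pow, hy.2, inv_one]⟩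
  have hBn : B.Normal := normalClosure_normal
  set C := centralizer (B : Set G) with hC
  -- every largest elementary abelian subgroup of `S` centralizes `B`
  have hA : ∀ A ∈ maxElementaryAbelianSubgroups p ↥(S : Subgroup G), A.map (S : Subgroup G).subtype ≤ C := by
    intro A hA
    by_contra hne
    set BS := B.subgroupOf (S : Subgroup G) with hBS'
    have hBSe : IsElementaryAbelian p BS := PGroup.elemAb_subgroupOf hBe
    have hAN : A ≤ normalizer (BS : Set ↥(S : Subgroup G)) := by
      have : BS.Normal := hBn.comap _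
      rw [normalizer_eq_top]; exact le_top
    obtain ⟨hAe, hAmax⟩ := hA
    set X := ⁅BS, A⁆ with hX
    have hXB : X ≤ BS := commutator_le_base hAN le_rfl
    have hAc : ∀ a ∈ A, ∀ b ∈ A, a * b = b * a := fun a ha b hb => PGroup.elemAb_comm hAe ha hb
    have hmaxv : ∀ D ≤ A, offVal BS D ≤ offVal BS A := by
      intro D hD
      have hS' : IsElementaryAbelian p (D ⊔ (BS ⊓ centralizer (D : Set ↥(S : Subgroup G))) : Subgroup _) :=
        PGroup.elemAb_sup (PGroup.elemAb_mono hAe hD) (PGroup.elemAb_mono hBSe inf_le_left)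
          fun a ha b hb => mem_centralizer_iff.1 hb.2 a ha
      refine (PGroup.card_mul_card_le_sup_inf D (BS ⊓ centralizer (D : Set ↥(S : Subgroup G)))).trans
        (Nat.mul_le_mul (hAmax _ hS') (card_le_of_le fun y hy => ?_))
      exact ⟨hy.2.1, mem_centralizer_iff.2 fun z hz => hAc z hz y (hD hy.1)⟩
    have hab : ⁅A, A⁆ ≤ centralizer (BS : Set ↥(S : Subgroup G)) := commutator_le.2 fun a ha b hb => by
      rw [commutatorElement_eq_one_iff_mul_comm.2 (hAc a ha b hb)]; exact one_mem _
    have hpow : ∀ a ∈ A, a ^ p ∈ centralizer (BS : Set ↥(S : Subgroup G)) := fun a ha => by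
      rw [hAe.2 a ha]; exact one_mem _
    obtain ⟨hX1, hf⟩ := replace_eq hBSe.1 hAN hab hmaxv BS le_rfl
    set D := A ⊓ centralizer (X : Set ↥(S : Subgroup G))
    have hDne : ⁅BS, D⁆ ≠ ⊥ := fun hb => hne (by
      have h0 := commutator_eq_bot_of_replaced hBSe hAN hpow le_rfl hX1 hb
      rw [commutator_eq_bot_iff_le_centralizer] at h0
      rintro _ ⟨a, ha, rfl⟩
      refine mem_centralizer_iff.2 fun y hy => ?_
      exact congrArg Subtype.val (mem_centralizer_iff.1 (h0 (show (⟨y, hBS hy⟩ : ↥(S : Subgroup G)) ∈ BS from hy)) a ha).symm)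
    -- `D` acts quadratically, so lies in the preimage of the core
    set π := QuotientGroup.mk' C
    set E := (pCore p (G ⧸ C)).comap π with hE
    have hEn : E.Normal := Normal.comap inferInstance π
    have hDE : D.map (S : Subgroup G).subtype ≤ E := by
      rintro _ ⟨d, hd, rfl⟩
      refine mem_comap.2 (hst.1 B hBe (d : G) ((PStab.isQuad_iff (by rw [normalizer_eq_top]; exact mem_top _)).1 ?_))
      intro y hy
      have h1 : ⁅(⟨y, hBS hy⟩ : ↥(S : Subgroup G)), d⁆ ∈ X :=
        commutator_mem_commutator (show (⟨y, hBS hy⟩ : ↥(S : Subgroup G)) ∈ BS from hy) hd.1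
      have h2 := mem_centralizer_iff.1 hd.2 _ h1
      exact congrArg Subtype.val (commutatorElement_eq_one_iff_mul_comm.2 h2)
    obtain ⟨T, hT⟩ := exists_sylow_map_eq_inf E S
    set N := normalizer (((S : Subgroup G) ⊓ E : Subgroup G) : Set G) with hN
    have htop : N ⊔ E = ⊤ := by
      have := Sylow.normalizer_sup_eq_top T
      rwa [hT] at this
    -- `B` is generated by the conjugates of `W` under the normalizer
    have hCsup : E ≤ C ⊔ ((S : Subgroup G) ⊓ E) := by
      intro y hy
      obtain ⟨s, hs, hse⟩ := Cores.pCore_le_sylow (S.mapSurjective (f := π) (QuotientGroup.mk'_surjective C)) hy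
      obtain ⟨c, hc', hcs⟩ : ∃ c ∈ C, s * c = y := (QuotientGroup.mk'_eq_mk' _).1 hse
      have hsE : s ∈ E := by
        rw [hE, mem_comap, hse]
        exact hy
      rw [← hcs]
      exact mul_mem (mem_sup_right ⟨hs, hsE⟩) (mem_sup_left hc')
    have hNC : N ⊔ C = ⊤ := eq_top_iff.2 (htop.ge.trans (sup_le le_sup_left
      (hCsup.trans (sup_le le_sup_right (le_normalizer.trans le_sup_left)))))
    -- some largest elementary abelian subgroup inside `S ∩ E` moves `B`
    set D' := X ⊔ D
    have hD'e : IsElementaryAbelian p D' :=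
      PGroup.elemAb_sup (PGroup.elemAb_mono hBSe hXB) (PGroup.elemAb_mono hAe inf_le_left)
        fun a ha b hb => mem_centralizer_iff.1 hb.2 a ha
    have hCA : BS ⊓ centralizer (A : Set ↥(S : Subgroup G)) ≤ A := fun y hy => by
      have hS'' : IsElementaryAbelian p (A ⊔ (BS ⊓ centralizer (A : Set ↥(S : Subgroup G))) : Subgroup _) :=
        PGroup.elemAb_sup hAe (PGroup.elemAb_mono hBSe inf_le_left)
          fun a ha b hb => mem_centralizer_iff.1 hb.2 a ha
      exact (eq_of_le_of_card_ge le_sup_left (hAmax _ hS'')).ge (mem_sup_right hy)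
    have hD'card : Nat.card A ≤ Nat.card D' := by
      set CA := BS ⊓ centralizer (A : Set ↥(S : Subgroup G))
      have hXD : X ⊓ CA ≤ D := fun y hy =>
        ⟨hCA hy.2, mem_centralizer_iff.2 fun z hz => PGroup.elemAb_comm hBSe (hXB hz) (hXB hy.1)⟩
      have hXD' : X ⊓ D ≤ CA := fun y hy =>
        ⟨hXB hy.1, mem_centralizer_iff.2 fun z hz => hAc z hz y hy.2.1⟩
      have heq : X ⊓ D = X ⊓ CA := le_antisymm (le_inf inf_le_left hXD') (le_inf inf_le_left hXD)
      have hcm : ∀ (P Q : Subgroup ↥(S : Subgroup G)), (∀ a ∈ P, ∀ b ∈ Q, a * b = b * a) →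
          Nat.card ↥(P ⊔ Q) * Nat.card ↥(P ⊓ Q) = Nat.card P * Nat.card Q := by
        intro P Q h
        have hQN : Q ≤ normalizer (P : Set ↥(S : Subgroup G)) :=
          le_trans (fun b hb => mem_centralizer_iff.2 fun a ha => h a ha b hb) (centralizer_le_normalizer _)
        refine le_antisymm ?_ (PGroup.card_mul_card_le_sup_inf P Q)
        refine le_of_eq ((congrArg (· * Nat.card ↥(P ⊓ Q)) ?_).trans (PGroup.card_setMul_mul_card_inf P Q))
        exact Nat.card_congr (Equiv.setCongr (coe_mul_of_right_le_normalizer_left _ _ hQN))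
      have e1 := hcm X D (fun a ha b hb => mem_centralizer_iff.1 hb.2 a ha)
      have e2 := hcm X CA (fun a ha b hb => PGroup.elemAb_comm hBSe (hXB ha) hb.1)
      have e3 : Nat.card D * Nat.card ↥(X ⊔ CA) = Nat.card A * Nat.card CA := by
        rw [← hX1]; exact hf
      rw [heq] at e1
      refine le_of_eq (Nat.eq_of_mul_eq_mul_right (Nat.mul_pos (Nat.card_pos (α := ↥(X ⊓ CA)))
        (Nat.card_pos (α := ↥(X ⊔ CA)))) ?_)
      calc Nat.card A * (Nat.card ↥(X ⊓ CA) * Nat.card ↥(X ⊔ CA))
          = Nat.card A * (Nat.card X * Nat.card CA) := by rw [← e2]; ring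
        _ = Nat.card X * (Nat.card D * Nat.card ↥(X ⊔ CA)) := by rw [e3]; ring
        _ = Nat.card ↥(X ⊔ D) * Nat.card ↥(X ⊓ CA) * Nat.card ↥(X ⊔ CA) := by rw [e1]; ring
        _ = _ := by ring
    have hD'E : ∀ y ∈ D', ((y : ↥(S : Subgroup G)) : G) ∈ (S : Subgroup G) ⊓ E := by
      intro y hy
      refine ⟨y.2, ?_⟩
      have hle : D' ≤ E.comap (S : Subgroup G).subtype := by
        refine sup_le (fun z hz => ?_) (fun z hz => hDE ⟨z, hz, rfl⟩)
        show (z : G) ∈ E
        rw [hE, mem_comap, show π (z : G) = 1 from (QuotientGroup.eq_one_iff _).2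
          (mem_centralizer_iff.2 fun b hb => congrArg Subtype.val (hBc.is_comm.comm ⟨b, hb⟩ ⟨_, hXB hz⟩))]
        exact one_mem _
      exact hle hy
    have hBD : ∀ n ∈ N, ∀ w ∈ W, n * w * n⁻¹ ∈ D'.map (S : Subgroup G).subtype := by
      intro n hn w hw
      set F := (D'.map (S : Subgroup G).subtype).map (MulAut.conj n⁻¹).toMonoidHom
      have hFS : F ≤ (S : Subgroup G) := by
        rintro _ ⟨_, ⟨y, hy, rfl⟩, rfl⟩
        exact ((mem_normalizer_iff.1 (inv_mem hn) _).1 (hD'E y hy)).1
      have hFmax : F.subgroupOf (S : Subgroup G) ∈ maxElementaryAbelianSubgroups p ↥(S : Subgroup G) := by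
        refine ⟨PGroup.elemAb_subgroupOf (PGroup.elemAb_map (PGroup.elemAb_map hD'e _) _), fun Y hY => ?_⟩
        rw [Nat.card_congr (subgroupOfEquivOfLe hFS).toEquiv, card_map_of_injective (MulAut.conj n⁻¹).injective,
          card_map_of_injective (S : Subgroup G).subtype_injective]
        exact (hAmax Y hY).trans hD'card
      obtain ⟨w₀, hw₀, rfl⟩ := hw
      have h1 := mem_sInf.1 (omegaCenterThompson_eq_sInf.le (stableNormalClosure_le hw₀)) _ hFmax
      obtain ⟨y, hy, hye⟩ := (h1 : (w₀ : G) ∈ F)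
      have : n * (S : Subgroup G).subtype w₀ * n⁻¹ = y := by
        show n * (w₀ : G) * n⁻¹ = y
        rw [show (w₀ : G) = _ from hye.symm]
        show n * (n⁻¹ * y * (n⁻¹)⁻¹) * n⁻¹ = y
        group
      rw [this]; exact hy
    have hBle : B ≤ D'.map (S : Subgroup G).subtype := by
      rw [hB, normalClosure, closure_le]
      intro z hz
      rw [Group.mem_conjugatesOfSet_iff] at hz
      obtain ⟨w, hw, hconj'⟩ := hz
      obtain ⟨g, rfl⟩ := isConj_iff.1 hconj'
      have hgm : g ∈ N ⊔ C := hNC ▸ mem_top g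
      have hCn : C.Normal := inferInstance
      rw [← SetLike.mem_coe, mul_normal] at hgm
      obtain ⟨n, hn, c, hc', rfl⟩ := hgm
      have hcw : c * w * c⁻¹ = w := by
        rw [← mem_centralizer_iff.1 hc' w (subset_normalClosure hw), mul_inv_cancel_right]
      rw [SetLike.mem_coe, show n * c * w * (n * c)⁻¹ = n * (c * w * c⁻¹) * n⁻¹ by group, hcw]
      exact hBD n hn w hw
    apply hDne
    rw [commutator_eq_bot_iff_le_centralizer]
    intro y hy
    refine mem_centralizer_iff.2 fun d hd => ?_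
    obtain ⟨y', hy', hye⟩ := hBle (show (y : G) ∈ B from hy)
    rw [← Subtype.ext (show ((y' : ↥(S : Subgroup G)) : G) = y from hye)]
    exact PGroup.elemAb_comm hD'e (mem_sup_right hd) hy'
  -- so `J(S)` centralizes `B`
  set J := thompsonSubgroupOf p (S : Subgroup G) with hJ
  have hJC : J ≤ C := map_le_iff_le_comap.2 (sSup_le fun A hA' => map_le_iff_le_comap.1 (hA A hA'))
  obtain ⟨T, hT⟩ := exists_sylow_map_eq_inf C S
  have hJT : thompsonSubgroupOf p ((S : Subgroup G) ⊓ C) = J :=
    thompsonSubgroupOf_eq_of_le inf_le_left (le_inf (thompsonSubgroupOf_le p _) hJC)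
  set N := normalizer (J : Set G) with hN
  have htop : N ⊔ C = ⊤ := by
    refine eq_top_iff.2 (le_trans (le_of_eq ?_) (sup_le_sup_right (a := normalizer (((S : Subgroup G) ⊓ C : Subgroup G) : Set G)) ?_ C))
    · rw [← hT]; exact (Sylow.normalizer_sup_eq_top T).symm
    · intro n hn
      refine mem_normalizer_fintype fun y hy => ?_
      have hmap := thompsonSubgroupOf_map (p := p) (MulAut.conj n).toMonoidHom
        (S := (S : Subgroup G) ⊓ C) ((MulAut.conj n).injective.injOn)
      have hfix : ((S : Subgroup G) ⊓ C).map (MulAut.conj n).toMonoidHom = (S : Subgroup G) ⊓ C := by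
        refine eq_of_le_of_card_ge ?_ (le_of_eq (card_map_of_injective (MulAut.conj n).injective).symm)
        rintro _ ⟨z, hz, rfl⟩
        exact (mem_normalizer_iff.1 hn z).1 hz
      rw [hfix, hJT] at hmap
      exact hmap.le ⟨y, hy, rfl⟩
  -- the stable embedding into `N`
  have hSN : (S : Subgroup G) ≤ N := by
    rw [hN, ← normal_subgroupOf_iff_le_normalizer (thompsonSubgroupOf_le p _)]
    rw [thompsonSubgroupOf, subgroupOf, comap_map_eq_self_of_injective (S : Subgroup G).subtype_injective]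
    exact thompsonSubgroup_normal_inst' p
  set τ : ↥(S : Subgroup G) →* N := inclusion hSN
  have hJτ : (thompsonSubgroup p ↥(S : Subgroup G)).map τ = J.subgroupOf N := by
    ext ⟨y, hy⟩
    constructor
    · rintro ⟨z, hz, hzy⟩
      exact ⟨z, hz, congrArg Subtype.val hzy⟩
    · rintro ⟨z, hz, hzy⟩
      exact ⟨z, hz, Subtype.ext hzy⟩
  have hemb : IsStableEmbedding p τ := by
    refine ⟨inclusion_injective hSN, inferInstance, ⟨S.subtype hSN, ?_⟩, ?_, ?_, fun V _ hV => ?_⟩
    · rw [Sylow.coe_subtype]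
      ext ⟨y, hy⟩
      exact ⟨fun h => ⟨⟨y, h⟩, rfl⟩, fun ⟨z, hz⟩ => mem_subgroupOf.2 (by rw [← hz]; exact z.2)⟩
    · have hJp : IsPGroup p J := S.2.to_le (thompsonSubgroupOf_le p _)
      obtain ⟨h1, h2⟩ := Cores.pPrimeCore_eq_bot_and_layer_eq_bot_normalizer hJp hc
      exact (Cores.centralizer_pCore_le_iff h1).2 h2
    · rw [hJτ]; exact normal_in_normalizer
    · refine hst.2.2 S V ?_
      refine (map_mono hV).trans ?_
      rw [Subgroup.map_map]
      rfl
  have hWn := stableNormalClosure_map_normal hemb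
  refine normalizer_eq_top_iff.1 (eq_top_iff.2 (htop.ge.trans (sup_le ?_ ?_)))
  · intro n hn
    refine mem_normalizer_fintype fun y hy => ?_
    obtain ⟨w, hw, rfl⟩ := hy
    obtain ⟨w', hw', hwe⟩ := hWn.conj_mem _ ⟨w, hw, rfl⟩ (⟨n, hn⟩ : N)
    exact ⟨w', hw', congrArg Subtype.val hwe⟩
  · exact (centralizer_le subset_normalClosure).trans (centralizer_le_normalizer _)

end CfsgLib.Transfer
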