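import Cfsg.Agent.Lib.Transfer.Plane
import Cfsg.Agent.Lib.Transfer.StableClosure

/-!
Quadratic action on elementary abelian groups and stability in the action sense.
-/

namespace CfsgLib.Transfer

open Cfsg Subgroup
open scoped commutatorElement MatrixGroups

variable {p : ℕ} [hp : Fact p.Prime]

local notation "KK" => AlgebraicClosure (ZMod p)

theorem exists_plane_of_mulAut_aux {V : Type*} [CommGroup V] [Finite V] [Module (ZMod p) (Additive V)]
    {X : Type*} [Group X] [Finite X] (ψ : X →* MulAut V) {A B : X}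
    (hgen : closure ({A, B} : Set X) = ⊤)
    (hA : ∀ v, ψ A (ψ A v) * v = ψ A v * ψ A v) (hB : ∀ v, ψ B (ψ B v) * v = ψ B v * ψ B v)
    {h : X} (hh : ∀ k : ℕ, ψ (h ^ p ^ k) ≠ 1) :
    ∃ (ρ : X →* Matrix (Fin 2) (Fin 2) KK) (c : KK), StdPair ρ A B c ∧ ∀ k : ℕ, ρ (h ^ p ^ k) ≠ 1 := by
  let lin : X → (Additive V →ₗ[ZMod p] Additive V) := fun g =>
    AddMonoidHom.toZModLinearMap p
      { toFun := fun x => Additive.ofMul (ψ g (Additive.toMul x))
        map_zero' := by rw [toMul_zero, map_one, ofMul_one]
        map_add' := fun x y => by rw [toMul_add, map_mul, ofMul_mul] }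
  have linapp : ∀ g (x : Additive V), lin g x = Additive.ofMul (ψ g (Additive.toMul x)) :=
    fun g x => rfl
  let φ : X →* Module.End (ZMod p) (Additive V) :=
    { toFun := lin
      map_one' := LinearMap.ext fun x => by rw [linapp, map_one]; simp
      map_mul' := fun a b => LinearMap.ext fun x => by
        rw [Module.End.mul_apply, linapp, linapp, linapp, map_mul]; simp }
  have φapp : ∀ g (x : Additive V), (φ g : Additive V →ₗ[ZMod p] Additive V) x =
      Additive.ofMul (ψ g (Additive.toMul x)) := fun g x => rfl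
  have quad : ∀ C : X, (∀ v, ψ C (ψ C v) * v = ψ C v * ψ C v) → (φ C - 1) * (φ C - 1) = 0 := by
    intro C hC
    refine LinearMap.ext fun x => ?_
    have e := congrArg Additive.ofMul (hC (Additive.toMul x))
    simp only [ofMul_mul, ofMul_toMul] at e
    simp only [Module.End.mul_apply, LinearMap.sub_apply, Module.End.one_apply, map_sub,
      LinearMap.zero_apply]
    rw [φapp C (φ C x), φapp C x, toMul_ofMul]
    linear_combination (norm := abel) e
  set b := Module.finBasis (ZMod p) (Additive V)
  set n := Module.finrank (ZMod p) (Additive V)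
  let R : Module.End (ZMod p) (Additive V) →+* Module.End KK (Fin n → KK) :=
    (Matrix.toLinAlgEquiv' (R := KK) (n := Fin n)).toRingEquiv.toRingHom.comp
      ((algebraMap (ZMod p) KK).mapMatrix.comp (LinearMap.toMatrixAlgEquiv b).toRingEquiv.toRingHom)
  have hR : Function.Injective R :=
    (Matrix.toLinAlgEquiv' (R := KK) (n := Fin n)).injective.comp
      ((Matrix.map_injective (algebraMap (ZMod p) KK).injective).comp (LinearMap.toMatrixAlgEquiv b).injective)
  let φK : X →* Module.End KK (Fin n → KK) := R.toMonoidHom.comp φ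
  have e1 : ∀ g, φK g - 1 = R (φ g - 1) := fun g => by rw [map_sub, map_one]; rfl
  refine exists_plane_of_elem hgen h n (Fin n → KK) φK (by simp)
    (by rw [e1, ← map_mul, quad A hA, map_zero]) (by rw [e1, ← map_mul, quad B hB, map_zero])
    ⟨_, minpoly.ne_zero (Algebra.IsIntegral.isIntegral _), IsAlgClosed.splits _, minpoly.aeval _ _⟩
    fun k hk => hh k ?_
  have h1 : φ (h ^ p ^ k) = 1 := hR (by rw [map_one]; exact hk)
  refine MulEquiv.ext fun v => ?_
  exact congrArg Additive.toMul (LinearMap.congr_fun h1 (Additive.ofMul v))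

variable {G : Type*} [Group G] [Finite G]

/-- An element of a group generated by two quadratic elements is seen on a standard plane. -/
theorem exists_plane_of_quad_group {V : Subgroup G} (hV : IsElementaryAbelian p V) {a b : G}
    (ha : a ∈ normalizer (V : Set G)) (hb : b ∈ normalizer (V : Set G))
    (haq : PStab.IsQuad V a) (hbq : PStab.IsQuad V b) {h : G} (hh : h ∈ closure ({a, b} : Set G))
    (hne : ∀ k : ℕ, h ^ p ^ k ∉ centralizer (V : Set G)) :
    ∃ (ρ : ↥(closure ({a, b} : Set G)) →* Matrix (Fin 2) (Fin 2) KK) (c : KK),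
      StdPair ρ ⟨a, subset_closure (Or.inl rfl)⟩ ⟨b, subset_closure (Or.inr rfl)⟩ c ∧
        ∀ k : ℕ, ρ ((⟨h, hh⟩ : ↥(closure ({a, b} : Set G))) ^ p ^ k) ≠ 1 := by
  set X := closure ({a, b} : Set G) with hX
  have hXN : X ≤ normalizer (V : Set G) := by
    rw [hX, closure_le]; rintro _ (rfl | rfl) <;> assumption
  letI : CommGroup ↥V :=
    { (inferInstance : Group ↥V) with mul_comm := fun x y => hV.1.is_comm.comm x y }
  let ψ : X →* MulAut ↥V := (normalizerMonoidHom V).comp (inclusion hXN)
  have ψapp : ∀ (g : X) (x : ↥V), ((ψ g x : ↥V) : G) = g * x * (g : G)⁻¹ := fun _ _ => rfl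
  have quad : ∀ c : X, PStab.IsQuad V (c : G) → ∀ v, ψ c (ψ c v) * v = ψ c v * ψ c v := by
    intro c hc v
    have hfix : ψ c (v * (ψ c v)⁻¹) = v * (ψ c v)⁻¹ := by
      apply Subtype.ext
      rw [ψapp, coe_mul, coe_inv, ψapp]
      have := hc v v.2
      rw [commutatorElement_eq_one_iff_mul_comm] at this
      have e : ⁅(v : G), (c : G)⁆ = (v : G) * ((c : G) * v * (c : G)⁻¹)⁻¹ := by
        rw [commutatorElement_def]; group
      rw [e] at this
      rw [← this]; group
    rw [map_mul, map_inv, mul_inv_eq_iff_eq_mul, mul_right_comm, eq_mul_inv_iff_mul_eq] at hfix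
    rw [hfix]
    exact mul_comm _ _
  have : Module (ZMod p) (Additive ↥V) := AddCommGroup.zmodModule fun x => by
    apply Additive.toMul.injective
    rw [toMul_nsmul, toMul_zero]
    exact Subtype.ext (hV.2 _ (Additive.toMul x).2)
  refine exists_plane_of_mulAut_aux ψ ?_ (quad _ haq) (quad _ hbq) fun k hk => hne k ?_
  · apply map_injective X.subtype_injective
    rw [MonoidHom.map_closure, ← MonoidHom.range_eq_map, range_subtype]
    simp [Set.image_insert_eq, hX]
  · refine mem_centralizer_iff.2 fun x hx => ?_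
    have h1 : ((ψ ((⟨h, hh⟩ : X) ^ p ^ k) ⟨x, hx⟩ : ↥V) : G) = x := by rw [hk]; rfl
    rw [ψapp, SubmonoidClass.coe_pow, mul_inv_eq_iff_eq_mul] at h1
    exact h1.symm

omit [Finite G] in
/-- A surjection from a subgroup of `H` as a section. -/
theorem exists_section_of_surjective {M : Type*} [Group M] {H : Subgroup G} {S : Subgroup H}
    {f : S →* M} (hf : Function.Surjective f) :
    ∃ (K L : Subgroup G) (_ : (L.subgroupOf K).Normal), K ≤ H ∧ Nonempty ((K ⧸ L.subgroupOf K) ≃* M) := by
  set K := S.map H.subtype with hK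
  set g : K →* M := f.comp (S.equivMapOfInjective _ H.subtype_injective).symm.toMonoidHom with hg
  have hgs : Function.Surjective g := hf.comp (S.equivMapOfInjective _ H.subtype_injective).symm.surjective
  have e : (g.ker.map K.subtype).subgroupOf K = g.ker :=
    comap_map_eq_self_of_injective K.subtype_injective _
  have hn : ((g.ker.map K.subtype).subgroupOf K).Normal := e.symm ▸ inferInstance
  exact ⟨K, g.ker.map K.subtype, hn, map_subtype_le _,
    ⟨(QuotientGroup.quotientMulEquivOfEq e).trans (QuotientGroup.quotientKerEquivOfSurjective g hgs)⟩⟩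

theorem HasSL23.exists_section (h3 : p = 3) {H : Subgroup G} (h : HasSL23 H) :
    ∃ (K L : Subgroup G) (_ : (L.subgroupOf K).Normal), K ≤ H ∧
      Nonempty ((K ⧸ L.subgroupOf K) ≃* SL(2, ZMod 3)) := by
  obtain ⟨S, f, hf⟩ := h
  exact exists_section_of_surjective hf

/-- An element acting quadratically outside the core gives a standard pair. -/
theorem not_stdFree_of_not_mem_core {V H : Subgroup G} (hV : IsElementaryAbelian p V)
    (hHV : H ≤ normalizer (V : Set G)) (hf : H ⊓ centralizer (V : Set G) = ⊥) {a : G} (haH : a ∈ H)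
    (hq : ⁅⁅V, zpowers a⁆, zpowers a⁆ = ⊥) (hna : a ∉ (pCore p H).map H.subtype) : ¬ StdFree p H := by
  intro hfree
  have hVp : IsPGroup p V := PGroup.elemAb_isPGroup hV
  obtain ⟨K, hKH, hHK, haK, hK⟩ := PStab.inCoreAct_of_tame hVp hHV haH
    ((PStab.isQuad_iff (hHV haH)).2 hq) fun g hg => by
      set S := closure ({a, g * a * g⁻¹} : Set G)
      have hSH : S ≤ H := by
        rw [closure_le]
        rintro _ (rfl | rfl)
        · exact haH
        · exact mul_mem (mul_mem hg haH) (inv_mem hg)
      refine planeTame_of_stdFree ?_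
      intro T ρ A B c hstd
      let ι : S →* H := inclusion hSH
      let e := T.equivMapOfInjective ι (inclusion_injective hSH)
      refine hfree (T.map ι) (ρ.comp e.symm.toMonoidHom) (e A) (e B) c ⟨hstd.ne, ?_, ?_, ?_⟩
      · rw [← Set.image_pair]
        show closure (e.toMonoidHom '' _) = ⊤
        rw [← MonoidHom.map_closure, hstd.gen]
        exact map_top_of_surjective _ e.surjective
      · simpa using hstd.mapA
      · simpa using hstd.mapB
  apply hna
  refine ⟨⟨a, haH⟩, ?_, rfl⟩
  have : (K.subgroupOf H).Normal := (normal_subgroupOf_iff_le_normalizer hKH).2 hHK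
  refine Cores.le_pCore (N := K.subgroupOf H) ?_ haK
  rintro ⟨⟨k, hkH⟩, hk⟩
  obtain ⟨n, hn⟩ := hK k hk
  have h1 : k ^ p ^ n ∈ H ⊓ centralizer (V : Set G) := ⟨pow_mem hkH _, hn⟩
  rw [hf, mem_bot] at h1
  exact ⟨n, Subtype.ext (Subtype.ext h1)⟩

/-- Stability on the section `K/N` from stability of `G/N`. -/
theorem isPStableOnSection_of_stableAll {K N : Subgroup G} [K.Normal] [N.Normal] (hK : IsPGroup p K)
    (h : PStab.StableAll p (G ⧸ N)) : IsPStableOnSection p K N := by
  intro a hq
  set π := QuotientGroup.mk' N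
  have hKn : (K.map π).Normal := Normal.map inferInstance π (QuotientGroup.mk'_surjective N)
  have hq' : ⁅⁅K.map π, zpowers (π a)⁆, zpowers (π a)⁆ = ⊥ := by
    rw [← MonoidHom.map_zpowers, ← map_commutator, ← map_commutator, Subgroup.map_eq_bot_iff,
      QuotientGroup.ker_mk']
    exact hq
  have hmem := h.isPStableOn (K.map π) (hK.map π) (π a) hq'
  set f := (QuotientGroup.mk' (centralizer (K.map π : Set (G ⧸ N)))).comp π
  have hfs : Function.Surjective f :=
    (QuotientGroup.mk'_surjective _).comp (QuotientGroup.mk'_surjective N)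
  set D := (pCore p ((G ⧸ N) ⧸ centralizer (K.map π : Set (G ⧸ N)))).comap f
  have hker : sectionKernel K N = (⊥ : Subgroup _).comap f := by
    rw [sectionKernel, MonoidHom.comap_bot, ← MonoidHom.comap_ker, QuotientGroup.ker_mk']
  obtain ⟨k, hk⟩ := Cores.card_pCore_eq_pow (G := (G ⧸ N) ⧸ centralizer (K.map π : Set (G ⧸ N))) p
  refine ⟨D, Normal.comap inferInstance f, hker ▸ comap_mono bot_le, ⟨k, ?_⟩, hmem⟩
  rw [hker, relIndex_comap, map_comap_eq_self_of_surjective hfs, relIndex_bot_left, hk]

theorem isActionPStable_of_stableAll (h : PStab.StableAll p G)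
    (hq : PStab.StableAll p (G ⧸ (frattini ↥(pCore p G)).map (pCore p G).subtype)) : IsActionPStable p G := by
  refine ⟨fun V _ hV => h.isPStableOn V (PGroup.elemAb_isPGroup hV),
    isPStableOnSection_of_stableAll (Cores.isPGroup_pCore p) hq, fun S V _ hV => ?_⟩
  refine (h.subgroup _).isPStableOn V ?_
  have h1 : IsPGroup p (V.map (normalizer (thompsonSubgroupOf p (S : Subgroup G) : Set G)).subtype) :=
    S.2.to_le (hV.trans (map_subtype_le _))
  exact h1.of_equiv (V.equivMapOfInjective _ (subtype_injective _)).symm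

theorem isActionPStable_of_stdFree (h : StdFree p G)
    (hq : StdFree p (G ⧸ (frattini ↥(pCore p G)).map (pCore p G).subtype)) : IsActionPStable p G :=
  isActionPStable_of_stableAll (stableAll_of_stdFree h) (stableAll_of_stdFree hq)

theorem stdFree_of_abelian_two_quotient (hp2 : p ≠ 2)
    (hab : ∀ T : Sylow 2 G, IsMulCommutative (T : Subgroup G)) (N : Subgroup G) [N.Normal] :
    StdFree p (G ⧸ N) := by
  refine stdFree_of_abelian_two hp2 fun T => ?_
  obtain ⟨T₀, rfl⟩ := Sylow.mapSurjective_surjective (QuotientGroup.mk'_surjective N) 2 T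
  have := hab T₀
  refine ⟨⟨?_⟩⟩
  rintro ⟨_, a, ha, rfl⟩ ⟨_, b, hb, rfl⟩
  apply Subtype.ext
  show QuotientGroup.mk' N a * QuotientGroup.mk' N b = QuotientGroup.mk' N b * QuotientGroup.mk' N a
  rw [← map_mul, ← map_mul, show a * b = b * a from congrArg Subtype.val (this.is_comm.comm ⟨a, ha⟩ ⟨b, hb⟩)]

/-- For `p ≥ 5` a `p`-soluble group is `O_{p'}(G) N(W(S))`. -/
theorem pPrimeCore_sup_normalizer_stableNormalClosure (hp5 : 5 ≤ p) (hsol : IsPSolvable p G)
    (S : Sylow p G) :
    pPrimeCore p G ⊔
      normalizer ((stableNormalClosure p ↥(S : Subgroup G)).map (S : Subgroup G).subtype : Set G) = ⊤ := by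
  set N := pPrimeCore p G with hN
  set π := QuotientGroup.mk' N with hπ
  have hsolQ := isPSolvable_quotient hsol N
  have hc := centralizer_pCore_le_of_isPSolvable hsolQ (Cores.pPrimeCore_quotient_self p)
  have hst : IsActionPStable p (G ⧸ N) := isActionPStable_of_stdFree (stdFree_of_isPSolvable hp5 hsolQ)
    (stdFree_of_isPSolvable hp5 (isPSolvable_quotient hsolQ _))
  set S' := S.mapSurjective (f := π) (QuotientGroup.mk'_surjective N)
  have hinj : Function.Injective ((π.comp (S : Subgroup G).subtype).rangeRestrict) := by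
    rw [← MonoidHom.ker_eq_bot_iff, MonoidHom.ker_rangeRestrict, eq_bot_iff]
    intro x hx
    have h1 : (x : G) ∈ (S : Subgroup G) ⊓ N := ⟨x.2, (QuotientGroup.eq_one_iff _).1 hx⟩
    have h2 : (S : Subgroup G) ⊓ N = ⊥ := by
      rw [inf_eq_bot_of_coprime]
      obtain ⟨k', hk'⟩ := S.2.exists_card_eq
      rw [hk']
      exact ((Cores.coprime_card_pPrimeCore p).pow_right k').symm
    rw [h2, mem_bot] at h1
    exact mem_bot.2 (Subtype.ext h1)
  have hrange : (π.comp (S : Subgroup G).subtype).range = (S' : Subgroup (G ⧸ N)) := by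
    rw [MonoidHom.range_comp, range_subtype]; rfl
  let η : ↥(S : Subgroup G) ≃* ↥(S' : Subgroup (G ⧸ N)) :=
    (MulEquiv.ofBijective _ ⟨hinj, (π.comp (S : Subgroup G).subtype).rangeRestrict_surjective⟩).trans
      (MulEquiv.subgroupCongr hrange)
  set W := (stableNormalClosure p ↥(S : Subgroup G)).map (S : Subgroup G).subtype with hW
  have hWmap : (stableNormalClosure p ↥(S' : Subgroup (G ⧸ N))).map (S' : Subgroup (G ⧸ N)).subtype =
      W.map π := by
    rw [← stableNormalClosure_map η, hW, Subgroup.map_map, Subgroup.map_map]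
    rfl
  have hn := stableNormalClosure_normal hst hc S'
  rw [hWmap] at hn
  have hWp : IsPGroup p W := S.2.to_le (map_subtype_le _)
  have h3 : (normalizer (W : Set G)).map π = ⊤ := by
    rw [hπ, Cores.map_mk'_normalizer_of_coprime hWp (Cores.coprime_card_pPrimeCore p), normalizer_eq_top_iff]
    exact hn
  refine eq_top_iff.2 fun g _ => ?_
  obtain ⟨y, hy, hye⟩ := h3.ge (mem_top (π g))
  have : g * y⁻¹ ∈ N := by
    rw [← QuotientGroup.eq_one_iff]
    show π (g * y⁻¹) = 1
    rw [map_mul, map_inv, hye, mul_inv_cancel]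
  rw [← inv_mul_cancel_right g y]
  exact mul_mem (mem_sup_left this) (mem_sup_right hy)

end CfsgLib.Transfer
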