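import Cfsg.Agent.Lib.Transfer.DicksonSL
import Cfsg.Agent.Lib.Transfer.PlaneGroup
import Cfsg.Agent.Lib.Transfer.PStableQuot

/-!
Failure of stability gives sections `SL(2,p)`.
-/

namespace CfsgLib.Transfer

open Cfsg Subgroup
open scoped commutatorElement MatrixGroups

variable {p : ℕ} [hp : Fact p.Prime] {G : Type*} [Group G] [Finite G]

theorem exists_sl2_surjective_of_not_stdFree (hp2 : p ≠ 2) (h : ¬ StdFree p G) :
    ∃ (S : Subgroup G) (f : S →* SL(2, ZMod p)), Function.Surjective f := by
  simp only [StdFree, not_forall, not_not] at h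
  obtain ⟨S, ρ, A, B, c, hstd⟩ := h
  obtain ⟨T, f, hf, -⟩ := hstd.exists_sl2_section hp2
  exact ⟨T.map S.subtype, f.comp (T.equivMapOfInjective _ S.subtype_injective).symm.toMonoidHom,
    hf.comp (T.equivMapOfInjective _ S.subtype_injective).symm.surjective⟩

/-- Failure of stability gives an `SL(2,p)` section. -/
theorem exists_sl2_surjective_of_not_normalStable (hp2 : p ≠ 2) (h : ¬ NormalStable p G) :
    ∃ (S : Subgroup G) (f : S →* SL(2, ZMod p)), Function.Surjective f := by
  refine exists_sl2_surjective_of_not_stdFree hp2 fun hfree => h ?_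
  intro A P _ hP hPn hq a ha
  have hN : a ∈ normalizer (P : Set G) := by rw [normalizer_eq_top]; exact mem_top _
  have := stableAll_of_stdFree hfree P hP a hN (PStab.isQuad_of_commutator_eq_bot hq ha)
  rwa [normalizer_eq_top] at this

end CfsgLib.Transfer
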