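import Cfsg.Agent.Lib.Cores.BrauerWielandt
import Mathlib.GroupTheory.SemidirectProduct
import Mathlib.Tactic

/-!
A bound on the product of the fixed point numbers of a `p`-group acting coprimely.
-/

set_option autoImplicit false

namespace CfsgLib.Transfer.Casolo

open Subgroup
open scoped Classical BigOperators

universe u v

section restrict

variable {P : Type u} [Group P] {K : Type v} [Group K] (φ : P →* MulAut K) (w : P)

/-- The fixed points of one operator. -/
def fixOne : Subgroup K where
  carrier := {k | φ w k = k}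
  one_mem' := map_one (φ w)
  mul_mem' := fun {a b} ha hb => by
    show φ w (a * b) = a * b
    rw [map_mul, show φ w a = a from ha, show φ w b = b from hb]
  inv_mem' := fun {a} ha => by
    show φ w a⁻¹ = a⁻¹
    rw [map_inv, show φ w a = a from ha]

theorem fixOne_invariant {x : P} (hx : Commute x w) {k : K} (hk : k ∈ fixOne φ w) :
    φ x k ∈ fixOne φ w := by
  show φ w (φ x k) = φ x k
  rw [← MulAut.mul_apply, ← map_mul, ← hx.eq, map_mul, MulAut.mul_apply, show φ w k = k from hk]

/-- The operators commuting with `w` act on its fixed points. -/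
def restrFixOne : centralizer ({w} : Set P) →* MulAut (fixOne φ w) where
  toFun x :=
    { toFun := fun k => ⟨φ x k, fixOne_invariant φ w (mem_centralizer_singleton_iff.1 x.2) k.2⟩
      invFun := fun k => ⟨φ (x : P)⁻¹ k,
        fixOne_invariant φ w (Commute.inv_left (mem_centralizer_singleton_iff.1 x.2)) k.2⟩
      left_inv := fun k => Subtype.ext (by simp)
      right_inv := fun k => Subtype.ext (by simp)
      map_mul' := fun a b => Subtype.ext (map_mul (φ (x : P)) _ _) }
  map_one' := MulEquiv.ext fun k => Subtype.ext (by simp)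
  map_mul' := fun x y => MulEquiv.ext fun k => Subtype.ext (by simp)

theorem restrFixOne_apply (x : centralizer ({w} : Set P)) (k : fixOne φ w) :
    ((restrFixOne φ w x k : fixOne φ w) : K) = φ x k := rfl

end restrict

variable {p : ℕ} [hp : Fact p.Prime]

/-- Brauer-Wielandt for two commuting automorphisms of exponent `p`. -/
theorem brauerWielandt_aut {W : Type v} [Group W] [Finite W] (hW : (Nat.card W).Coprime p)
    {α β : MulAut W} (hα : α ^ p = 1) (hβ : β ^ p = 1) (hc : Commute α β) :
    Nat.card W * Nat.card {w : W // α w = w ∧ β w = w} ^ p =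
      Nat.card {w : W // α w = w} * ∏ i : Fin p, Nat.card {w : W // (β * α ^ (i : ℕ)) w = w} := by
  let S := W ⋊[MonoidHom.id (MulAut W)] MulAut W
  haveI : Finite S := Finite.of_equiv _ SemidirectProduct.equivProd.symm
  let K : Subgroup S := (SemidirectProduct.inl : W →* S).range
  let r : MulAut W →* S := SemidirectProduct.inr
  have hconj : ∀ (a : MulAut W) (w : W),
      r a * SemidirectProduct.inl w * (r a)⁻¹ = SemidirectProduct.inl (a w) := fun a w => by
    rw [← map_inv, ← SemidirectProduct.inl_aut]; rfl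
  have hnorm : ∀ a : MulAut W, r a ∈ normalizer (K : Set S) := by
    intro a
    rw [Subgroup.mem_normalizer_iff]
    intro y
    constructor
    · rintro ⟨w, rfl⟩
      exact ⟨a w, (hconj a w).symm⟩
    · rintro ⟨w, hw⟩
      refine ⟨a⁻¹ w, ?_⟩
      rw [← hconj, map_inv, inv_inv, hw]
      group
  have hKcard : Nat.card K = Nat.card W :=
    Nat.card_congr (MonoidHom.ofInjective SemidirectProduct.inl_injective).toEquiv.symm
  have hfix : ∀ (a : MulAut W) (w : W),
      (SemidirectProduct.inl w : S) ∈ centralizer ({r a} : Set S) ↔ a w = w := by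
    intro a w
    rw [mem_centralizer_singleton_iff]
    constructor
    · intro h
      apply SemidirectProduct.inl_injective (φ := MonoidHom.id (MulAut W))
      rw [← hconj, ← h, mul_inv_cancel_right]
    · intro h
      have h2 := hconj a w
      rw [h] at h2
      exact (mul_inv_eq_iff_eq_mul.1 h2).symm
  have hcount : ∀ (T : Subgroup S) (Q : W → Prop),
      (∀ w, (SemidirectProduct.inl w : S) ∈ T ↔ Q w) → Nat.card ↥(K ⊓ T) = Nat.card {w : W // Q w} := by
    intro T Q hTQ
    symm
    refine Nat.card_congr (Equiv.ofBijective (fun w : {w : W // Q w} =>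
      (⟨SemidirectProduct.inl w.1, ⟨w.1, rfl⟩, (hTQ _).2 w.2⟩ : ↥(K ⊓ T))) ⟨?_, ?_⟩)
    · exact fun a b h => Subtype.ext (SemidirectProduct.inl_injective (congrArg Subtype.val h))
    · rintro ⟨_, ⟨w, rfl⟩, hw⟩
      exact ⟨⟨w, (hTQ _).1 hw⟩, rfl⟩
  have h := CfsgLib.Cores.brauerWielandt (p := p) (x := r α) (y := r β) (by rw [← map_pow, hα, map_one])
    (by rw [← map_pow, hβ, map_one]) (hc.map r) (hKcard ▸ hW) (hnorm α) (hnorm β)
  rw [CfsgLib.Cores.centralizer_eq_inf_of_gen, hKcard,
    hcount _ (fun w => α w = w ∧ β w = w) (fun w => by rw [mem_inf, hfix, hfix]),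
    Fintype.prod_option] at h
  rw [h]
  congr 1
  · exact hcount _ _ (hfix α)
  · refine Finset.prod_congr rfl fun i _ => hcount _ _ fun w => ?_
    show _ ∈ centralizer ({r β * r α ^ (i : ℕ)} : Set S) ↔ _
    rw [← map_pow, ← map_mul]
    exact hfix _ w

variable {K : Type v} [Group K] [Finite K]

/-- The coset bound. -/
theorem prod_fixed_coset_le {P : Type u} [Group P] (φ : P →* MulAut K) (hK : (Nat.card K).Coprime p)
    {x z : P} (hxz : Commute x z) (hz : z ^ p = 1) :
    (∏ i : Fin p, Nat.card {k : K // φ (x * z ^ (i : ℕ)) k = k}) * Nat.card (fixOne φ z) ≤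
      Nat.card K * Nat.card {k : K // φ z k = k ∧ φ x k = k} ^ p := by
  let W := fixOne φ (x ^ p)
  have hxw : x ∈ centralizer ({x ^ p} : Set P) := mem_centralizer_singleton_iff.2 (Commute.self_pow x p).eq
  have hzw : z ∈ centralizer ({x ^ p} : Set P) := mem_centralizer_singleton_iff.2 (hxz.symm.pow_right p).eq
  set α := restrFixOne φ (x ^ p) ⟨z, hzw⟩ with hαdef
  set β := restrFixOne φ (x ^ p) ⟨x, hxw⟩ with hβdef
  have hα : α ^ p = 1 := by
    rw [hαdef, ← map_pow]
    refine (congrArg _ (Subtype.ext ?_)).trans (map_one _)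
    simpa using hz
  have hβ : β ^ p = 1 := by
    rw [hβdef, ← map_pow]
    refine MulEquiv.ext fun k => Subtype.ext ?_
    rw [restrFixOne_apply]
    exact k.2
  have hαβ : Commute α β := Commute.map (Subtype.ext hxz.symm.eq : Commute (⟨z, hzw⟩ : centralizer ({x ^ p} : Set P)) ⟨x, hxw⟩) _
  have hsub : ∀ y : P, y ^ p = x ^ p → ∀ k, φ y k = k → k ∈ W := by
    intro y hy k hk
    show φ (x ^ p) k = k
    rw [← hy]
    clear hy
    generalize p = m
    induction m with
    | zero => simp
    | succ m ih => rw [pow_succ, map_mul, MulAut.mul_apply, hk, ih]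
  have hW : (Nat.card W).Coprime p := hK.coprime_dvd_left (card_subgroup_dvd_card W)
  have h := brauerWielandt_aut hW hα hβ hαβ
  have e1 : Nat.card {w : W // α w = w ∧ β w = w} = Nat.card {k : K // φ z k = k ∧ φ x k = k} :=
    Nat.card_congr
      { toFun := fun w => ⟨w.1.1, congrArg Subtype.val w.2.1, congrArg Subtype.val w.2.2⟩
        invFun := fun k => ⟨⟨k.1, hsub x rfl _ k.2.2⟩, Subtype.ext k.2.1, Subtype.ext k.2.2⟩
        left_inv := fun w => rfl
        right_inv := fun k => rfl }
  have e2 : ∀ i : Fin p, Nat.card {w : W // (β * α ^ (i : ℕ)) w = w} =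
      Nat.card {k : K // φ (x * z ^ (i : ℕ)) k = k} := by
    intro i
    have he : ∀ w : W, (((β * α ^ (i : ℕ)) w : W) : K) = φ (x * z ^ (i : ℕ)) w := fun w => by
      rw [hαdef, hβdef, ← map_pow, ← map_mul]
      rfl
    refine Nat.card_congr
      { toFun := fun w => ⟨w.1.1, (he w.1).symm.trans (congrArg Subtype.val w.2)⟩
        invFun := fun k => ⟨⟨k.1, hsub _ ?_ _ k.2⟩, Subtype.ext ((he _).trans k.2)⟩
        left_inv := fun w => rfl
        right_inv := fun k => rfl }
    rw [(hxz.pow_right _).mul_pow, ← pow_mul, mul_comm (i : ℕ), pow_mul, hz, one_pow, mul_one]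
  have e3 : Nat.card {w : W // α w = w} = Nat.card ↥(W ⊓ fixOne φ z) :=
    Nat.card_congr
      { toFun := fun w => ⟨w.1.1, w.1.2, congrArg Subtype.val w.2⟩
        invFun := fun k => ⟨⟨k.1, k.2.1⟩, Subtype.ext k.2.2⟩
        left_inv := fun w => rfl
        right_inv := fun k => rfl }
  rw [e1, e3, Finset.prod_congr rfl fun i _ => e2 i] at h
  have hle : Nat.card W * Nat.card (fixOne φ z) ≤ Nat.card K * Nat.card ↥(W ⊓ fixOne φ z) := by
    have h1 := Subgroup.card_mul_index (fixOne φ z)
    have h2 := Subgroup.card_mul_index ((fixOne φ z).subgroupOf W)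
    have h3 : (fixOne φ z).relIndex W ≤ (fixOne φ z).index := by
      rw [← Subgroup.relIndex_top_right]
      exact Subgroup.relIndex_le_of_le_right le_top (by
        rw [Subgroup.relIndex_top_right]; exact Subgroup.index_ne_zero_of_finite)
    have h4 : Nat.card ((fixOne φ z).subgroupOf W) = Nat.card ↥(W ⊓ fixOne φ z) := by
      rw [← card_map_of_injective W.subtype_injective, subgroupOf_map_subtype, inf_comm]
    rw [← h1, ← h2, h4]
    calc _ = Nat.card ↥(W ⊓ fixOne φ z) * (fixOne φ z).relIndex W * Nat.card (fixOne φ z) := rfl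
      _ ≤ Nat.card ↥(W ⊓ fixOne φ z) * (fixOne φ z).index * Nat.card (fixOne φ z) :=
        Nat.mul_le_mul_right _ (Nat.mul_le_mul_left _ h3)
      _ = _ := by ring
  refine Nat.le_of_mul_le_mul_right ?_ (Nat.card_pos (α := ↥(W ⊓ fixOne φ z)))
  calc _ = (Nat.card ↥(W ⊓ fixOne φ z) * ∏ i : Fin p, Nat.card {k : K // φ (x * z ^ (i : ℕ)) k = k}) *
        Nat.card (fixOne φ z) := by ring
    _ = Nat.card W * Nat.card (fixOne φ z) * Nat.card {k : K // φ z k = k ∧ φ x k = k} ^ p := by
        rw [← h]; ring
    _ ≤ _ := by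
        rw [mul_right_comm (Nat.card K)]
        exact Nat.mul_le_mul_right _ hle

/-- The geometric mean of the fixed point numbers of a `p`-group. -/
theorem prod_fixed_le : ∀ (n : ℕ) (P : Type u) [Group P] [Fintype P] (K : Type v) [Group K] [Finite K]
    (φ : P →* MulAut K), Fintype.card P = n → IsPGroup p P → (Nat.card K).Coprime p →
    (∏ x : P, Nat.card {k : K // φ x k = k}) ^ p ≤
      Nat.card K ^ n * Nat.card {k : K // ∀ x, φ x k = k} ^ ((p - 1) * n) := by
  intro n
  induction n using Nat.strong_induction_on with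
  | _ n ih =>
  intro P _ _ K _ _ φ hn hP hK
  rcases subsingleton_or_nontrivial P with hsub | hnt
  · have hn1 : n = 1 := hn ▸ Fintype.card_eq_one_iff.2 ⟨1, fun x => Subsingleton.elim _ _⟩
    have hall : ∀ x : P, Nat.card {k : K // φ x k = k} = Nat.card K := fun x => by
      rw [Subsingleton.elim x 1]
      exact Nat.card_congr (Equiv.subtypeUnivEquiv fun k => by simp)
    have hall2 : Nat.card {k : K // ∀ x, φ x k = k} = Nat.card K :=
      Nat.card_congr (Equiv.subtypeUnivEquiv fun k x => by rw [Subsingleton.elim x 1]; simp)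
    rw [hall2, Finset.prod_congr rfl fun x _ => hall x, Finset.prod_const, Finset.card_univ, hn, hn1,
      pow_one, mul_one, ← pow_succ', Nat.sub_add_cancel hp.out.one_le]
  haveI : Nontrivial (center P) := hP.center_nontrivial
  obtain ⟨j, hj⟩ := IsPGroup.iff_card.1 (hP.to_subgroup (center P))
  have hj0 : j ≠ 0 := fun h => (Finite.one_lt_card (α := center P)).ne' (by rw [hj, h, pow_zero])
  obtain ⟨⟨z, hzc⟩, hz'⟩ := exists_prime_orderOf_dvd_card' p (G := center P) (hj ▸ dvd_pow_self p hj0)
  have hz : orderOf z = p := by rw [← Subgroup.orderOf_coe] at hz'; exact hz'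
  have hzpow : z ^ p = 1 := hz ▸ pow_orderOf_eq_one z
  have hcom : ∀ x : P, Commute x z := fun x => (Subgroup.mem_center_iff.1 hzc x)
  set Z := zpowers z with hZ
  haveI hZn : Z.Normal := ⟨fun a ha g => by
    obtain ⟨m, rfl⟩ := ha
    show g * z ^ m * g⁻¹ ∈ Z
    rw [((hcom g).zpow_right m).eq, mul_inv_cancel_right]
    exact ⟨m, rfl⟩⟩
  set L := fixOne φ z
  let ψ₀ : P →* MulAut L := (restrFixOne φ z).comp
    { toFun := fun x => ⟨x, mem_centralizer_singleton_iff.2 (hcom x).eq⟩
      map_one' := rfl
      map_mul' := fun _ _ => rfl }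
  have hker : Z ≤ ψ₀.ker := zpowers_le.2 (MulEquiv.ext fun k => Subtype.ext (show φ z k = k from k.2))
  let ψ : P ⧸ Z →* MulAut L := QuotientGroup.lift Z ψ₀ hker
  letI := Fintype.ofFinite (P ⧸ Z)
  set m := Fintype.card (P ⧸ Z) with hm
  have hnm : n = p * m := by
    have := Subgroup.card_eq_card_quotient_mul_card_subgroup Z
    rw [Nat.card_zpowers, hz, Nat.card_eq_fintype_card, Nat.card_eq_fintype_card, hn] at this
    rw [this, mul_comm]
  have hmn : m < n := by
    rw [hnm]
    exact lt_mul_of_one_lt_left Fintype.card_pos hp.out.one_lt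
  have hL : (Nat.card L).Coprime p := hK.coprime_dvd_left (card_subgroup_dvd_card L)
  have hind := ih m hmn (P ⧸ Z) L ψ rfl (hP.to_quotient Z) hL
  set g : P → ℕ := fun x => Nat.card {k : K // φ z k = k ∧ φ x k = k}
  set C := Nat.card {k : K // ∀ x, φ x k = k}
  have hC : Nat.card {k : L // ∀ x, ψ x k = k} = C := Nat.card_congr
    { toFun := fun w => ⟨w.1.1, fun x => congrArg Subtype.val (w.2 (QuotientGroup.mk x))⟩
      invFun := fun k => ⟨⟨k.1, k.2 z⟩, fun q => QuotientGroup.induction_on q fun x => Subtype.ext (k.2 x)⟩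
      left_inv := fun w => rfl
      right_inv := fun k => rfl }
  have hg : ∀ x : P, g x = Nat.card {k : L // ψ (QuotientGroup.mk x) k = k} := fun x => Nat.card_congr
    { toFun := fun k => ⟨⟨k.1, k.2.1⟩, Subtype.ext k.2.2⟩
      invFun := fun w => ⟨w.1.1, w.1.2, congrArg Subtype.val w.2⟩
      left_inv := fun w => rfl
      right_inv := fun k => rfl }
  have hprodg : ∏ x : P, g x = (∏ q : P ⧸ Z, Nat.card {k : L // ψ q k = k}) ^ p := by
    rw [Finset.prod_congr rfl fun x _ => hg x, ← Finset.prod_pow,
      ← Finset.prod_fiberwise' Finset.univ (QuotientGroup.mk : P → P ⧸ Z)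
        (fun q => Nat.card {k : L // ψ q k = k})]
    refine Finset.prod_congr rfl fun q _ => ?_
    rw [Finset.prod_const]
    congr 1
    rw [← Fintype.card_subtype, ← Nat.card_eq_fintype_card]
    have h1 := Nat.card_congr (QuotientGroup.preimageMkEquivSubgroupProdSet Z {q})
    rw [Nat.card_prod, show Nat.card ({q} : Set (P ⧸ Z)) = 1 by simp, mul_one, Nat.card_zpowers, hz] at h1
    exact h1
  have hmain : (∏ x : P, Nat.card {k : K // φ x k = k}) ^ p * Nat.card L ^ n ≤
      Nat.card K ^ n * (∏ x : P, g x) ^ p := by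
    have h1 := Finset.prod_le_prod' (s := Finset.univ) fun x (_ : x ∈ (Finset.univ : Finset P)) =>
      prod_fixed_coset_le φ hK (hcom x) hzpow
    rw [Finset.prod_mul_distrib, Finset.prod_mul_distrib, Finset.prod_comm, Finset.prod_const,
      Finset.prod_const, Finset.card_univ, hn, Finset.prod_pow] at h1
    have h2 : ∀ i : Fin p, (∏ x : P, Nat.card {k : K // φ (x * z ^ (i : ℕ)) k = k}) =
        ∏ x : P, Nat.card {k : K // φ x k = k} := fun i =>
      Equiv.prod_comp (Equiv.mulRight (z ^ (i : ℕ))) fun x => Nat.card {k : K // φ x k = k}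
    rwa [Finset.prod_congr rfl fun i _ => h2 i, Finset.prod_const, Finset.card_univ, Fintype.card_fin] at h1
  refine Nat.le_of_mul_le_mul_right ?_ (pow_pos (Nat.card_pos (α := L)) n)
  refine hmain.trans ?_
  rw [hC] at hind
  calc Nat.card K ^ n * (∏ x : P, g x) ^ p
      ≤ Nat.card K ^ n * (Nat.card L ^ m * C ^ ((p - 1) * m)) ^ p := by
        rw [hprodg]
        exact Nat.mul_le_mul_left _ (Nat.pow_le_pow_left hind p)
    _ = Nat.card K ^ n * C ^ ((p - 1) * n) * Nat.card L ^ n := by
        rw [mul_pow, ← pow_mul, ← pow_mul, hnm, show (p - 1) * m * p = (p - 1) * (p * m) by ring,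
          mul_comm m p]
        ring

end CfsgLib.Transfer.Casolo
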