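import Mathlib

/-!
Average size of fixed-point sets in a coprime coset: if a group acts on a finite abelian group `V`
and the normal abelian subgroup `N` of order prime to `|V|` fixes only zero, then on every coset
`gN` the geometric mean of the fixed-point counts is at most the square root of `|V|`.
-/

set_option autoImplicit false

namespace CfsgLib.Transfer.FixAvg

open Finset

variable {X V : Type*} [Group X] [Finite X] [AddCommGroup V] [Finite V] (ρ : X →* AddMonoid.End V)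

/-- Fixed points of `x` in `U`. -/
def fix (U : AddSubgroup V) (x : X) : AddSubgroup V where
  carrier := {v | v ∈ U ∧ ρ x v = v}
  add_mem' := fun ha hb => ⟨U.add_mem ha.1 hb.1, by rw [map_add, ha.2, hb.2]⟩
  zero_mem' := ⟨U.zero_mem, map_zero _⟩
  neg_mem' := fun ha => ⟨U.neg_mem ha.1, by rw [map_neg, ha.2]⟩

omit [Finite X] [Finite V] in
theorem mem_fix {U : AddSubgroup V} {x : X} {v : V} : v ∈ fix ρ U x ↔ v ∈ U ∧ ρ x v = v := Iff.rfl

/-- Fixed points of a subgroup in `U`. -/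
def fixAll (U : AddSubgroup V) (J : Subgroup X) : AddSubgroup V where
  carrier := {v | v ∈ U ∧ ∀ j ∈ J, ρ j v = v}
  add_mem' := fun ha hb => ⟨U.add_mem ha.1 hb.1, fun j hj => by rw [map_add, ha.2 j hj, hb.2 j hj]⟩
  zero_mem' := ⟨U.zero_mem, fun _ _ => map_zero _⟩
  neg_mem' := fun ha => ⟨U.neg_mem ha.1, fun j hj => by rw [map_neg, ha.2 j hj]⟩

omit [Finite X] [Finite V] in
theorem mul_apply' (a b : X) (v : V) : ρ (a * b) v = ρ a (ρ b v) := by
  rw [map_mul]; rfl

omit [Finite X] [Finite V] in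
theorem one_apply' (v : V) : ρ 1 v = v := by
  rw [map_one]; rfl

omit [Finite X] [Finite V] in
theorem apply_injective (a : X) : Function.Injective (ρ a) := fun u v h => by
  have h1 := congrArg (ρ a⁻¹) h
  rwa [← mul_apply', ← mul_apply', inv_mul_cancel, one_apply', one_apply'] at h1

omit [Finite X] in
theorem card_mul_card_le {A B U : AddSubgroup V} (hA : A ≤ U) (hB : B ≤ U) (h : A ⊓ B = ⊥) :
    Nat.card A * Nat.card B ≤ Nat.card U := by
  rw [← Nat.card_prod]
  refine Nat.card_le_card_of_injective (fun ab => ⟨ab.1 + ab.2, U.add_mem (hA ab.1.2) (hB ab.2.2)⟩) ?_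
  rintro ⟨a, b⟩ ⟨a', b'⟩ e
  have e' : (a : V) + b = a' + b' := congrArg Subtype.val e
  have h1 : (a : V) - a' = b' - b := by
    rw [sub_eq_sub_iff_add_eq_add, e', add_comm]
  have h2 : (a : V) - a' ∈ A ⊓ B := ⟨A.sub_mem a.2 a'.2, h1 ▸ B.sub_mem b'.2 b.2⟩
  rw [h, AddSubgroup.mem_bot] at h2
  have h3 : (a : V) = a' := sub_eq_zero.1 h2
  rw [h3, add_right_inj] at e'
  exact Prod.ext (Subtype.ext h3) (Subtype.ext e')

/-- Averaging operator over a subgroup. -/
noncomputable def avg (J : Subgroup X) : V →+ V :=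
  letI := Fintype.ofFinite J
  AddMonoidHom.mk' (fun v => ∑ j : J, ρ (j : X) v) fun a b => by
    simp [Finset.sum_add_distrib]

theorem avg_apply (J : Subgroup X) [Fintype J] (v : V) : avg ρ J v = ∑ j : J, ρ (j : X) v := by
  simp only [avg, AddMonoidHom.mk'_apply]
  exact Finset.sum_congr (by ext; simp) fun _ _ => rfl

theorem avg_mem {U : AddSubgroup V}
    (J : Subgroup X) {v : V} (h : ∀ j ∈ J, ρ j v ∈ U) : avg ρ J v ∈ U := by
  classical
  letI := Fintype.ofFinite J
  rw [avg_apply]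
  exact U.sum_mem fun j _ => h j j.2

theorem avg_of_fixed (J : Subgroup X) {v : V} (h : ∀ j ∈ J, ρ j v = v) :
    avg ρ J v = Nat.card J • v := by
  classical
  letI := Fintype.ofFinite J
  rw [avg_apply, Finset.sum_congr rfl (fun (j : J) _ => h (j : X) j.2), Finset.sum_const, Finset.card_univ,
    Nat.card_eq_fintype_card]

theorem avg_fixed (J : Subgroup X) (v : V) {i : X} (hi : i ∈ J) : ρ i (avg ρ J v) = avg ρ J v := by
  classical
  letI := Fintype.ofFinite J
  rw [avg_apply, map_sum]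
  exact Fintype.sum_equiv (Equiv.mulLeft ⟨i, hi⟩) _ _ fun j => by simp [mul_apply']

theorem avg_conj (g : X) (J : Subgroup X) (v : V) :
    ρ g (avg ρ J v) = avg ρ (J.map (MulAut.conj g).toMonoidHom) (ρ g v) := by
  classical
  letI := Fintype.ofFinite J
  obtain ⟨K, hK⟩ : ∃ K, K = J.map (MulAut.conj g).toMonoidHom := ⟨_, rfl⟩
  rw [← hK]
  letI := Fintype.ofFinite K
  rw [avg_apply, avg_apply (J := K), map_sum]
  refine Fintype.sum_equiv (Equiv.ofBijective (fun j : J => (⟨g * j * g⁻¹, hK ▸ ⟨j, j.2, rfl⟩⟩ : K))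
    ⟨fun a b hab => Subtype.ext (mul_left_cancel (mul_right_cancel (congrArg Subtype.val hab))), ?_⟩)
    _ _ fun j => ?_
  · rintro ⟨x, hx⟩
    rw [hK] at hx
    obtain ⟨j, hj, rfl⟩ := hx
    exact ⟨⟨j, hj⟩, rfl⟩
  show ρ g (ρ (j : X) v) = ρ (g * (j : X) * g⁻¹) (ρ g v)
  rw [← mul_apply', ← mul_apply', inv_mul_cancel_right]

theorem smul_eq_zero_imp {c : ℕ} (hc : c.Coprime (Nat.card V)) {v : V} (h : c • v = 0) : v = 0 := by
  have h1 : addOrderOf v ∣ c := addOrderOf_dvd_of_nsmul_eq_zero h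
  have h2 : addOrderOf v ∣ Nat.card V := addOrderOf_dvd_natCard v
  exact AddMonoid.addOrderOf_eq_one_iff.1
    (Nat.eq_one_of_dvd_one (hc ▸ Nat.dvd_gcd h1 h2))

/-- The coset inequality. -/
theorem prod_coset_sq_le [Fintype X] (g : X) (N : Subgroup X) [hN : N.Normal] [Fintype N]
    (hcomm : ∀ a ∈ N, ∀ b ∈ N, a * b = b * a) (hcop : (Nat.card N).Coprime (Nat.card V))
    (hfix : ∀ v : V, (∀ n ∈ N, ρ n v = v) → v = 0) :
    ∀ U : AddSubgroup V, (∀ v ∈ U, ρ g v ∈ U) → (∀ n ∈ N, ∀ v ∈ U, ρ n v ∈ U) →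
      (∏ n : N, Nat.card (fix ρ U (g * n))) ^ 2 ≤ Nat.card U ^ Nat.card N := by
  classical
  intro U
  induction hk : Nat.card U using Nat.strong_induction_on generalizing U with
  | _ k ih =>
  intro hgU hNU
  subst hk
  rcases eq_or_ne U ⊥ with rfl | hU
  · have h1 : ∀ n : N, Nat.card (fix ρ (⊥ : AddSubgroup V) (g * n)) = 1 := fun n =>
      AddSubgroup.card_eq_one.2 (eq_bot_iff.2 fun v hv => hv.1)
    simp [h1]
  obtain ⟨J, ⟨hJN, hJ⟩, hJmax⟩ := (Set.toFinite {J : Subgroup X | J ≤ N ∧ fixAll ρ U J ≠ ⊥}).exists_maximal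
    ⟨⊥, bot_le, fun h => hU (eq_bot_iff.2 fun v hv => h ▸ ⟨hv, fun j hj => by
      rw [Subgroup.mem_bot.1 hj, one_apply']⟩)⟩
  let O : Finset (Subgroup X) :=
    Finset.univ.filter fun K => ∃ i : ℕ, K = J.map (MulAut.conj (g ^ i)).toMonoidHom
  let σ : Subgroup X → Subgroup X := fun K => K.map (MulAut.conj g).toMonoidHom
  have hσ : ∀ i : ℕ, σ (J.map (MulAut.conj (g ^ i)).toMonoidHom) =
      J.map (MulAut.conj (g ^ (i + 1))).toMonoidHom := by
    intro i
    simp only [σ, Subgroup.map_map]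
    congr 1
    ext x
    simp [pow_succ', mul_assoc]
  have hO0 : J ∈ O := mem_filter.2 ⟨mem_univ _, 0, by
    ext x; simp [Subgroup.mem_map]⟩
  have hOσ : ∀ K ∈ O, σ K ∈ O := by
    intro K hK
    obtain ⟨-, i, rfl⟩ := mem_filter.1 hK
    exact mem_filter.2 ⟨mem_univ _, i + 1, hσ i⟩
  have hσinj : Function.Injective σ :=
    Subgroup.map_injective (f := (MulAut.conj g).toMonoidHom) (MulAut.conj g).injective
  have hgiU : ∀ i : ℕ, ∀ v ∈ U, ρ (g ^ i) v ∈ U := by
    intro i
    induction i with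
    | zero => intro v hv; rwa [pow_zero, one_apply']
    | succ i IH => intro v hv; rw [pow_succ', mul_apply']; exact hgU _ (IH v hv)
  have hOgood : ∀ K ∈ O, K ≤ N ∧ fixAll ρ U K ≠ ⊥ ∧ Nat.card K = Nat.card J := by
    intro K hK
    obtain ⟨-, i, rfl⟩ := mem_filter.1 hK
    refine ⟨?_, ?_, Subgroup.card_map_of_injective (MulAut.conj (g ^ i)).injective⟩
    · rintro _ ⟨j, hj, rfl⟩
      exact hN.conj_mem j (hJN hj) _
    · intro hb
      refine hJ (eq_bot_iff.2 fun v hv => ?_)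
      have h1 : ρ (g ^ i) v ∈ fixAll ρ U (J.map (MulAut.conj (g ^ i)).toMonoidHom) := by
        refine ⟨hgiU i v hv.1, ?_⟩
        rintro _ ⟨j, hj, rfl⟩
        show ρ (g ^ i * j * (g ^ i)⁻¹) (ρ (g ^ i) v) = ρ (g ^ i) v
        rw [← mul_apply', inv_mul_cancel_right, mul_apply', hv.2 j hj]
      rw [hb, AddSubgroup.mem_bot] at h1
      exact (apply_injective ρ (g ^ i)) (h1.trans (map_zero (ρ (g ^ i))).symm)
  -- two different members of the orbit have only zero fixed in common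
  have hdisj : ∀ K ∈ O, ∀ K' : Subgroup X, K' ≤ N → ¬ K' ≤ K →
      fixAll ρ U K ⊓ fixAll ρ U K' = ⊥ := by
    intro K hK K' hK'N hne
    obtain ⟨-, i, rfl⟩ := mem_filter.1 hK
    refine eq_bot_iff.2 fun v hv => ?_
    by_contra hv0
    set c := (MulAut.conj (g ^ i)).toMonoidHom
    obtain ⟨M, hM⟩ : ∃ M, M = (J.map c ⊔ K') := ⟨_, rfl⟩
    have hMN : M ≤ N := hM ▸ sup_le (hOgood _ hK).1 hK'N
    have hMv : ∀ m ∈ M, ρ m v = v := by
      let S : Subgroup X :=
        { carrier := {x | ρ x v = v}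
          mul_mem' := fun {a b} ha hb => show ρ (a * b) v = v by rw [mul_apply', hb, ha]
          one_mem' := one_apply' ρ v
          inv_mem' := fun {a} ha => show ρ a⁻¹ v = v by
            conv_lhs => rw [← (ha : ρ a v = v), ← mul_apply', inv_mul_cancel, one_apply'] }
      have : M ≤ S := hM ▸ sup_le (fun x hx => hv.1.2 x hx) (fun x hx => hv.2.2 x hx)
      exact fun m hm => this hm
    -- pull back to `J`
    obtain ⟨M₀, hM₀⟩ : ∃ M₀ : Subgroup X, M₀ = M.comap c := ⟨_, rfl⟩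
    have hJM : J ≤ M₀ := hM₀ ▸ hM ▸ Subgroup.map_le_iff_le_comap.1 le_sup_left
    have hM0N : M₀ ≤ N := by
      intro x hx
      rw [hM₀] at hx
      have h2 : (g ^ i)⁻¹ * (g ^ i * x * (g ^ i)⁻¹) * ((g ^ i)⁻¹)⁻¹ ∈ N := hN.conj_mem _ (hMN hx) (g ^ i)⁻¹
      rwa [show (g ^ i)⁻¹ * (g ^ i * x * (g ^ i)⁻¹) * ((g ^ i)⁻¹)⁻¹ = x by group] at h2
    have hw : ρ (g ^ i)⁻¹ v ∈ fixAll ρ U M₀ := by
      refine ⟨?_, fun m hm => ?_⟩
      · obtain ⟨k, hk⟩ := (isOfFinOrder_of_finite (g ^ i)).mem_powers_iff_mem_zpowers.2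
          (inv_mem (Subgroup.mem_zpowers (g ^ i)))
        rw [← hk]
        simpa [← pow_mul] using hgiU _ v hv.1.1
      · rw [hM₀] at hm
        have h2 := hMv _ hm
        change ρ (g ^ i * m * (g ^ i)⁻¹) v = v at h2
        rw [mul_apply', mul_apply'] at h2
        apply (apply_injective ρ (g ^ i))
        rw [h2, ← mul_apply' ρ (g ^ i) (g ^ i)⁻¹, mul_inv_cancel, one_apply']
    have hM0ne : fixAll ρ U M₀ ≠ ⊥ := fun hb => by
      rw [hb, AddSubgroup.mem_bot] at hw
      exact hv0 ((apply_injective ρ (g ^ i)⁻¹) (hw.trans (map_zero (ρ (g ^ i)⁻¹)).symm))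
    have hle : M₀ ≤ J := hJmax ⟨hM0N, hM0ne⟩ hJM
    refine hne (fun x hx => ?_)
    obtain ⟨y, rfl⟩ : ∃ y, c y = x := (MulAut.conj (g ^ i)).surjective x
    refine Subgroup.mem_map_of_mem c (hle ?_)
    rw [hM₀, Subgroup.mem_comap, hM]
    exact le_sup_right (a := J.map c) hx
  have hgO : ∀ K ∈ O, fixAll ρ U K ≤ U := fun K _ v hv => hv.1
  have havg : ∀ K ∈ O, ∀ v ∈ U, avg ρ K v ∈ fixAll ρ U K := fun K hK v hv =>
    ⟨avg_mem ρ K fun j hj => hNU j ((hOgood K hK).1 hj) v hv,
      fun j hj => avg_fixed ρ K v hj⟩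
  let E : V →+ V := ∑ K ∈ O, avg ρ K
  have hEapp : ∀ v, E v = ∑ K ∈ O, avg ρ K v := fun v => by
    simp [E, AddMonoidHom.finsetSum_apply]
  let S : AddSubgroup V := ⨆ K ∈ O, fixAll ρ U K
  have hSU : S ≤ U := iSup₂_le hgO
  have hES : ∀ v ∈ U, E v ∈ S := fun v hv => by
    rw [hEapp]
    exact S.sum_mem fun K hK => (le_iSup₂ (f := fun K (_ : K ∈ O) => fixAll ρ U K) K hK) (havg K hK v hv)
  have hc : (Nat.card J).Coprime (Nat.card V) := hcop.coprime_dvd_left (Subgroup.card_dvd_of_le hJN)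
  have hEid : ∀ v ∈ S, E v = Nat.card J • v := by
    have : S ≤ (E - (Nat.card J) • AddMonoidHom.id V).ker := by
      refine iSup₂_le fun K hK v hv => ?_
      rw [AddMonoidHom.mem_ker, AddMonoidHom.sub_apply, sub_eq_zero, hEapp,
        AddMonoidHom.nsmul_apply, AddMonoidHom.id_apply, Finset.sum_eq_single K, avg_of_fixed ρ K hv.2,
        (hOgood K hK).2.2]
      · intro K' hK' hne
        have h1 : avg ρ K' v ∈ fixAll ρ U K' ⊓ fixAll ρ U K := by
          refine ⟨havg K' hK' v hv.1, (havg K' hK' v hv.1).1, fun j hj => ?_⟩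
          letI := Fintype.ofFinite K'
          rw [avg_apply, map_sum]
          refine Finset.sum_congr rfl fun i _ => ?_
          rw [← mul_apply', hcomm j ((hOgood K hK).1 hj) i ((hOgood K' hK').1 i.2), mul_apply', hv.2 j hj]
        rw [hdisj K' hK' K (hOgood K hK).1 (fun hle => hne ?_), AddSubgroup.mem_bot] at h1
        · exact h1
        · exact (Subgroup.eq_of_le_of_card_ge hle
            ((hOgood K' hK').2.2.trans (hOgood K hK).2.2.symm).le).symm
      · exact fun h => absurd hK h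
    intro v hv
    have h1 := this hv
    rwa [AddMonoidHom.mem_ker, AddMonoidHom.sub_apply, sub_eq_zero] at h1
  have hEn : ∀ n ∈ N, ∀ v, ρ n (E v) = E (ρ n v) := by
    intro n hn v
    rw [hEapp, hEapp, map_sum]
    refine Finset.sum_congr rfl fun K hK => ?_
    rw [avg_conj ρ n K v]
    congr 2
    ext x
    constructor
    · rintro ⟨j, hj, rfl⟩
      simpa [hcomm n hn j ((hOgood K hK).1 hj)] using hj
    · intro hx
      exact ⟨x, hx, by simp [hcomm n hn x ((hOgood K hK).1 hx)]⟩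
  have hEg : ∀ v, ρ g (E v) = E (ρ g v) := by
    intro v
    rw [hEapp, hEapp, map_sum]
    refine Finset.sum_bij (fun K _ => σ K) hOσ (fun _ _ _ _ h => hσinj h) ?_ (fun K _ => avg_conj ρ g K v)
    intro K hK
    have himg : O.image σ = O := Finset.eq_of_subset_of_card_le
      (Finset.image_subset_iff.2 hOσ) (Finset.card_image_of_injective _ hσinj).ge
    rw [← himg] at hK
    obtain ⟨L, hL, h⟩ := Finset.mem_image.1 hK
    exact ⟨L, hL, h⟩
  have hgS : ∀ v ∈ S, ρ g v ∈ S := by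
    intro v hv
    have : S ≤ S.comap (AddMonoidHom.mk' (ρ g) (map_add _)) := iSup₂_le fun K hK w hw => by
      refine (le_iSup₂ (f := fun K (_ : K ∈ O) => fixAll ρ U K) (σ K) (hOσ K hK)) ⟨hgU w hw.1, ?_⟩
      rintro _ ⟨j, hj, rfl⟩
      show ρ (g * j * g⁻¹) (ρ g w) = ρ g w
      rw [← mul_apply', inv_mul_cancel_right, mul_apply', hw.2 j hj]
    exact this hv
  have hNS : ∀ n ∈ N, ∀ v ∈ S, ρ n v ∈ S := by
    intro n hn v hv
    have : S ≤ S.comap (AddMonoidHom.mk' (ρ n) (map_add _)) := iSup₂_le fun K hK w hw => by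
      refine (le_iSup₂ (f := fun K (_ : K ∈ O) => fixAll ρ U K) K hK) ⟨hNU n hn w hw.1, fun j hj => ?_⟩
      show ρ j (ρ n w) = ρ n w
      rw [← mul_apply' ρ j n, hcomm j ((hOgood K hK).1 hj) n hn, mul_apply', hw.2 j hj]
    exact this hv
  let T : AddSubgroup V := U ⊓ E.ker
  have hgT : ∀ v ∈ T, ρ g v ∈ T := fun v hv => ⟨hgU v hv.1, by
    show E _ = 0; rw [← hEg, show E v = 0 from hv.2, map_zero]⟩
  have hNT : ∀ n ∈ N, ∀ v ∈ T, ρ n v ∈ T := fun n hn v hv => ⟨hNU n hn v hv.1, by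
    show E _ = 0; rw [← hEn n hn, show E v = 0 from hv.2, map_zero]⟩
  have hST : S ⊓ T = ⊥ := eq_bot_iff.2 fun v hv => by
    refine smul_eq_zero_imp hc ?_
    rw [← hEid v hv.1]
    exact hv.2.2
  have hdec : ∀ v ∈ U, ∃ s ∈ S, ∃ t ∈ T, v = s + t := by
    intro v hv
    obtain ⟨w, hw⟩ : ∃ w ∈ S, Nat.card J • w = E v := by
      let f : S → S := fun w => Nat.card J • w
      have hf : Function.Injective f := fun a b hab => by
        have h1 : Nat.card J • ((a : V) - b) = 0 := by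
          rw [nsmul_sub, sub_eq_zero]
          exact congrArg Subtype.val hab
        exact Subtype.ext (sub_eq_zero.1 (smul_eq_zero_imp hc h1))
      obtain ⟨w, hw⟩ := (Finite.injective_iff_surjective.1 hf) ⟨E v, hES v hv⟩
      exact ⟨w, w.2, congrArg Subtype.val hw⟩
    refine ⟨w, hw.1, v - w, ⟨U.sub_mem hv (hSU hw.1), ?_⟩, by abel⟩
    show E _ = 0; rw [map_sub, hEid w hw.1, hw.2, sub_self]
  by_cases hSt : S = U
  · -- `U` is spanned by the orbit
    have hinj : ∀ n : N, ∀ v ∈ fix ρ U (g * n), avg ρ J v = 0 → v = 0 := by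
      intro n v hv h0
      have hall : ∀ K ∈ O, avg ρ K v = 0 := by
        intro K hK
        obtain ⟨-, i, rfl⟩ := mem_filter.1 hK
        induction i with
        | zero => convert h0 using 3; ext x; simp [Subgroup.mem_map]
        | succ i IH =>
          have hKi : J.map (MulAut.conj (g ^ i)).toMonoidHom ∈ O := mem_filter.2 ⟨mem_univ _, i, rfl⟩
          have h2 := congrArg (fun z => ρ (g * n) z) (IH hKi)
          simp only [map_zero] at h2
          rw [mul_apply', avg_conj ρ (n : X)] at h2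
          have hKn : (J.map (MulAut.conj (g ^ i)).toMonoidHom).map (MulAut.conj (n : X)).toMonoidHom =
              J.map (MulAut.conj (g ^ i)).toMonoidHom := by
            ext x
            constructor
            · rintro ⟨j, hj, rfl⟩
              simpa [hcomm n n.2 j ((hOgood _ hKi).1 hj)] using hj
            · intro hx
              exact ⟨x, hx, by simp [hcomm n n.2 x ((hOgood _ hKi).1 hx)]⟩
          rw [hKn, avg_conj ρ g, ← mul_apply', hv.2] at h2
          rw [← hσ i]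
          exact h2
      refine smul_eq_zero_imp hc ?_
      rw [← hEid v (hSt ▸ hv.1), hEapp]
      exact Finset.sum_eq_zero hall
    by_cases hJg : σ J = J
    · -- `J` is trivial on `U`
      have hOJ : ∀ K ∈ O, K = J := by
        intro K hK
        obtain ⟨-, i, rfl⟩ := mem_filter.1 hK
        induction i with
        | zero => ext x; simp [Subgroup.mem_map]
        | succ i IH => rw [← hσ i, IH (mem_filter.2 ⟨mem_univ _, i, rfl⟩), hJg]
      have hUJ : ∀ v ∈ U, ∀ j ∈ J, ρ j v = v := by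
        intro v hv
        have : S ≤ fixAll ρ U J := iSup₂_le fun K hK => by rw [hOJ K hK]
        exact (this (hSt.symm ▸ hv)).2
      obtain ⟨k, hkN, hkJ⟩ : ∃ k ∈ N, k ∉ J := by
        by_contra hcon
        push Not at hcon
        exact hU (eq_bot_iff.2 fun v hv => hfix v fun n hn => hUJ v hv n (hcon n hn))
      have hk0 : ∀ v ∈ U, ρ k v = v → v = 0 := by
        intro v hv hkv
        have h1 := hdisj J hO0 (J ⊔ Subgroup.zpowers k) (sup_le hJN (Subgroup.zpowers_le.2 hkN))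
          (fun hle => hkJ (hle (le_sup_right (a := J) (Subgroup.mem_zpowers k))))
        let S' : Subgroup X :=
          { carrier := {x | ρ x v = v}
            mul_mem' := fun {a b} ha hb => show ρ (a * b) v = v by rw [mul_apply', hb, ha]
            one_mem' := one_apply' ρ v
            inv_mem' := fun {a} ha => show ρ a⁻¹ v = v by
              conv_lhs => rw [← (ha : ρ a v = v), ← mul_apply', inv_mul_cancel, one_apply'] }
        have h2 : J ⊔ Subgroup.zpowers k ≤ S' := sup_le (hUJ v hv) (Subgroup.zpowers_le.2 hkv)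
        exact AddSubgroup.mem_bot.1 (h1 ▸ ⟨⟨hv, hUJ v hv⟩, hv, fun j hj => h2 hj⟩)
      have hpair : ∀ n : N, Nat.card (fix ρ U (g * n)) * Nat.card (fix ρ U (g * ((n * ⟨k, hkN⟩ : N) : X))) ≤
          Nat.card U := fun n => card_mul_card_le (fun v hv => hv.1) (fun v hv => hv.1) <|
        eq_bot_iff.2 fun v hv => AddSubgroup.mem_bot.2 <| hk0 v hv.1.1 <| by
          have h1 := hv.2.2
          rw [Subgroup.coe_mul, ← mul_assoc, mul_apply'] at h1
          exact (apply_injective ρ (g * n)) (h1.trans hv.1.2.symm)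
      rw [pow_two]
      nth_rewrite 2 [← Fintype.prod_equiv (Equiv.mulRight (⟨k, hkN⟩ : N))
        (fun n => Nat.card (fix ρ U (g * ((n * ⟨k, hkN⟩ : N) : X)))) (fun n => Nat.card (fix ρ U (g * n)))
        (fun n => rfl)]
      rw [← Finset.prod_mul_distrib, Nat.card_eq_fintype_card (α := N), ← Finset.card_univ]
      exact Finset.prod_le_pow_card _ _ _ fun n _ => hpair n
    · have hne : ¬ σ J ≤ J := fun hle => hJg <| Subgroup.eq_of_le_of_card_ge hle
        (hOgood _ (hOσ J hO0)).2.2.ge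
      have hW : Nat.card (fixAll ρ U J) * Nat.card (fixAll ρ U (σ J)) ≤ Nat.card U :=
        card_mul_card_le (fun v hv => hv.1) (fun v hv => hv.1)
          (hdisj J hO0 (σ J) (hOgood _ (hOσ J hO0)).1 hne)
      have hWW : Nat.card (fixAll ρ U J) ≤ Nat.card (fixAll ρ U (σ J)) := by
        refine Nat.card_le_card_of_injective (fun v => ⟨ρ g v, hgU v v.2.1, ?_⟩) ?_
        · rintro _ ⟨j, hj, rfl⟩
          show ρ (g * j * g⁻¹) (ρ g v) = ρ g v
          rw [← mul_apply', inv_mul_cancel_right, mul_apply', v.2.2 j hj]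
        · intro a b hab
          exact Subtype.ext ((apply_injective ρ g) (congrArg Subtype.val hab))
      have hone : ∀ n : N, Nat.card (fix ρ U (g * n)) ≤ Nat.card (fixAll ρ U J) := fun n => by
        refine Nat.card_le_card_of_injective (fun v => ⟨avg ρ J v, havg J hO0 v v.2.1⟩) ?_
        intro a b hab
        have h1 : avg ρ J ((a : V) - b) = 0 := by
          rw [map_sub, sub_eq_zero]
          exact congrArg Subtype.val hab
        exact Subtype.ext (sub_eq_zero.1 (hinj n _ ((fix ρ U (g * n)).sub_mem a.2 b.2) h1))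
      rw [← Finset.prod_pow, Nat.card_eq_fintype_card (α := N), ← Finset.card_univ]
      refine Finset.prod_le_pow_card _ _ _ fun n _ => ?_
      rw [pow_two]
      exact ((Nat.mul_le_mul (hone n) (hone n)).trans (Nat.mul_le_mul_left _ hWW)).trans hW
  · have hSU' : S < U := lt_of_le_of_ne hSU hSt
    have hS0 : S ≠ ⊥ := fun h => hJ (eq_bot_iff.2 (h ▸ le_iSup₂ (f := fun K (_ : K ∈ O) => fixAll ρ U K) J hO0))
    have hTU : T < U := lt_of_le_of_ne inf_le_left fun h => hS0 <| by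
      rw [← hST, h]
      exact (inf_eq_left.2 hSU).symm
    have hlt : ∀ A : AddSubgroup V, A < U → Nat.card A < Nat.card U := fun A hA =>
      lt_of_le_of_ne (Nat.card_le_card_of_injective _ (AddSubgroup.inclusion_injective hA.le))
        fun h => hA.ne (AddSubgroup.eq_of_le_of_card_ge hA.le h.ge)
    have h1 := ih _ (hlt S hSU') S rfl hgS hNS
    have h2 := ih _ (hlt T hTU) T rfl hgT hNT
    have h3 : ∀ n : N, Nat.card (fix ρ U (g * n)) ≤
        Nat.card (fix ρ S (g * n)) * Nat.card (fix ρ T (g * n)) := by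
      intro n
      rw [← Nat.card_prod]
      refine Nat.card_le_card_of_surjective
        (fun ab => (⟨(ab.1 : V) + ab.2, U.add_mem (hSU ab.1.2.1) ab.2.2.1.1,
          by rw [map_add, ab.1.2.2, ab.2.2.2]⟩ : fix ρ U (g * n))) ?_
      rintro ⟨v, hvU, hv⟩
      obtain ⟨s, hs, t, ht, rfl⟩ := hdec v hvU
      have hgn : ∀ {A : AddSubgroup V}, (∀ v ∈ A, ρ g v ∈ A) → (∀ m ∈ N, ∀ v ∈ A, ρ m v ∈ A) →
          ∀ a ∈ A, ρ (g * n) a ∈ A := fun hA hB a ha => by
        rw [mul_apply']; exact hA _ (hB n n.2 a ha)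
      have e : ρ (g * n) s - s = t - ρ (g * n) t := by
        rw [sub_eq_sub_iff_add_eq_add, ← map_add, hv, add_comm]
      have h4 : ρ (g * n) s - s ∈ S ⊓ T :=
        ⟨S.sub_mem (hgn hgS hNS s hs) hs, e ▸ T.sub_mem ht (hgn hgT hNT t ht)⟩
      rw [hST, AddSubgroup.mem_bot] at h4
      have h5 : t - ρ (g * n) t = 0 := e ▸ h4
      exact ⟨(⟨s, hs, sub_eq_zero.1 h4⟩, ⟨t, ht, (sub_eq_zero.1 h5).symm⟩), rfl⟩
    calc (∏ n : N, Nat.card (fix ρ U (g * n))) ^ 2
        ≤ (∏ n : N, Nat.card (fix ρ S (g * n)) * Nat.card (fix ρ T (g * n))) ^ 2 :=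
          Nat.pow_le_pow_left (Finset.prod_le_prod' fun n _ => h3 n) 2
      _ = (∏ n : N, Nat.card (fix ρ S (g * n))) ^ 2 * (∏ n : N, Nat.card (fix ρ T (g * n))) ^ 2 := by
          rw [Finset.prod_mul_distrib, mul_pow]
      _ ≤ Nat.card S ^ Nat.card N * Nat.card T ^ Nat.card N := Nat.mul_le_mul h1 h2
      _ ≤ Nat.card U ^ Nat.card N := by
          rw [← mul_pow]
          exact Nat.pow_le_pow_left (card_mul_card_le hSU inf_le_left hST) _

/-- For a faithful irreducible action of a nontrivial solvable group on an elementary abelian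
`p`-group the geometric mean of the fixed-point counts is at most the square root of the order. -/
theorem prod_sq_le [Fintype X] (hs : Group.IsSolvable X) [Nontrivial X] {p : ℕ} [hp : Fact p.Prime]
    (hV : ∀ v : V, p • v = 0) (hinj : Function.Injective ρ)
    (hirr : ∀ U : AddSubgroup V, (∀ x : X, ∀ v ∈ U, ρ x v ∈ U) → U = ⊥ ∨ U = ⊤) :
    (∏ x : X, Nat.card (fix ρ ⊤ x)) ^ 2 ≤ Nat.card V ^ Nat.card X := by
  classical
  obtain ⟨N, ⟨hN, hN1⟩, hmin⟩ := (Set.toFinite {N : Subgroup X | N.Normal ∧ N ≠ ⊥}).exists_minimal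
    ⟨⊤, inferInstance, top_ne_bot⟩
  haveI := hN
  have hcomm' : ⁅N, N⁆ = ⊥ := by
    by_contra hne
    have hle : N ≤ ⁅N, N⁆ := hmin ⟨Subgroup.commutator_normal N N, hne⟩ (Subgroup.commutator_le_left N N)
    obtain ⟨m, hm⟩ := hs.solvable
    have : ∀ k, N ≤ derivedSeries X k := fun k => by
      induction k with
      | zero => simp
      | succ k IH => rw [derivedSeries_succ]; exact hle.trans (Subgroup.commutator_mono IH IH)
    exact hN1 (eq_bot_iff.2 ((this m).trans hm.le))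
  have hcomm : ∀ a ∈ N, ∀ b ∈ N, a * b = b * a := fun a ha b hb =>
    (Subgroup.commutator_eq_bot_iff_le_centralizer.1 hcomm' hb a ha)
  obtain ⟨r, hr, hrN⟩ : ∃ r : ℕ, r.Prime ∧ r ∣ Nat.card N := Nat.exists_prime_and_dvd
    (fun h => hN1 (Subgroup.card_eq_one.1 h))
  haveI : Fact r.Prime := ⟨hr⟩
  obtain ⟨y, hy⟩ := exists_prime_orderOf_dvd_card' (G := N) r hrN
  let R : Subgroup X :=
    { carrier := {x | x ∈ N ∧ x ^ r = 1}
      mul_mem' := fun {a b} ha hb => ⟨N.mul_mem ha.1 hb.1, by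
        rw [(Commute.mul_pow (hcomm a ha.1 b hb.1) r), ha.2, hb.2, one_mul]⟩
      one_mem' := ⟨N.one_mem, one_pow r⟩
      inv_mem' := fun {a} ha => ⟨N.inv_mem ha.1, by rw [inv_pow, ha.2, inv_one]⟩ }
  have hRN : R.Normal := ⟨fun a ha x => ⟨hN.conj_mem a ha.1 x, by rw [conj_pow, ha.2, mul_one, mul_inv_cancel]⟩⟩
  have hRne : R ≠ ⊥ := fun h => by
    have h1 : (y : X) ∈ R := ⟨y.2, by
      rw [← SubmonoidClass.coe_pow, ← hy, pow_orderOf_eq_one]; rfl⟩
    rw [h, Subgroup.mem_bot, OneMemClass.coe_eq_one] at h1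
    rw [h1, orderOf_one] at hy
    exact hr.ne_one hy.symm
  have hNr : IsPGroup r N := fun a => ⟨1, Subtype.ext (by
    rw [pow_one]; exact ((hmin ⟨hRN, hRne⟩ (fun x hx => hx.1)) a.2).2)⟩
  -- fixed points of `N`
  have hfix : ∀ v : V, (∀ n ∈ N, ρ n v = v) → v = 0 := by
    intro v hv
    rcases hirr (fixAll ρ ⊤ N) (fun x w hw => ⟨trivial, fun n hn => by
      have h2 : x⁻¹ * n * x ∈ N := by simpa using hN.conj_mem n hn x⁻¹
      rw [← mul_apply', show n * x = x * (x⁻¹ * n * x) by group, mul_apply', hw.2 _ h2]⟩) with h | h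
    · exact AddSubgroup.mem_bot.1 (h ▸ (⟨trivial, hv⟩ : v ∈ fixAll ρ ⊤ N))
    · exfalso
      refine hN1 (eq_bot_iff.2 fun n hn => Subgroup.mem_bot.2 (hinj ?_))
      ext w
      rw [one_apply']
      exact (h.ge (AddSubgroup.mem_top w)).2 n hn
  rcases subsingleton_or_nontrivial V with hV1 | hV1
  · have h1 : ∀ x : X, Nat.card (fix ρ ⊤ x) = 1 := fun x => Nat.card_eq_one_iff_unique.2 ⟨inferInstance, inferInstance⟩
    simp [h1, Nat.one_le_pow _ _ Nat.card_pos]
  have hrp : r ≠ p := by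
    rintro rfl
    obtain ⟨v0, hv0⟩ := exists_ne (0 : V)
    letI : MulAction N V :=
      { smul := fun n v => ρ (n : X) v
        one_smul := fun v => one_apply' ρ v
        mul_smul := fun a b v => mul_apply' ρ (a : X) b v }
    have hpV : r ∣ Nat.card V := by
      have h2 : addOrderOf v0 = r := addOrderOf_eq_prime (hV v0) hv0
      exact h2 ▸ addOrderOf_dvd_natCard v0
    obtain ⟨w, hw, hw0⟩ := hNr.exists_fixed_point_of_prime_dvd_card_of_fixed_point V hpV
      (show (0 : V) ∈ MulAction.fixedPoints N V from fun n => map_zero (ρ (n : X)))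
    exact hw0 (hfix w fun n hn => hw ⟨n, hn⟩).symm
  have hcop : (Nat.card N).Coprime (Nat.card V) := by
    obtain ⟨m, hm⟩ := IsPGroup.iff_card.1 hNr
    rw [hm]
    refine Nat.Coprime.pow_left _ ((Nat.Prime.coprime_iff_not_dvd hr).2 fun h => ?_)
    obtain ⟨v, hv⟩ := exists_prime_addOrderOf_dvd_card' (G := V) r h
    have := addOrderOf_dvd_of_nsmul_eq_zero (hV v)
    rw [hv] at this
    exact hrp ((Nat.prime_dvd_prime_iff_eq hr hp.out).1 this)
  have key := fun g => prod_coset_sq_le ρ g N hcomm hcop hfix ⊤ (fun _ _ => trivial) (fun _ _ _ _ => trivial)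
  have h1 : ∏ g : X, ∏ n : N, Nat.card (fix ρ ⊤ (g * n)) = (∏ x : X, Nat.card (fix ρ ⊤ x)) ^ Nat.card N := by
    rw [Finset.prod_comm, Finset.prod_congr rfl (fun (n : N) _ =>
      Fintype.prod_equiv (Equiv.mulRight (n : X)) (fun g => Nat.card (fix ρ ⊤ (g * n)))
        (fun x => Nat.card (fix ρ ⊤ x)) (fun g => rfl)), Finset.prod_const, Finset.card_univ,
      Nat.card_eq_fintype_card]
  have h2 := Finset.prod_le_prod' (s := Finset.univ) fun g (_ : g ∈ (Finset.univ : Finset X)) => key g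
  rw [Finset.prod_pow, h1, Finset.prod_const, Finset.card_univ, ← Nat.card_eq_fintype_card,
    AddSubgroup.card_top, ← pow_mul, ← pow_mul, mul_comm (Nat.card N) 2, pow_mul, pow_mul,
    ← pow_mul (Nat.card V), mul_comm (Nat.card N), pow_mul (Nat.card V)] at h2
  exact le_of_pow_le_pow_left₀ Nat.card_pos.ne' (Nat.zero_le _) h2

end CfsgLib.Transfer.FixAvg
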