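import Cfsg.Agent.Lib.Transfer.FusionS4
import Cfsg.Agent.Lib.Fusion.FunctorMaps
import Cfsg.Agent.Lib.Fusion.Centric
import Cfsg.Agent.Lib.Fusion.Extender
import Cfsg.Agent.Lib.Cores.Basic

/-!
`p`-stability of a fusion system is decided in normalizer systems.
-/

set_option autoImplicit false

open Cfsg Cfsg.FusionSystem CfsgLib.Fusion

namespace CfsgLib.Transfer.FusionStable

universe u

variable {Ω : Type u} [Group Ω] {S : Subgroup Ω} (p : ℕ)

/-- Quadratic automorphisms lie in the core of the automizer. -/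
def StableAt (F : FusionSystem S) (Q : Subgroup Ω) : Prop :=
  ∀ χ : MulAut Q, χ ∈ F.autGroup Q → (∀ a : Q, (χ a⁻¹) * a * (χ a⁻¹) * (χ (χ a)) = 1) →
    χ ∈ ((pCore p ↥(F.autGroup Q)).map (F.autGroup Q).subtype : Subgroup (MulAut Q))

/-- `p`-stability of a system. -/
def Stable (F : FusionSystem S) : Prop := ∀ Q : Subgroup Ω, F.IsFullyNormalized Q → StableAt p F Q

variable {p} [Finite S] {F : FusionSystem S}

theorem stableAt_iso {P Q : Subgroup Ω} {e : P ≃* Q} (he : IsIso F e) (h : StableAt p F P) :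
    StableAt p F Q := by
  intro χ hχ hq
  obtain ⟨α, hα⟩ := (autEquiv he).surjective ⟨χ, hχ⟩
  have hχe : χ = MulAut.congr e (α : MulAut P) := by rw [← autEquiv_coe he, hα]
  have hαq : ∀ a : P, ((α : MulAut P) a⁻¹) * a * ((α : MulAut P) a⁻¹) *
      ((α : MulAut P) ((α : MulAut P) a)) = 1 := fun a => e.injective (by
    have h1 : ∀ b : P, e ((α : MulAut P) b) = χ (e b) := fun b => by rw [hχe]; simp [MulAut.congr]
    rw [map_mul, map_mul, map_mul, map_one, h1, h1, h1, map_inv]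
    exact hq (e a))
  obtain ⟨c, hc, hce⟩ := h α α.2 hαq
  obtain rfl : c = α := Subtype.ext hce
  refine ⟨autEquiv he c, ?_, ?_⟩
  · rw [← Cores.map_pCore_equiv (autEquiv he)]
    exact ⟨c, hc, rfl⟩
  · show (autEquiv he c : MulAut Q) = χ
    rw [autEquiv_coe, ← hχe]

/-- Stability at one member gives it on the whole class. -/
theorem stableAt_of_stable (h : Stable p F) {Q : Subgroup Ω} (hQ : Q ≤ S) : StableAt p F Q := by
  obtain ⟨Q', ⟨φ, hφ, hφQ⟩, hQ'⟩ := exists_fullyNormalized F hQ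
  obtain ⟨e, he, -⟩ := exists_iso_of_range hφ hφQ
  exact stableAt_iso he.symm (h Q' hQ')

theorem stableAt_of_le {T : Subgroup Ω} {E : FusionSystem T} {Q : Subgroup Ω}
    [Finite Q] (hle : E.autGroup Q ≤ F.autGroup Q) (h : StableAt p F Q) : StableAt p E Q := by
  intro χ hχ hq
  obtain ⟨c, hc, hce⟩ := h χ (hle hχ) hq
  refine ⟨⟨χ, hχ⟩, ?_, rfl⟩
  let i : E.autGroup Q →* F.autGroup Q := Subgroup.inclusion hle
  have hn : ((pCore p ↥(F.autGroup Q) : Subgroup _).comap i).Normal := inferInstance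
  refine Cores.le_pCore (hn := hn) ((Cores.isPGroup_pCore p).comap_of_injective i
    (Subgroup.inclusion_injective hle)) ?_
  show i ⟨χ, hχ⟩ ∈ pCore p ↥(F.autGroup Q)
  rwa [show i ⟨χ, hχ⟩ = c from Subtype.ext hce.symm]

theorem stable_normSys (h : Stable p F) {R : Subgroup Ω} {N : FusionSystem (normalizerIn S R)}
    (hN : F.IsNormalizerSystem R N) : Stable p N := by
  intro Q hQ
  have hQT : Q ≤ normalizerIn S R := hQ.1
  have hQS : Q ≤ S := hQT.trans inf_le_left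
  have := finite_of_le hQS
  refine stableAt_of_le (autGroup_mono (fun P φ hφ => ?_) Q) (stableAt_of_stable h hQS)
  rw [hN] at hφ
  exact hφ.1

/-- Quadratic automorphisms of cyclic `p`-groups lie in the core of any automizer. -/
theorem stableAt_of_isCyclic [Fact p.Prime] (hS : IsPGroup p S) {Q : Subgroup Ω} (hQS : Q ≤ S)
    (hQ : IsCyclic Q) : StableAt p F Q := by
  intro χ hχ hq
  have := finite_of_le hQS
  obtain ⟨g, hg⟩ := hQ.exists_generator
  have hcomm : ∀ a b : MulAut Q, a * b = b * a := by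
    intro a b
    obtain ⟨i, hi⟩ := Subgroup.mem_zpowers_iff.1 (hg (a g))
    obtain ⟨j, hj⟩ := Subgroup.mem_zpowers_iff.1 (hg (b g))
    refine MulEquiv.ext fun x => ?_
    obtain ⟨n, rfl⟩ := Subgroup.mem_zpowers_iff.1 (hg x)
    simp only [MulAut.mul_apply, map_zpow, ← hi, ← hj]
    simp only [← zpow_mul]
    ring_nf
  obtain ⟨i, hi⟩ := Subgroup.mem_zpowers_iff.1 (hg (χ g))
  obtain ⟨e, he⟩ := (hS.to_le hQS).exists_card_eq
  have hord : orderOf g = p ^ e := by rw [← he]; exact orderOf_eq_card_of_forall_mem_zpowers hg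
  -- the multiplier squares to one modulo the order
  have h1 : g ^ ((i - 1) * (i - 1)) = 1 := by
    have h := hq g
    rw [map_inv, ← hi, map_zpow, ← hi, ← zpow_mul, ← zpow_neg] at h
    nth_rewrite 2 [← zpow_one g] at h
    rw [← zpow_add, ← zpow_add, ← zpow_add] at h
    rw [show (i - 1) * (i - 1) = -i + 1 + -i + i * i by ring]
    exact h
  have hχpow : ∀ n : ℕ, (χ ^ n) g = g ^ ((i : ℤ) ^ n) := fun n => by
    induction n with
    | zero => simp
    | succ n ih =>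
      rw [pow_succ', MulAut.mul_apply, ih, map_zpow, ← hi, ← zpow_mul, ← pow_succ']
  have hχp : ∃ n, χ ^ p ^ n = 1 := by
    refine ⟨e, MulEquiv.ext fun x => ?_⟩
    obtain ⟨n, rfl⟩ := Subgroup.mem_zpowers_iff.1 (hg x)
    rw [map_zpow, hχpow, MulAut.one_apply]
    congr 1
    conv_rhs => rw [← zpow_one g]
    rw [zpow_eq_zpow_iff_modEq, hord]
    rcases Nat.eq_zero_or_pos e with rfl | he0
    · simp [Int.modEq_one]
    have hd : (p : ℤ) ∣ i - 1 := by
      have h2 : ((p ^ e : ℕ) : ℤ) ∣ (i - 1) * (i - 1) := hord ▸ orderOf_dvd_iff_zpow_eq_one.2 h1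
      have h3 : (p : ℤ) ∣ (i - 1) * (i - 1) :=
        (Int.natCast_dvd_natCast.2 (dvd_pow_self p he0.ne')).trans h2
      exact (Int.Prime.dvd_mul' (Fact.out : p.Prime) h3).elim id id
    have h4 := dvd_sub_pow_of_dvd_sub (R := ℤ) (p := p) (a := i) (b := 1) hd e
    rw [one_pow] at h4
    refine (Int.modEq_iff_dvd.2 ?_).symm
    push_cast
    exact (pow_dvd_pow (p : ℤ) (Nat.le_succ e)).trans h4
  refine ⟨⟨χ, hχ⟩, ?_, rfl⟩
  set X := Subgroup.zpowers (⟨χ, hχ⟩ : F.autGroup Q)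
  have hn : X.Normal := ⟨fun x hx y => by
    have : y * x * y⁻¹ = x := mul_inv_eq_iff_eq_mul.2 (Subtype.ext (hcomm y x))
    rwa [this]⟩
  refine Cores.le_pCore (hn := hn) ?_ (Subgroup.mem_zpowers _)
  rintro ⟨x, hx⟩
  obtain ⟨k, rfl⟩ := Subgroup.mem_zpowers_iff.1 hx
  obtain ⟨n, hn⟩ := hχp
  refine ⟨n, Subtype.ext ?_⟩
  have h5 : (⟨χ, hχ⟩ : F.autGroup Q) ^ p ^ n = 1 := Subtype.ext hn
  show ((⟨χ, hχ⟩ : F.autGroup Q) ^ k) ^ (p ^ n) = 1
  rw [← zpow_natCast, ← zpow_mul, mul_comm, zpow_mul, zpow_natCast, h5, one_zpow]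

/-- Every automorphism of `Q` is the restriction of one of `X`. -/
def AllRestrict (F : FusionSystem S) (X Q : Subgroup Ω) : Prop :=
  ∃ h : Q ≤ X, ∀ γ ∈ F.autGroup Q, ∃ δ ∈ F.autGroup X,
    ∀ x : Q, δ (Subgroup.inclusion h x) = Subgroup.inclusion h (γ x)

omit [Finite S] in
theorem stableAt_of_allRestrict {X Q : Subgroup Ω} (hXS : X ≤ S) (hXQ : AllRestrict F X Q)
    {N : FusionSystem (normalizerIn S X)} (hN : F.IsNormalizerSystem X N) (h : StableAt p N Q) :
    StableAt p F Q := by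
  obtain ⟨hQX, hext⟩ := hXQ
  have hQT : Q ≤ normalizerIn S X := hQX.trans (le_normalizerIn hXS)
  have heq : F.autGroup Q = N.autGroup Q := by
    refine le_antisymm (fun γ hγ => ?_) (autGroup_mono (fun P φ hφ => ((hN P).le hφ).1) Q)
    obtain ⟨δ, hδ, hδe⟩ := hext γ hγ
    refine mem_autGroup_of_mem N (φ := Q.subtype.comp γ.toMonoidHom) ?_ fun x => rfl
    rw [hN]
    exact mem_normalizerHom_of_img ((mem_autGroup_iff F hXS).1 hδ) hQX le_rfl
      ((img_self _).trans (range_subtype_comp δ))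
      (fun x => congrArg (fun y : X => (y : Ω)) (hδe x)) hQT fun x => hQT (γ x).2
  intro χ hχ hq
  obtain ⟨c, hc, hce⟩ := h χ (heq ▸ hχ) hq
  refine ⟨MulEquiv.subgroupCongr heq.symm c, ?_, hce⟩
  rw [← Cores.map_pCore_equiv (MulEquiv.subgroupCongr heq.symm)]
  exact ⟨c, hc, rfl⟩

/-- Automorphisms of a fully normalized `U` extend to `U C_S(U)`. -/
theorem allRestrict_sup_centralizerIn [Fact p.Prime] (hS : IsPGroup p S) (hF : F.IsSaturated p)
    {U : Subgroup Ω} (hUn : F.IsFullyNormalized U) :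
    AllRestrict F (U ⊔ centralizerIn S U) U := by
  have hUS : U ≤ S := hUn.1
  have := finite_of_le hUS
  set P₀ := U ⊔ centralizerIn S U with hP₀
  have hP₀S : P₀ ≤ S := sup_le hUS (centralizerIn_le U)
  have := finite_of_le hP₀S
  refine ⟨le_sup_left, fun γ hγ => ?_⟩
  have hai := (mem_autGroup_iff F hUS).1 hγ
  obtain ⟨ψ, hψ, hψe⟩ := exists_extension (fullyAutomized_receptive_of_fullyNormalized hS hF hUn).2
    hai (le_sup_left : U ≤ P₀) (sup_le (le_extender hai.mem) (centralizerIn_le_extender _ _))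
  have hψr : ψ.range = P₀ := by
    refine Subgroup.eq_of_le_of_card_ge ?_
      (Nat.card_congr (MonoidHom.ofInjective (F.injective_of_mem hψ)).toEquiv).le
    rintro _ ⟨z, rfl⟩
    have h1 : P₀ ≤ (P₀.comap ψ).map P₀.subtype := sup_le
      (fun w hw => ⟨Subgroup.inclusion le_sup_left ⟨w, hw⟩, by
        show ψ _ ∈ P₀
        rw [hψe]
        exact (le_sup_left : U ≤ P₀) (γ ⟨w, hw⟩).2, rfl⟩)
      (fun w hw => ⟨⟨w, (le_sup_right : centralizerIn S U ≤ P₀) hw⟩,
        (le_sup_right : centralizerIn S U ≤ P₀)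
          (apply_mem_centralizerIn (e := γ) hψ le_sup_left hψe hw), rfl⟩)
    obtain ⟨z', hz', hze⟩ := h1 z.2
    rw [← Subtype.ext hze]
    exact hz'
  obtain ⟨δ, hδ, hδe⟩ := exists_iso_of_range hψ hψr
  exact ⟨δ, (mem_autGroup_iff F hP₀S).2 hδ, fun x => Subtype.ext ((hδe _).trans (hψe x))⟩


omit [Finite S] in
/-- The property moves along isomorphisms. -/
theorem allRestrict_move [Finite S] {U Y Q : Subgroup Ω} (hYS : Y ≤ S) (hYc : F.IsCentric Y)
    (hQ : F.IsConj U Q) (hYQ : AllRestrict F Y Q) :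
    ∃ Y' Q', F.IsFullyNormalized Y' ∧ F.IsCentric Y' ∧ F.IsConj U Q' ∧ AllRestrict F Y' Q' ∧
      Nat.card Y' = Nat.card Y := by
  obtain ⟨hQY, hext⟩ := hYQ
  obtain ⟨Y', ⟨φ, hφ, hφY⟩, hY'n⟩ := exists_fullyNormalized F hYS
  obtain ⟨e, he, -⟩ := exists_iso_of_range hφ hφY
  obtain ⟨Q', e', he', hQ'Y, he'e⟩ : ∃ (Q' : Subgroup Ω) (e' : Q ≃* Q'), IsIso F e' ∧
      ∃ h : Q' ≤ Y', ∀ x : Q, e (Subgroup.inclusion hQY x) = Subgroup.inclusion h (e' x) := by
    obtain ⟨e', h1, h2⟩ := exists_iso_of_mem (res_mem F he.mem hQY)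
    refine ⟨_, e', h1, ?_, fun x => Subtype.ext (h2 x).symm⟩
    rintro _ ⟨x, rfl⟩
    exact (e _).2
  refine ⟨Y', Q', hY'n, isCentric_of_isConj hYc ⟨φ, hφ, hφY⟩,
    isConj_trans hQ (isConj_iff.2 ⟨e', he'⟩), ⟨hQ'Y, fun γ hγ => ?_⟩,
    (card_eq_of_isConj (F := F) ⟨φ, hφ, hφY⟩).symm⟩
  obtain ⟨δ, hδ, hδe⟩ := hext _ (congr_mem_autGroup he'.symm hγ)
  refine ⟨MulAut.congr e δ, congr_mem_autGroup he hδ, fun x => ?_⟩
  obtain ⟨y, rfl⟩ := e'.surjective x
  show e (δ (e.symm (Subgroup.inclusion hQ'Y (e' y)))) = _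
  rw [← he'e, e.symm_apply_apply, hδe, he'e]
  simp [MulAut.congr]


/-- A class has a member all of whose automorphisms extend to a centric radical fully normalized
subgroup. -/
theorem exists_allRestrict [Fact p.Prime] (hS : IsPGroup p S) (hF : F.IsSaturated p)
    {U : Subgroup Ω} (hUn : F.IsFullyNormalized U) :
    ∃ X Q : Subgroup Ω, F.IsFullyNormalized X ∧ F.IsCentric X ∧ F.IsRadical p X ∧
      F.IsConj U Q ∧ AllRestrict F X Q := by
  have hUS : U ≤ S := hUn.1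
  have := finite_of_le hUS
  set P₀ := U ⊔ centralizerIn S U with hP₀
  have hP₀S : P₀ ≤ S := sup_le hUS (centralizerIn_le U)
  have := finite_of_le hP₀S
  obtain ⟨X, ⟨hXn, hXc, Q, hQ, hXQ⟩, hmax⟩ := exists_max_card (S := S)
    (fun X => F.IsFullyNormalized X ∧ F.IsCentric X ∧ ∃ Q, F.IsConj U Q ∧ AllRestrict F X Q)
    (fun X => Nat.card X) (fun X h => h.1.1) (by
      obtain ⟨Y', Q', h1, h2, h3, h4, -⟩ :=
        allRestrict_move hP₀S (isCentric_sup_centralizerIn hS hF hUn) (isConj_refl hUS)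
          (allRestrict_sup_centralizerIn hS hF hUn)
      exact ⟨Y', h1, h2, Q', h3, h4⟩)
  refine ⟨X, Q, hXn, hXc, ⟨hXn.1, ?_⟩, hQ, hXQ⟩
  have hXS := hXn.1
  have := finite_of_le hXS
  set A := F.autGroup X with hA
  obtain ⟨⟨-, Sy, hSy⟩, hrec⟩ := fullyAutomized_receptive_of_fullyNormalized hS hF hXn
  set O : Subgroup (MulAut X) := (pCore p ↥A).map A.subtype with hO
  have hinnA : Cfsg.Inn X ≤ A := inn_le_autGroup hXS
  have hinn : Cfsg.Inn X ≤ O := by
    intro a ha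
    refine ⟨⟨a, hinnA ha⟩, ?_, rfl⟩
    have hn : ((Cfsg.Inn X).subgroupOf A).Normal := by
      refine ⟨fun x hx y => ?_⟩
      rw [Subgroup.mem_subgroupOf] at hx ⊢
      obtain ⟨g, hg⟩ := hx
      refine ⟨(y : MulAut X) g, ?_⟩
      rw [Subgroup.coe_mul, Subgroup.coe_mul, Subgroup.coe_inv, ← hg]
      ext z
      simp
    refine Cores.le_pCore (hn := hn) ?_ (Subgroup.mem_subgroupOf.2 ha)
    exact ((hS.to_le hXS).of_surjective MulAut.conj.rangeRestrict
      MulAut.conj.rangeRestrict_surjective).comap_subtype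
  refine le_antisymm ?_ hinn
  by_contra hne
  obtain ⟨α, hαO, hαi⟩ := SetLike.not_le_iff_exists.1 hne
  set Y : Subgroup Ω := S ⊓ ((O.comap X.normalizerMonoidHom).map
    (Subgroup.normalizer (X : Set Ω)).subtype) with hY
  have hYS : Y ≤ S := inf_le_left
  have hmemY : ∀ {g : Ω}, g ∈ Y ↔ g ∈ S ∧ ∃ hg : g ∈ Subgroup.normalizer (X : Set Ω), normAut g hg ∈ O := by
    intro g
    constructor
    · rintro ⟨hgS, ⟨g', hg'⟩, h, rfl⟩
      exact ⟨hgS, hg', h⟩
    · rintro ⟨hgS, hg, h⟩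
      exact ⟨hgS, ⟨g, hg⟩, h, rfl⟩
  have hXY : X ≤ Y := fun g hg => hmemY.2 ⟨hXS hg, Subgroup.le_normalizer hg, hinn
    ⟨⟨g, hg⟩, MulEquiv.ext fun z => Subtype.ext (by simp)⟩⟩
  have hOS : O ≤ autInducedBy S X := by
    rintro _ ⟨a, ha, rfl⟩
    have := Cores.pCore_le_sylow Sy ha
    rw [hSy] at this
    exact this
  obtain ⟨g, hgS, hg⟩ := mem_autInducedBy_iff.1 (hOS hαO)
  have hgY : g ∈ Y := hmemY.2 ⟨hgS, mem_normalizer_of_aut hg, by
    convert hαO using 1
    exact MulEquiv.ext fun z => Subtype.ext ((normAut_apply g _ z).trans (hg z).symm)⟩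
  have hlt : Nat.card X < Nat.card Y := by
    have := finite_of_le hYS
    refine lt_of_le_of_ne (Subgroup.card_le_of_le hXY) fun h => hαi ?_
    have hgX : g ∈ X := (Subgroup.eq_of_le_of_card_ge hXY h.ge).symm ▸ hgY
    refine ⟨⟨g, hgX⟩, MulEquiv.ext fun z => Subtype.ext ?_⟩
    rw [hg]
    simp
  have hOn : ∀ β ∈ A, ∀ a ∈ O, β * a * β⁻¹ ∈ O := by
    rintro β hβ _ ⟨a, ha, rfl⟩
    let b : A := ⟨β, hβ⟩
    refine ⟨b * a * b⁻¹, (inferInstance : (pCore p ↥A).Normal).conj_mem a ha b, ?_⟩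
    rw [map_mul, map_mul, map_inv]
    rfl
  obtain ⟨hQX, hext⟩ := hXQ
  have hYext : AllRestrict F Y Q := by
    refine ⟨hQX.trans hXY, fun γ hγ => ?_⟩
    obtain ⟨δ, hδ, hδe⟩ := hext γ hγ
    have hδi := (mem_autGroup_iff F hXS).1 hδ
    have := finite_of_le hYS
    have hYN : Y ≤ extender S X (X.subtype.comp δ.toMonoidHom) := fun w hw => by
      obtain ⟨hwS, hwN, hwO⟩ := hmemY.1 hw
      exact mem_extender_iso_iff.2 ⟨hwS, hwN, hOS (hOn δ hδ _ hwO)⟩
    obtain ⟨ψ, hψ, hψe⟩ := exists_extension hrec hδi hXY hYN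
    have hψr : ψ.range = Y := by
      refine Subgroup.eq_of_le_of_card_ge ?_
        (Nat.card_congr (MonoidHom.ofInjective (F.injective_of_mem hψ)).toEquiv).le
      rintro _ ⟨⟨w, hw⟩, rfl⟩
      obtain ⟨hwS, hwN, hwO⟩ := hmemY.1 hw
      have hconj : ∀ z : X, (((δ * normAut w hwN * δ⁻¹) z : X) : Ω) = ψ ⟨w, hw⟩ * z * (ψ ⟨w, hw⟩)⁻¹ := by
        intro z
        obtain ⟨z, rfl⟩ := δ.surjective z
        rw [MulAut.mul_apply, MulAut.mul_apply, MulAut.inv_apply_self]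
        rw [← hψe (normAut w hwN z), ← hψe z, ← map_inv, ← map_mul, ← map_mul]
        rfl
      refine hmemY.2 ⟨apply_mem_S F hψ _, mem_normalizer_of_aut hconj, ?_⟩
      convert hOn δ hδ _ hwO using 1
      exact MulEquiv.ext fun z => Subtype.ext ((normAut_apply _ _ z).trans (hconj z).symm)
    obtain ⟨δ', hδ', hδ'e⟩ := exists_iso_of_range hψ hψr
    refine ⟨δ', (mem_autGroup_iff F hYS).2 hδ', fun x => Subtype.ext ((hδ'e _).trans ?_)⟩
    exact (hψe (Subgroup.inclusion hQX x)).trans (congrArg (fun y : X => (y : Ω)) (hδe x))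
  obtain ⟨Y', Q', h1, h2, h3, h4, h5⟩ := allRestrict_move hYS (isCentric_of_le hXY hYS hXc) hQ hYext
  exact absurd (hmax Y' ⟨h1, h2, Q', h3, h4⟩) (by omega)

/-- Stability at fully normalized centric radical subgroups gives stability. -/
theorem stable_of_centric_radical [Fact p.Prime] (hS : IsPGroup p S) (hF : F.IsSaturated p)
    (h : ∀ R, F.IsFullyNormalized R → F.IsCentric R → F.IsRadical p R →
      ∀ N : FusionSystem (normalizerIn S R), F.IsNormalizerSystem R N → Stable p N) :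
    Stable p F := by
  intro U hUn
  obtain ⟨X, Q, hXn, hXc, hXr, hQ, hXQ⟩ := exists_allRestrict (p := p) hS hF hUn
  obtain ⟨e, he⟩ := isConj_iff.1 hQ
  refine stableAt_iso he.symm (stableAt_of_allRestrict hXn.1 hXQ
    (N := normSys F X rfl hXn.1) (fun _ => rfl) ?_)
  have := finite_of_le (normalizerIn_le (S := S) X)
  exact stableAt_of_stable (h X hXn hXc hXr _ fun _ => rfl)
    (hXQ.fst.trans (le_normalizerIn hXn.1))

/-- Stability at noncyclic fully normalized subgroups gives stability. -/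
theorem stable_of_noncyclic [Fact p.Prime] (hS : IsPGroup p S)
    (h : ∀ R, F.IsFullyNormalized R → ¬ IsCyclic R →
      ∀ N : FusionSystem (normalizerIn S R), F.IsNormalizerSystem R N → Stable p N) :
    Stable p F := by
  intro U hUn
  by_cases hc : IsCyclic U
  · exact stableAt_of_isCyclic hS hUn.1 hc
  refine stableAt_of_allRestrict hUn.1 ⟨le_rfl, fun γ hγ => ⟨γ, hγ, fun x => rfl⟩⟩
    (N := normSys F U rfl hUn.1) (fun _ => rfl) ?_
  have := finite_of_le (normalizerIn_le (S := S) U)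
  exact stableAt_of_stable (h U hUn hc _ fun _ => rfl) (le_normalizerIn hUn.1)

end CfsgLib.Transfer.FusionStable
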