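import Cfsg.Agent.Lib.Transfer.MaximalClass
import Cfsg.Agent.Lib.Fusion.MetaOmega
import Cfsg.Agent.Lib.Techniques.PlaneAction
import Cfsg.Agent.Lib.PGroup.Basic
import Cfsg.Agent.Lib.Solvable.LagrangeConverse
import Cfsg.Prelude.Def_OddOrderLocal

/-!
An automorphism of order `p` of a metacyclic `p`-group without cyclic subgroup of index `p` moves an
element of order `p` exactly when the semidirect product has maximal class and `p = 3`.
-/

set_option autoImplicit false

namespace CfsgLib.Transfer.MetaAut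

open Subgroup
open scoped commutatorElement

universe u

variable {L : Type u} [Group L] [Finite L] {p : ℕ} [hp : Fact p.Prime]

omit [Finite L] in
theorem metacyclic_quotient (hmc : Cfsg.IsMetacyclic L) (E : Subgroup L) [E.Normal] :
    Cfsg.IsMetacyclic (L ⧸ E) := by
  obtain ⟨N, hN, hNc, hQc⟩ := hmc
  have := hN
  haveI hM : (N.map (QuotientGroup.mk' E)).Normal :=
    hN.map _ (QuotientGroup.mk'_surjective E)
  refine ⟨N.map (QuotientGroup.mk' E), hM, ?_, ?_⟩
  · exact isCyclic_of_surjective ((QuotientGroup.mk' E).subgroupMap N)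
      ((QuotientGroup.mk' E).subgroupMap_surjective N)
  · refine isCyclic_of_surjective
      (QuotientGroup.map N (N.map (QuotientGroup.mk' E)) (QuotientGroup.mk' E) (le_comap_map _ _))
      (fun x => ?_)
    obtain ⟨y, rfl⟩ := QuotientGroup.mk'_surjective _ x
    obtain ⟨z, rfl⟩ := QuotientGroup.mk'_surjective E y
    exact ⟨QuotientGroup.mk z, rfl⟩

theorem omega_card_sq (hL : IsPGroup p L) (hp2 : p ≠ 2) (hnc : ¬ IsCyclic L)
    (hmc : Cfsg.IsMetacyclic L) :
    ∃ W : Subgroup L, W.Characteristic ∧ (∀ x, x ∈ W ↔ x ^ p = 1) ∧ Nat.card W = p ^ 2 := by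
  obtain ⟨W, hW, -, hle⟩ := CfsgLib.Fusion.exists_omega_of_metacyclic hL hp2 hmc
  refine ⟨W, characteristic_iff_map_le.2 fun e => ?_, hW, le_antisymm hle ?_⟩
  · rintro _ ⟨x, hx, rfl⟩
    refine (hW _).2 ?_
    rw [← map_pow, (hW x).1 hx, map_one]
  · obtain ⟨k, hk⟩ := IsPGroup.iff_card.1 (hL.to_subgroup W)
    rw [hk]
    refine Nat.pow_le_pow_right hp.out.pos ?_
    by_contra hk2
    have hne : ∃ Z : Subgroup L, Nat.card Z = p ∧ W ≤ Z := by
      interval_cases k
      · exfalso
        have : Nontrivial L := by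
          by_contra hnt
          rw [not_nontrivial_iff_subsingleton] at hnt
          exact hnc inferInstance
        obtain ⟨j, hj0, hj⟩ := hL.nontrivial_iff_card.1 this
        obtain ⟨x, hx⟩ := exists_prime_orderOf_dvd_card' (G := L) p (hj ▸ dvd_pow_self p hj0.ne')
        have hxW : x ∈ W := (hW x).2 (hx ▸ pow_orderOf_eq_one x)
        have hb : W = ⊥ := card_eq_one.1 (by simpa using hk)
        rw [hb, mem_bot] at hxW
        rw [hxW, orderOf_one] at hx
        exact hp.out.ne_one hx.symm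
      · exact ⟨W, by simpa using hk, le_rfl⟩
    obtain ⟨Z, hZ, hWZ⟩ := hne
    obtain ⟨w, hw⟩ := CfsgLib.Techniques.exists_generator_of_omega_le hp2 hZ (⊤ : Subgroup L)
      (hL.to_subgroup ⊤) (fun x _ hx => hWZ ((hW x).2 hx))
    exact hnc ⟨⟨w, fun x => hw.ge (mem_top x)⟩⟩

/-- The layers at the bottom. -/
structure Layers (L : Type u) [Group L] (p : ℕ) where
  E : Subgroup L
  T : Subgroup L
  charE : E.Characteristic
  memE : ∀ x, x ∈ E ↔ x ^ p = 1
  cardE : Nat.card E = p ^ 2
  memT : ∀ x, x ∈ T ↔ x ^ p ∈ E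
  commT : ∀ x ∈ T, ∀ y ∈ T, ⁅x, y⁆ ∈ E
  centralT : ∀ x ∈ T, ∀ y ∈ T, ∀ g : L, ⁅x, y⁆ * g = g * ⁅x, y⁆
  root : ∀ e ∈ E, ∃ t ∈ T, t ^ p = e
  centralE : ∀ e ∈ E, ∀ y ∈ T, e * y = y * e

theorem exists_layers (hL : IsPGroup p L) (hp2 : p ≠ 2) (hmc : Cfsg.IsMetacyclic L)
    (hnc : ∀ C : Subgroup L, IsCyclic C → C.index ≠ p) (hncyc : ¬ IsCyclic L) :
    Nonempty (Layers L p) := by
  classical
  obtain ⟨E, hEc, hE, hEcard⟩ := omega_card_sq hL hp2 hncyc hmc
  haveI := hEc
  have hQnc : ¬ IsCyclic (L ⧸ E) := by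
    intro hcyc
    obtain ⟨g, hg⟩ := hcyc.exists_generator
    obtain ⟨x, rfl⟩ := QuotientGroup.mk'_surjective E g
    have htop : ∀ y : L, ∃ e ∈ E, ∃ i : ℤ, y = e * x ^ i := by
      intro y
      obtain ⟨i, hi⟩ := mem_zpowers_iff.1 (hg (QuotientGroup.mk' E y))
      refine ⟨y * (x ^ i)⁻¹, ?_, i, by rw [inv_mul_cancel_right]⟩
      rw [← QuotientGroup.ker_mk' E, MonoidHom.mem_ker, map_mul, map_inv, map_zpow, hi, mul_inv_cancel]
    rcases eq_or_ne x 1 with rfl | hx1
    · -- then `L = E`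
      have hLE : Nat.card L = p ^ 2 := by
        rw [← hEcard, ← card_top (G := L)]
        congr 1
        refine (congrArg (fun H : Subgroup L => ↥H) (eq_top_iff.2 fun y _ => ?_)).symm
        obtain ⟨e, he, i, rfl⟩ := htop y
        rwa [one_zpow, mul_one]
      obtain ⟨y, hy⟩ := exists_prime_orderOf_dvd_card' (G := L) p (hLE ▸ dvd_pow_self p two_ne_zero)
      refine hnc (zpowers y) inferInstance ?_
      have h2 := (zpowers y).card_mul_index
      rw [Nat.card_zpowers, hy, hLE, sq] at h2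
      exact Nat.eq_of_mul_eq_mul_left hp.out.pos h2
    obtain ⟨k, hk⟩ := hL x
    obtain ⟨j, hjk, hj⟩ := (Nat.dvd_prime_pow hp.out).1 (orderOf_dvd_of_pow_eq_one hk)
    obtain ⟨j, rfl⟩ : ∃ i, j = i + 1 := ⟨j - 1, by
      rcases Nat.eq_zero_or_pos j with rfl | h
      · exact absurd (orderOf_eq_one_iff.1 (by simpa using hj)) hx1
      · omega⟩
    -- `x ^ (p ^ j)` lies in both
    have hin : x ^ p ^ j ∈ E ⊓ zpowers x := by
      refine ⟨(hE _).2 ?_, pow_mem (mem_zpowers x) _⟩
      rw [← pow_mul, ← pow_succ, ← hj, pow_orderOf_eq_one]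
    have hne : x ^ p ^ j ≠ 1 := fun h => by
      have h1 := orderOf_dvd_of_pow_eq_one h
      rw [hj, Nat.pow_dvd_pow_iff_le_right hp.out.one_lt] at h1
      omega
    have hcard : Nat.card L ≤ p * Nat.card (zpowers x) := by
      haveI : E.Normal := inferInstance
      have hsup : E ⊔ zpowers x = ⊤ := eq_top_iff.2 fun y _ => by
        obtain ⟨e, he, i, rfl⟩ := htop y
        exact mul_mem_sup he (zpow_mem (mem_zpowers x) i)
      have h1 : Nat.card (E ⊔ zpowers x : Subgroup L) * Nat.card (E ⊓ zpowers x : Subgroup L) ≤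
          Nat.card E * Nat.card (zpowers x) := by
        have h2 := (CfsgLib.Solvable.card_sup_mul_card_inf E (zpowers x))
        exact h2.le
      rw [hsup, card_top, hEcard] at h1
      have h3 : p ≤ Nat.card (E ⊓ zpowers x : Subgroup L) := by
        obtain ⟨i, hi⟩ := IsPGroup.iff_card.1 (hL.to_subgroup (E ⊓ zpowers x))
        rw [hi]
        rcases Nat.eq_zero_or_pos i with rfl | hi0
        · exact absurd (mem_bot.1 ((card_eq_one.1 (by simpa using hi)).le hin)) hne
        · exact Nat.le_self_pow hi0.ne' p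
      have h4 : Nat.card L * p ≤ p ^ 2 * Nat.card (zpowers x) :=
        (Nat.mul_le_mul_left _ h3).trans h1
      have := hp.out.pos
      nlinarith
    have h5 := (zpowers x).card_mul_index
    have h6 : (zpowers x).index ≤ p := Nat.le_of_mul_le_mul_left
      (by rw [h5, mul_comm]; exact hcard) (Nat.card_pos (α := zpowers x))
    obtain ⟨i, hi⟩ := hL.index (zpowers x)
    rcases Nat.eq_zero_or_pos i with rfl | hi0
    · exact hncyc ⟨⟨x, fun y => (index_eq_one.1 (by simpa using hi)).ge (mem_top y)⟩⟩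
    · refine hnc (zpowers x) inferInstance (le_antisymm h6 ?_)
      rw [hi]; exact Nat.le_self_pow hi0.ne' p
  obtain ⟨W, -, hW, hWcard⟩ :=
    omega_card_sq (hL.to_quotient E) hp2 hQnc (metacyclic_quotient hmc E)
  set T := W.comap (QuotientGroup.mk' E) with hT
  have memT : ∀ x, x ∈ T ↔ x ^ p ∈ E := by
    intro x
    rw [hT, mem_comap, hW, ← map_pow, QuotientGroup.mk'_apply, QuotientGroup.eq_one_iff]
  obtain ⟨W', hW', hW'comm, -⟩ :=
    CfsgLib.Fusion.exists_omega_of_metacyclic (hL.to_quotient E) hp2 (metacyclic_quotient hmc E)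
  have commT : ∀ x ∈ T, ∀ y ∈ T, ⁅x, y⁆ ∈ E := by
    intro x hx y hy
    rw [← QuotientGroup.ker_mk' E, MonoidHom.mem_ker, map_commutatorElement,
      commutatorElement_eq_one_iff_commute]
    exact hW'comm _ ((hW' _).2 ((hW _).1 hx)) _ ((hW' _).2 ((hW _).1 hy))
  have centralT : ∀ x ∈ T, ∀ y ∈ T, ∀ g : L, ⁅x, y⁆ * g = g * ⁅x, y⁆ := by
    obtain ⟨C, hC, hCc, hQc⟩ := hmc
    haveI := hC
    haveI := hCc
    haveI := hQc
    intro x hx y hy g
    have hxC : ⁅x, y⁆ ∈ C := by
      rw [← QuotientGroup.ker_mk' C, MonoidHom.mem_ker, map_commutatorElement,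
        commutatorElement_eq_one_iff_commute]
      letI := IsCyclic.commGroup (α := L ⧸ C)
      exact Commute.all _ _
    obtain ⟨r, hr1, ⟨d, hd⟩, hconj⟩ := CfsgLib.Fusion.exists_exponent hL C g _ hxC
    have hcp : ⁅x, y⁆ ^ p = 1 := (hE _).1 (commT x hx y hy)
    rw [show r = p * d + 1 by omega, pow_succ, pow_mul, hcp, one_pow, one_mul] at hconj
    exact (mul_inv_eq_iff_eq_mul.1 hconj).symm
  have hpow : ∀ x ∈ T, ∀ y ∈ T, (x * y) ^ p = x ^ p * y ^ p := by
    intro x hx y hy
    rw [CfsgLib.PGroup.mul_pow_of_comm_mem_center (mem_center_iff.2 fun g => (centralT y hy x hx g).symm)]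
    obtain ⟨d, hd⟩ := hp.out.dvd_choose_self (by norm_num : (2 : ℕ) ≠ 0)
      (lt_of_le_of_ne hp.out.two_le (Ne.symm hp2))
    rw [hd, pow_mul, (hE _).1 (commT y hy x hx), one_pow, mul_one]
  let f : T →* E :=
    { toFun := fun x => ⟨(x : L) ^ p, (memT _).1 x.2⟩
      map_one' := Subtype.ext (one_pow p)
      map_mul' := fun x y => Subtype.ext (hpow _ x.2 _ y.2) }
  have hET : E ≤ T := fun x hx => (memT x).2 (by rw [(hE x).1 hx]; exact one_mem _)
  have hTcard : Nat.card T = p ^ 2 * p ^ 2 := by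
    have h1 : T.index = W.index := index_comap_of_surjective W (QuotientGroup.mk'_surjective E)
    have h2 := T.card_mul_index
    have h3 := W.card_mul_index
    have h4 := E.card_eq_card_quotient_mul_card_subgroup
    rw [h4, ← h3, hWcard, hEcard, h1] at h2
    have h5 : 0 < W.index := Nat.pos_of_ne_zero index_ne_zero_of_finite
    nlinarith
  have hker : Nat.card f.ker = p ^ 2 := by
    rw [← hEcard]
    exact Nat.card_congr
      { toFun := fun x => ⟨((x : T) : L), (hE _).2 (congrArg Subtype.val x.2)⟩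
        invFun := fun x => ⟨⟨x, hET x.2⟩, Subtype.ext ((hE _).1 x.2)⟩
        left_inv := fun x => rfl
        right_inv := fun x => rfl }
  have hsurj : Function.Surjective f := by
    rw [← MonoidHom.range_eq_top]
    refine eq_top_of_le_card _ ?_
    have h1 := f.ker.card_mul_index
    rw [Subgroup.index_ker, hker, hTcard] at h1
    rw [hEcard]
    exact (Nat.eq_of_mul_eq_mul_left (pow_pos hp.out.pos 2) h1).ge
  refine ⟨⟨E, T, hEc, hE, hEcard, memT, commT, centralT, fun e he => ?_, fun e he y hy => ?_⟩⟩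
  · obtain ⟨t, ht⟩ := hsurj ⟨e, he⟩
    exact ⟨t, t.2, congrArg Subtype.val ht⟩
  · obtain ⟨t, ht⟩ := hsurj ⟨e, he⟩
    rw [← show (t : L) ^ p = e from congrArg Subtype.val ht]
    set c := ⁅(t : L), y⁆ with hc
    have hcc : ∀ g, c * g = g * c := centralT t t.2 y hy
    have key : ∀ n : ℕ, (t : L) ^ n * y = c ^ n * y * (t : L) ^ n := by
      intro n
      induction n with
      | zero => simp
      | succ n ih =>
        have e1 : (t : L) * y = c * y * t := by rw [hc, commutatorElement_def]; group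
        have hcn : Commute (c ^ n) (t : L) := (show Commute c (t : L) from hcc t).pow_left n
        calc (t : L) ^ (n + 1) * y = t * (t ^ n * y) := by rw [pow_succ', mul_assoc]
          _ = t * c ^ n * y * t ^ n := by rw [ih]; group
          _ = c ^ n * (t * y) * t ^ n := by rw [← hcn.eq]; group
          _ = c ^ (n + 1) * y * t ^ (n + 1) := by rw [e1, pow_succ, pow_succ']; group
    rw [key p, show c ^ p = 1 from (hE _).1 (commT t t.2 y hy), one_mul]

end CfsgLib.Transfer.MetaAut
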