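import Cfsg.Agent.Lib.Transfer.MetacyclicAut
import Mathlib.GroupTheory.SemidirectProduct

/-!
An automorphism of order `p` of a metacyclic `p`-group without cyclic subgroup of index `p` moves an
element of order `p` exactly when the semidirect product has maximal class and `p = 3`.
-/

set_option autoImplicit false

namespace CfsgLib.Transfer.MetaAut

open Subgroup
open scoped commutatorElement

universe u

variable {L : Type u} [Group L] [Finite L] {p : ℕ} [hp : Fact p.Prime]

omit [Finite L] hp in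
theorem iterate_apply (a : MulAut L) {T : Subgroup L} {u w v : L} (hu : u ∈ T) (hw : w ∈ T) (hv : v ∈ T)
    (huw : Commute u w) (huv : Commute u v) (hwv : Commute w v) (hau : a u = u * w) (haw : a w = w * v)
    (hav : a v = v) {t : L} (hat : a t = t * u) :
    ∀ i : ℕ, (a ^ i) t = t * u ^ i * w ^ i.choose 2 * v ^ i.choose 3
  | 0 => by simp
  | i + 1 => by
    rw [pow_succ', MulAut.mul_apply, iterate_apply a hu hw hv huw huv hwv hau haw hav hat i]
    rw [map_mul, map_mul, map_mul, map_pow, map_pow, map_pow, hat, hau, haw, hav, huw.mul_pow,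
      hwv.mul_pow]
    rw [pow_succ' u, Nat.choose_succ_succ' i 1, Nat.choose_one_right, pow_add,
      Nat.choose_succ_succ' i 2, pow_add]
    simp only [mul_assoc]

/-- The data in one place. -/
structure Moved (a : MulAut L) (D : Layers L p) where
  Z : Subgroup L
  memZ : ∀ x, x ∈ Z ↔ x ∈ D.E ∧ a x = x
  cardZ : Nat.card Z = p
  dE : ∀ e ∈ D.E, e⁻¹ * a e ∈ Z

theorem Layers.aut_mem (D : Layers L p) (a : MulAut L) {x : L} :
    (x ∈ D.E → a x ∈ D.E) ∧ (x ∈ D.T → a x ∈ D.T) := by
  refine ⟨fun hx => (D.memE _).2 (by rw [← map_pow, (D.memE x).1 hx, map_one]), fun hx => ?_⟩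
  refine (D.memT _).2 ((D.memE _).2 ?_)
  rw [← map_pow, ← map_pow, (D.memE _).1 ((D.memT x).1 hx), map_one]

theorem exists_moved (D : Layers L p) {a : MulAut L} (ha : a ^ p = 1)
    (hmov : ∃ e ∈ D.E, a e ≠ e) : Nonempty (Moved a D) := by
  classical
  obtain ⟨e0, he0, hne⟩ := hmov
  have hcomm : ∀ x ∈ D.E, ∀ y ∈ D.E, x * y = y * x := fun x hx y hy =>
    D.centralE x hx y ((D.memT y).2 (by rw [(D.memE y).1 hy]; exact one_mem _))
  let Z : Subgroup L :=
    { carrier := {x | x ∈ D.E ∧ a x = x}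
      one_mem' := ⟨one_mem _, map_one a⟩
      mul_mem' := fun {x y} hx hy => ⟨D.E.mul_mem hx.1 hy.1, by rw [map_mul, hx.2, hy.2]⟩
      inv_mem' := fun {x} hx => ⟨D.E.inv_mem hx.1, by rw [map_inv, hx.2]⟩ }
  let δ : D.E →* D.E :=
    { toFun := fun x => ⟨(x : L)⁻¹ * a x, D.E.mul_mem (D.E.inv_mem x.2) ((D.aut_mem a).1 x.2)⟩
      map_one' := Subtype.ext (by simp)
      map_mul' := fun x y => Subtype.ext (by
        show ((x : L) * y)⁻¹ * a ((x : L) * y) = (x : L)⁻¹ * a x * ((y : L)⁻¹ * a y)
        rw [map_mul, mul_inv_rev]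
        have h1 := hcomm _ (D.E.mul_mem (D.E.inv_mem x.2) ((D.aut_mem a).1 x.2)) _ (D.E.inv_mem y.2)
        calc (y : L)⁻¹ * (x : L)⁻¹ * (a x * a y) = (y : L)⁻¹ * ((x : L)⁻¹ * a x) * a y := by group
          _ = (x : L)⁻¹ * a x * (y : L)⁻¹ * a y := by rw [← h1]
          _ = _ := by group) }
  have hkermap : δ.ker.map D.E.subtype = Z := by
    ext x
    constructor
    · rintro ⟨y, hy, rfl⟩
      exact ⟨y.2, (inv_mul_eq_one.1 (congrArg Subtype.val hy)).symm⟩
    · rintro ⟨hx, hax⟩
      refine ⟨⟨x, hx⟩, Subtype.ext ?_, rfl⟩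
      show x⁻¹ * a x = 1
      rw [hax, inv_mul_cancel]
  have hA : IsPGroup p (Subgroup.zpowers a) :=
    IsPGroup.of_card (n := 1) (by
      rw [Nat.card_zpowers, pow_one]
      refine orderOf_eq_prime ha fun h => hne ?_
      rw [h, MulAut.one_apply])
  -- a nontrivial invariant subgroup of `E` meets `Z`
  have hmeet : ∀ Y : Subgroup L, Y ≤ D.E → (∀ y ∈ Y, a y ∈ Y) → Y ≠ ⊥ → Y ⊓ Z ≠ ⊥ := by
    intro Y hY hYa hYne
    have hpw : ∀ (i : ℕ), ∀ y ∈ Y, (a ^ i) y ∈ Y := by
      intro i
      induction i with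
      | zero => intro y hy; simpa using hy
      | succ i ih => intro y hy; rw [pow_succ', MulAut.mul_apply]; exact hYa _ (ih y hy)
    have hmem : ∀ (b : Subgroup.zpowers a), ∀ y ∈ Y, (b : MulAut L) y ∈ Y := by
      intro b y hy
      obtain ⟨i, hi⟩ := (isOfFinOrder_of_finite a).mem_powers_iff_mem_zpowers.2 b.2
      rw [← hi]; exact hpw i y hy
    letI : MulAction (Subgroup.zpowers a) Y :=
      { smul := fun b y => ⟨(b : MulAut L) y, hmem b y y.2⟩
        one_smul := fun y => Subtype.ext rfl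
        mul_smul := fun b c y => Subtype.ext rfl }
    have hEp : IsPGroup p D.E := fun x => ⟨1, Subtype.ext (by
      simpa using (D.memE _).1 x.2)⟩
    obtain ⟨n, hn⟩ := IsPGroup.iff_card.1 (hEp.to_le hY)
    have hn0 : n ≠ 0 := fun h => hYne (card_eq_one.1 (by rw [hn, h, pow_zero]))
    obtain ⟨z, hz, hz1⟩ := hA.exists_fixed_point_of_prime_dvd_card_of_fixed_point Y
      (hn ▸ dvd_pow_self p hn0) (a := 1) (fun b => Subtype.ext (map_one (b : MulAut L)))
    intro h
    have h1 : (z : L) ∈ Y ⊓ Z := ⟨z.2, hY z.2,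
      congrArg Subtype.val (hz ⟨a, mem_zpowers a⟩)⟩
    rw [h, mem_bot] at h1
    exact hz1 (Subtype.ext h1.symm)
  have hEne : D.E ≠ ⊥ := fun h => by
    rw [h, mem_bot] at he0
    exact hne (by rw [he0, map_one])
  have hZne : Z ≠ ⊥ := fun h => hmeet D.E le_rfl (fun y hy => (D.aut_mem a).1 hy) hEne (by rw [h, inf_bot_eq])
  have hZlt : ¬ D.E ≤ Z := fun h => hne (h he0).2
  have hZE : Z ≤ D.E := fun x hx => hx.1
  have hcardZ : Nat.card Z = p := by
    obtain ⟨k, hk1, hk2⟩ := (Nat.dvd_prime_pow hp.out).1 (D.cardE ▸ card_dvd_of_le hZE)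
    interval_cases k
    · exact absurd (card_eq_one.1 (by simpa using hk2)) hZne
    · simpa using hk2
    · exact absurd (eq_of_le_of_card_ge hZE (by rw [hk2, D.cardE])).ge hZlt
  refine ⟨⟨Z, fun x => Iff.rfl, hcardZ, fun e he => ?_⟩⟩
  set R := δ.range.map D.E.subtype
  have hRcard : Nat.card R = p := by
    rw [card_map_of_injective D.E.subtype_injective]
    have h1 := δ.ker.card_mul_index
    have h2 : Nat.card δ.ker = p :=
      calc Nat.card δ.ker = Nat.card (δ.ker.map D.E.subtype) :=
            (card_map_of_injective D.E.subtype_injective).symm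
        _ = p := by rw [hkermap]; exact hcardZ
    rw [Subgroup.index_ker, D.cardE, h2, sq] at h1
    exact Nat.eq_of_mul_eq_mul_left hp.out.pos h1
  have hRinv : ∀ y ∈ R, a y ∈ R := by
    rintro _ ⟨_, ⟨x, rfl⟩, rfl⟩
    refine ⟨δ ⟨a x, (D.aut_mem a).1 x.2⟩, ⟨_, rfl⟩, ?_⟩
    show (a (x : L))⁻¹ * a (a x) = a ((x : L)⁻¹ * a x)
    rw [map_mul, map_inv]
  have hRZ : R ≤ Z := by
    have h1 := hmeet R (map_subtype_le _) hRinv (fun h => by
      rw [h, card_bot] at hRcard; exact hp.out.ne_one hRcard.symm)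
    have h2 : R ⊓ Z = R := by
      rcases (Nat.dvd_prime hp.out).1 (hRcard ▸ card_dvd_of_le (inf_le_left : R ⊓ Z ≤ R)) with h | h
      · exact absurd (card_eq_one.1 h) h1
      · exact eq_of_le_of_card_ge inf_le_left (by rw [h, hRcard])
    exact h2 ▸ inf_le_right
  exact hRZ ⟨δ ⟨e, he⟩, ⟨_, rfl⟩, rfl⟩

/-- A moved element of order `p` forces `p = 3` and only `p` fixed points. -/
theorem moved_facts (hp2 : p ≠ 2) (hL : IsPGroup p L) (D : Layers L p) {a : MulAut L} (ha : a ^ p = 1)
    (hmov : ∃ e ∈ D.E, a e ≠ e) : p = 3 ∧ ∃ Z : Subgroup L, Nat.card Z = p ∧ ∀ x, x ∈ Z ↔ a x = x := by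
  obtain ⟨M⟩ := exists_moved D ha hmov
  obtain ⟨e0, he0, hne⟩ := hmov
  obtain ⟨t, ht, hte⟩ := D.root e0 he0
  have hET : ∀ x ∈ D.E, x ∈ D.T := fun x hx => (D.memT x).2 (by rw [(D.memE x).1 hx]; exact one_mem _)
  have haT : ∀ x ∈ D.T, a x ∈ D.T := fun x hx => (D.aut_mem a).2 hx
  set z0 := e0⁻¹ * a e0 with hz0
  have hz0Z : z0 ∈ M.Z := M.dE e0 he0
  have hz01 : z0 ≠ 1 := fun h => hne (inv_mul_eq_one.1 h).symm
  have hcen : ∀ x ∈ D.T, ∀ y ∈ D.T, (x * y) ^ p = x ^ p * y ^ p := by
    intro x hx y hy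
    rw [CfsgLib.PGroup.mul_pow_of_comm_mem_center
      (mem_center_iff.2 fun g => (D.centralT y hy x hx g).symm)]
    obtain ⟨d, hd⟩ := hp.out.dvd_choose_self (by norm_num : (2 : ℕ) ≠ 0)
      (lt_of_le_of_ne hp.out.two_le (Ne.symm hp2))
    rw [hd, pow_mul, (D.memE _).1 (D.commT y hy x hx), one_pow, mul_one]
  set u := t⁻¹ * a t with hu
  have huT : u ∈ D.T := D.T.mul_mem (D.T.inv_mem ht) (haT t ht)
  have hup : u ^ p = z0 := by
    rw [hu, hcen _ (D.T.inv_mem ht) _ (haT t ht), inv_pow, ← map_pow, hte]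
  set w := u⁻¹ * a u with hw
  have hwE : w ∈ D.E := by
    refine (D.memE w).2 ?_
    rw [hw, hcen _ (D.T.inv_mem huT) _ (haT u huT), inv_pow, ← map_pow, hup,
      ((M.memZ z0).1 hz0Z).2, inv_mul_cancel]
  set v := w⁻¹ * a w with hv
  have hvZ : v ∈ M.Z := M.dE w hwE
  have hvE : v ∈ D.E := ((M.memZ v).1 hvZ).1
  have huw : Commute u w := (D.centralE w hwE u huT).symm
  have huv : Commute u v := (D.centralE v hvE u huT).symm
  have hwv : Commute w v := D.centralE w hwE v (hET v hvE)
  have hau : a u = u * w := by rw [hw, mul_inv_cancel_left]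
  have haw : a w = w * v := by rw [hv, mul_inv_cancel_left]
  have h := iterate_apply a huT (hET w hwE) (hET v hvE) huw huv hwv hau haw ((M.memZ v).1 hvZ).2
    (show a t = t * u by rw [hu, mul_inv_cancel_left]) p
  rw [ha, MulAut.one_apply] at h
  obtain ⟨d2, hd2⟩ := hp.out.dvd_choose_self (by norm_num : (2 : ℕ) ≠ 0)
    (lt_of_le_of_ne hp.out.two_le (Ne.symm hp2))
  rw [hd2, pow_mul, (D.memE w).1 hwE, one_pow, mul_one, hup, mul_assoc, left_eq_mul] at h
  have hp3 : p = 3 := by
    by_contra hne3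
    obtain ⟨d3, hd3⟩ := hp.out.dvd_choose_self (by norm_num : (3 : ℕ) ≠ 0)
      (lt_of_le_of_ne (by have := hp.out.two_le; omega) (Ne.symm hne3))
    rw [hd3, pow_mul, (D.memE v).1 hvE, one_pow, mul_one] at h
    exact hz01 h
  refine ⟨hp3, M.Z, M.cardZ, fun x => ⟨fun hx => ((M.memZ x).1 hx).2, fun hx => ?_⟩⟩
  have hv1 : v ≠ 1 := fun h' => hz01 (by rwa [h', one_pow, mul_one] at h)
  have hwZ : w ∉ M.Z := fun hwz => hv1 (by rw [hv, ((M.memZ w).1 hwz).2, inv_mul_cancel])
  refine (M.memZ x).2 ⟨(D.memE x).2 (by_contra fun hxp => ?_), hx⟩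
  -- a fixed element whose `p`-th power is a nontrivial element of order `p`
  obtain ⟨k, hk⟩ := hL x
  obtain ⟨j, -, hj⟩ := (Nat.dvd_prime_pow hp.out).1 (orderOf_dvd_of_pow_eq_one hk)
  obtain ⟨j, rfl⟩ : ∃ i, j = i + 2 := ⟨j - 2, by
    rcases j with _ | _ | j
    · have hx1 : x = 1 := orderOf_eq_one_iff.1 (by simpa using hj)
      exact absurd (show x ^ p = 1 by rw [hx1, one_pow]) hxp
    · exact absurd (show x ^ p = 1 by rw [← pow_one p, ← hj, pow_orderOf_eq_one]) hxp
    · omega⟩
  set c := x ^ p ^ j with hc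
  have hcp : c ^ p ∈ D.E := (D.memE _).2 (by
    rw [hc, ← pow_mul, ← pow_mul, show p ^ j * (p * p) = p ^ (j + 2) by ring, ← hj, pow_orderOf_eq_one])
  have hcp1 : c ^ p ≠ 1 := fun h' => by
    rw [hc, ← pow_mul, ← pow_succ] at h'
    have := orderOf_dvd_of_pow_eq_one h'
    rw [hj, Nat.pow_dvd_pow_iff_le_right hp.out.one_lt] at this
    omega
  have hcT : c ∈ D.T := (D.memT c).2 hcp
  have hca : a c = c := by rw [hc, map_pow, hx]
  have hcpZ : c ^ p ∈ M.Z := (M.memZ _).2 ⟨hcp, by rw [map_pow, hca]⟩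
  -- compare with a power of `u`
  have hzgen : M.Z = zpowers z0 := (eq_of_le_of_card_ge (zpowers_le.2 hz0Z) (by
    rw [M.cardZ, Nat.card_zpowers, orderOf_eq_prime ((D.memE z0).1 ((M.memZ z0).1 hz0Z).1) hz01])).symm
  obtain ⟨i, hi⟩ := (isOfFinOrder_of_finite z0).mem_powers_iff_mem_zpowers.2 (hzgen.le hcpZ)
  simp only at hi
  set e := (u ^ i)⁻¹ * c with he
  have heE : e ∈ D.E := by
    refine (D.memE e).2 ?_
    rw [he, hcen _ (D.T.inv_mem (D.T.pow_mem huT i)) _ hcT, inv_pow, ← pow_mul, mul_comm i p, pow_mul,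
      hup, hi, inv_mul_cancel]
  have hwi : w ^ i ∈ M.Z := by
    have h1 : a e = (w ^ i)⁻¹ * e := by
      rw [he, map_mul, map_inv, map_pow, hau, huw.mul_pow, hca, mul_inv_rev]
      group
    have h2 := M.dE e heE
    rw [h1, ← mul_assoc, ← D.centralE _ (D.E.inv_mem (D.E.pow_mem hwE i)) e⁻¹
      (hET _ (D.E.inv_mem heE)), inv_mul_cancel_right] at h2
    simpa using M.Z.inv_mem h2
  have hip : i.Coprime p := by
    refine Nat.Coprime.symm (hp.out.coprime_iff_not_dvd.2 fun hd => hcp1 ?_)
    obtain ⟨d, rfl⟩ := hd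
    rw [← hi, pow_mul, (D.memE z0).1 ((M.memZ z0).1 hz0Z).1, one_pow]
  obtain ⟨m, hm⟩ := exists_pow_eq_self_of_coprime (show i.Coprime (orderOf w) from
    Nat.Coprime.coprime_dvd_right (orderOf_dvd_of_pow_eq_one ((D.memE w).1 hwE)) hip)
  exact hwZ (hm ▸ M.Z.pow_mem hwi m)

/-- The semidirect product with the cyclic group of an automorphism. -/
abbrev SD {L : Type u} [Group L] (a : MulAut L) :=
  SemidirectProduct L (Subgroup.zpowers a) (Subgroup.zpowers a).subtype

/-- The cyclic group of the automorphism acts with fixed points of order `p`: maximal class. -/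
theorem maximalClass_of_fixed {m : ℕ} (hm : Nat.card L = p ^ m) {a : MulAut L} (ha : orderOf a = p)
    {Z : Subgroup L} (hZ : Nat.card Z = p) (hmem : ∀ x, x ∈ Z ↔ a x = x) :
    Group.nilpotencyClass (SD a) = m := by
  classical
  haveI : Finite (SD a) := Finite.of_equiv _ SemidirectProduct.equivProd.symm
  have hS : Nat.card (SD a) = p ^ (m + 1) := by
    rw [Nat.card_congr SemidirectProduct.equivProd, Nat.card_prod, hm, Nat.card_zpowers, ha, pow_succ]
  haveI : Fact p.Prime := hp
  haveI hcyc : IsMulCommutative Z := by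
    have : IsCyclic Z := isCyclic_of_prime_card hZ
    exact ⟨⟨fun x y => (IsCyclic.commGroup (α := Z)).mul_comm x y⟩⟩
  set σ : Subgroup.zpowers a := ⟨a, mem_zpowers a⟩
  let A : Subgroup (SD a) := centralizer ({SemidirectProduct.inr σ} : Set (SD a))
  have hA : ∀ s : (SD a), s ∈ A ↔ s.left ∈ Z := by
    intro s
    rw [hmem, mem_centralizer_singleton_iff]
    constructor
    · intro h
      have h1 := congrArg SemidirectProduct.left h
      simp [σ] at h1
      exact h1.symm
    · intro h
      refine SemidirectProduct.ext ?_ ?_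
      · simp [σ, h]
      · simp only [SemidirectProduct.mul_right, SemidirectProduct.right_inr]
        exact Subtype.ext (show (s.right : MulAut L) * a = a * s.right by
          obtain ⟨i, hi⟩ := mem_zpowers_iff.1 s.right.2
          rw [← hi]; exact ((Commute.refl a).zpow_left i).eq)
  have hAcard : Nat.card A = p ^ 2 := by
    rw [show p ^ 2 = Nat.card (Z × Subgroup.zpowers a) by
      rw [Nat.card_prod, hZ, Nat.card_zpowers, ha, sq]]
    exact Nat.card_congr
      { toFun := fun s => (⟨(s : (SD a)).left, (hA s).1 s.2⟩, (s : (SD a)).right)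
        invFun := fun z => ⟨⟨z.1, z.2⟩, (hA _).2 z.1.2⟩
        left_inv := fun s => rfl
        right_inv := fun z => rfl }
  have hcomm : centralizer (A : Set (SD a)) = A := by
    refine le_antisymm (centralizer_le ?_) fun s hs => mem_centralizer_iff.2 fun r hr => ?_
    · rintro _ rfl
      exact mem_centralizer_singleton_iff.2 rfl
    · have hfix : ∀ (b : Subgroup.zpowers a) (z : L), z ∈ Z → (b : MulAut L) z = z := by
        intro b z hz
        obtain ⟨i, hi⟩ := (isOfFinOrder_of_finite a).mem_powers_iff_mem_zpowers.2 b.2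
        simp only at hi
        rw [← hi]
        clear hi
        induction i with
        | zero => rfl
        | succ i ih => rw [pow_succ, MulAut.mul_apply, (hmem z).1 hz, ih]
      refine SemidirectProduct.ext ?_ ?_
      · simp only [SemidirectProduct.mul_left, Subgroup.subtype_apply]
        rw [hfix _ _ ((hA s).1 hs), hfix _ _ ((hA r).1 hr)]
        exact congrArg Subtype.val (hcyc.is_comm.comm ⟨r.left, (hA r).1 hr⟩ ⟨s.left, (hA s).1 hs⟩)
      · simp only [SemidirectProduct.mul_right]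
        exact (IsMulCommutative.is_comm (M := Subgroup.zpowers a)).comm _ _
  simpa using CfsgLib.Transfer.nilpotencyClass_of_self_centralizing hS A hAcard hcomm

/-- Maximal class forces a moved element of order `p`. -/
theorem moved_of_maximalClass (hL : IsPGroup p L) (hp2 : p ≠ 2) (hmc : Cfsg.IsMetacyclic L)
    (D : Layers L p) {m : ℕ} (hm : Nat.card L = p ^ m) (hm3 : 3 ≤ m) {a : MulAut L} (ha : orderOf a = p)
    (hc : Group.nilpotencyClass (SD a) = m) :
    ∃ e ∈ D.E, a e ≠ e := by
  classical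
  by_contra hfix
  push Not at hfix
  haveI : Finite (SD a) := Finite.of_equiv _ SemidirectProduct.equivProd.symm
  have hS : Nat.card (SD a) = p ^ (m + 1) := by
    rw [Nat.card_congr SemidirectProduct.equivProd, Nat.card_prod, hm, Nat.card_zpowers, ha, pow_succ]
  have hSp : IsPGroup p (SD a) := IsPGroup.of_card hS
  haveI := hSp.isNilpotent
  let il : L →* (SD a) := SemidirectProduct.inl
  have hinj : Function.Injective il := SemidirectProduct.inl_injective
  have hnormal : ∀ H : Subgroup L, H.Characteristic → (H.map il).Normal := by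
    intro H hH
    haveI := hH
    refine ⟨?_⟩
    rintro _ ⟨x, hx, rfl⟩ g
    have hx' : (g.right : MulAut L) x ∈ H := characteristic_iff_map_le.1 hH _ ⟨x, hx, rfl⟩
    refine ⟨g.left * (g.right : MulAut L) x * g.left⁻¹,
      (inferInstance : H.Normal).conj_mem _ hx' _, ?_⟩
    refine SemidirectProduct.ext ?_ ?_
    · simp [il, mul_assoc]
    · simp [il]
  have hindex : ∀ H : Subgroup L, ∀ k, Nat.card H = p ^ k → (H.map il).index = p ^ (m + 1 - k) := by
    intro H k hk
    have h1 := (H.map il).card_mul_index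
    rw [card_map_of_injective hinj, hk, hS] at h1
    have hkm : k ≤ m + 1 := (Nat.pow_le_pow_iff_right hp.out.one_lt).1
      (h1 ▸ Nat.le_mul_of_pos_right _ (Nat.pos_of_ne_zero index_ne_zero_of_finite))
    refine Nat.eq_of_mul_eq_mul_left (pow_pos hp.out.pos k) (h1.trans ?_)
    rw [← pow_add, Nat.add_sub_cancel' hkm]
  have huniq : ∀ N : Subgroup (SD a), N.Normal → N.index = p ^ (m - 1) → N = D.E.map il := by
    intro N hN hNi
    haveI := hN
    haveI := hnormal D.E D.charE
    have h2 := hindex D.E 2 D.cardE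
    rw [show m + 1 - 2 = m - 1 by omega] at h2
    rw [normal_eq_lowerCentralSeries hS (by omega) (by omega) N (by omega : 2 ≤ m - 1) hNi,
      normal_eq_lowerCentralSeries hS (by omega) (by omega) (D.E.map il) (by omega : 2 ≤ m - 1) h2]
  -- the derived subgroup of `L` has order at most `p`
  have hder : ∀ x ∈ commutator L, x ^ p = 1 := by
    intro x hx
    by_contra hxp
    obtain ⟨C, hC, hCc, hQc⟩ := hmc
    haveI := hC
    haveI := hCc
    haveI := hQc
    have hle : commutator L ≤ C := by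
      rw [commutator_eq_closure, closure_le]
      rintro _ ⟨u, v, rfl⟩
      rw [SetLike.mem_coe, ← QuotientGroup.ker_mk' C, MonoidHom.mem_ker, map_commutatorElement,
        commutatorElement_eq_one_iff_commute]
      letI := IsCyclic.commGroup (α := L ⧸ C)
      exact Commute.all _ _
    obtain ⟨k, hk⟩ := hL x
    obtain ⟨j, -, hj⟩ := (Nat.dvd_prime_pow hp.out).1 (orderOf_dvd_of_pow_eq_one hk)
    obtain ⟨j, rfl⟩ : ∃ i, j = i + 2 := ⟨j - 2, by
      rcases j with _ | _ | j
      · have hx1 : x = 1 := orderOf_eq_one_iff.1 (by simpa using hj)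
        exact absurd (show x ^ p = 1 by rw [hx1, one_pow]) hxp
      · exact absurd (show x ^ p = 1 by rw [← pow_one p, ← hj, pow_orderOf_eq_one]) hxp
      · omega⟩
    set c := x ^ p ^ j with hcdef
    have hco : orderOf c = p ^ 2 := by
      rw [hcdef, orderOf_pow' x (pow_pos hp.out.pos j).ne', hj, Nat.gcd_eq_right
        (pow_dvd_pow p (Nat.le_add_right j 2)), Nat.pow_div (Nat.le_add_right j 2) hp.out.pos,
        Nat.add_sub_cancel_left]
    have hcC : c ∈ C := C.pow_mem (hle hx) _
    have hcd : c ∈ commutator L := (commutator L).pow_mem hx _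
    -- `zpowers c` is normal in `(SD a)`
    have hn : ((zpowers c).map il).Normal := by
      refine ⟨?_⟩
      rintro _ ⟨y, hy, rfl⟩ g
      have hg : ∀ φ : L ≃* L, φ c ∈ zpowers c := by
        intro φ
        have hφC : φ c ∈ C := by
          exact hle (characteristic_iff_map_le.1 (inferInstance : (commutator L).Characteristic) φ
            ⟨c, hcd, rfl⟩)
        have hu : zpowers (⟨c, hcC⟩ : C) = zpowers (⟨φ c, hφC⟩ : C) := by
          letI := IsCyclic.commGroup (α := C)
          haveI := Fintype.ofFinite C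
          classical
          have hker : ∀ z : C, orderOf z = p ^ 2 → zpowers z = (powMonoidHom (p ^ 2) : C →* C).ker := by
            intro z hz
            refine eq_of_le_of_card_ge (zpowers_le.2 ?_) ?_
            · exact MonoidHom.mem_ker.2 (hz ▸ pow_orderOf_eq_one z)
            · rw [Nat.card_zpowers, hz, Nat.card_eq_fintype_card,
                Fintype.card_of_subtype (Finset.univ.filter fun z : C => z ^ (p ^ 2) = 1)
                  (fun z => by simp)]
              exact IsCyclic.card_pow_eq_one_le (pow_pos hp.out.pos 2)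
          rw [hker _ (by rw [orderOf_mk]; exact hco),
            hker _ (by rw [orderOf_mk, MulEquiv.orderOf_eq]; exact hco)]
        have h1 : (⟨φ c, hφC⟩ : C) ∈ zpowers (⟨c, hcC⟩ : C) := hu ▸ mem_zpowers _
        obtain ⟨i, hi⟩ := mem_zpowers_iff.1 h1
        exact ⟨i, congrArg Subtype.val hi⟩
      refine ⟨g.left * (g.right : MulAut L) y * g.left⁻¹, ?_, ?_⟩
      · obtain ⟨i, rfl⟩ := mem_zpowers_iff.1 hy
        rw [map_zpow, ← conj_zpow]
        refine zpow_mem ?_ i
        exact hg ((g.right : MulAut L).trans (MulAut.conj g.left))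
      · refine SemidirectProduct.ext ?_ ?_
        · simp [il, mul_assoc]
        · simp [il]
    have heq := huniq _ hn (by
      rw [hindex (zpowers c) 2 (by rw [Nat.card_zpowers, hco])]
      congr 1)
    have h1 : c ∈ D.E := (map_injective hinj heq).le (mem_zpowers c)
    have h2 := orderOf_dvd_of_pow_eq_one ((D.memE c).1 h1)
    rw [hco, ← pow_one p, ← pow_mul, Nat.pow_dvd_pow_iff_le_right hp.out.one_lt] at h2
    omega
  -- `E` is central in `(SD a)`
  have hEc : ∀ e ∈ D.E, ∀ g : L, e * g = g * e := by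
    intro e he g
    obtain ⟨t, ht, rfl⟩ := D.root e he
    obtain ⟨C, hC, hCc, hQc⟩ := hmc
    haveI := hC
    haveI := hCc
    haveI := hQc
    set c := ⁅t, g⁆ with hcdef
    have hcL : c ∈ commutator L := commutator_mem_commutator (mem_top _) (mem_top _)
    have hcC : c ∈ C := by
      rw [← QuotientGroup.ker_mk' C, MonoidHom.mem_ker, hcdef, map_commutatorElement,
        commutatorElement_eq_one_iff_commute]
      letI := IsCyclic.commGroup (α := L ⧸ C)
      exact Commute.all _ _
    have hcp : c ^ p = 1 := hder c hcL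
    obtain ⟨r, hr1, ⟨d, hd⟩, hconj⟩ := CfsgLib.Fusion.exists_exponent hL C t c hcC
    rw [show r = p * d + 1 by omega, pow_succ, pow_mul, hcp, one_pow, one_mul] at hconj
    have hct : Commute c t := (mul_inv_eq_iff_eq_mul.1 hconj).symm
    have key : ∀ n : ℕ, t ^ n * g = c ^ n * g * t ^ n := by
      intro n
      induction n with
      | zero => simp
      | succ n ih =>
        have e1 : t * g = c * g * t := by rw [hcdef, commutatorElement_def]; group
        calc t ^ (n + 1) * g = t * (t ^ n * g) := by rw [pow_succ', mul_assoc]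
          _ = t * c ^ n * g * t ^ n := by rw [ih]; group
          _ = c ^ n * (t * g) * t ^ n := by rw [← (hct.pow_left n).eq]; group
          _ = c ^ (n + 1) * g * t ^ (n + 1) := by rw [e1, pow_succ, pow_succ']; group
    rw [key p, hcp, one_mul]
  have hcenter : D.E.map il ≤ center (SD a) := by
    rintro _ ⟨e, he, rfl⟩
    rw [mem_center_iff]
    intro g
    have hge : (g.right : MulAut L) e = e := by
      obtain ⟨i, hi⟩ := (isOfFinOrder_of_finite a).mem_powers_iff_mem_zpowers.2 g.right.2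
      simp only at hi
      rw [← hi]
      clear hi
      induction i with
      | zero => rfl
      | succ i ih => rw [pow_succ, MulAut.mul_apply, hfix e he, ih]
    refine SemidirectProduct.ext ?_ ?_
    · simp [il, hge, hEc e he g.left]
    · simp [il]
  have hE2 : D.E.map il = (⊤ : Subgroup (SD a)).lowerCentralSeries (m - 2) := by
    haveI := hnormal D.E D.charE
    have h2 := hindex D.E 2 D.cardE
    rw [show m + 1 - 2 = m - 1 by omega] at h2
    rw [normal_eq_lowerCentralSeries hS (by omega) (by omega) (D.E.map il) (by omega : 2 ≤ m - 1) h2,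
      show m - 1 - 1 = m - 2 by omega]
  have hbot : (⊤ : Subgroup (SD a)).lowerCentralSeries (m - 2 + 1) = ⊥ := by
    rw [eq_bot_iff]
    have h : ⁅(⊤ : Subgroup (SD a)).lowerCentralSeries (m - 2), (⊤ : Subgroup (SD a))⁆ ≤ ⊥ := by
      rw [← hE2, Subgroup.commutator_le]
      intro x hx y _
      rw [mem_bot, commutatorElement_eq_one_iff_commute]
      exact (mem_center_iff.1 (hcenter hx) y).symm
    exact h
  have := Subgroup.lowerCentralSeries_eq_bot_iff_nilpotencyClass_le.1 hbot
  omega

end CfsgLib.Transfer.MetaAut
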