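import Cfsg.Agent.Lib.Transfer.AbelianPrimeSubgroups
import Cfsg.Agent.Lib.Transfer.Frobenius

/-!
Groups in which every subgroup of even order and order prime to `p` is a `2`-group, with Sylow
`2`-subgroups of order `p + 1`: the local analysis around involutions.
-/

set_option autoImplicit false

namespace CfsgLib.Transfer.Mixed

open Subgroup
open CfsgLib.FGS.PByCyclic (mem_normalizer_of_conj)

universe u

variable {G : Type u} [Group G] [Finite G]

/-- A subgroup of order divisible by `q` and prime to `p` is a `q`-group. -/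
def Mix (p q : ℕ) (G : Type u) [Group G] : Prop :=
  ∀ H : Subgroup G, q ∣ Nat.card H → ¬ p ∣ Nat.card H → IsPGroup q H

/-- An element of `p`-power order. -/
def PEl (p : ℕ) (x : G) : Prop := ∃ k, orderOf x = p ^ k

variable {p : ℕ}

omit [Finite G] in
theorem pEl_one : PEl p (1 : G) := ⟨0, by simp⟩

omit [Finite G] in
theorem PEl.conj {x : G} (h : PEl p x) (g : G) : PEl p (g * x * g⁻¹) := by
  obtain ⟨k, hk⟩ := h
  exact ⟨k, by rw [← MulAut.conj_apply, MulEquiv.orderOf_eq, hk]⟩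

theorem pEl_of_mem {S : Subgroup G} (hS : IsPGroup p S) [Fact p.Prime] {x : G} (hx : x ∈ S) : PEl p x := by
  obtain ⟨k, hk⟩ := IsPGroup.iff_orderOf.1 hS ⟨x, hx⟩
  exact ⟨k, by rwa [Subgroup.orderOf_mk] at hk⟩

theorem PEl.pow [hp : Fact p.Prime] {x : G} (h : PEl p x) (n : ℕ) : PEl p (x ^ n) := by
  obtain ⟨k, hk⟩ := h
  obtain ⟨j, -, hj⟩ := (Nat.dvd_prime_pow hp.out).1 (hk ▸ orderOf_pow_dvd (x := x) n)
  exact ⟨j, hj⟩

omit [Finite G] in
theorem PEl.coprime [hp : Fact p.Prime] {x : G} (h : PEl p x) {n : ℕ} (hn : ¬ p ∣ n) :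
    (orderOf x).Coprime n := by
  obtain ⟨k, hk⟩ := h
  exact hk ▸ (hp.out.coprime_iff_not_dvd.2 hn).pow_left k

theorem card_sup_zpowers_dvd {K : Subgroup G} {m : G} (hm : m ∈ normalizer (K : Set G)) :
    Nat.card K ∣ Nat.card ↥(K ⊔ zpowers m) ∧
      Nat.card ↥(K ⊔ zpowers m) ∣ Nat.card K * orderOf m := by
  obtain ⟨-, hdvd, -⟩ := CfsgLib.FGS.PByCyclic.sup_zpowers_card_dvd K hm _ rfl
  refine ⟨card_dvd_of_le le_sup_left, ?_⟩
  rw [← (K.subgroupOf (K ⊔ zpowers m)).card_mul_index,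
    Nat.card_congr (subgroupOfEquivOfLe (le_sup_left : K ≤ K ⊔ zpowers m)).toEquiv]
  exact Nat.mul_dvd_mul_left _ hdvd

/-- An element of order prime to `p q` normalising a nontrivial `q`-group is trivial. -/
theorem eq_one_of_normalizes {q : ℕ} [hp : Fact p.Prime] [hq : Fact q.Prime] (hpq : p ≠ q)
    (hmix : Mix p q G) {X : Subgroup G} (hX : IsPGroup q X) (hne : X ≠ ⊥) {w : G}
    (hw : w ∈ normalizer (X : Set G)) (hwp : (orderOf w).Coprime p) (hwq : (orderOf w).Coprime q) : w = 1 := by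
  obtain ⟨h1, h2⟩ := card_sup_zpowers_dvd hw
  obtain ⟨k, hk⟩ := IsPGroup.iff_card.1 hX
  have hqX : q ∣ Nat.card X := by
    rcases k with _ | k
    · exact absurd (Subgroup.card_eq_one.1 (by rw [hk, pow_zero])) hne
    · exact hk ▸ dvd_pow_self q k.succ_ne_zero
  have hg := hmix _ (hqX.trans h1) fun h => by
    rcases hp.out.dvd_mul.1 (h.trans h2) with h | h
    · exact hpq ((Nat.prime_dvd_prime_iff_eq hp.out hq.out).1 (hp.out.dvd_of_dvd_pow (hk ▸ h)))
    · exact CfsgLib.Transfer.not_dvd_of_coprime hwp h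
  obtain ⟨j, hj⟩ := pEl_of_mem hg (mem_sup_right (mem_zpowers w))
  exact orderOf_eq_one_iff.1 (Nat.eq_one_of_dvd_coprimes (hwq.pow_right j) dvd_rfl (hj ▸ dvd_rfl))

/-- A `p`-element moving an element of a small normalised subgroup has a full orbit. -/
theorem orbit_of_moved [hp : Fact p.Prime] {S : Subgroup G} {y s : G} (hy : y ∈ normalizer (S : Set G))
    (hyp : PEl p y) (hs : s ∈ S) (hmv : y * s ≠ s * y) :
    p + 1 ≤ Nat.card S ∧
      (Nat.card S = p + 1 → ∀ x ∈ S, x ≠ 1 → ∃ i : ℕ, y ^ i * s * (y ^ i)⁻¹ = x) := by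
  classical
  obtain ⟨k, hk⟩ := hyp
  letI : MulAction (zpowers y) G := MulAction.compHom G ((MulAut.conj (G := G)).comp (zpowers y).subtype)
  haveI := Fintype.ofFinite (MulAction.orbit (zpowers y) s)
  obtain ⟨j, hj⟩ : ∃ j, Nat.card (MulAction.orbit (zpowers y) s) = p ^ j := by
    have h : Nat.card (MulAction.orbit (zpowers y) s) ∣ p ^ k := by
      rw [← hk, ← Nat.card_zpowers, Nat.card_congr (MulAction.orbitEquivQuotientStabilizer _ s)]
      exact card_quotient_dvd_card _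
    obtain ⟨j, -, hj⟩ := (Nat.dvd_prime_pow hp.out).1 h
    exact ⟨j, hj⟩
  have hsub : ∀ x ∈ MulAction.orbit (zpowers y) s, x ∈ S ∧ x ≠ 1 := by
    rintro _ ⟨⟨g, hg⟩, rfl⟩
    have hgN : g ∈ normalizer (S : Set G) := zpowers_le.2 hy hg
    refine ⟨(mem_normalizer_iff.1 hgN s).1 hs, fun h => hmv ?_⟩
    have : s = 1 := by
      have h' : g * s * g⁻¹ = 1 := h
      simpa using h'
    simp [this]
  have hj0 : j ≠ 0 := by
    rintro rfl
    rw [pow_zero, Nat.card_eq_one_iff_unique] at hj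
    apply hmv
    have h := congrArg Subtype.val (hj.1.elim
      ⟨y * s * y⁻¹, ⟨y, mem_zpowers y⟩, rfl⟩ ⟨s, MulAction.mem_orbit_self s⟩)
    exact mul_inv_eq_iff_eq_mul.1 h
  let f : MulAction.orbit (zpowers y) s → {x : S // x ≠ 1} := fun x =>
    ⟨⟨x.1, (hsub x.1 x.2).1⟩, fun h => (hsub x.1 x.2).2 (congrArg Subtype.val h)⟩
  have hf : Function.Injective f := fun a b h => Subtype.ext (congrArg (fun z : {x : S // x ≠ 1} => ((z.1 : S) : G)) h)
  have hcard : Nat.card {x : S // x ≠ 1} = Nat.card S - 1 := by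
    haveI := Fintype.ofFinite S
    rw [Nat.card_eq_fintype_card, Fintype.card_subtype_compl, Fintype.card_subtype_eq, Nat.card_eq_fintype_card]
  have hle := Nat.card_le_card_of_injective f hf
  rw [hcard, hj] at hle
  have hpj : p ≤ p ^ j := Nat.le_self_pow hj0 p
  have hS0 : 1 ≤ Nat.card S := Nat.card_pos
  refine ⟨by omega, fun hS x hx hx1 => ?_⟩
  haveI := Fintype.ofFinite {x : S // x ≠ 1}
  have hbij : Function.Bijective f := by
    rw [Fintype.bijective_iff_injective_and_card]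
    refine ⟨hf, ?_⟩
    rw [← Nat.card_eq_fintype_card, ← Nat.card_eq_fintype_card, hcard, hj]
    omega
  obtain ⟨⟨z, g, hz⟩, hzx⟩ := hbij.2 ⟨⟨x, hx⟩, fun h => hx1 (congrArg Subtype.val h)⟩
  obtain ⟨i, hi⟩ : ∃ i : ℕ, y ^ i = (g : G) := by
    obtain ⟨i, hi⟩ := mem_powers_iff_mem_zpowers.2 g.2
    exact ⟨i, hi⟩
  refine ⟨i, ?_⟩
  rw [hi]
  exact hz.trans (congrArg Subtype.val (congrArg Subtype.val hzx))

/-- An involution without fixed points on an abelian group of odd order inverts it. -/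
theorem inverts_of_free {S : Subgroup G} (hS : IsMulCommutative S) {u : G} (hu2 : u * u = 1)
    (huN : u ∈ normalizer (S : Set G)) (hfree : ∀ s ∈ S, u * s = s * u → s = 1) :
    ∀ s ∈ S, u * s * u⁻¹ = s⁻¹ := by
  intro s hs
  have hs' : u * s * u⁻¹ ∈ S := (mem_normalizer_iff.1 huN s).1 hs
  refine eq_inv_of_mul_eq_one_left (hfree _ (mul_mem hs' hs) (mul_inv_eq_iff_eq_mul.1 ?_))
  rw [show u * (u * s * u⁻¹ * s) * u⁻¹ = (u * u) * s * (u * u)⁻¹ * (u * s * u⁻¹) by group, hu2, inv_one,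
    one_mul, mul_one]
  exact congrArg Subtype.val (hS.is_comm.comm ⟨s, hs⟩ ⟨_, hs'⟩)

theorem card_sylows_in [hp : Fact p.Prime] (O : Subgroup G) (P : Sylow p G) (hP : (P : Subgroup G) ≤ O) :
    Nat.card {Q : Sylow p G // (Q : Subgroup G) ≤ O} ∣ Nat.card O := by
  have h : ∀ Q : Sylow p G, (Q : Subgroup G) ≤ O ↔ Q ∈ MulAction.orbit O P := fun Q => by
    constructor
    · intro hQ
      obtain ⟨c, hc⟩ := MulAction.exists_smul_eq O (P.subtype hP) (Q.subtype hQ)
      rw [Sylow.smul_subtype] at hc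
      exact ⟨c, Sylow.subtype_injective hc⟩
    · rintro ⟨⟨c, hc⟩, rfl⟩ _ ⟨x, hx, rfl⟩
      exact mul_mem (mul_mem hc (hP hx)) (inv_mem hc)
  rw [Nat.card_congr (Equiv.subtypeEquivRight h)]
  exact (Nat.card_congr (MulAction.orbitEquivQuotientStabilizer O P)).dvd.trans (card_quotient_dvd_card _)

/-- A `2`-group normalising an odd order subgroup normalises one of its Sylow subgroups. -/
theorem exists_fixed_sylow [hp : Fact p.Prime] {O T : Subgroup G} (hO : ¬ 2 ∣ Nat.card O)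
    (hT : IsPGroup 2 T) (hTO : T ≤ normalizer (O : Set G)) (P : Sylow p G) (hP : (P : Subgroup G) ≤ O) :
    ∃ Q : Sylow p G, (Q : Subgroup G) ≤ O ∧ T ≤ normalizer ((Q : Subgroup G) : Set G) := by
  haveI : Fact (Nat.Prime 2) := ⟨Nat.prime_two⟩
  letI : MulAction T {Q : Sylow p G // (Q : Subgroup G) ≤ O} :=
    { smul := fun g Q => ⟨(g : G) • Q.1, by
        rintro _ ⟨x, hx, rfl⟩
        exact (mem_normalizer_iff.1 (hTO g.2) x).1 (Q.2 hx)⟩
      one_smul := fun Q => Subtype.ext (one_smul G Q.1)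
      mul_smul := fun g h Q => Subtype.ext (mul_smul (g : G) (h : G) Q.1) }
  have hne : ¬ 2 ∣ Nat.card {Q : Sylow p G // (Q : Subgroup G) ≤ O} :=
    fun h => hO (h.trans (card_sylows_in O P hP))
  obtain ⟨Q, hQ⟩ := hT.nonempty_fixed_point_of_prime_not_dvd_card _ hne
  exact ⟨Q.1, Q.2, fun g hg => Sylow.smul_eq_iff_mem_normalizer.1 (congrArg Subtype.val (hQ ⟨g, hg⟩))⟩

/-- Invariant Sylow subgroups are conjugate by a centralising element. -/
theorem exists_conj_commute [hp : Fact p.Prime] {O : Subgroup G} (hO : ¬ 2 ∣ Nat.card O) {t : G}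
    (ht : orderOf t = 2) (htO : t ∈ normalizer (O : Set G)) (P Q : Sylow p G) (hP : (P : Subgroup G) ≤ O)
    (hQ : (Q : Subgroup G) ≤ O) (htP : t ∈ normalizer ((P : Subgroup G) : Set G))
    (htQ : t ∈ normalizer ((Q : Subgroup G) : Set G)) : ∃ c ∈ O, t * c = c * t ∧ c • P = Q := by
  haveI : Fact (Nat.Prime 2) := ⟨Nat.prime_two⟩
  let C := {c : O // (c : G) • P = Q}
  obtain ⟨c₀, hc₀⟩ : Nonempty C := by
    obtain ⟨c, hc⟩ := MulAction.exists_smul_eq O (P.subtype hP) (Q.subtype hQ)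
    rw [Sylow.smul_subtype] at hc
    exact ⟨⟨c, Sylow.subtype_injective hc⟩⟩
  have hC : ¬ 2 ∣ Nat.card C := by
    have e : Nat.card C = Nat.card ↥((normalizer ((P : Subgroup G) : Set G)).subgroupOf O) := Nat.card_congr
      { toFun := fun c => ⟨c₀⁻¹ * c.1, by
          rw [mem_subgroupOf]
          refine Sylow.smul_eq_iff_mem_normalizer.1 ?_
          rw [Subgroup.coe_mul, Subgroup.coe_inv, mul_smul, c.2, ← hc₀, inv_smul_smul]⟩
        invFun := fun n => ⟨c₀ * n.1, by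
          rw [Subgroup.coe_mul, mul_smul, Sylow.smul_eq_iff_mem_normalizer.2 (mem_subgroupOf.1 n.2), hc₀]⟩
        left_inv := fun c => Subtype.ext (by simp)
        right_inv := fun n => Subtype.ext (by simp) }
    exact fun h => hO ((e ▸ h).trans (card_subgroup_dvd_card _))
  have hT : IsPGroup 2 (zpowers t) := CfsgLib.FGS.isPGroup_zpowers (k := 1) (ht.trans (pow_one 2).symm)
  have hgN : ∀ g : zpowers t, (g : G) ∈ normalizer (O : Set G) := fun g => zpowers_le.2 htO g.2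
  letI : MulAction (zpowers t) C :=
    { smul := fun g c => ⟨⟨(g : G) * c.1 * (g : G)⁻¹, (mem_normalizer_iff.1 (hgN g) _).1 c.1.2⟩, by
        show ((g : G) * c.1 * (g : G)⁻¹) • P = Q
        rw [mul_smul, mul_smul, Sylow.smul_eq_iff_mem_normalizer.2 (inv_mem (zpowers_le.2 htP g.2)), c.2,
          Sylow.smul_eq_iff_mem_normalizer.2 (zpowers_le.2 htQ g.2)]⟩
      one_smul := fun c => Subtype.ext (Subtype.ext (show ((1 : zpowers t) : G) * c.1 * ((1 : zpowers t) : G)⁻¹ = c.1 by simp))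
      mul_smul := fun g h c => Subtype.ext (Subtype.ext (show ((g * h : zpowers t) : G) * c.1 * ((g * h : zpowers t) : G)⁻¹ =
        (g : G) * ((h : G) * c.1 * (h : G)⁻¹) * (g : G)⁻¹ by rw [Subgroup.coe_mul]; group)) }
  obtain ⟨c, hc⟩ := hT.nonempty_fixed_point_of_prime_not_dvd_card _ hC
  refine ⟨c.1, c.1.2, ?_, c.2⟩
  have h : t * c.1 * t⁻¹ = c.1 := congrArg (fun z : C => ((z.1 : O) : G)) (hc ⟨t, mem_zpowers t⟩)
  exact mul_inv_eq_iff_eq_mul.1 h

/-- The standing hypotheses. -/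
structure Setting (p : ℕ) (G : Type u) [Group G] [Finite G] : Prop where
  prime : p.Prime
  odd : p ≠ 2
  mix : Mix p 2 G
  card_two : ∀ Q : Sylow 2 G, Nat.card (Q : Subgroup G) = p + 1
  comm : ∀ P : Sylow p G, IsMulCommutative P
  two_elem : ∀ Q : Sylow 2 G, (∀ x ∈ (Q : Subgroup G), x * x = 1) ∧
    ∀ x ∈ (Q : Subgroup G), ∀ x' ∈ (Q : Subgroup G), x * x' = x' * x
  two_trans : ∀ Q : Sylow 2 G, ∃ y ∈ normalizer ((Q : Subgroup G) : Set G), PEl p y ∧
    ∀ x ∈ (Q : Subgroup G), ∀ x' ∈ (Q : Subgroup G), x ≠ 1 → x' ≠ 1 → ∃ i : ℕ, y ^ i * x * (y ^ i)⁻¹ = x'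
  central : ∀ P : Sylow p G, ∀ b ∈ (P : Subgroup G),
    (∀ n ∈ normalizer ((P : Subgroup G) : Set G), n * b = b * n) → b = 1
  gen : ∀ S : Subgroup G, (∀ x : G, orderOf x = 2 → x ∈ S) → S = ⊤
  ne_bot : ∀ P : Sylow p G, (P : Subgroup G) ≠ ⊥
  core : ∀ W : Subgroup G, W.Normal → IsPGroup p W → W = ⊥

/-- The `p`-part of the centraliser of an element. -/
def pW (p : ℕ) (t : G) : Subgroup G := closure {y | PEl p y ∧ y * t = t * y}

omit [Finite G] in
theorem mem_pW {t y : G} (hy : PEl p y) (h : y * t = t * y) : y ∈ pW p t := subset_closure ⟨hy, h⟩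

omit [Finite G] in
theorem pW_comm {t w : G} (hw : w ∈ pW p t) : w * t = t * w :=
  mem_centralizer_singleton_iff.1 ((closure_le _).2 (fun _ h => mem_centralizer_singleton_iff.2 h.2) hw)

omit [Finite G] in
theorem pW_conj {t w : G} (g : G) (hw : w ∈ pW p t) : g * w * g⁻¹ ∈ pW p (g * t * g⁻¹) := by
  have : pW p t ≤ (pW p (g * t * g⁻¹)).comap (MulAut.conj g).toMonoidHom :=
    (closure_le _).2 fun y hy => mem_pW (hy.1.conj g) (by
      show g * y * g⁻¹ * (g * t * g⁻¹) = g * t * g⁻¹ * (g * y * g⁻¹)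
      rw [show g * y * g⁻¹ * (g * t * g⁻¹) = g * (y * t) * g⁻¹ by group, hy.2]
      group)
  exact this hw

namespace Setting

variable [hp : Fact p.Prime] (S : Setting p G)

include S

theorem coprime_two : p.Coprime 2 := (Nat.coprime_primes S.prime Nat.prime_two).2 S.odd

theorem pEl_odd {x : G} (hx : PEl p x) : (orderOf x).Coprime 2 :=
  hx.coprime fun h => S.odd ((Nat.prime_dvd_prime_iff_eq S.prime Nat.prime_two).1 h)

theorem two_part {T : Subgroup G} (hT : IsPGroup 2 T) :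
    (∀ x ∈ T, x * x = 1) ∧ ∀ x ∈ T, ∀ x' ∈ T, x * x' = x' * x := by
  haveI : Fact (Nat.Prime 2) := ⟨Nat.prime_two⟩
  obtain ⟨Q, hQ⟩ := hT.exists_le_sylow
  exact ⟨fun x hx => (S.two_elem Q).1 x (hQ hx), fun x hx x' hx' => (S.two_elem Q).2 x (hQ hx) x' (hQ hx')⟩

theorem sq_eq_one {x : G} {k : ℕ} (hk : orderOf x = 2 ^ k) : x * x = 1 :=
  haveI : Fact (Nat.Prime 2) := ⟨Nat.prime_two⟩
  (S.two_part (CfsgLib.FGS.isPGroup_zpowers hk)).1 x (mem_zpowers x)

theorem pgroup_comm {W : Subgroup G} (hW : IsPGroup p W) {a b : G} (ha : a ∈ W) (hb : b ∈ W) : a * b = b * a := by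
  obtain ⟨P, hP⟩ := hW.exists_le_sylow
  exact congrArg Subtype.val ((S.comm P).is_comm.comm ⟨a, hP ha⟩ ⟨b, hP hb⟩)

theorem invol_conj {t u : G} (ht : orderOf t = 2) (hu : orderOf u = 2) : ∃ g, g * t * g⁻¹ = u := by
  haveI : Fact (Nat.Prime 2) := ⟨Nat.prime_two⟩
  obtain ⟨Q, hQ⟩ := (CfsgLib.FGS.isPGroup_zpowers (k := 1) (ht.trans (pow_one 2).symm)).exists_le_sylow
  obtain ⟨Q', hQ'⟩ := (CfsgLib.FGS.isPGroup_zpowers (k := 1) (hu.trans (pow_one 2).symm)).exists_le_sylow
  obtain ⟨h, rfl⟩ := MulAction.exists_smul_eq G Q Q'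
  obtain ⟨x, hx, rfl⟩ := hQ' (mem_zpowers u)
  obtain ⟨y, -, -, htr⟩ := S.two_trans Q
  have hne : ∀ z : G, orderOf z = 2 → z ≠ 1 := fun z hz h => by rw [h, orderOf_one] at hz; omega
  have hx1 : x ≠ 1 := fun h1 => hne _ hu (by rw [h1]; simp)
  obtain ⟨i, hi⟩ := htr t (hQ (mem_zpowers t)) x hx (hne t ht) hx1
  exact ⟨h * y ^ i, by show h * y ^ i * t * (h * y ^ i)⁻¹ = h * x * h⁻¹; rw [← hi]; group⟩

/-- A subgroup whose Sylow `2`-subgroup is centralised by its normalising `p`-elements has an odd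
normal complement to it. -/
theorem odd_complement (L : Subgroup G) (T : Sylow 2 L)
    (hfix : ∀ y ∈ L, PEl p y → y ∈ normalizer (((T : Subgroup L).map L.subtype : Subgroup G) : Set G) →
      ∀ s ∈ (T : Subgroup L).map L.subtype, y * s = s * y) :
    ∃ O ≤ L, ¬ 2 ∣ Nat.card O ∧ L ≤ normalizer (O : Set G) ∧ ∀ x ∈ L, (orderOf x).Coprime 2 → x ∈ O := by
  haveI : Fact (Nat.Prime 2) := ⟨Nat.prime_two⟩
  set T0 := (T : Subgroup L).map L.subtype with hT0
  have hT0p : IsPGroup 2 T0 := T.2.map _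
  have hcompl : Cfsg.HasNormalPComplement 2 L := by
    refine (hasNormalPComplement_iff_sylow T).2 ⟨_, inferInstance, MonoidHom.ker_transferSylow_isComplement' T ?_⟩
    intro x hx
    refine mem_centralizer_iff.2 fun s hs => Subtype.ext ?_
    show (s : G) * x = x * s
    have hxN : (x : G) ∈ normalizer (T0 : Set G) := le_normalizer_map L.subtype ⟨x, hx, rfl⟩
    have hsT : (s : G) ∈ T0 := ⟨s, hs, rfl⟩
    obtain ⟨i, j, ⟨k, hk⟩, hj, hij, -⟩ := CfsgLib.FGS.exists_p_parts 2 (x : G)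
    have h1 : ((x : G) ^ i) * s = s * (x : G) ^ i := by
      have hP : IsPGroup 2 ↥(T0 ⊔ zpowers ((x : G) ^ i)) :=
        hT0p.to_sup_of_normal_left' (CfsgLib.FGS.isPGroup_zpowers hk) (zpowers_le.2 (pow_mem hxN i))
      exact (S.two_part hP).2 _ (mem_sup_right (mem_zpowers _)) _ (mem_sup_left hsT)
    set e := (x : G) ^ j with he
    obtain ⟨a, b, ha, hb, hab, -⟩ := CfsgLib.FGS.exists_p_parts p e
    have h2 : e ^ a * s = s * e ^ a :=
      hfix _ (pow_mem (pow_mem x.2 j) a) ha (pow_mem (pow_mem hxN j) a) s hsT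
    have h3 : e ^ b * s = s * e ^ b := by
      by_cases hbot : T0 = ⊥
      · rw [hbot, mem_bot] at hsT
        simp [hsT]
      · rw [eq_one_of_normalizes (q := 2) S.odd S.mix hT0p hbot (pow_mem (pow_mem hxN j) b) hb
          (hj.coprime_dvd_left (orderOf_pow_dvd b)), one_mul, mul_one]
    rw [← hij, ← hab]
    exact ((show Commute (s : G) ((x : G) ^ i) from h1.symm).mul_right
      ((show Commute (s : G) (e ^ a) from h2.symm).mul_right (show Commute (s : G) (e ^ b) from h3.symm))).eq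
  haveI := pResidual_characteristic (G := L) (p := 2)
  obtain ⟨k, hk⟩ := index_pResidual (G := L) (p := 2)
  have hco := hasNormalPComplement_iff_pResidual.1 hcompl
  refine ⟨(Cfsg.pResidual 2 L).map L.subtype, map_subtype_le _, ?_, fun x hx => ?_, fun x hx hxo =>
    ⟨⟨x, hx⟩, mem_pResidual_of_coprime (by rwa [Subgroup.orderOf_mk]), rfl⟩⟩
  · rw [card_map_of_injective L.subtype_injective]
    exact not_dvd_of_coprime hco
  · refine mem_normalizer_of_conj ?_
    rintro _ ⟨c, hc, rfl⟩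
    refine ⟨⟨x, hx⟩ * c * ⟨x, hx⟩⁻¹, ?_, rfl⟩
    exact (inferInstance : (Cfsg.pResidual 2 L).Normal).conj_mem c hc _

/-- A real element of odd order is not centralised by a Sylow `2`-subgroup. -/
theorem real_not_full {b s : G} (hb : b ≠ 1) (hbo : (orderOf b).Coprime 2) (hs : s * b * s⁻¹ = b⁻¹)
    (Q : Sylow 2 G) : ¬ (Q : Subgroup G) ≤ centralizer ({b} : Set G) := by
  haveI : Fact (Nat.Prime 2) := ⟨Nat.prime_two⟩
  intro hQ
  have hsN : s ∈ normalizer (centralizer ({b} : Set G) : Set G) := by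
    refine mem_normalizer_of_conj fun x hx => mem_centralizer_singleton_iff.2 ?_
    have hx' : x * b = b * x := mem_centralizer_singleton_iff.1 hx
    have h : Commute (s * x * s⁻¹) (s * b * s⁻¹) := by
      show s * x * s⁻¹ * (s * b * s⁻¹) = s * b * s⁻¹ * (s * x * s⁻¹)
      rw [show s * x * s⁻¹ * (s * b * s⁻¹) = s * (x * b) * s⁻¹ by group, hx']
      group
    rw [hs, Commute.inv_right_iff] at h
    exact h.eq
  obtain ⟨c, hc, hcN⟩ := CfsgLib.FGS.PByCyclic.exists_mul_mem_normalizer Q hQ hsN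
  set s' := c * s with hs'
  have hinv : ∀ n : ℕ, s' ^ n * b * (s' ^ n)⁻¹ = b ^ ((-1 : ℤ) ^ n) := by
    have h1 : s' * b * s'⁻¹ = b⁻¹ := by
      rw [hs', show c * s * b * (c * s)⁻¹ = c * (s * b * s⁻¹) * c⁻¹ by group, hs,
        (show Commute c b from mem_centralizer_singleton_iff.1 hc).inv_right.eq, mul_inv_cancel_right]
    intro n
    induction n with
    | zero => simp
    | succ n ih =>
      rw [pow_succ', show s' * s' ^ n * b * (s' * s' ^ n)⁻¹ = s' * (s' ^ n * b * (s' ^ n)⁻¹) * s'⁻¹ by group, ih,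
        ← conj_zpow, h1, ← zpow_neg_one, ← zpow_mul, pow_succ']
  obtain ⟨k, m, hm, hk⟩ := Nat.exists_eq_pow_mul_and_not_dvd (orderOf_pos s').ne' 2 (by norm_num)
  have hodd : Odd m := Nat.odd_iff.2 (Nat.two_dvd_ne_zero.1 hm)
  have ho : orderOf (s' ^ m) = 2 ^ k := by
    rw [orderOf_pow, hk, Nat.gcd_eq_right (dvd_mul_left _ _), Nat.mul_div_cancel _ hodd.pos]
  have hmem := CfsgLib.Transfer.AbPrime.mem_sylow_of_normalizes (p := 2) Q (pow_mem hcN m) ho
  have hcb := mem_centralizer_singleton_iff.1 (hQ hmem)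
  have h2 := hinv m
  rw [hcb, mul_inv_cancel_right, hodd.neg_one_pow, zpow_neg_one] at h2
  refine hb (orderOf_eq_one_iff.1 (Nat.eq_one_of_dvd_coprimes hbo dvd_rfl (orderOf_dvd_of_pow_eq_one ?_)))
  rw [pow_two]; nth_rewrite 2 [h2]; exact mul_inv_cancel b

/-- The centraliser of a real element of odd order. -/
theorem real_complement {b s : G} (hb : b ≠ 1) (hbo : (orderOf b).Coprime 2) (hs : s * b * s⁻¹ = b⁻¹) :
    ∃ O ≤ centralizer ({b} : Set G), ¬ 2 ∣ Nat.card O ∧
      centralizer ({b} : Set G) ≤ normalizer (O : Set G) ∧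
      ∀ x ∈ centralizer ({b} : Set G), (orderOf x).Coprime 2 → x ∈ O := by
  haveI : Fact (Nat.Prime 2) := ⟨Nat.prime_two⟩
  obtain ⟨T⟩ := (inferInstance : Nonempty (Sylow 2 (centralizer ({b} : Set G))))
  refine S.odd_complement _ T fun y _ hyp hyN x hx => ?_
  by_contra hmv
  obtain ⟨h1, -⟩ := orbit_of_moved hyN hyp hx hmv
  obtain ⟨Q, hQ⟩ := ((T.2).map (centralizer ({b} : Set G)).subtype).exists_le_sylow
  refine S.real_not_full hb hbo hs Q ?_
  rw [← eq_of_le_of_card_ge hQ (by rw [S.card_two Q]; exact h1)]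
  exact map_subtype_le _

theorem centralizer_invol {t : G} (ht : orderOf t = 2) :
    IsPGroup p (pW p t) ∧ centralizer ({t} : Set G) ≤ normalizer (pW p t : Set G) := by
  haveI : Fact (Nat.Prime 2) := ⟨Nat.prime_two⟩
  set L := centralizer ({t} : Set G) with hL
  obtain ⟨T⟩ := (inferInstance : Nonempty (Sylow 2 L))
  have htL : t ∈ L := mem_centralizer_singleton_iff.2 rfl
  have ht1 : t ≠ 1 := fun h => by rw [h, orderOf_one] at ht; omega
  obtain ⟨Q, hQ⟩ := (CfsgLib.FGS.isPGroup_zpowers (k := 1) (ht.trans (pow_one 2).symm)).exists_le_sylow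
  have hQL : (Q : Subgroup G) ≤ L := fun x hx =>
    mem_centralizer_singleton_iff.2 ((S.two_elem Q).2 x hx t (hQ (mem_zpowers t)))
  have htT : t ∈ (T : Subgroup L).map L.subtype := by
    have h1 : IsPGroup 2 ↥((T : Subgroup L) ⊔ zpowers (⟨t, htL⟩ : L)) :=
      T.2.to_sup_of_normal_left' (CfsgLib.FGS.isPGroup_zpowers (k := 1)
        (by rw [Subgroup.orderOf_mk, ht, pow_one])) (zpowers_le.2 (mem_normalizer_of_conj fun s hs => by
          have hst : (s : G) * t = t * s := mem_centralizer_singleton_iff.1 s.2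
          have : (⟨t, htL⟩ : L) * s * (⟨t, htL⟩ : L)⁻¹ = s := Subtype.ext (by
            show t * s * t⁻¹ = s
            rw [← hst, mul_inv_cancel_right])
          rw [this]; exact hs))
    exact ⟨⟨t, htL⟩, (T.3 h1 le_sup_left).le (mem_sup_right (mem_zpowers _)), rfl⟩
  obtain ⟨O, hOL, hO2, hLN, hmem⟩ := S.odd_complement L T fun y hyL hyp hyN s hs => by
    by_contra hmv
    obtain ⟨h1, hall⟩ := orbit_of_moved hyN hyp hs hmv
    have hcard : Nat.card ((T : Subgroup L).map L.subtype) = p + 1 := by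
      refine le_antisymm ?_ h1
      obtain ⟨Q', hQ'⟩ := ((T.2).map L.subtype).exists_le_sylow
      exact S.card_two Q' ▸ card_le_of_le hQ'
    obtain ⟨i, hi⟩ := hall hcard t htT ht1
    have hyt : Commute (y ^ i) t := (show Commute y t from mem_centralizer_singleton_iff.1 hyL).pow_left i
    have hst : s = t := by
      calc s = (y ^ i)⁻¹ * (y ^ i * s * (y ^ i)⁻¹) * y ^ i := by group
        _ = (y ^ i)⁻¹ * t * y ^ i := by rw [hi]
        _ = t := by rw [mul_assoc, ← hyt.eq, inv_mul_cancel_left]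
    exact hmv (by rw [hst]; exact mem_centralizer_singleton_iff.1 hyL)
  have hOp : ∀ x ∈ O, PEl p x := by
    intro x hx
    obtain ⟨a, b, ha, hb, hab, -⟩ := CfsgLib.FGS.exists_p_parts p x
    have hxo : (orderOf x).Coprime 2 :=
      (coprime_of_not_dvd hO2).coprime_dvd_left (Subgroup.orderOf_dvd_natCard O hx)
    have hx1 : x ^ b = 1 := eq_one_of_normalizes (q := 2) S.odd S.mix
      (CfsgLib.FGS.isPGroup_zpowers (k := 1) (ht.trans (pow_one 2).symm)) (by rwa [Ne, zpowers_eq_bot])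
      (mem_normalizer_of_conj fun s hs => by
        have h1 : Commute (x ^ b) s := by
          obtain ⟨j, rfl⟩ := hs
          exact ((show Commute x t from mem_centralizer_singleton_iff.1 (hOL hx)).pow_left b).zpow_right j
        rw [h1.eq, mul_inv_cancel_right]; exact hs) hb (hxo.coprime_dvd_left (orderOf_pow_dvd b))
    rw [hx1, mul_one] at hab
    rw [← hab]
    exact ha
  have heq : pW p t = O := le_antisymm
    ((closure_le _).2 fun y hy => hmem y (mem_centralizer_singleton_iff.2 hy.2) (S.pEl_odd hy.1))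
    fun x hx => mem_pW (hOp x hx) (mem_centralizer_singleton_iff.1 (hOL hx))
  rw [heq]
  refine ⟨IsPGroup.iff_orderOf.2 fun x => ?_, hLN⟩
  obtain ⟨k, hk⟩ := hOp x x.2
  exact ⟨k, by rw [← Subgroup.orderOf_coe]; exact hk⟩

/-- An inverted `p`-element lies in a Sylow subgroup normalised by the inverting involution. -/
theorem exists_sylow_inverted {b t : G} (hb : b ≠ 1) (hbp : PEl p b) (ht : orderOf t = 2)
    (hs : t * b * t⁻¹ = b⁻¹) :
    ∃ P : Sylow p G, b ∈ (P : Subgroup G) ∧ t ∈ normalizer ((P : Subgroup G) : Set G) := by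
  obtain ⟨O, hOC, hO2, -, hmem⟩ := S.real_complement hb (S.pEl_odd hbp) hs
  obtain ⟨k, hk⟩ := hbp
  obtain ⟨P₀, hP₀⟩ := (CfsgLib.FGS.isPGroup_zpowers hk).exists_le_sylow
  have hPO : (P₀ : Subgroup G) ≤ O := fun x hx => hmem x
    (mem_centralizer_singleton_iff.2 (S.pgroup_comm P₀.2 hx (hP₀ (mem_zpowers b)))) (S.pEl_odd (pEl_of_mem P₀.2 hx))
  have htC : ∀ x ∈ centralizer ({b} : Set G), t * x * t⁻¹ ∈ centralizer ({b} : Set G) := fun x hx => by
    refine mem_centralizer_singleton_iff.2 ?_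
    have hx' : x * b = b * x := mem_centralizer_singleton_iff.1 hx
    have h : Commute (t * x * t⁻¹) (t * b * t⁻¹) := by
      show t * x * t⁻¹ * (t * b * t⁻¹) = t * b * t⁻¹ * (t * x * t⁻¹)
      rw [show t * x * t⁻¹ * (t * b * t⁻¹) = t * (x * b) * t⁻¹ by group, hx']
      group
    rw [hs, Commute.inv_right_iff] at h
    exact h.eq
  have htO : t ∈ normalizer (O : Set G) := mem_normalizer_of_conj fun x hx => hmem _ (htC x (hOC hx)) (by
    rw [← MulAut.conj_apply, MulEquiv.orderOf_eq]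
    exact (coprime_of_not_dvd (p := 2) (hp := ⟨Nat.prime_two⟩) hO2).coprime_dvd_left (Subgroup.orderOf_dvd_natCard O hx))
  obtain ⟨P, hPO', htP⟩ := exists_fixed_sylow hO2
    (CfsgLib.FGS.isPGroup_zpowers (p := 2) (k := 1) (ht.trans (pow_one 2).symm)) (zpowers_le.2 htO) P₀ hPO
  refine ⟨P, ?_, htP (mem_zpowers t)⟩
  refine CfsgLib.Transfer.AbPrime.mem_sylow_of_normalizes P ?_ hk
  refine mem_normalizer_of_conj fun x hx => ?_
  rw [← mem_centralizer_singleton_iff.1 (hOC (hPO' hx)), mul_inv_cancel_right]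
  exact hx

/-- The normaliser of a Sylow subgroup with an involution in it. -/
theorem normalizer_data (P : Sylow p G) {t : G} (ht : orderOf t = 2)
    (htN : t ∈ normalizer ((P : Subgroup G) : Set G)) :
    ∃ M : Sylow 2 (normalizer ((P : Subgroup G) : Set G)),
      t ∈ (M : Subgroup _).map (normalizer ((P : Subgroup G) : Set G)).subtype ∧
      (∀ x ∈ normalizer ((P : Subgroup G) : Set G),
        x ∈ (P : Subgroup G) ⊔ (M : Subgroup _).map (normalizer ((P : Subgroup G) : Set G)).subtype) ∧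
      ∀ b ∈ (P : Subgroup G),
        (∀ m ∈ (M : Subgroup _).map (normalizer ((P : Subgroup G) : Set G)).subtype, m * b = b * m) → b = 1 := by
  haveI : Fact (Nat.Prime 2) := ⟨Nat.prime_two⟩
  set N := normalizer ((P : Subgroup G) : Set G) with hN
  obtain ⟨M, hM⟩ := ((CfsgLib.FGS.isPGroup_zpowers (k := 1) (ht.trans (pow_one 2).symm)).comap_subtype
    (K := N)).exists_le_sylow
  have htM : t ∈ (M : Subgroup N).map N.subtype := ⟨⟨t, htN⟩, hM (mem_zpowers t), rfl⟩
  have hMN : (M : Subgroup N).map N.subtype ≤ N := map_subtype_le _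
  have hPN : (P : Subgroup G) ≤ N := le_normalizer
  -- the order of `N` has no primes other than `2` and `p`
  haveI : ((P : Subgroup G).subgroupOf N).Normal := inferInstance
  have hcop : (Nat.card ((P : Subgroup G).subgroupOf N)).Coprime ((P : Subgroup G).subgroupOf N).index := by
    obtain ⟨a, ha⟩ : ∃ a, Nat.card ((P : Subgroup G).subgroupOf N) = p ^ a :=
      IsPGroup.iff_card.1 (P.2.comap_subtype (K := N))
    rw [ha]
    refine Nat.Coprime.pow_left a (hp.out.coprime_iff_not_dvd.2 ?_)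
    exact (P.subtype hPN).not_dvd_index
  obtain ⟨K, hK⟩ := exists_right_complement'_of_coprime hcop
  have hKc : Nat.card K = ((P : Subgroup G).subgroupOf N).index := hK.symm.index_eq_card.symm
  have h2K : 2 ∣ Nat.card (K.map N.subtype) := by
    rw [card_map_of_injective N.subtype_injective]
    have h2N : 2 ∣ Nat.card N := by
      rw [← ht, ← Subgroup.orderOf_mk t htN]; exact orderOf_dvd_natCard _
    rw [← hK.card_mul] at h2N
    rcases Nat.prime_two.dvd_mul.1 h2N with h | h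
    · obtain ⟨a, ha⟩ : ∃ a, Nat.card ((P : Subgroup G).subgroupOf N) = p ^ a :=
        IsPGroup.iff_card.1 (P.2.comap_subtype (K := N))
      rw [ha] at h
      exact absurd ((Nat.prime_dvd_prime_iff_eq Nat.prime_two S.prime).1 (Nat.prime_two.dvd_of_dvd_pow h)).symm S.odd
    · exact h
  obtain ⟨j, hj⟩ := IsPGroup.iff_card.1 (S.mix (K.map N.subtype) h2K (by
    rw [card_map_of_injective N.subtype_injective, hKc]; exact (P.subtype hPN).not_dvd_index))
  rw [card_map_of_injective N.subtype_injective] at hj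
  have hsup : ((P : Subgroup G).subgroupOf N) ⊔ (M : Subgroup N) = ⊤ := by
    refine eq_top_of_card_eq _ (Nat.dvd_antisymm (card_subgroup_dvd_card _) ?_)
    rw [← hK.card_mul, hj]
    obtain ⟨a, ha⟩ : ∃ a, Nat.card ((P : Subgroup G).subgroupOf N) = p ^ a :=
      IsPGroup.iff_card.1 (P.2.comap_subtype (K := N))
    refine Nat.Coprime.mul_dvd_of_dvd_of_dvd (by rw [ha]; exact S.coprime_two.pow a j)
      (card_dvd_of_le le_sup_left) ((M.pow_dvd_card_of_pow_dvd_card ?_).trans (card_dvd_of_le le_sup_right))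
    rw [← hj, ← hK.card_mul]
    exact dvd_mul_left _ _
  have hmem : ∀ x ∈ N, x ∈ (P : Subgroup G) ⊔ (M : Subgroup N).map N.subtype := by
    intro x hx
    have h : x ∈ ((((P : Subgroup G).subgroupOf N) ⊔ (M : Subgroup N)).map N.subtype) :=
      ⟨⟨x, hx⟩, hsup.ge (mem_top _), rfl⟩
    rwa [Subgroup.map_sup, map_subgroupOf_eq_of_le hPN] at h
  refine ⟨M, htM, hmem, fun b hb hcom => S.central P b hb fun n hn => ?_⟩
  have hle : (P : Subgroup G) ⊔ (M : Subgroup N).map N.subtype ≤ centralizer ({b} : Set G) :=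
    sup_le (fun x hx => mem_centralizer_singleton_iff.2 (S.pgroup_comm P.2 hx hb))
      fun m hm => mem_centralizer_singleton_iff.2 (hcom m hm)
  exact mem_centralizer_singleton_iff.1 (hle (hmem n hn))

/-- A nontrivial invariant subgroup has an element which each operator fixes or inverts. -/
theorem exists_eigen {V T : Subgroup G} (hT : IsPGroup 2 T) (hV : IsPGroup p V) (hVne : V ≠ ⊥)
    (hTV : T ≤ normalizer (V : Set G)) :
    ∃ v ∈ V, v ≠ 1 ∧ ∀ m ∈ T, m * v * m⁻¹ = v ∨ m * v * m⁻¹ = v⁻¹ := by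
  classical
  haveI := Fintype.ofFinite T
  suffices h : ∀ s : Finset T, ∃ v ∈ V, v ≠ 1 ∧
      ∀ m ∈ s, (m : G) * v * (m : G)⁻¹ = v ∨ (m : G) * v * (m : G)⁻¹ = v⁻¹ by
    obtain ⟨v, hv, hv1, hall⟩ := h Finset.univ
    exact ⟨v, hv, hv1, fun m hm => hall ⟨m, hm⟩ (Finset.mem_univ _)⟩
  intro s
  induction s using Finset.induction_on with
  | empty =>
    obtain ⟨v, hv, hv1⟩ := SetLike.exists_of_lt (bot_lt_iff_ne_bot.2 hVne)
    exact ⟨v, hv, fun h => hv1 (mem_bot.2 h), fun m hm => absurd hm (Finset.notMem_empty m)⟩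
  | @insert m s hms ih =>
    obtain ⟨v, hv, hv1, hall⟩ := ih
    have hv' : (m : G) * v * (m : G)⁻¹ ∈ V := (mem_normalizer_iff.1 (hTV m.2) v).1 hv
    have hmm : (m : G) * m = 1 := (S.two_part hT).1 _ m.2
    set v' := (m : G) * v * (m : G)⁻¹ with hv'def
    have hvv' : Commute v v' := S.pgroup_comm hV hv hv'
    by_cases hw : v * v' = 1
    · refine ⟨v, hv, hv1, fun k hk => ?_⟩
      rcases Finset.mem_insert.1 hk with rfl | hk
      · exact Or.inr (eq_inv_of_mul_eq_one_right hw)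
      · exact hall k hk
    · refine ⟨v * v', mul_mem hv hv', hw, fun k hk => ?_⟩
      rcases Finset.mem_insert.1 hk with rfl | hk
      · left
        rw [show (k : G) * (v * v') * (k : G)⁻¹ = v' * ((k : G) * k * v * ((k : G) * k)⁻¹) by
          rw [hv'def]; group, hmm, one_mul, inv_one, mul_one, ← hvv'.eq]
      · have hkm : (k : G) * m = m * k := (S.two_part hT).2 _ k.2 _ m.2
        have e : (k : G) * v' * (k : G)⁻¹ = m * ((k : G) * v * (k : G)⁻¹) * (m : G)⁻¹ := by
          rw [hv'def, show (k : G) * (m * v * (m : G)⁻¹) * (k : G)⁻¹ = (k * m) * v * ((k : G) * m)⁻¹ by group, hkm]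
          group
        rw [show (k : G) * (v * v') * (k : G)⁻¹ = ((k : G) * v * (k : G)⁻¹) * ((k : G) * v' * (k : G)⁻¹) by group, e]
        rcases hall k hk with h | h <;> rw [h]
        · exact Or.inl rfl
        · right
          have h5 : (m : G) * v⁻¹ * (m : G)⁻¹ = v'⁻¹ := by rw [hv'def]; group
          rw [h5, mul_inv_rev v v']
          exact hvv'.inv_inv.eq

/-- An involution normalising a Sylow subgroup and fixing a nontrivial element of it has the `p`-part of
its centraliser inside it. -/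
theorem pW_le {t : G} (ht : orderOf t = 2) (P : Sylow p G) (htN : t ∈ normalizer ((P : Subgroup G) : Set G))
    {v : G} (hv : v ∈ (P : Subgroup G)) (hv1 : v ≠ 1) (hfix : t * v = v * t) :
    pW p t ≤ (P : Subgroup G) := by
  haveI : Fact (Nat.Prime 2) := ⟨Nat.prime_two⟩
  obtain ⟨M, htM, -, hfree⟩ := S.normalizer_data P ht htN
  set T := (M : Subgroup _).map (normalizer ((P : Subgroup G) : Set G)).subtype with hT
  have hTp : IsPGroup 2 T := M.2.map _
  have hTN : T ≤ normalizer ((P : Subgroup G) : Set G) := map_subtype_le _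
  set V := (P : Subgroup G) ⊓ centralizer ({t} : Set G) with hV
  have hVne : V ≠ ⊥ := fun h => hv1 (mem_bot.1 (h ▸ mem_inf.2 ⟨hv, mem_centralizer_singleton_iff.2 hfix.symm⟩))
  have hTV : T ≤ normalizer (V : Set G) := fun m hm => mem_normalizer_inf' (hTN hm)
    (le_normalizer (mem_centralizer_singleton_iff.2 ((S.two_part hTp).2 m hm t htM)))
  obtain ⟨w, hwV, hw1, heig⟩ := S.exists_eigen hTp (P.2.to_le inf_le_left) hVne hTV
  obtain ⟨hwP, hwt⟩ := mem_inf.1 hwV
  have hwt' : w * t = t * w := mem_centralizer_singleton_iff.1 hwt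
  obtain ⟨m, hm, hinv⟩ : ∃ m ∈ T, m * w * m⁻¹ = w⁻¹ := by
    by_contra h
    push Not at h
    exact hw1 (hfree w hwP fun m hm => mul_inv_eq_iff_eq_mul.1 ((heig m hm).resolve_right (h m hm)))
  have hwp : PEl p w := pEl_of_mem P.2 hwP
  obtain ⟨O, hOC, hO2, hCN, hmem⟩ := S.real_complement hw1 (S.pEl_odd hwp) hinv
  obtain ⟨hWp, hWN⟩ := S.centralizer_invol ht
  have hwW : w ∈ pW p t := mem_pW hwp hwt'
  obtain ⟨P₀, hP₀⟩ := hWp.exists_le_sylow
  set O' := O ⊓ centralizer (pW p t : Set G) with hO'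
  have hP0O : (P₀ : Subgroup G) ≤ O' := fun x hx => mem_inf.2
    ⟨hmem x (mem_centralizer_singleton_iff.2 (S.pgroup_comm P₀.2 hx (hP₀ hwW))) (S.pEl_odd (pEl_of_mem P₀.2 hx)),
      mem_centralizer_iff.2 fun y hy => S.pgroup_comm P₀.2 (hP₀ hy) hx⟩
  have htO : t ∈ normalizer (O : Set G) := hCN (mem_centralizer_singleton_iff.2 hwt'.symm)
  have htO' : t ∈ normalizer (O' : Set G) := mem_normalizer_inf' htO
    (le_normalizer (mem_centralizer_iff.2 fun y hy => pW_comm hy))
  obtain ⟨P'', hP''O, htP''⟩ := exists_fixed_sylow (fun h => hO2 (h.trans (card_dvd_of_le inf_le_left)))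
    (CfsgLib.FGS.isPGroup_zpowers (p := 2) (k := 1) (ht.trans (pow_one 2).symm)) (zpowers_le.2 htO') P₀ hP0O
  have hWP'' : pW p t ≤ (P'' : Subgroup G) := by
    intro y hy
    obtain ⟨k, hk⟩ := pEl_of_mem hWp hy
    refine CfsgLib.Transfer.AbPrime.mem_sylow_of_normalizes P'' (mem_normalizer_of_conj fun x hx => ?_) hk
    rw [mem_centralizer_iff.1 (mem_inf.1 (hP''O hx)).2 y hy, mul_inv_cancel_right]
    exact hx
  have hPO : (P : Subgroup G) ≤ O := fun x hx => hmem x
    (mem_centralizer_singleton_iff.2 (S.pgroup_comm P.2 hx hwP)) (S.pEl_odd (pEl_of_mem P.2 hx))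
  obtain ⟨c, -, hct, hcP⟩ := exists_conj_commute hO2 ht htO P P'' hPO (hP''O.trans inf_le_left) htN
    (htP'' (mem_zpowers t))
  intro y hy
  have hy' : c * y * c⁻¹ ∈ (P'' : Subgroup G) :=
    hWP'' ((mem_normalizer_iff.1 (hWN (mem_centralizer_singleton_iff.2 hct.symm)) y).1 hy)
  rw [← hcP] at hy'
  obtain ⟨z, hz, hzy⟩ := hy'
  have : z = y := by
    have hzy' : c * z * c⁻¹ = c * y * c⁻¹ := hzy
    exact mul_left_cancel (mul_right_cancel hzy')
  rwa [← this]
where
  mem_normalizer_inf' {A B : Subgroup G} {g : G} (hA : g ∈ normalizer (A : Set G))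
      (hB : g ∈ normalizer (B : Set G)) : g ∈ normalizer ((A ⊓ B : Subgroup G) : Set G) := by
    rw [Subgroup.mem_normalizer_iff] at *
    exact fun x => ⟨fun h => ⟨(hA x).1 h.1, (hB x).1 h.2⟩, fun h => ⟨(hA x).2 h.1, (hB x).2 h.2⟩⟩

/-- An involution without nontrivial fixed points on a Sylow subgroup inverts it. -/
theorem inverts {t : G} (ht : orderOf t = 2) (P : Sylow p G) (htN : t ∈ normalizer ((P : Subgroup G) : Set G))
    (h : ∀ v ∈ (P : Subgroup G), t * v = v * t → v = 1) : ∀ v ∈ (P : Subgroup G), t * v * t⁻¹ = v⁻¹ :=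
  inverts_of_free (S.comm P) (S.sq_eq_one (k := 1) (ht.trans (pow_one 2).symm)) htN h

/-- The parts of a product of noncommuting involutions. -/
theorem product_parts {t u : G} (ht : orderOf t = 2) (hu : orderOf u = 2) (hne : t * u ≠ u * t) :
    ∃ z b : G, t * u = z * b ∧ b ≠ 1 ∧ PEl p b ∧ t * b * t⁻¹ = b⁻¹ ∧ u * b * u⁻¹ = b⁻¹ ∧
      z * z = 1 ∧ t * z = z * t ∧ z * b = b * z ∧ ∃ i, (t * u) ^ i = b := by
  haveI : Fact (Nat.Prime 2) := ⟨Nat.prime_two⟩
  have ht2 := S.sq_eq_one (k := 1) (ht.trans (pow_one 2).symm)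
  have hu2 := S.sq_eq_one (k := 1) (hu.trans (pow_one 2).symm)
  have hti : t⁻¹ = t := inv_eq_of_mul_eq_one_right ht2
  have hui : u⁻¹ = u := inv_eq_of_mul_eq_one_right hu2
  set d := t * u with hd
  have hinvt : ∀ n : ℕ, t * d ^ n * t⁻¹ = (d ^ n)⁻¹ := fun n => by
    rw [← conj_pow, ← inv_pow]
    congr 1
    rw [hd, mul_inv_rev, hti, hui, ← mul_assoc, ht2, one_mul]
  have hinvu : ∀ n : ℕ, u * d ^ n * u⁻¹ = (d ^ n)⁻¹ := fun n => by
    rw [← conj_pow, ← inv_pow]
    congr 1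
    rw [hd, mul_inv_rev, hti, hui, mul_assoc u, mul_assoc t, hu2, mul_one]
  obtain ⟨i, j, hi, hj, hij, -⟩ := CfsgLib.FGS.exists_p_parts p d
  set c := d ^ j with hc
  obtain ⟨a, e, ⟨k, hk⟩, he, hae, -⟩ := CfsgLib.FGS.exists_p_parts 2 c
  have ht1 : t ≠ 1 := fun h => by rw [h, orderOf_one] at ht; omega
  have he1 : c ^ e = 1 := by
    have htN : t ∈ normalizer (zpowers (c ^ e) : Set G) := mem_normalizer_of_conj fun s hs => by
      obtain ⟨m, rfl⟩ := hs
      show t * (c ^ e) ^ m * t⁻¹ ∈ zpowers (c ^ e)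
      rw [← conj_zpow, hc, ← pow_mul, hinvt]
      exact zpow_mem (inv_mem (mem_zpowers _)) m
    obtain ⟨-, h2⟩ := card_sup_zpowers_dvd htN
    have hg := S.mix _ (show 2 ∣ Nat.card ↥(zpowers (c ^ e) ⊔ zpowers t) by
      rw [← ht, ← Nat.card_zpowers]; exact card_dvd_of_le le_sup_right) fun h => by
      rw [Nat.card_zpowers, ht] at h2
      rcases hp.out.dvd_mul.1 (h.trans h2) with h | h
      · exact not_dvd_of_coprime (hj.coprime_dvd_left (orderOf_pow_dvd e)) h
      · exact S.odd ((Nat.prime_dvd_prime_iff_eq hp.out Nat.prime_two).1 h)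
    obtain ⟨m, hm⟩ := pEl_of_mem hg (mem_sup_left (mem_zpowers (c ^ e)))
    exact orderOf_eq_one_iff.1 (Nat.eq_one_of_dvd_coprimes (he.pow_right m) dvd_rfl (hm ▸ dvd_rfl))
  rw [he1, mul_one] at hae
  rw [hae] at hk
  have hc2 := S.sq_eq_one hk
  have hct : t * c = c * t := by
    have h := hinvt j
    rw [← hc, inv_eq_of_mul_eq_one_right hc2] at h
    exact mul_inv_eq_iff_eq_mul.1 h
  refine ⟨c, d ^ i, ?_, fun h1 => hne ?_, hi, hinvt i, hinvu i, hc2, hct,
    ((Commute.refl d).pow_pow j i).eq, i, rfl⟩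
  · rw [← ((Commute.refl d).pow_pow i j).eq, hij]
  · rw [h1, one_mul] at hij
    calc t * u = d⁻¹ := by rw [← hd, ← hij, inv_eq_of_mul_eq_one_right hc2]
      _ = u * t := by rw [hd, mul_inv_rev, hti, hui]

theorem exists_noncommuting : ∃ t u : G, orderOf t = 2 ∧ orderOf u = 2 ∧ t * u ≠ u * t := by
  by_contra hcon
  push Not at hcon
  have htop : closure {x : G | orderOf x = 2} = ⊤ := S.gen _ fun x hx => subset_closure hx
  have hle : closure {x : G | orderOf x = 2} ≤ centralizer (closure {x : G | orderOf x = 2} : Set G) := by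
    rw [centralizer_closure, closure_le]
    exact fun x hx => mem_centralizer_iff.2 fun y hy => hcon y x hy hx
  obtain ⟨P⟩ := (inferInstance : Nonempty (Sylow p G))
  refine S.ne_bot P (S.core _ ⟨fun x hx g => ?_⟩ P.2)
  rw [mem_centralizer_iff.1 (hle (htop.ge (mem_top x))) g (htop.ge (mem_top g)), mul_inv_cancel_right]
  exact hx

/-- Some involution inverts a Sylow subgroup. -/
theorem exists_inverting : ∃ (t : G) (P : Sylow p G), orderOf t = 2 ∧
    t ∈ normalizer ((P : Subgroup G) : Set G) ∧ ∀ v ∈ (P : Subgroup G), t * v = v * t → v = 1 := by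
  by_contra hcon
  push Not at hcon
  have hbot : ∀ t : G, orderOf t = 2 → pW p t = ⊥ := by
    intro t ht
    obtain ⟨hWp, hWN⟩ := S.centralizer_invol ht
    refine S.core _ (normalizer_eq_top_iff.1 (S.gen _ fun u hu => ?_)) hWp
    by_cases hc : t * u = u * t
    · exact hWN (mem_centralizer_singleton_iff.2 hc.symm)
    obtain ⟨z, b, hzb, hb1, hbp, htb, -, -, htz, -, -⟩ := S.product_parts ht hu hc
    obtain ⟨P, hbP, htP⟩ := S.exists_sylow_inverted hb1 hbp ht htb
    obtain ⟨v, hv, hfix, hv1⟩ := hcon t P ht htP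
    have hW := S.pW_le ht P htP hv hv1 hfix
    have hu' : u = t⁻¹ * (z * b) := by rw [← hzb, inv_mul_cancel_left]
    rw [hu']
    refine mul_mem (inv_mem (hWN (mem_centralizer_singleton_iff.2 rfl)))
      (mul_mem (hWN (mem_centralizer_singleton_iff.2 htz.symm)) ?_)
    refine mem_normalizer_of_conj fun w hw => ?_
    rw [S.pgroup_comm P.2 hbP (hW hw), mul_inv_cancel_right]
    exact hw
  obtain ⟨t, u, ht, hu, hne⟩ := S.exists_noncommuting
  obtain ⟨z, b, -, hb1, hbp, htb, -⟩ := S.product_parts ht hu hne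
  obtain ⟨P, -, htP⟩ := S.exists_sylow_inverted hb1 hbp ht htb
  obtain ⟨v, hv, hfix, hv1⟩ := hcon t P ht htP
  exact hv1 (mem_bot.1 (hbot t ht ▸ mem_pW (pEl_of_mem P.2 hv) hfix.symm))

end Setting

end CfsgLib.Transfer.Mixed
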