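import Cfsg.Agent.Lib.Transfer.MixedSubgroups

/-!
The nonexistence of the configuration of `MixedSubgroups`.
-/

set_option autoImplicit false

namespace CfsgLib.Transfer.Mixed

open Subgroup
open CfsgLib.FGS.PByCyclic (mem_normalizer_of_conj)
open CfsgLib.Transfer.AbPrime (mem_sylow_of_normalizes orderOf_two_iff)

universe u

variable {G : Type u} [Group G] [Finite G] {p : ℕ}

/-- Involutions. -/
abbrev InvG (G : Type u) [Group G] := {x : G // orderOf x = 2}

omit [Finite G] in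
theorem orderOf_conj_two {x : G} (hx : orderOf x = 2) (g : G) : orderOf (g * x * g⁻¹) = 2 := by
  rw [← MulAut.conj_apply, MulEquiv.orderOf_eq]; exact hx

omit [Finite G] in
theorem mem_smul_sylow (P : Sylow p G) {x g : G} (hx : x ∈ (P : Subgroup G)) :
    g * x * g⁻¹ ∈ ((g • P : Sylow p G) : Subgroup G) := ⟨x, hx, rfl⟩

theorem conj_mem_normalizer_smul [Fact p.Prime] (P : Sylow p G) {x g : G}
    (hx : x ∈ normalizer ((P : Subgroup G) : Set G)) :
    g * x * g⁻¹ ∈ normalizer (((g • P : Sylow p G) : Subgroup G) : Set G) := by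
  refine Sylow.smul_eq_iff_mem_normalizer.1 ?_
  rw [← mul_smul, show g * x * g⁻¹ * g = g * x by group, mul_smul, Sylow.smul_eq_iff_mem_normalizer.2 hx]

namespace Setting

variable [hp : Fact p.Prime] (S : Setting p G)

include S

/-- Conjugation of a `2`-subgroup of the normaliser into a given Sylow `2`-subgroup of it. -/
theorem conj_into (P : Sylow p G) (M : Sylow 2 (normalizer ((P : Subgroup G) : Set G))) {T : Subgroup G}
    (hT : IsPGroup 2 T) (hTN : T ≤ normalizer ((P : Subgroup G) : Set G)) :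
    ∃ n ∈ normalizer ((P : Subgroup G) : Set G), ∀ x ∈ T,
      n * x * n⁻¹ ∈ (M : Subgroup _).map (normalizer ((P : Subgroup G) : Set G)).subtype := by
  haveI : Fact (Nat.Prime 2) := ⟨Nat.prime_two⟩
  obtain ⟨M', hM'⟩ := (hT.comap_subtype (K := normalizer ((P : Subgroup G) : Set G))).exists_le_sylow
  obtain ⟨n, rfl⟩ := MulAction.exists_smul_eq (normalizer ((P : Subgroup G) : Set G)) M' M
  exact ⟨n, n.2, fun x hx => ⟨n * ⟨x, hTN hx⟩ * n⁻¹, ⟨⟨x, hTN hx⟩, hM' hx, rfl⟩, rfl⟩⟩

/-- Every nontrivial `p`-element is inverted by an involution. -/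
theorem real {b : G} (hb : PEl p b) (hb1 : b ≠ 1) : ∃ s : G, orderOf s = 2 ∧ s * b * s⁻¹ = b⁻¹ := by
  obtain ⟨t, P, ht, htP, hfree⟩ := S.exists_inverting
  obtain ⟨k, hk⟩ := hb
  obtain ⟨Q, hQ⟩ := (CfsgLib.FGS.isPGroup_zpowers hk).exists_le_sylow
  obtain ⟨g, rfl⟩ := MulAction.exists_smul_eq G P Q
  obtain ⟨x, hx, rfl⟩ := hQ (mem_zpowers b)
  refine ⟨g * t * g⁻¹, orderOf_conj_two ht g, ?_⟩
  have h := S.inverts ht P htP hfree x hx
  show g * t * g⁻¹ * (g * x * g⁻¹) * (g * t * g⁻¹)⁻¹ = (g * x * g⁻¹)⁻¹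
  rw [show g * t * g⁻¹ * (g * x * g⁻¹) * (g * t * g⁻¹)⁻¹ = g * (t * x * t⁻¹) * g⁻¹ by group, h]
  group

/-- The case in which no involution centralises a nontrivial `p`-element. -/
theorem false_of_no_fixed (hfix : ∀ t y : G, orderOf t = 2 → PEl p y → y * t = t * y → y = 1) : False := by
  classical
  haveI : Fact (Nat.Prime 2) := ⟨Nat.prime_two⟩
  -- the centraliser of an involution is a `2`-group
  have hC2 : ∀ t x : G, orderOf t = 2 → x * t = t * x → ∃ k, orderOf x = 2 ^ k := by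
    intro t x ht hx
    obtain ⟨a, b, ha, hb, hab, -⟩ := CfsgLib.FGS.exists_p_parts p x
    have h1 : x ^ a = 1 := hfix t _ ht ha ((show Commute x t from hx).pow_left a).eq
    rw [h1, one_mul] at hab
    obtain ⟨c, d, ⟨k, hk⟩, hd, hcd, -⟩ := CfsgLib.FGS.exists_p_parts 2 x
    have hx1 : x ^ d = 1 := eq_one_of_normalizes (q := 2) S.odd S.mix
      (CfsgLib.FGS.isPGroup_zpowers (k := 1) (ht.trans (pow_one 2).symm))
      (by intro h; rw [zpowers_eq_bot] at h; rw [h, orderOf_one] at ht; omega)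
      (mem_normalizer_of_conj fun s hs => by
        obtain ⟨j, rfl⟩ := hs
        show x ^ d * t ^ j * (x ^ d)⁻¹ ∈ zpowers t
        rw [(((show Commute x t from hx).pow_left d).zpow_right j).eq, mul_inv_cancel_right]
        exact ⟨j, rfl⟩)
      ((hab ▸ hb).coprime_dvd_left (orderOf_pow_dvd d)) hd
    rw [hx1, mul_one] at hcd
    exact ⟨k, by rw [← hcd]; exact hk⟩
  -- centralisers of `p`-elements are inverted
  have hTI : ∀ (P₁ P₂ : Sylow p G) (b : G), b ∈ (P₁ : Subgroup G) → b ∈ (P₂ : Subgroup G) → b ≠ 1 → P₁ = P₂ := by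
    intro P₁ P₂ b h1 h2 hb1
    have hbp := pEl_of_mem P₁.2 h1
    obtain ⟨s, hs, hsb⟩ := S.real hbp hb1
    set C := centralizer ({b} : Set G)
    have hs2 := S.sq_eq_one (k := 1) (hs.trans (pow_one 2).symm)
    have hsi : s⁻¹ = s := inv_eq_of_mul_eq_one_right hs2
    have hsC : ∀ x ∈ C, s * x * s⁻¹ ∈ C := fun x hx => mem_centralizer_singleton_iff.2 (by
      have hx' : x * b = b * x := mem_centralizer_singleton_iff.1 hx
      have h : Commute (s * x * s⁻¹) (s * b * s⁻¹) := by
        show s * x * s⁻¹ * (s * b * s⁻¹) = s * b * s⁻¹ * (s * x * s⁻¹)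
        rw [show s * x * s⁻¹ * (s * b * s⁻¹) = s * (x * b) * s⁻¹ by group, hx']
        group
      rw [hsb, Commute.inv_right_iff] at h
      exact h.eq)
    have hodd : ∀ x ∈ C, x * s = s * x → x = 1 := by
      intro x hx hxs
      obtain ⟨k, hk⟩ := hC2 s x hs hxs
      rcases k with _ | k
      · exact orderOf_eq_one_iff.1 (by rw [hk, pow_zero])
      · exfalso
        refine hb1 (hfix (x ^ 2 ^ k) b ?_ hbp
          ((show Commute b x from (mem_centralizer_singleton_iff.1 hx).symm).pow_right _).eq)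
        rw [orderOf_pow, hk, Nat.gcd_eq_right (pow_dvd_pow 2 k.le_succ), pow_succ,
          Nat.mul_div_cancel_left _ (pow_pos two_pos k)]
    let f : C → C := fun x => ⟨(x : G)⁻¹ * (s * x * s⁻¹), mul_mem (inv_mem x.2) (hsC x x.2)⟩
    have hf : Function.Injective f := fun x y h => by
      have h' : (x : G)⁻¹ * (s * x * s⁻¹) = (y : G)⁻¹ * (s * y * s⁻¹) := congrArg Subtype.val h
      have h1 := hodd _ (mul_mem y.2 (inv_mem x.2)) (by
        calc (y : G) * (x : G)⁻¹ * s = y * ((x : G)⁻¹ * (s * x * s⁻¹)) * (s * x * s⁻¹)⁻¹ * s := by group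
          _ = y * ((y : G)⁻¹ * (s * y * s⁻¹)) * (s * x * s⁻¹)⁻¹ * s := by rw [h']
          _ = s * (y * (x : G)⁻¹) := by group)
      exact (Subtype.ext (mul_inv_eq_one.1 h1)).symm
    have hinv : ∀ z ∈ C, s * z * s⁻¹ = z⁻¹ := fun z hz => by
      obtain ⟨x, hx⟩ := Finite.injective_iff_surjective.1 hf ⟨z, hz⟩
      rw [← show (x : G)⁻¹ * (s * x * s⁻¹) = z from congrArg Subtype.val hx, hsi,
        show s * ((x : G)⁻¹ * (s * x * s)) * s = s * (x : G)⁻¹ * s * x * (s * s) by group, hs2, mul_one]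
      simp [mul_inv_rev, hsi, mul_assoc]
    have hCc : ∀ x ∈ C, ∀ y ∈ C, x * y = y * x := fun x hx y hy => by
      have h := hinv _ (mul_mem hx hy)
      rw [show s * (x * y) * s⁻¹ = (s * x * s⁻¹) * (s * y * s⁻¹) by group, hinv x hx, hinv y hy, ← mul_inv_rev,
        inv_inj] at h
      exact h.symm
    refine Sylow.ext (P₂.3 P₁.2 fun x hx => ?_)
    obtain ⟨k, hk⟩ := pEl_of_mem P₂.2 hx
    refine mem_sylow_of_normalizes P₁ (mem_normalizer_of_conj fun y hy => ?_) hk
    rw [hCc x (mem_centralizer_singleton_iff.2 (S.pgroup_comm P₂.2 hx h2)) y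
      (mem_centralizer_singleton_iff.2 (S.pgroup_comm P₁.2 hy h1)), mul_inv_cancel_right]
    exact hy
  obtain ⟨t, u₀, ht, hu₀, hne₀⟩ := S.exists_noncommuting
  obtain ⟨z₀, b₀, -, hb₀1, hb₀p, htb₀, -⟩ := S.product_parts ht hu₀ hne₀
  obtain ⟨P₀, -, htP₀⟩ := S.exists_sylow_inverted hb₀1 hb₀p ht htb₀
  have ht2 := S.sq_eq_one (k := 1) (ht.trans (pow_one 2).symm)
  have hti : t⁻¹ = t := inv_eq_of_mul_eq_one_right ht2
  have hinv : ∀ (P : Sylow p G) (t : G), orderOf t = 2 → t ∈ normalizer ((P : Subgroup G) : Set G) →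
      ∀ s ∈ (P : Subgroup G), t * s * t⁻¹ = s⁻¹ := fun P t ht htP =>
    S.inverts ht P htP fun v hv h => hfix t v ht (pEl_of_mem P.2 hv) h.symm
  obtain ⟨y, hyP, hy1⟩ := SetLike.exists_of_lt (bot_lt_iff_ne_bot.2 (S.ne_bot P₀))
  rw [mem_bot] at hy1
  obtain ⟨ky, hky⟩ := pEl_of_mem P₀.2 hyP
  have hYp : IsPGroup p (zpowers y) := CfsgLib.FGS.isPGroup_zpowers hky
  letI : MulAction (zpowers y) (InvG G) :=
    { smul := fun g x => ⟨(g : G) * x.1 * (g : G)⁻¹, orderOf_conj_two x.2 g⟩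
      one_smul := fun x => Subtype.ext (show ((1 : zpowers y) : G) * x.1 * ((1 : zpowers y) : G)⁻¹ = x.1 by simp)
      mul_smul := fun g h x => Subtype.ext (show ((g * h : zpowers y) : G) * x.1 * ((g * h : zpowers y) : G)⁻¹ =
        (g : G) * ((h : G) * x.1 * (h : G)⁻¹) * (g : G)⁻¹ by rw [Subgroup.coe_mul]; group) }
  have hI : p ∣ Nat.card (InvG G) := by
    refine Nat.modEq_zero_iff_dvd.1 ((hYp.card_modEq_card_fixedPoints (InvG G)).trans ?_)
    rw [show Nat.card (MulAction.fixedPoints (zpowers y) (InvG G)) = 0 from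
      Nat.card_eq_zero.2 (Or.inl ⟨fun x => by
        have h : y * x.1.1 * y⁻¹ = x.1.1 := congrArg Subtype.val (x.2 ⟨y, mem_zpowers y⟩)
        exact hy1 (hfix x.1.1 y x.1.2 ⟨ky, hky⟩ (mul_inv_eq_iff_eq_mul.1 h))⟩)]
  -- the centraliser of `t`
  have hCtp : IsPGroup 2 (centralizer ({t} : Set G)) := IsPGroup.iff_orderOf.2 fun x => by
    obtain ⟨k, hk⟩ := hC2 t x ht (mem_centralizer_singleton_iff.1 x.2)
    exact ⟨k, by rw [← Subgroup.orderOf_coe]; exact hk⟩
  obtain ⟨R, hR⟩ := hCtp.exists_le_sylow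
  have hCR : centralizer ({t} : Set G) = R := le_antisymm hR fun x hx =>
    mem_centralizer_singleton_iff.2 ((S.two_elem R).2 x hx t (hR (mem_centralizer_singleton_iff.2 rfl)))
  have hCom : Nat.card {x : InvG G // x.1 * t = t * x.1} = p := by
    have e : Nat.card {x : InvG G // x.1 * t = t * x.1} = Nat.card {x : (R : Subgroup G) // x ≠ 1} := Nat.card_congr
      { toFun := fun x => ⟨⟨x.1.1, hCR ▸ mem_centralizer_singleton_iff.2 x.2⟩, fun h => (orderOf_two_iff.1 x.1.2).2
          (congrArg Subtype.val h)⟩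
        invFun := fun x => ⟨⟨x.1.1, orderOf_two_iff.2 ⟨(S.two_elem R).1 _ x.1.2, fun h => x.2 (Subtype.ext h)⟩⟩,
          mem_centralizer_singleton_iff.1 (hCR.symm ▸ x.1.2 : (x.1.1 : G) ∈ centralizer ({t} : Set G))⟩
        left_inv := fun x => rfl
        right_inv := fun x => rfl }
    haveI := Fintype.ofFinite (R : Subgroup G)
    rw [e, Nat.card_eq_fintype_card, Fintype.card_subtype_compl, Fintype.card_subtype_eq, ← Nat.card_eq_fintype_card,
      S.card_two R, Nat.add_sub_cancel]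
  let F := {Q : Sylow p G // t ∈ normalizer ((Q : Subgroup G) : Set G)}
  have hNon : Nat.card {x : InvG G // x.1 * t ≠ t * x.1} =
      Nat.card (Σ Q : F, {s : ((Q.1 : Sylow p G) : Subgroup G) // s ≠ 1}) := by
    symm
    have hmk : ∀ z : Σ Q : F, {s : ((Q.1 : Sylow p G) : Subgroup G) // s ≠ 1},
        orderOf (t * (z.2.1 : G)) = 2 ∧ t * (z.2.1 : G) * t ≠ t * (t * (z.2.1 : G)) := by
      rintro ⟨Q, ⟨s, hs⟩, hs1⟩
      have h1 := hinv Q.1 t ht Q.2 s hs
      rw [hti] at h1
      have hs1' : s ≠ 1 := fun h => hs1 (Subtype.ext h)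
      have hne : t * s * t ≠ t * (t * s) := by
        rw [h1, ← mul_assoc, ht2, one_mul]
        intro h
        exact hs1' (hfix t s ht (pEl_of_mem Q.1.2 hs) (mul_inv_eq_iff_eq_mul.1 (by rw [hti, h1, h])).symm)
      refine ⟨orderOf_two_iff.2 ⟨?_, fun h => hne (by rw [h]; simp)⟩, hne⟩
      show t * s * (t * s) = 1
      rw [← mul_assoc, h1, inv_mul_cancel]
    refine Nat.card_congr (Equiv.ofBijective (fun z => (⟨⟨t * (z.2.1 : G), (hmk z).1⟩, (hmk z).2⟩ :
      {x : InvG G // x.1 * t ≠ t * x.1})) ⟨?_, ?_⟩)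
    · rintro ⟨Q, ⟨s, hs⟩, hs1⟩ ⟨Q', ⟨s', hs'⟩, hs1'⟩ h
      have h2 : s = s' := mul_left_cancel (congrArg Subtype.val (congrArg Subtype.val h))
      subst h2
      obtain rfl : Q = Q' := Subtype.ext (hTI _ _ s hs hs' fun h => hs1 (Subtype.ext h))
      rfl
    · rintro ⟨⟨x, hx⟩, hne⟩
      obtain ⟨z, b, hzb, hb1, hbp, htb, -, hz2, -, hzb', -⟩ := S.product_parts ht hx (Ne.symm hne)
      have hz1 : z = 1 := by
        by_contra hz
        exact hb1 (hfix z b (orderOf_two_iff.2 ⟨hz2, hz⟩) hbp hzb'.symm)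
      rw [hz1, one_mul] at hzb
      obtain ⟨Q, hbQ, htQ⟩ := S.exists_sylow_inverted hb1 hbp ht htb
      exact ⟨⟨⟨Q, htQ⟩, ⟨b, hbQ⟩, fun h => hb1 (congrArg Subtype.val h)⟩,
        Subtype.ext (Subtype.ext (by show t * b = x; rw [← hzb, ← mul_assoc, ht2, one_mul]))⟩
  set q := Nat.card (P₀ : Subgroup G) with hq
  have hq1 : Nat.card (Σ Q : F, {s : ((Q.1 : Sylow p G) : Subgroup G) // s ≠ 1}) = Nat.card F * (q - 1) := by
    letI := Fintype.ofFinite F
    rw [Nat.card_sigma, Finset.sum_congr rfl (g := fun _ => q - 1), Finset.sum_const, smul_eq_mul,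
      Finset.card_univ, ← Nat.card_eq_fintype_card]
    intro Q _
    letI := Fintype.ofFinite ((Q.1 : Sylow p G) : Subgroup G)
    rw [Nat.card_eq_fintype_card, Fintype.card_subtype_compl, Fintype.card_subtype_eq, ← Nat.card_eq_fintype_card,
      hq, Sylow.card_eq_multiplicity, Sylow.card_eq_multiplicity]
  have hF : ¬ p ∣ Nat.card F := by
    intro hd
    have heq : Nat.card F = Nat.card (MulAction.orbit (centralizer ({t} : Set G)) P₀) := by
      refine Nat.card_congr (Equiv.subtypeEquivRight fun Q => ?_)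
      constructor
      · intro hQ
        obtain ⟨g, rfl⟩ := MulAction.exists_smul_eq G P₀ Q
        have hu : g⁻¹ * t * g ∈ normalizer ((P₀ : Subgroup G) : Set G) := by
          refine Sylow.smul_eq_iff_mem_normalizer.1 ?_
          rw [mul_smul, mul_smul, Sylow.smul_eq_iff_mem_normalizer.2 hQ, inv_smul_smul]
        have hu2 : orderOf (g⁻¹ * t * g) = 2 := by simpa using orderOf_conj_two ht g⁻¹
        set u := g⁻¹ * t * g with hudef
        set x := t * u with hxdef
        have hxN : x ∈ normalizer ((P₀ : Subgroup G) : Set G) := mul_mem htP₀ hu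
        have hxC : ∀ s ∈ (P₀ : Subgroup G), x * s = s * x := fun s hs => by
          rw [← mul_inv_eq_iff_eq_mul, hxdef, show t * u * s * (t * u)⁻¹ = t * (u * s * u⁻¹) * t⁻¹ by group,
            hinv P₀ u hu2 hu s hs, hinv P₀ t ht htP₀ _ (inv_mem hs), inv_inv]
        have hxQ : x ∈ (P₀ : Subgroup G) := by
          by_cases hc : t * u = u * t
          · have hu2' := (orderOf_two_iff.1 hu2).1
            have hx2 : x * x = 1 := by
              have e : t * u * (t * u) = t * t * (u * u) := by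
                calc t * u * (t * u) = t * (u * t) * u := by simp only [mul_assoc]
                  _ = t * (t * u) * u := by rw [hc]
                  _ = _ := by simp only [mul_assoc]
              rw [hxdef, e, ht2, hu2', one_mul]
            by_cases hx1 : x = 1
            · rw [hx1]; exact one_mem _
            · exact absurd (hfix x y (orderOf_two_iff.2 ⟨hx2, hx1⟩) ⟨ky, hky⟩ (hxC y hyP).symm) hy1
          · obtain ⟨z, b, hzb, hb1, hbp, -, -, hz2, -, hzb', i, hi⟩ := S.product_parts ht hu2 hc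
            have hz1 : z = 1 := by
              by_contra hz
              exact hb1 (hfix z b (orderOf_two_iff.2 ⟨hz2, hz⟩) hbp hzb'.symm)
            rw [hz1, one_mul] at hzb
            obtain ⟨a, ha⟩ := hbp
            exact mem_sylow_of_normalizes P₀ hxN (by rw [hxdef, hzb]; exact ha)
        obtain ⟨a', ha'⟩ := IsPGroup.iff_card.1 P₀.2
        have hcop : (Nat.card (P₀ : Subgroup G)).Coprime 2 := ha' ▸ S.coprime_two.pow_left a'
        obtain ⟨r, hr⟩ := (powCoprime hcop).surjective ⟨x, hxQ⟩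
        have hr' : (r : G) ^ 2 = x := congrArg Subtype.val hr
        have hgu : (g * (r : G)⁻¹) * t = t * (g * (r : G)⁻¹) := by
          have h1 := hinv P₀ t ht htP₀ (r : G) r.2
          rw [hti] at h1
          calc g * (r : G)⁻¹ * t = g * (t * (r : G) * t) * t := by rw [h1]
            _ = g * (t * (r : G)) * (t * t) := by group
            _ = g * (t * (r : G) ^ 2) * (r : G)⁻¹ := by rw [ht2, mul_one, pow_two]; group
            _ = g * (t * (t * u)) * (r : G)⁻¹ := by rw [hr', hxdef]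
            _ = g * u * (r : G)⁻¹ := by rw [← mul_assoc t t, ht2, one_mul]
            _ = t * (g * (r : G)⁻¹) := by rw [hudef]; group
        refine ⟨⟨g * (r : G)⁻¹, mem_centralizer_singleton_iff.2 hgu⟩, ?_⟩
        show (g * (r : G)⁻¹) • P₀ = g • P₀
        rw [mul_smul, Sylow.smul_eq_iff_mem_normalizer.2 (inv_mem (le_normalizer r.2))]
      · rintro ⟨⟨c, hc⟩, rfl⟩
        show t ∈ normalizer (((c • P₀ : Sylow p G) : Subgroup G) : Set G)
        refine Sylow.smul_eq_iff_mem_normalizer.1 ?_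
        rw [← mul_smul, ← mem_centralizer_singleton_iff.1 hc, mul_smul,
          Sylow.smul_eq_iff_mem_normalizer.2 htP₀]
    obtain ⟨k, hk⟩ := IsPGroup.iff_card.1 hCtp
    have hd2 : p ∣ 2 ^ k := by
      rw [← hk]
      refine (heq ▸ hd).trans ?_
      rw [Nat.card_congr (MulAction.orbitEquivQuotientStabilizer _ P₀)]
      exact card_quotient_dvd_card _
    exact S.odd ((Nat.prime_dvd_prime_iff_eq hp.out Nat.prime_two).1 (hp.out.dvd_of_dvd_pow hd2))
  letI := Fintype.ofFinite (InvG G)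
  have hsum : p + Nat.card F * (q - 1) = Nat.card (InvG G) := by
    rw [← hq1, ← hNon]
    conv_lhs => arg 1; rw [← hCom]
    rw [← Nat.card_sum]
    exact Nat.card_congr (Equiv.sumCompl _)
  have hdiv : p ∣ Nat.card F * (q - 1) := (Nat.dvd_add_right dvd_rfl).1 (hsum ▸ hI)
  obtain ⟨a, ha⟩ := IsPGroup.iff_card.1 P₀.2
  rcases hp.out.dvd_mul.1 hdiv with h | h
  · exact hF h
  · have hq0 : 1 ≤ q := Nat.card_pos
    have hpq : p ∣ q := by
      rcases a with _ | a
      · exfalso; exact S.ne_bot P₀ (Subgroup.card_eq_one.1 (by rw [ha, pow_zero]))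
      · rw [hq, ha]; exact dvd_pow_self p a.succ_ne_zero
    exact hp.out.not_dvd_one ((Nat.dvd_add_right h).1 (by rwa [Nat.sub_add_cancel hq0] : p ∣ q - 1 + 1))

/-- The data around the central involution of a Sylow subgroup. -/
def CentralData (p : ℕ) (G : Type u) [Group G] : Prop :=
  ∀ P : Sylow p G, ∃ z : G, orderOf z = 2 ∧ (∀ s ∈ (P : Subgroup G), z * s = s * z) ∧
    centralizer ({z} : Set G) = normalizer ((P : Subgroup G) : Set G) ∧
    ∀ x : G, orderOf x = 2 → x ∈ normalizer ((P : Subgroup G) : Set G) → x ≠ z →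
      ∀ s ∈ (P : Subgroup G), x * s * x⁻¹ = s⁻¹

/-- The friendship argument. -/
theorem false_of_centralData (hD : CentralData p G) : False := by
  classical
  haveI : Fact (Nat.Prime 2) := ⟨Nat.prime_two⟩
  obtain ⟨P₁⟩ := (inferInstance : Nonempty (Sylow p G))
  obtain ⟨z₁, hz₁, hz₁P, hz₁C, hz₁inv⟩ := hD P₁
  have hQne : ∀ Q : Sylow p G, ∃ s ∈ (Q : Subgroup G), s ≠ 1 := fun Q => by
    obtain ⟨s, hs, hs1⟩ := SetLike.exists_of_lt (bot_lt_iff_ne_bot.2 (S.ne_bot Q))
    exact ⟨s, hs, fun h => hs1 (mem_bot.2 h)⟩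
  have hne_inv : ∀ {b : G}, PEl p b → b ≠ 1 → b ≠ b⁻¹ := fun {b} hb hb1 h =>
    hb1 (orderOf_eq_one_iff.1 (Nat.eq_one_of_dvd_coprimes (S.pEl_odd hb) dvd_rfl
      (orderOf_dvd_of_pow_eq_one (by rw [pow_two]; nth_rewrite 2 [h]; exact mul_inv_cancel b))))
  have huniq : ∀ (P : Sylow p G) (z x : G), orderOf z = 2 → (∀ s ∈ (P : Subgroup G), z * s = s * z) →
      orderOf x = 2 → (∀ s ∈ (P : Subgroup G), x * s = s * x) → x = z := by
    intro P z x hz hzP hx hxP
    obtain ⟨z', -, -, -, hinv'⟩ := hD P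
    have key : ∀ w : G, orderOf w = 2 → (∀ s ∈ (P : Subgroup G), w * s = s * w) → w = z' := fun w hw hwP => by
      by_contra hne
      obtain ⟨s, hs, hs1⟩ := hQne P
      have h := hinv' w hw (mem_normalizer_of_conj fun a ha => by rwa [hwP a ha, mul_inv_cancel_right]) hne s hs
      rw [hwP s hs, mul_inv_cancel_right] at h
      exact hne_inv (pEl_of_mem P.2 hs) hs1 h
    rw [key x hx hxP, key z hz hzP]
  have hcenQ : ∀ x : G, orderOf x = 2 → ∃ P : Sylow p G, (∀ s ∈ (P : Subgroup G), x * s = s * x) ∧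
      centralizer ({x} : Set G) = normalizer ((P : Subgroup G) : Set G) := by
    intro x hx
    obtain ⟨g, rfl⟩ := S.invol_conj hz₁ hx
    obtain ⟨z', hz', hz'P, hz'C, -⟩ := hD (g • P₁)
    have hgP : ∀ s ∈ ((g • P₁ : Sylow p G) : Subgroup G), g * z₁ * g⁻¹ * s = s * (g * z₁ * g⁻¹) := by
      intro s hs
      obtain ⟨b, hb, rfl⟩ := hs
      show g * z₁ * g⁻¹ * (g * b * g⁻¹) = g * b * g⁻¹ * (g * z₁ * g⁻¹)
      rw [show g * z₁ * g⁻¹ * (g * b * g⁻¹) = g * (z₁ * b) * g⁻¹ by group, hz₁P b hb]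
      group
    refine ⟨g • P₁, hgP, ?_⟩
    rw [huniq _ z' _ hz' hz'P hx hgP]
    exact hz'C
  let adj : InvG G → InvG G → Prop := fun x y => x ≠ y ∧ x.1 * y.1 = y.1 * x.1
  letI := Fintype.ofFinite (InvG G)
  let nb : InvG G → Finset (InvG G) := fun x => Finset.univ.filter (adj x)
  let z₀ : InvG G := ⟨z₁, hz₁⟩
  set d := (nb z₀).card with hd
  have hreg : ∀ x, (nb x).card = d := by
    intro x
    obtain ⟨g, hg⟩ := S.invol_conj hz₁ x.2
    let e : InvG G ≃ InvG G := (MulAut.conj g).toEquiv.subtypeEquiv fun w => by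
      show orderOf w = 2 ↔ orderOf (MulAut.conj g w) = 2
      rw [MulEquiv.orderOf_eq]
    have hex : e z₀ = x := Subtype.ext hg
    rw [hd, ← hex, show nb (e z₀) = (nb z₀).map e.toEmbedding from ?_, Finset.card_map]
    ext w
    simp only [nb, Finset.mem_map_equiv, Finset.mem_filter, Finset.mem_univ, true_and, adj]
    obtain ⟨v, rfl⟩ := e.surjective w
    rw [e.symm_apply_apply]
    have hv : (e z₀).1 * (e v).1 = (e v).1 * (e z₀).1 ↔ z₀.1 * v.1 = v.1 * z₀.1 := by
      show MulAut.conj g z₀.1 * MulAut.conj g v.1 = MulAut.conj g v.1 * MulAut.conj g z₀.1 ↔ _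
      rw [← map_mul, ← map_mul, (MulAut.conj g).injective.eq_iff]
    rw [e.injective.ne_iff, hv]
  have hcommon : ∀ x y : InvG G, x ≠ y → (nb x ∩ nb y).card = 1 := by
    intro x y hxy
    obtain ⟨hx2, -⟩ := orderOf_two_iff.1 x.2
    obtain ⟨hy2, -⟩ := orderOf_two_iff.1 y.2
    have hyi : y.1⁻¹ = y.1 := inv_eq_of_mul_eq_one_right hy2
    rw [Finset.card_eq_one]
    by_cases hc : x.1 * y.1 = y.1 * x.1
    · have hxy1 : x.1 * y.1 ≠ 1 := fun h => hxy (Subtype.ext (by rw [← hyi]; exact eq_inv_of_mul_eq_one_left h))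
      let w : InvG G := ⟨x.1 * y.1, orderOf_two_iff.2 ⟨by
        rw [show x.1 * y.1 * (x.1 * y.1) = x.1 * (y.1 * x.1) * y.1 by group, ← hc, ← mul_assoc, hx2, one_mul, hy2], hxy1⟩⟩
      obtain ⟨P, hP, hPC⟩ := hcenQ x.1 x.2
      obtain ⟨z, hz, hzP, -, hinv⟩ := hD P
      have hzx : x.1 = z := huniq P z x.1 hz hzP x.2 hP
      refine ⟨w, Finset.ext fun v => ?_⟩
      simp only [nb, Finset.mem_inter, Finset.mem_filter, Finset.mem_univ, true_and, Finset.mem_singleton, adj]
      constructor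
      · rintro ⟨⟨hxv, hxvc⟩, hyv, hyvc⟩
        have hy' := hinv y.1 y.2 (hPC ▸ mem_centralizer_singleton_iff.2 hc.symm)
          (fun h => hxy (Subtype.ext (hzx.trans h.symm)))
        have hv' := hinv v.1 v.2 (hPC ▸ mem_centralizer_singleton_iff.2 hxvc.symm)
          (fun h => hxv (Subtype.ext (hzx.trans h.symm)))
        have hyv1 : y.1 * v.1 ≠ 1 := fun h => hyv (Subtype.ext (by
          rw [← inv_eq_of_mul_eq_one_right h, hyi]))
        have h1 := huniq P x.1 (y.1 * v.1) x.2 hP (orderOf_two_iff.2 ⟨by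
          rw [show y.1 * v.1 * (y.1 * v.1) = y.1 * (v.1 * y.1) * v.1 by group, ← hyvc, ← mul_assoc, hy2, one_mul,
            (orderOf_two_iff.1 v.2).1], hyv1⟩) fun s hs => mul_inv_eq_iff_eq_mul.1 (by
          rw [show y.1 * v.1 * s * (y.1 * v.1)⁻¹ = y.1 * (v.1 * s * v.1⁻¹) * y.1⁻¹ by group, hv' s hs,
            hy' _ (inv_mem hs), inv_inv])
        refine Subtype.ext ?_
        show v.1 = x.1 * y.1
        rw [hc, ← h1, ← mul_assoc, hy2, one_mul]
      · rintro rfl
        refine ⟨⟨fun h => ?_, ?_⟩, fun h => ?_, ?_⟩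
        · exact (orderOf_two_iff.1 y.2).2 (left_eq_mul.1 (congrArg Subtype.val h : x.1 = x.1 * y.1))
        · show x.1 * (x.1 * y.1) = x.1 * y.1 * x.1
          rw [mul_assoc, ← hc]
        · exact (orderOf_two_iff.1 x.2).2 (right_eq_mul.1 (congrArg Subtype.val h : y.1 = x.1 * y.1))
        · show y.1 * (x.1 * y.1) = x.1 * y.1 * y.1
          rw [← mul_assoc, ← hc]
    · obtain ⟨z', b, hzb, hb1, hbp, hbx, -, hz'2, hxz', hz'b, i, hi⟩ := S.product_parts x.2 y.2 hc
      obtain ⟨P, hbP, hxP⟩ := S.exists_sylow_inverted hb1 hbp x.2 hbx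
      obtain ⟨z, hz, hzP, hzC, hinv⟩ := hD P
      have hxz : x.1 * z = z * x.1 := mem_centralizer_singleton_iff.1 (hzC ▸ hxP)
      have hxnz : x.1 ≠ z := fun h => hne_inv hbp hb1 (by rw [← hbx, h, hzP b hbP, mul_inv_cancel_right])
      -- the only involution commuting with `x` and `b` is `z`
      have key : ∀ w : G, orderOf w = 2 → x.1 * w = w * x.1 → w * b = b * w → w = z := by
        intro w hw hxw hwb
        by_contra hne
        by_cases hwz : w * z = z * w
        · have h := hinv w hw (hzC ▸ mem_centralizer_singleton_iff.2 hwz) hne b hbP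
          rw [hwb, mul_inv_cancel_right] at h
          exact hne_inv hbp hb1 h
        obtain ⟨c, b', -, hb'1, hb'p, -, -, -, -, -, j, hj⟩ := S.product_parts hw hz hwz
        have hb't : Commute b' x.1 := hj ▸ ((show Commute w x.1 from hxw.symm).mul_left hxz.symm).pow_left j
        have hb'b : Commute b' b := hj ▸ ((show Commute w b from hwb).mul_left (hzP b hbP)).pow_left j
        obtain ⟨s', -, hs'⟩ := S.real hb'p hb'1
        obtain ⟨O, hOC, hO2, hCN, hmem⟩ := S.real_complement hb'1 (S.pEl_odd hb'p) hs'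
        have hxO : x.1 ∈ normalizer (O : Set G) := hCN (mem_centralizer_singleton_iff.2 hb't.eq.symm)
        obtain ⟨Px, hPx, hPxC⟩ := hcenQ x.1 x.2
        have hb'Px : b' ∈ (Px : Subgroup G) := by
          obtain ⟨k, hk⟩ := hb'p
          exact mem_sylow_of_normalizes Px (hPxC ▸ mem_centralizer_singleton_iff.2 hb't.eq) hk
        have hPxO : (Px : Subgroup G) ≤ O := fun v hv => hmem v
          (mem_centralizer_singleton_iff.2 (S.pgroup_comm Px.2 hv hb'Px)) (S.pEl_odd (pEl_of_mem Px.2 hv))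
        -- an invariant Sylow subgroup containing `b`
        set O' := O ⊓ centralizer ({b} : Set G) with hO'
        have hxO' : x.1 ∈ normalizer (O' : Set G) := Setting.pW_le.mem_normalizer_inf' hxO
          (mem_normalizer_of_conj fun v hv => mem_centralizer_singleton_iff.2 (by
            have hv' : Commute v b := mem_centralizer_singleton_iff.1 hv
            have h : Commute (x.1 * v * x.1⁻¹) (x.1 * b * x.1⁻¹) := by
              show x.1 * v * x.1⁻¹ * (x.1 * b * x.1⁻¹) = x.1 * b * x.1⁻¹ * (x.1 * v * x.1⁻¹)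
              rw [show x.1 * v * x.1⁻¹ * (x.1 * b * x.1⁻¹) = x.1 * (v * b) * x.1⁻¹ by group, hv'.eq]
              group
            rw [hbx, Commute.inv_right_iff] at h
            exact h.eq))
        obtain ⟨k₁, hk₁⟩ := hbp
        obtain ⟨k₂, hk₂⟩ := hb'p
        have hbb : IsPGroup p ↥(zpowers b ⊔ zpowers b') :=
          (CfsgLib.FGS.isPGroup_zpowers hk₁).to_sup_of_normal_left' (CfsgLib.FGS.isPGroup_zpowers hk₂)
            (zpowers_le.2 (mem_normalizer_of_conj fun v hv => by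
              obtain ⟨m, rfl⟩ := hv
              show b' * b ^ m * b'⁻¹ ∈ zpowers b
              rw [(hb'b.zpow_right m).eq, mul_inv_cancel_right]
              exact ⟨m, rfl⟩))
        obtain ⟨P₂, hP₂⟩ := hbb.exists_le_sylow
        have hP₂O : (P₂ : Subgroup G) ≤ O' := fun v hv => mem_inf.2
          ⟨hmem v (mem_centralizer_singleton_iff.2 (S.pgroup_comm P₂.2 hv (hP₂ (mem_sup_right (mem_zpowers b')))))
            (S.pEl_odd (pEl_of_mem P₂.2 hv)),
          mem_centralizer_singleton_iff.2 (S.pgroup_comm P₂.2 hv (hP₂ (mem_sup_left (mem_zpowers b))))⟩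
        obtain ⟨P₃, hP₃O, hxP₃⟩ := exists_fixed_sylow (fun h => hO2 (h.trans (card_dvd_of_le inf_le_left)))
          (CfsgLib.FGS.isPGroup_zpowers (p := 2) (k := 1) (x.2.trans (pow_one 2).symm)) (zpowers_le.2 hxO') P₂ hP₂O
        have hbP₃ : b ∈ (P₃ : Subgroup G) := mem_sylow_of_normalizes P₃ (mem_normalizer_of_conj fun v hv => by
          rw [← mem_centralizer_singleton_iff.1 (mem_inf.1 (hP₃O hv)).2, mul_inv_cancel_right]; exact hv) hk₁
        obtain ⟨e, -, hex, heP⟩ := exists_conj_commute hO2 x.2 hxO Px P₃ hPxO (hP₃O.trans inf_le_left)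
          (hPxC ▸ mem_centralizer_singleton_iff.2 rfl) (hxP₃ (mem_zpowers x.1))
        rw [← heP] at hbP₃
        obtain ⟨v, hv, hvb⟩ := hbP₃
        have hvb' : e * v * e⁻¹ = b := hvb
        refine hne_inv ⟨k₁, hk₁⟩ hb1 ?_
        have hbx' : Commute x.1 b := by
          rw [← hvb']
          exact ((show Commute x.1 e from hex).mul_right (hPx v hv)).mul_right (show Commute x.1 e from hex).inv_right
        rw [← hbx, hbx'.eq, mul_inv_cancel_right]
      -- `y` commutes with `z`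
      have hyz : y.1 * z = z * y.1 := by
        have hy' : y.1 = x.1⁻¹ * (z' * b) := by rw [← hzb, inv_mul_cancel_left]
        have hzz : Commute z' z := by
          by_cases h1 : z' = 1
          · rw [h1]; exact Commute.one_left z
          · rw [key z' (orderOf_two_iff.2 ⟨hz'2, h1⟩) hxz' hz'b]
        rw [hy']
        exact ((show Commute x.1 z from hxz).inv_left.mul_left (hzz.mul_left (hzP b hbP).symm)).eq
      refine ⟨⟨z, hz⟩, Finset.ext fun v => ?_⟩
      simp only [nb, Finset.mem_inter, Finset.mem_filter, Finset.mem_univ, true_and, Finset.mem_singleton, adj]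
      constructor
      · rintro ⟨⟨-, hxv⟩, -, hyv⟩
        refine Subtype.ext (key v.1 v.2 hxv ?_)
        rw [← hi]
        exact (((show Commute v.1 x.1 from hxv.symm).mul_right hyv.symm).pow_right i).eq
      · rintro rfl
        refine ⟨⟨fun h => hxnz (congrArg Subtype.val h), hxz⟩, fun h => hc ?_, hyz⟩
        rw [show y.1 = z from congrArg Subtype.val h, hxz]
  have hd3 : 3 ≤ d := by
    obtain ⟨t, P, ht, htP, hfree⟩ := S.exists_inverting
    obtain ⟨z, hz, hzP, hzC, -⟩ := hD P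
    have htz : t * z = z * t := mem_centralizer_singleton_iff.1 (hzC ▸ htP)
    have hinvt := S.inverts ht P htP hfree
    have ht2 := S.sq_eq_one (k := 1) (ht.trans (pow_one 2).symm)
    have hti : t⁻¹ = t := inv_eq_of_mul_eq_one_right ht2
    letI := Fintype.ofFinite (P : Subgroup G)
    have hnP : ∀ b : (P : Subgroup G), t * (b : G) ≠ 1 := fun b h => by
      have htP' : t ∈ (P : Subgroup G) := by rw [eq_inv_of_mul_eq_one_left h]; exact inv_mem b.2
      have h1 := S.pEl_odd (pEl_of_mem P.2 htP')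
      rw [ht] at h1
      exact absurd h1 (by decide)
    have hmk : ∀ b : (P : Subgroup G), orderOf (t * b) = 2 := by
      intro b
      refine orderOf_two_iff.2 ⟨?_, hnP b⟩
      have h1 := hinvt b b.2
      rw [hti] at h1
      rw [← mul_assoc, h1, inv_mul_cancel]
    rw [← hreg ⟨z, hz⟩]
    calc 3 ≤ p := by have := hp.out.two_le; have := S.odd; omega
      _ ≤ Nat.card (P : Subgroup G) := by
          obtain ⟨a, ha⟩ := IsPGroup.iff_card.1 P.2
          rcases a with _ | a
          · exact absurd (Subgroup.card_eq_one.1 (by rw [ha, pow_zero])) (S.ne_bot P)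
          · rw [ha]; exact Nat.le_self_pow a.succ_ne_zero p
      _ = (Finset.univ : Finset (P : Subgroup G)).card := by rw [Finset.card_univ, Nat.card_eq_fintype_card]
      _ ≤ _ := by
          refine Finset.card_le_card_of_injOn (fun b => (⟨t * b, hmk b⟩ : InvG G)) (fun b _ => ?_)
            (fun b _ b' _ h => Subtype.ext (mul_left_cancel (congrArg Subtype.val h)))
          refine Finset.mem_filter.2 ⟨Finset.mem_univ _, fun h => ?_, ?_⟩
          · obtain ⟨s, hs, hs1⟩ := hQne P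
            have h' : z = t * b := congrArg Subtype.val h
            have h2 := hzP s hs
            rw [← mul_inv_eq_iff_eq_mul, h', show t * (b : G) * s * (t * b)⁻¹ = t * ((b : G) * s * (b : G)⁻¹) * t⁻¹ by group,
              S.pgroup_comm P.2 b.2 hs, mul_inv_cancel_right, hinvt s hs] at h2
            exact hne_inv (pEl_of_mem P.2 hs) hs1 h2.symm
          · show z * (t * b) = t * b * z
            rw [← mul_assoc, ← htz, mul_assoc, hzP b b.2, mul_assoc]
  obtain ⟨r, hr, hrd⟩ := Nat.exists_prime_and_dvd (n := d - 1) (by omega)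
  haveI : Fact r.Prime := ⟨hr⟩
  have hdr : (d : ZMod r) = 1 := by
    obtain ⟨c, hc⟩ := hrd
    rw [show d = 1 + r * c by omega, Nat.cast_add, Nat.cast_mul, ZMod.natCast_self, zero_mul, add_zero, Nat.cast_one]
  let A : Matrix (InvG G) (InvG G) (ZMod r) := fun x y => if adj x y then 1 else 0
  let J : Matrix (InvG G) (InvG G) (ZMod r) := fun _ _ => 1
  have hsym : ∀ x y, adj x y ↔ adj y x := fun x y => ⟨fun h => ⟨h.1.symm, h.2.symm⟩, fun h => ⟨h.1.symm, h.2.symm⟩⟩
  have hA2 : A * A = J := by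
    ext x y
    rw [Matrix.mul_apply]
    simp only [A, J, mul_ite, mul_one, mul_zero, ← ite_and]
    rw [Finset.sum_boole]
    by_cases hxy : x = y
    · subst hxy
      rw [show (Finset.univ.filter fun w => adj w x ∧ adj x w) = nb x from
        Finset.filter_congr fun w _ => ⟨fun h => h.2, fun h => ⟨(hsym x w).1 h, h⟩⟩, hreg, hdr]
    · rw [show (Finset.univ.filter fun w => adj w y ∧ adj x w) = nb x ∩ nb y from ?_, hcommon x y hxy, Nat.cast_one]
      ext w
      simp only [nb, Finset.mem_inter, Finset.mem_filter, Finset.mem_univ, true_and, hsym y w]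
      exact and_comm
  have hAJ : A * J = J := by
    ext x y
    rw [Matrix.mul_apply]
    simp only [A, J, mul_one]
    rw [Finset.sum_boole, show (Finset.univ.filter (adj x)).card = d from hreg x, hdr]
  have hJk : ∀ k : ℕ, A ^ (k + 2) = J := by
    intro k
    induction k with
    | zero => rw [pow_two]; exact hA2
    | succ k ih => rw [show k + 1 + 2 = (k + 2) + 1 by ring, pow_succ', ih, hAJ]
  have htr : Matrix.trace A = 0 := Finset.sum_eq_zero fun x _ => if_neg fun h => h.1 rfl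
  have hn : (Fintype.card (InvG G) : ZMod r) = 1 := by
    have h4 : J * J = J := by
      rw [← hJk 0, ← pow_add, show 0 + 2 + (0 + 2) = 2 + 2 from rfl, hJk 2, hJk 0]
    have h5 := congrFun (congrFun h4 z₀) z₀
    rw [Matrix.mul_apply] at h5
    simpa [J] using h5
  have h := ZMod.trace_pow_card A
  have e : A ^ r = J := by
    rw [← hJk (r - 2), Nat.sub_add_cancel hr.two_le]
  rw [htr, zero_pow hr.ne_zero, e] at h
  have h6 : Matrix.trace J = (Fintype.card (InvG G) : ZMod r) := by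
    show ∑ _x : InvG G, (1 : ZMod r) = _
    simp
  rw [h6, hn] at h
  exact one_ne_zero h

/-- The configuration does not exist. -/
theorem false_of_setting : False := by
  classical
  haveI : Fact (Nat.Prime 2) := ⟨Nat.prime_two⟩
  by_cases hfix : ∀ t y : G, orderOf t = 2 → PEl p y → y * t = t * y → y = 1
  · exact S.false_of_no_fixed hfix
  push Not at hfix
  obtain ⟨t₁, y₁, ht₁, hy₁, hty₁, hy₁1⟩ := hfix
  obtain ⟨t, P, ht, htP, hfree⟩ := S.exists_inverting
  set N := normalizer ((P : Subgroup G) : Set G) with hN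
  obtain ⟨M, htT, hNsup, hTfree⟩ := S.normalizer_data P ht htP
  set T := (M : Subgroup N).map N.subtype with hT
  have hTp : IsPGroup 2 T := M.2.map _
  have hTN : T ≤ N := map_subtype_le _
  obtain ⟨hT2, hTc⟩ := S.two_part hTp
  have ht2 := hT2 t htT
  have hti : t⁻¹ = t := inv_eq_of_mul_eq_one_right ht2
  have hinvt := S.inverts ht P htP hfree
  have hodd2 : ∀ {w : G}, PEl p w → w = w⁻¹ → w = 1 := fun {w} hw h =>
    orderOf_eq_one_iff.1 (Nat.eq_one_of_dvd_coprimes (S.pEl_odd hw) dvd_rfl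
      (orderOf_dvd_of_pow_eq_one (by rw [pow_two]; nth_rewrite 2 [h]; exact mul_inv_cancel w)))
  obtain ⟨hWp, hWN⟩ := S.centralizer_invol ht
  obtain ⟨w₀, hw₀, hw₀1⟩ : ∃ w ∈ pW p t, w ≠ 1 := by
    obtain ⟨g, hg⟩ := S.invol_conj ht₁ ht
    exact ⟨g * y₁ * g⁻¹, hg ▸ pW_conj g (mem_pW hy₁ hty₁), by simpa using hy₁1⟩
  -- an element of `T` with a fixed point on `P` inverts `W`
  have hinvW : ∀ m ∈ T, m ≠ 1 → (∃ v ∈ (P : Subgroup G), v ≠ 1 ∧ m * v = v * m) →
      ∀ w ∈ pW p t, m * w * m⁻¹ = w⁻¹ := by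
    rintro m hm hm1 ⟨v, hv, hv1, hmv⟩
    have hmo : orderOf m = 2 := orderOf_two_iff.2 ⟨hT2 m hm, hm1⟩
    refine inverts_of_free ⟨⟨fun a b => Subtype.ext (S.pgroup_comm hWp a.2 b.2)⟩⟩ (hT2 m hm)
      (hWN (mem_centralizer_singleton_iff.2 (hTc m hm t htT))) fun w hw h => ?_
    have hwP : w ∈ (P : Subgroup G) :=
      S.pW_le hmo P (hTN hm) hv hv1 hmv (mem_pW (pEl_of_mem hWp hw) h.symm)
    exact hfree w hwP (pW_comm hw).symm
  have hker : ∀ m ∈ T, ∀ m' ∈ T, m ≠ 1 → m' ≠ 1 → ∀ v ∈ (P : Subgroup G), v ≠ 1 → m * v = v * m →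
      m' * v = v * m' → m = m' := by
    intro m hm m' hm' hm1 hm'1 v hv hv1 hmv hm'v
    by_contra hne
    have hmm : m * m' ≠ 1 := fun h => hne (by
      rw [eq_inv_of_mul_eq_one_left h, inv_eq_of_mul_eq_one_right (hT2 m' hm')])
    have h1 := hinvW m hm hm1 ⟨v, hv, hv1, hmv⟩ _ (inv_mem hw₀)
    have h2 := hinvW m' hm' hm'1 ⟨v, hv, hv1, hm'v⟩ w₀ hw₀
    have h3 := hinvW (m * m') (mul_mem hm hm') hmm
      ⟨v, hv, hv1, ((show Commute m v from hmv).mul_left hm'v).eq⟩ w₀ hw₀
    rw [show m * m' * w₀ * (m * m')⁻¹ = m * (m' * w₀ * m'⁻¹) * m⁻¹ by group, h2, h1, inv_inv] at h3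
    exact hw₀1 (hodd2 (pEl_of_mem hWp hw₀) h3)
  -- an eigen element in `W`
  obtain ⟨Q, hQ⟩ := hTp.exists_le_sylow
  obtain ⟨hQ2, hQc⟩ := S.two_elem Q
  have hQW : (Q : Subgroup G) ≤ normalizer (pW p t : Set G) := fun x hx =>
    hWN (mem_centralizer_singleton_iff.2 (hQc x hx t (hQ htT)))
  obtain ⟨w, hw, hw1, heig⟩ := S.exists_eigen Q.2 hWp (fun h => hw₀1 (mem_bot.1 (h ▸ hw₀))) hQW
  have hwp := pEl_of_mem hWp hw
  have hwt : w * t = t * w := pW_comm hw
  set H := (Q : Subgroup G) ⊓ centralizer ({w} : Set G) with hH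
  obtain ⟨s, -, hs⟩ := S.real hwp hw1
  obtain ⟨O, hOC, hO2, hCN, hmem⟩ := S.real_complement hw1 (S.pEl_odd hwp) hs
  obtain ⟨kw, hkw⟩ := hwp
  obtain ⟨P₀, hP₀⟩ := (CfsgLib.FGS.isPGroup_zpowers hkw).exists_le_sylow
  have hP₀O : (P₀ : Subgroup G) ≤ O := fun x hx => hmem x
    (mem_centralizer_singleton_iff.2 (S.pgroup_comm P₀.2 hx (hP₀ (mem_zpowers w)))) (S.pEl_odd (pEl_of_mem P₀.2 hx))
  obtain ⟨P', hP'O, hHP'⟩ := exists_fixed_sylow hO2 (Q.2.to_le (inf_le_left : H ≤ Q))
    ((inf_le_right : H ≤ _).trans hCN) P₀ hP₀O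
  have hwP' : w ∈ (P' : Subgroup G) := mem_sylow_of_normalizes P' (mem_normalizer_of_conj fun x hx => by
    rw [← mem_centralizer_singleton_iff.1 (hOC (hP'O hx)), mul_inv_cancel_right]; exact hx) hkw
  obtain ⟨g, hg⟩ := MulAction.exists_smul_eq G P' P
  obtain ⟨n, hn, hnT⟩ := S.conj_into P M ((Q.2.to_le (inf_le_left : H ≤ Q)).map (MulAut.conj g).toMonoidHom) (by
    rintro _ ⟨x, hx, rfl⟩
    exact hg ▸ conj_mem_normalizer_smul P' (g := g) (hHP' hx))
  set h := n * g with hh
  have hT' : ∀ x ∈ H, h * x * h⁻¹ ∈ T := fun x hx => by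
    have := hnT (g * x * g⁻¹) ⟨x, hx, rfl⟩
    rwa [show h * x * h⁻¹ = n * (g * x * g⁻¹) * n⁻¹ by rw [hh]; group]
  set v := h * w * h⁻¹ with hvdef
  have hvP : v ∈ (P : Subgroup G) := by
    have := mem_smul_sylow P' (g := g) hwP'
    rw [hg] at this
    rw [hvdef, show h * w * h⁻¹ = n * (g * w * g⁻¹) * n⁻¹ by rw [hh]; group]
    exact (mem_normalizer_iff.1 hn _).1 this
  have hv1 : v ≠ 1 := by simpa [hvdef] using hw1
  have hfixv : ∀ x ∈ H, h * x * h⁻¹ * v = v * (h * x * h⁻¹) := fun x hx => by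
    rw [hvdef, show h * x * h⁻¹ * (h * w * h⁻¹) = h * (x * w) * h⁻¹ by group,
      mem_centralizer_singleton_iff.1 (mem_inf.1 hx).2]
    group
  have htH : t ∈ H := mem_inf.2 ⟨hQ htT, mem_centralizer_singleton_iff.2 hwt.symm⟩
  have ht1 : t ≠ 1 := fun h => by rw [h, orderOf_one] at ht; omega
  have hH : ∀ x ∈ H, x = 1 ∨ x = t := fun x hx => by
    by_cases hx1 : x = 1
    · exact Or.inl hx1
    right
    have := hker _ (hT' x hx) _ (hT' t htH) (by simpa using hx1) (by simpa using ht1) v hvP hv1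
      (hfixv x hx) (hfixv t htH)
    simpa using this
  set m := h * t * h⁻¹ with hm
  have hmT : m ∈ T := hT' t htH
  have hm1 : m ≠ 1 := by simpa [hm] using ht1
  have hmv : m * v = v * m := hfixv t htH
  have hmW := hinvW m hmT hm1 ⟨v, hvP, hv1, hmv⟩
  have hmt : m ≠ t := fun e => hv1 (hfree v hvP (e ▸ hmv))
  have hmH : m ∉ H := fun hmH => by
    rcases hH m hmH with h' | h'
    · exact hm1 h'
    · exact hmt h'
  have hmQ := hQ hmT
  have hmi : m⁻¹ = m := inv_eq_of_mul_eq_one_right (hT2 m hmT)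
  have hQcases : ∀ x ∈ (Q : Subgroup G), x = 1 ∨ x = t ∨ x = m ∨ x = t * m := by
    intro x hx
    by_cases hxH : x ∈ H
    · rcases hH x hxH with h' | h'
      · exact Or.inl h'
      · exact Or.inr (Or.inl h')
    have hxw : x * w * x⁻¹ = w⁻¹ := (heig x hx).resolve_left fun e =>
      hxH (mem_inf.2 ⟨hx, mem_centralizer_singleton_iff.2 (mul_inv_eq_iff_eq_mul.1 e)⟩)
    have hxm : x * m ∈ H := mem_inf.2 ⟨mul_mem hx hmQ, mem_centralizer_singleton_iff.2 (mul_inv_eq_iff_eq_mul.1 (by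
      rw [show x * m * w * (x * m)⁻¹ = x * (m * w * m⁻¹) * x⁻¹ by group, hmW w hw, ← conj_inv, hxw, inv_inv]))⟩
    rcases hH _ hxm with h' | h'
    · exact Or.inr (Or.inr (Or.inl (by rw [eq_inv_of_mul_eq_one_left h', hmi])))
    · exact Or.inr (Or.inr (Or.inr (by rw [← h', mul_assoc, hT2 m hmT, mul_one])))
  have hp3 : p ≤ 3 := by
    haveI := Fintype.ofFinite (Q : Subgroup G)
    have h4 : Nat.card (Q : Subgroup G) ≤ 4 := by
      rw [Nat.card_eq_fintype_card, ← Finset.card_univ]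
      refine (Finset.card_le_card_of_injOn (fun x : (Q : Subgroup G) => (x : G)) (t := ({1, t, m, t * m} : Finset G))
        (fun x _ => ?_) (fun a _ b _ e => Subtype.ext e)).trans ?_
      · simpa using hQcases x x.2
      · exact (Finset.card_insert_le _ _).trans (by
          have := Finset.card_le_three (a := t) (b := m) (c := t * m)
          omega)
    rw [S.card_two Q] at h4
    omega
  set k := t * m with hk
  have hkT : k ∈ T := mul_mem htT hmT
  have hkQ := hQ hkT
  have hk1 : k ≠ 1 := fun e => hmt (by rw [← inv_eq_of_mul_eq_one_right e, hti])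
  have hko : orderOf k = 2 := orderOf_two_iff.2 ⟨hT2 k hkT, hk1⟩
  have hmo : orderOf m = 2 := orderOf_two_iff.2 ⟨hT2 m hmT, hm1⟩
  have hWm : pW p m ≤ (P : Subgroup G) := S.pW_le hmo P (hTN hmT) hvP hv1 hmv
  by_cases hkfix : ∃ v' ∈ (P : Subgroup G), v' ≠ 1 ∧ k * v' = v' * k
  · obtain ⟨v', hv', hv'1, hkv'⟩ := hkfix
    have hWk : pW p k ≤ (P : Subgroup G) := S.pW_le hko P (hTN hkT) hv' hv'1 hkv'
    obtain ⟨y, hyN, hyp, htr⟩ := S.two_trans Q
    obtain ⟨i, hi⟩ := htr m hmQ t (hQ htT) hm1 ht1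
    set a := y ^ i with ha
    have hti' : a * t * a⁻¹ ∈ (Q : Subgroup G) := (mem_normalizer_iff.1 (pow_mem hyN i) t).1 (hQ htT)
    have hat : a * t * a⁻¹ = k := by
      rcases hQcases _ hti' with h' | h' | h' | h'
      · exact absurd (by simpa using h' : t = 1) ht1
      · exact absurd (by
          have : a * m * a⁻¹ = a * t * a⁻¹ := hi.trans h'.symm
          simpa using this) hmt
      · exfalso
        have hak : a * k * a⁻¹ = k := by
          rw [hk, show a * (t * m) * a⁻¹ = (a * t * a⁻¹) * (a * m * a⁻¹) by group, h', hi,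
            hQc m hmQ t (hQ htT)]
        have hmv' : a * m ≠ m * a := fun e => hmt (by rw [← hi, e, mul_inv_cancel_right])
        obtain ⟨-, hall⟩ := orbit_of_moved (pow_mem hyN i) (hyp.pow i) hmQ hmv'
        obtain ⟨j, hj⟩ := hall (S.card_two Q) k hkQ hk1
        have hkk : a ^ j * k * (a ^ j)⁻¹ = k := by
          rw [((show Commute a k from mul_inv_eq_iff_eq_mul.1 hak).pow_left j).eq, mul_inv_cancel_right]
        have h8 : m = k := mul_left_cancel (mul_right_cancel (hj.trans hkk.symm))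
        exact ht1 (right_eq_mul.1 h8)
      · exact h'
    have hak : a * k * a⁻¹ = m := by
      rw [hk, show a * (t * m) * a⁻¹ = (a * t * a⁻¹) * (a * m * a⁻¹) by group, hat, hi, hk,
        hQc t (hQ htT) m hmQ, mul_assoc, ht2, mul_one]
    -- commutation
    have hc1 : ∀ x ∈ pW p m, ∀ x' ∈ pW p k, Commute x x' := fun x hx x' hx' =>
      S.pgroup_comm P.2 (hWm hx) (hWk hx')
    have hinvconj : ∀ {c z z' : G}, c * z * c⁻¹ = z' → c⁻¹ * z' * c⁻¹⁻¹ = z := fun {c z z'} e => by
      rw [← e]; group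
    have hc2 : ∀ x ∈ pW p t, ∀ x' ∈ pW p m, Commute x x' := by
      intro x hx x' hx'
      have e1 := pW_conj a⁻¹ hx
      rw [hinvconj hi] at e1
      have e2 := pW_conj a⁻¹ hx'
      rw [hinvconj hak] at e2
      simpa using (Commute.conj_iff a⁻¹).1 (hc1 _ e1 _ e2)
    have hc3 : ∀ x ∈ pW p t, ∀ x' ∈ pW p k, Commute x x' := by
      intro x hx x' hx'
      have e1 := pW_conj a hx
      rw [hat] at e1
      have e2 := pW_conj a hx'
      rw [hak] at e2
      exact ((Commute.conj_iff a).1 (hc1 _ e2 _ e1)).symm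
    have hwC : ∀ x ∈ (P : Subgroup G), Commute w x := by
      intro x hx
      set x' := m * x * m⁻¹ with hx'
      have hx'P : x' ∈ (P : Subgroup G) := (mem_normalizer_iff.1 (hTN hmT) x).1 hx
      have hxx : Commute x x' := S.pgroup_comm P.2 hx hx'P
      have hmx' : m * x' * m⁻¹ = x := by
        rw [hx', show m * (m * x * m⁻¹) * m⁻¹ = m * m * x * (m * m)⁻¹ by group, hT2 m hmT]; simp
      have ha1 : x * x' ∈ pW p m := mem_pW (pEl_of_mem P.2 (mul_mem hx hx'P)) (mul_inv_eq_iff_eq_mul.1 (by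
        rw [show m * (x * x') * m⁻¹ = (m * x * m⁻¹) * (m * x' * m⁻¹) by group, ← hx', hmx', hxx.eq])).symm
      have hc : x * x'⁻¹ ∈ pW p k := mem_pW (pEl_of_mem P.2 (mul_mem hx (inv_mem hx'P))) (mul_inv_eq_iff_eq_mul.1 (by
        rw [hk, show t * m * (x * x'⁻¹) * (t * m)⁻¹ = t * ((m * x * m⁻¹) * (m * x' * m⁻¹)⁻¹) * t⁻¹ by group, ← hx',
          hmx', hinvt _ (mul_mem hx'P (inv_mem hx)), mul_inv_rev, inv_inv])).symm
      have hsq : Commute w (x ^ 2) := by
        have e : x ^ 2 = (x * x') * (x * x'⁻¹) := by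
          rw [pow_two, mul_assoc x x', ← mul_assoc x' x, ← hxx.eq, mul_assoc x x', mul_inv_cancel, mul_one]
        rw [e]
        exact (hc2 w hw _ ha1).mul_right (hc3 w hw _ hc)
      obtain ⟨j, hj⟩ := exists_pow_eq_self_of_coprime (x := x) (S.pEl_odd (pEl_of_mem P.2 hx)).symm
      rw [← hj]
      exact hsq.pow_right j
    have hwP : w ∈ (P : Subgroup G) := mem_sylow_of_normalizes P (mem_normalizer_of_conj fun x hx => by
      rw [(hwC x hx).eq, mul_inv_cancel_right]; exact hx) hkw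
    exact hw1 (hfree w hwP hwt.symm)
  · push Not at hkfix
    have hinvk := S.inverts hko P (hTN hkT) fun v' hv' e => by
      by_contra hne
      exact hkfix v' hv' hne e
    have hmP : ∀ x ∈ (P : Subgroup G), m * x = x * m := fun x hx => mul_inv_eq_iff_eq_mul.1 (by
      have hmk : m = t * k := by rw [hk, ← mul_assoc, ht2, one_mul]
      rw [hmk, show t * k * x * (t * k)⁻¹ = t * (k * x * k⁻¹) * t⁻¹ by group, hinvk x hx,
        hinvt _ (inv_mem hx), inv_inv])
    have hCm : centralizer ({m} : Set G) = N := by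
      refine le_antisymm ?_ ?_
      · have hWeq : pW p m = (P : Subgroup G) := le_antisymm hWm fun x hx => mem_pW (pEl_of_mem P.2 hx) (hmP x hx).symm
        rw [hN, ← hWeq]
        exact (S.centralizer_invol hmo).2
      · intro x hx
        have hle : (P : Subgroup G) ⊔ T ≤ centralizer ({m} : Set G) :=
          sup_le (fun a ha => mem_centralizer_singleton_iff.2 (hmP a ha).symm)
            fun a ha => mem_centralizer_singleton_iff.2 (hTc a ha m hmT)
        exact hle (hNsup x hx)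
    refine S.false_of_centralData fun P₁ => ?_
    obtain ⟨c, rfl⟩ := MulAction.exists_smul_eq G P P₁
    refine ⟨c * m * c⁻¹, orderOf_conj_two hmo c, ?_, ?_, ?_⟩
    · rintro _ ⟨b, hb, rfl⟩
      show c * m * c⁻¹ * (c * b * c⁻¹) = c * b * c⁻¹ * (c * m * c⁻¹)
      rw [show c * m * c⁻¹ * (c * b * c⁻¹) = c * (m * b) * c⁻¹ by group, hmP b hb]
      group
    · ext x
      rw [mem_centralizer_singleton_iff]
      constructor
      · intro hx
        have h1 : c⁻¹ * x * c ∈ N := by
          rw [← hCm, mem_centralizer_singleton_iff]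
          calc c⁻¹ * x * c * m = c⁻¹ * (x * (c * m * c⁻¹)) * c := by group
            _ = c⁻¹ * (c * m * c⁻¹ * x) * c := by rw [hx]
            _ = m * (c⁻¹ * x * c) := by group
        have := conj_mem_normalizer_smul P (g := c) h1
        rwa [show c * (c⁻¹ * x * c) * c⁻¹ = x by group] at this
      · intro hx
        have h1 := conj_mem_normalizer_smul (c • P) (g := c⁻¹) hx
        rw [inv_smul_smul] at h1
        have h2 := mem_centralizer_singleton_iff.1 (hCm.symm ▸ h1 : c⁻¹ * x * c⁻¹⁻¹ ∈ centralizer ({m} : Set G))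
        calc x * (c * m * c⁻¹) = c * (c⁻¹ * x * c⁻¹⁻¹ * m) * c⁻¹ := by group
          _ = c * (m * (c⁻¹ * x * c⁻¹⁻¹)) * c⁻¹ := by rw [h2]
          _ = c * m * c⁻¹ * x := by group
    · intro x hx hxN hne _ hs
      obtain ⟨b, hb, rfl⟩ := hs
      set x₀ := c⁻¹ * x * c with hx₀
      have hx₀N : x₀ ∈ N := by
        have h1 := conj_mem_normalizer_smul (c • P) (g := c⁻¹) hxN
        rw [inv_smul_smul, inv_inv, ← hx₀] at h1
        exact h1
      have hx₀o : orderOf x₀ = 2 := by simpa [hx₀] using orderOf_conj_two hx c⁻¹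
      have hx₀ne : x₀ ≠ m := fun e => hne (by rw [← e, hx₀]; group)
      obtain ⟨n', hn', hn'T⟩ := S.conj_into P M
        (CfsgLib.FGS.isPGroup_zpowers (k := 1) (hx₀o.trans (pow_one 2).symm)) (zpowers_le.2 hx₀N)
      have hn'x := hn'T x₀ (mem_zpowers x₀)
      have hn'm : n' * m = m * n' := mem_centralizer_singleton_iff.1 (hCm.symm ▸ hn' : n' ∈ centralizer ({m} : Set G))
      have hinvx : ∀ b ∈ (P : Subgroup G), x₀ * b * x₀⁻¹ = b⁻¹ := by
        intro b hb
        have hb' : n' * b * n'⁻¹ ∈ (P : Subgroup G) := (mem_normalizer_iff.1 hn' b).1 hb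
        have key : n' * x₀ * n'⁻¹ * (n' * b * n'⁻¹) * (n' * x₀ * n'⁻¹)⁻¹ = (n' * b * n'⁻¹)⁻¹ := by
          rcases hQcases _ (hQ hn'x) with h' | h' | h' | h'
          · exfalso
            have : x₀ = 1 := by simpa using h'
            rw [this, orderOf_one] at hx₀o
            omega
          · rw [h']; exact hinvt _ hb'
          · exfalso
            refine hx₀ne ?_
            calc x₀ = n'⁻¹ * (n' * x₀ * n'⁻¹) * n' := by group
              _ = n'⁻¹ * m * n' := by rw [h']
              _ = m := by rw [mul_assoc, ← hn'm, inv_mul_cancel_left]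
          · rw [h']; exact hinvk _ hb'
        rw [show n' * x₀ * n'⁻¹ * (n' * b * n'⁻¹) * (n' * x₀ * n'⁻¹)⁻¹ = n' * (x₀ * b * x₀⁻¹) * n'⁻¹ by group,
          show (n' * b * n'⁻¹)⁻¹ = n' * b⁻¹ * n'⁻¹ by group] at key
        exact mul_left_cancel (mul_right_cancel key)
      show x * (c * b * c⁻¹) * x⁻¹ = (c * b * c⁻¹)⁻¹
      rw [show x * (c * b * c⁻¹) * x⁻¹ = c * (x₀ * b * x₀⁻¹) * c⁻¹ by rw [hx₀]; group, hinvx b hb]
      group

end Setting

end CfsgLib.Transfer.Mixed
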