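import Cfsg.Agent.Lib.Transfer.MixedSubgroupsFinal

/-!
A large prime dividing all mixed subgroups forces two prime divisors.
-/

set_option autoImplicit false

namespace CfsgLib.Transfer.Mixed

open Subgroup
open CfsgLib.FGS.PByCyclic (mem_normalizer_of_conj)
open CfsgLib.Transfer.AbPrime (mem_sylow_of_normalizes orderOf_two_iff)

universe u

/-- The prime `p` is large compared with the Sylow `q`-subgroups. -/
def Large (p q : ℕ) (G : Type u) [Group G] : Prop :=
  (∀ Q : Sylow q G, Nat.card (Q : Subgroup G) ≤ p) ∨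
    ((∀ Q : Sylow q G, Nat.card (Q : Subgroup G) ≤ p + 1) ∧ ∀ P : Sylow p G, IsMulCommutative P)

theorem comm_sylow_subgroup {G : Type u} [Group G] {p : ℕ} (h : ∀ P : Sylow p G, IsMulCommutative P)
    (H : Subgroup G) (P : Sylow p H) : IsMulCommutative P := by
  obtain ⟨P', hP'⟩ := (P.2.map H.subtype).exists_le_sylow
  refine ⟨⟨fun a b => Subtype.ext (Subtype.ext ?_)⟩⟩
  show ((a : H) : G) * (b : H) = (b : H) * (a : H)
  exact congrArg Subtype.val ((h P').is_comm.comm ⟨_, hP' ⟨a, a.2, rfl⟩⟩ ⟨_, hP' ⟨b, b.2, rfl⟩⟩)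

theorem card_sylow_le_of_subgroup {G : Type u} [Group G] [Finite G] {q : ℕ} {n : ℕ}
    (h : ∀ Q : Sylow q G, Nat.card (Q : Subgroup G) ≤ n) (H : Subgroup G) (Q : Sylow q H) :
    Nat.card (Q : Subgroup H) ≤ n := by
  obtain ⟨Q', hQ'⟩ := (Q.2.map H.subtype).exists_le_sylow
  rw [← card_map_of_injective H.subtype_injective]
  exact (card_le_of_le hQ').trans (h Q')

theorem mix_subgroup {G : Type u} [Group G] [Finite G] {p q : ℕ} (h : Mix p q G) (H : Subgroup G) :
    Mix p q H := by
  intro K h1 h2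
  have := h (K.map H.subtype) (by rwa [card_map_of_injective H.subtype_injective])
    (by rwa [card_map_of_injective H.subtype_injective])
  exact this.of_equiv (K.equivMapOfInjective H.subtype H.subtype_injective).symm

theorem false_of_three_primes {p q r : ℕ} [hp : Fact p.Prime] [hq : Fact q.Prime] [hr : Fact r.Prime]
    (hpq : p ≠ q) (hp2 : p ≠ 2) (hrp : r ≠ p) (hrq : r ≠ q) :
    ∀ (n : ℕ) (G : Type u) [Group G] [Finite G], Nat.card G = n → p ∣ Nat.card G → q ∣ Nat.card G →
      r ∣ Nat.card G → Mix p q G → Large p q G → False := by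
  intro n
  induction n using Nat.strong_induction_on with
  | _ n ih =>
  intro G _ _ hn hpG hqG hrG hmix hlarge
  classical
  -- no subgroup with prime divisors `q` and `r` only
  have hmixed : ∀ H : Subgroup G, q ∣ Nat.card H → r ∣ Nat.card H → p ∣ Nat.card H := by
    intro H h1 h2
    by_contra h
    obtain ⟨k, hk⟩ := IsPGroup.iff_card.1 (hmix H h1 h)
    exact hrq ((Nat.prime_dvd_prime_iff_eq hr.out hq.out).1 (hr.out.dvd_of_dvd_pow (hk ▸ h2)))
  by_cases hfix : ∀ X : Subgroup G, IsPGroup q X → ∀ y ∈ normalizer (X : Set G), PEl p y →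
      ∀ s ∈ X, y * s = s * y
  · -- normal q-complement
    have hF : CfsgLib.Transfer.FrobeniusCond q G := by
      intro X hX g hg hgq
      refine mem_centralizer_iff.2 fun s hs => ?_
      by_cases hX1 : X = ⊥
      · subst hX1
        rw [SetLike.mem_coe, mem_bot] at hs
        simp [hs]
      obtain ⟨a, b, ha, hb, hab, -⟩ := CfsgLib.FGS.exists_p_parts p g
      have hb1 : g ^ b = 1 := eq_one_of_normalizes hpq hmix hX hX1 (pow_mem hg b) hb
        (hgq.coprime_dvd_left (orderOf_pow_dvd b))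
      rw [hb1, mul_one] at hab
      have h := hfix X hX (g ^ a) (pow_mem hg a) ha s hs
      rw [hab] at h
      exact h.symm
    obtain ⟨N, hNn, hNc, k, hk⟩ :=
      CfsgLib.Transfer.hasNormalPComplement_iff.1 (CfsgLib.Transfer.hasNormalPComplement_of_frobeniusCond hF)
    have hk0 : k ≠ 0 := by
      rintro rfl
      rw [← N.card_mul_index, hk, pow_zero, mul_one] at hqG
      exact CfsgLib.Transfer.not_dvd_of_coprime hNc hqG
    have hrN : r ∣ Nat.card N := by
      rw [← N.card_mul_index, hk] at hrG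
      exact (hr.out.dvd_mul.1 hrG).resolve_right fun h =>
        hrq ((Nat.prime_dvd_prime_iff_eq hr.out hq.out).1 (hr.out.dvd_of_dvd_pow h))
    obtain ⟨R⟩ := (inferInstance : Nonempty (Sylow r N))
    set R0 := (R : Subgroup N).map N.subtype with hR0
    have hfr := Sylow.normalizer_sup_eq_top R
    have hidx : N.index ∣ Nat.card (normalizer (R0 : Set G)) := by
      rw [← relIndex_top_right, ← hfr, relIndex_sup_right]
      exact relIndex_dvd_card _ _
    obtain ⟨⟨x, hx⟩, hxo⟩ := exists_prime_orderOf_dvd_card' (G := normalizer (R0 : Set G)) q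
      ((dvd_pow_self q hk0).trans (hk ▸ hidx))
    rw [Subgroup.orderOf_mk] at hxo
    obtain ⟨h1, h2⟩ := card_sup_zpowers_dvd hx
    obtain ⟨j, hj⟩ := IsPGroup.iff_card.1 R.2
    have hcR : Nat.card R0 = r ^ j := by rw [hR0, card_map_of_injective N.subtype_injective, hj]
    have hj0 : j ≠ 0 := by
      rintro rfl
      have h := R.dvd_card_of_dvd_card hrN
      rw [hj, pow_zero] at h
      exact hr.out.not_dvd_one h
    have hp' : p ∣ Nat.card ↥(R0 ⊔ zpowers x) := hmixed _
      (by rw [← hxo, ← Nat.card_zpowers]; exact card_dvd_of_le le_sup_right)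
      ((hcR ▸ dvd_pow_self r hj0).trans h1)
    rcases hp.out.dvd_mul.1 (hp'.trans h2) with h | h
    · exact hrp.symm ((Nat.prime_dvd_prime_iff_eq hp.out hr.out).1 (hp.out.dvd_of_dvd_pow (hcR ▸ h)))
    · exact hpq ((Nat.prime_dvd_prime_iff_eq hp.out hq.out).1 (hxo ▸ h))
  push Not at hfix
  obtain ⟨X, hX, y, hy, hyp, s, hs, hmv⟩ := hfix
  obtain ⟨hXcard, hXall⟩ := orbit_of_moved hy hyp hs hmv
  obtain ⟨Q₀, hXQ⟩ := hX.exists_le_sylow
  obtain ⟨hQle, hcomm⟩ : (∀ Q : Sylow q G, Nat.card (Q : Subgroup G) ≤ p + 1) ∧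
      ∀ P : Sylow p G, IsMulCommutative P := by
    refine hlarge.resolve_left fun h => ?_
    have := (card_le_of_le hXQ).trans (h Q₀)
    omega
  have hXeq : X = (Q₀ : Subgroup G) := eq_of_le_of_card_ge hXQ ((hQle Q₀).trans hXcard)
  have hXc : Nat.card X = p + 1 := le_antisymm (hXeq ▸ hQle Q₀) hXcard
  obtain ⟨a, ha⟩ := IsPGroup.iff_card.1 hX
  obtain rfl : q = 2 := by
    have h1 : 2 ∣ p + 1 := (hp.out.odd_of_ne_two hp2).add_one.two_dvd
    rw [← hXc, ha] at h1
    exact ((Nat.prime_dvd_prime_iff_eq Nat.prime_two hq.out).1 (Nat.prime_two.dvd_of_dvd_pow h1)).symm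
  have ht : ∃ t ∈ X, orderOf t = 2 := by
    obtain ⟨⟨t, ht⟩, hto⟩ := exists_prime_orderOf_dvd_card' (G := X) 2
      (hXc ▸ (hp.out.odd_of_ne_two hp2).add_one.two_dvd)
    exact ⟨t, ht, by rwa [Subgroup.orderOf_mk] at hto⟩
  obtain ⟨t, htX, hto⟩ := ht
  have hs1 : s ≠ 1 := fun h => hmv (by simp [h])
  have htrX : ∀ x ∈ X, ∀ x' ∈ X, x ≠ 1 → x' ≠ 1 → ∃ i : ℕ, y ^ i * x * (y ^ i)⁻¹ = x' := by
    intro x hx x' hx' hx1 hx'1
    refine (orbit_of_moved hy hyp hx fun hc => hmv ?_).2 hXc x' hx' hx'1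
    obtain ⟨i, hi⟩ := hXall hXc x hx hx1
    have e : s = x := by
      calc s = (y ^ i)⁻¹ * (y ^ i * s * (y ^ i)⁻¹) * y ^ i := by group
        _ = (y ^ i)⁻¹ * x * y ^ i := by rw [hi]
        _ = x := by rw [mul_assoc, ← ((show Commute y x from hc).pow_left i).eq, inv_mul_cancel_left]
    rw [e]
    exact hc
  have hXsq : ∀ x ∈ X, x * x = 1 := by
    intro x hx
    by_cases hx1 : x = 1
    · simp [hx1]
    obtain ⟨ht2, ht1⟩ := orderOf_two_iff.1 hto
    obtain ⟨i, rfl⟩ := htrX t htX x hx ht1 hx1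
    rw [show y ^ i * t * (y ^ i)⁻¹ * (y ^ i * t * (y ^ i)⁻¹) = y ^ i * (t * t) * (y ^ i)⁻¹ by group, ht2]
    simp
  -- induction for proper subgroups
  have hsub : ∀ H : Subgroup G, H ≠ ⊤ → 2 ∣ Nat.card H → r ∣ Nat.card H → False := by
    intro H hH h2 hr'
    refine ih _ (hn ▸ lt_of_le_of_ne H.card_le_card_group fun h => hH (eq_top_of_card_eq H h)) H rfl
      (hmixed H h2 hr') h2 hr' (mix_subgroup hmix H) (Or.inr ⟨fun Q => card_sylow_le_of_subgroup hQle H Q,
        fun P => comm_sylow_subgroup hcomm H P⟩)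
  have hQconj : ∀ Q : Sylow 2 G, ∃ g : G, ∀ x, x ∈ (Q : Subgroup G) ↔ g⁻¹ * x * g ∈ X := by
    intro Q
    obtain ⟨g, rfl⟩ := MulAction.exists_smul_eq G Q₀ Q
    refine ⟨g, fun x => ?_⟩
    rw [hXeq, Sylow.coe_subgroup_smul, mem_pointwise_smul_iff_inv_smul_mem, ← map_inv, MulAut.smul_def,
      MulAut.conj_apply, inv_inv]
  refine Setting.false_of_setting (p := p)
    { prime := hp.out
      odd := hp2
      mix := hmix
      card_two := fun Q => by
        rw [← hXc, hXeq, Sylow.card_eq_multiplicity, Sylow.card_eq_multiplicity]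
      comm := hcomm
      two_elem := ?_
      two_trans := ?_
      central := ?_
      gen := ?_
      ne_bot := ?_
      core := ?_ }
  · intro Q
    obtain ⟨g, hg⟩ := hQconj Q
    have hsq : ∀ x ∈ (Q : Subgroup G), x * x = 1 := fun x hx => by
      have h := hXsq _ ((hg x).1 hx)
      rw [show g⁻¹ * x * g * (g⁻¹ * x * g) = g⁻¹ * (x * x) * g⁻¹⁻¹ by group, conj_eq_one_iff] at h
      exact h
    refine ⟨hsq, fun x hx x' hx' => ?_⟩
    have h1 := inv_eq_of_mul_eq_one_right (hsq _ (mul_mem hx hx'))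
    rw [mul_inv_rev, inv_eq_of_mul_eq_one_right (hsq x hx), inv_eq_of_mul_eq_one_right (hsq x' hx')] at h1
    exact h1.symm
  · intro Q
    obtain ⟨g, hg⟩ := hQconj Q
    refine ⟨g * y * g⁻¹, mem_normalizer_of_conj fun x hx => ?_, hyp.conj g, fun x hx x' hx' hx1 hx'1 => ?_⟩
    · rw [hg, show g⁻¹ * (g * y * g⁻¹ * x * (g * y * g⁻¹)⁻¹) * g = y * (g⁻¹ * x * g) * y⁻¹ by group]
      exact (mem_normalizer_iff.1 hy _).1 ((hg x).1 hx)
    · obtain ⟨i, hi⟩ := htrX _ ((hg x).1 hx) _ ((hg x').1 hx') (fun e => hx1 (by rw [show x = g * (g⁻¹ * x * g) * g⁻¹ by group, e]; simp))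
        (fun e => hx'1 (by rw [show x' = g * (g⁻¹ * x' * g) * g⁻¹ by group, e]; simp))
      refine ⟨i, ?_⟩
      rw [conj_pow, show g * y ^ i * g⁻¹ * x * (g * y ^ i * g⁻¹)⁻¹ = g * (y ^ i * (g⁻¹ * x * g) * (y ^ i)⁻¹) * g⁻¹ by group,
        hi]
      group
  · intro P b hb hcen
    by_contra hb1
    haveI := hcomm P
    let τ : G →* (P : Subgroup G) :=
      @MonoidHom.transfer G _ (P : Subgroup G) (P : Subgroup G)
        { (inferInstance : Group (P : Subgroup G)) with mul_comm := fun u v => IsMulCommutative.is_comm.comm u v }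
        (MonoidHom.id (P : Subgroup G)) _
    have hτ : (τ b : G) = b ^ (P : Subgroup G).index := by
      have key : ∀ (k : ℕ) (g₀ : G), g₀⁻¹ * b ^ k * g₀ ∈ (P : Subgroup G) → g₀⁻¹ * b ^ k * g₀ = b ^ k := by
        intro k g₀ hk
        obtain ⟨n', hn', he⟩ := P.conj_eq_normalizer_conj_of_mem (b ^ k) g₀ (pow_mem hb k) hk
        rw [he, mul_assoc, ← ((show Commute n' b from hcen n' hn').pow_right k).eq, inv_mul_cancel_left]
      exact congrArg Subtype.val (@MonoidHom.transfer_eq_pow G _ (P : Subgroup G) (P : Subgroup G)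
        { (inferInstance : Group (P : Subgroup G)) with mul_comm := fun u v => IsMulCommutative.is_comm.comm u v }
        (MonoidHom.id (P : Subgroup G)) _ b key)
    have hker : τ.ker ≠ ⊤ := fun htop => by
      have h1 : τ b = 1 := (htop.ge (mem_top b) : b ∈ τ.ker)
      rw [h1, Subgroup.coe_one] at hτ
      obtain ⟨k, hk⟩ := pEl_of_mem P.2 hb
      exact hb1 (orderOf_eq_one_iff.1 (Nat.eq_one_of_dvd_coprimes
        ((hp.out.coprime_iff_not_dvd.2 P.not_dvd_index).pow_left k) (dvd_of_eq hk)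
        (orderOf_dvd_of_pow_eq_one hτ.symm)))
    have hin : ∀ x : G, (orderOf x).Coprime p → x ∈ τ.ker := fun x hx => by
      rw [MonoidHom.mem_ker]
      obtain ⟨k, hk⟩ := IsPGroup.iff_orderOf.1 P.2 (τ x)
      exact orderOf_eq_one_iff.1 (Nat.eq_one_of_dvd_coprimes (hx.pow_right k) (orderOf_map_dvd τ x) (hk ▸ dvd_rfl))
    refine hsub τ.ker hker ?_ ?_
    · rw [← hto]
      exact Subgroup.orderOf_dvd_natCard _ (hin t (by
        rw [hto]; exact (Nat.coprime_primes Nat.prime_two hp.out).2 hp2.symm))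
    · obtain ⟨z, hz⟩ := exists_prime_orderOf_dvd_card' (G := G) r hrG
      rw [← hz]
      exact Subgroup.orderOf_dvd_natCard _ (hin z (by rw [hz]; exact (Nat.coprime_primes hr.out hp.out).2 hrp))
  · intro S hS
    set S0 := closure {x : G | orderOf x = 2} with hS0
    have hn0 : S0.Normal := ⟨fun a ha g => by
      have hle : S0 ≤ S0.comap (MulAut.conj g).toMonoidHom := (closure_le _).2 fun x hx =>
        subset_closure (show orderOf (MulAut.conj g x) = 2 by rw [MulEquiv.orderOf_eq]; exact hx)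
      exact hle ha⟩
    suffices h : S0 = ⊤ from top_le_iff.1 (h.ge.trans ((closure_le _).2 fun x hx => hS x hx))
    have hQS : (Q₀ : Subgroup G) ≤ S0 := fun x hx => by
      by_cases hx1 : x = 1
      · rw [hx1]; exact one_mem _
      · exact subset_closure (orderOf_two_iff.2 ⟨hXsq x (hXeq ▸ hx), hx1⟩)
    by_cases hr0 : r ∣ Nat.card S0
    · by_contra hne
      exact hsub S0 hne (hto ▸ Subgroup.orderOf_dvd_natCard _ (hQS (hXeq ▸ htX))) hr0
    · exfalso
      have hfr := Sylow.normalizer_sup_eq_top' Q₀ hQS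
      have hidx : S0.index ∣ Nat.card (normalizer ((Q₀ : Subgroup G) : Set G)) := by
        rw [← relIndex_top_right, ← hfr, relIndex_sup_right]
        exact relIndex_dvd_card _ _
      have hrI : r ∣ S0.index := (hr.out.dvd_mul.1 (S0.card_mul_index.symm ▸ hrG)).resolve_left hr0
      obtain ⟨⟨w, hw⟩, hwo⟩ := exists_prime_orderOf_dvd_card'
        (G := normalizer ((Q₀ : Subgroup G) : Set G)) r (hrI.trans hidx)
      rw [Subgroup.orderOf_mk] at hwo
      have hw1 := eq_one_of_normalizes (q := 2) hpq hmix Q₀.2 (fun h => by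
          rw [hXeq, h, mem_bot] at htX
          rw [htX, orderOf_one] at hto; omega) hw
        (by rw [hwo]; exact (Nat.coprime_primes hr.out hp.out).2 hrp)
        (by rw [hwo]; exact (Nat.coprime_primes hr.out Nat.prime_two).2 hrq)
      rw [hw1, orderOf_one] at hwo
      exact hr.out.one_lt.ne hwo
  · intro P hP
    have h := P.dvd_card_of_dvd_card hpG
    rw [hP, card_bot] at h
    exact hp.out.not_dvd_one h
  · intro W hW hWp
    by_contra hne
    obtain ⟨k, hk⟩ := IsPGroup.iff_card.1 hWp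
    have hk0 : k ≠ 0 := fun h => hne (card_eq_one.1 (by rw [hk, h, pow_zero]))
    have hcopW : ∀ {m : ℕ}, ¬ p ∣ m → (Nat.card W).Coprime m := fun hm =>
      hk ▸ (hp.out.coprime_iff_not_dvd.2 hm).pow_left k
    have hnotW : ∀ {m : ℕ}, m.Prime → m ≠ p → ¬ m ∣ Nat.card W := fun hm hmp h =>
      hmp ((Nat.prime_dvd_prime_iff_eq hm hp.out).1 (hm.dvd_of_dvd_pow (hk ▸ h)))
    have h2I : 2 ∣ W.index := (Nat.prime_two.dvd_mul.1 (W.card_mul_index.symm ▸ hqG)).resolve_left
      (hnotW Nat.prime_two hp2.symm)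
    have hrI : r ∣ W.index := (hr.out.dvd_mul.1 (W.card_mul_index.symm ▸ hrG)).resolve_left (hnotW hr.out hrp)
    by_cases hpI : p ∣ W.index
    swap
    · obtain ⟨K, hK⟩ := exists_right_complement'_of_coprime (hcopW hpI)
      have hKc : Nat.card K = W.index := hK.symm.index_eq_card.symm
      exact hpI (hKc ▸ hmixed K (hKc ▸ h2I) (hKc ▸ hrI))
    let π := QuotientGroup.mk' W
    have hπ : Function.Surjective π := QuotientGroup.mk'_surjective W
    refine ih (Nat.card (G ⧸ W)) ?_ (G ⧸ W) rfl hpI h2I hrI ?_ (Or.inr ⟨fun Q => ?_, fun P => ?_⟩)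
    · rw [← hn, Subgroup.card_eq_card_quotient_mul_card_subgroup W]
      exact lt_mul_of_one_lt_right Nat.card_pos ((Subgroup.one_lt_card_iff_ne_bot W).2 hne)
    · intro H h1 h2
      set L := H.comap π with hL
      have hWL : W ≤ L := fun x hx => by
        rw [hL, mem_comap, show π x = 1 from (QuotientGroup.eq_one_iff x).2 hx]; exact one_mem H
      haveI : (W.subgroupOf L).Normal := inferInstance
      have hidx : (W.subgroupOf L).index = Nat.card H := by
        rw [← Subgroup.relIndex]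
        refine (congrArg (fun V : Subgroup G => V.relIndex L) (QuotientGroup.ker_mk' W).symm).trans ?_
        rw [relIndex_ker, map_comap_eq_self_of_surjective hπ]
      have hcW : Nat.card (W.subgroupOf L) = Nat.card W := Nat.card_congr (subgroupOfEquivOfLe hWL).toEquiv
      obtain ⟨K, hK⟩ := exists_right_complement'_of_coprime (N := W.subgroupOf L) (by
        rw [hcW, hidx]; exact hcopW h2)
      have hKc : Nat.card K = Nat.card H := hidx ▸ hK.symm.index_eq_card.symm
      obtain ⟨j, hj⟩ := IsPGroup.iff_card.1 (hmix (K.map L.subtype)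
        (by rw [card_map_of_injective L.subtype_injective, hKc]; exact h1)
        (by rw [card_map_of_injective L.subtype_injective, hKc]; exact h2))
      rw [card_map_of_injective L.subtype_injective, hKc] at hj
      exact IsPGroup.of_card hj
    · obtain ⟨Q', rfl⟩ := Sylow.mapSurjective_surjective hπ 2 Q
      rw [Sylow.coe_mapSurjective]
      exact (Nat.le_of_dvd Nat.card_pos (card_map_dvd _ _)).trans (hQle Q')
    · obtain ⟨P', rfl⟩ := Sylow.mapSurjective_surjective hπ p P
      refine ⟨⟨fun u v => Subtype.ext ?_⟩⟩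
      obtain ⟨_, u', hu', rfl⟩ := u
      obtain ⟨_, v', hv', rfl⟩ := v
      show π u' * π v' = π v' * π u'
      rw [← map_mul, ← map_mul]
      exact congrArg π (congrArg Subtype.val ((hcomm P').is_comm.comm ⟨u', hu'⟩ ⟨v', hv'⟩))

end CfsgLib.Transfer.Mixed
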