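import Cfsg.Agent.Lib.PGroup.Basic
import Mathlib.GroupTheory.QuotientGroup.Basic
import Mathlib.Algebra.BigOperators.Group.Finset.Basic
import Mathlib.GroupTheory.Index

/-!
Products over orbits of a `p`-group of an equivariant map into an abelian group.
-/

set_option autoImplicit false

namespace CfsgLib.Transfer.OrbitProduct

open Subgroup

/-- If each step of index `p` kills fixed elements, products over moved invariant sets are killed. -/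
theorem prod_pow_mem {G : Type*} [Group G] [Finite G] {V : Type*} [CommGroup V] {X : Type*}
    [MulAction G X] [DecidableEq X] {p : ℕ} [Fact p.Prime] (φ : G →* MulAut V) (f : X → V)
    (hf : ∀ g x, f (g • x) = φ g (f x)) (Q : Subgroup V) (k : ℕ) (ℰ : Set (Subgroup G))
    (O : Subgroup G) (hO : ∀ o ∈ O, ∀ x : X, o • x = x)
    (hℰ : ∀ E ∈ ℰ, ∀ g : G, E.map (MulAut.conj g).toMonoidHom ∈ ℰ) :
    ∀ R : Subgroup G, IsPGroup p R → O ≤ R →
    (∀ E ∈ ℰ, ∀ (R₀ : Subgroup G) (r : G), E ≤ R → R₀ ≤ R → O ≤ R₀ → r ∈ E → r ∉ R₀ →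
      R₀.relIndex E = p → ∀ u : V, (∀ g ∈ E ⊓ R₀, φ g u = u) →
        (∏ j ∈ Finset.range p, φ (r ^ j) u) ^ k ∈ Q) →
    ∀ Y : Finset X, (∀ r ∈ R, ∀ y ∈ Y, r • y ∈ Y) →
      (∀ y ∈ Y, ∃ E ∈ ℰ, E ≤ R ∧ ∃ e ∈ E, e • y ≠ y) → (∏ y ∈ Y, f y) ^ k ∈ Q := by
  classical
  suffices h : ∀ (n : ℕ) (R : Subgroup G), Nat.card R = n → IsPGroup p R → O ≤ R →
    (∀ E ∈ ℰ, ∀ (R₀ : Subgroup G) (r : G), E ≤ R → R₀ ≤ R → O ≤ R₀ → r ∈ E → r ∉ R₀ →
      R₀.relIndex E = p → ∀ u : V, (∀ g ∈ E ⊓ R₀, φ g u = u) →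
        (∏ j ∈ Finset.range p, φ (r ^ j) u) ^ k ∈ Q) →
    ∀ Y : Finset X, (∀ r ∈ R, ∀ y ∈ Y, r • y ∈ Y) →
      (∀ y ∈ Y, ∃ E ∈ ℰ, E ≤ R ∧ ∃ e ∈ E, e • y ≠ y) → (∏ y ∈ Y, f y) ^ k ∈ Q from
    fun R => h _ R rfl
  intro n
  induction n using Nat.strong_induction_on with
  | _ n ih =>
  intro R hn hR hOR hstep Y
  induction Y using Finset.strongInduction with
  | _ Y ihY =>
  intro hYinv hmove
  rcases Y.eq_empty_or_nonempty with rfl | ⟨y₀, hy₀⟩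
  · simp [one_mem]
  set Orb : Finset X := Y.filter fun y => ∃ a ∈ R, a • y₀ = y with hOrb
  have hy₀O : y₀ ∈ Orb := Finset.mem_filter.2 ⟨hy₀, 1, one_mem _, one_smul _ _⟩
  by_cases htr : Orb = Y
  swap
  · have hsub : Orb ⊆ Y := Finset.filter_subset _ _
    have hOinv : ∀ r ∈ R, ∀ y ∈ Orb, r • y ∈ Orb := fun r hr y hy => by
      obtain ⟨hyY, a, ha, rfl⟩ := Finset.mem_filter.1 hy
      exact Finset.mem_filter.2 ⟨hYinv r hr _ hyY, r * a, mul_mem hr ha, mul_smul _ _ _⟩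
    have h1 := ihY Orb (lt_of_le_of_ne hsub htr) hOinv (fun y hy => hmove y (hsub hy))
    have h2 := ihY (Y \ Orb) (Finset.sdiff_ssubset hsub ⟨y₀, hy₀O⟩) (fun r hr y hy => by
      obtain ⟨hyY, hyO⟩ := Finset.mem_sdiff.1 hy
      refine Finset.mem_sdiff.2 ⟨hYinv r hr y hyY, fun h => hyO ?_⟩
      simpa using hOinv r⁻¹ (inv_mem hr) _ h) fun y hy => hmove y (Finset.sdiff_subset hy)
    rw [← Finset.prod_sdiff hsub, mul_pow]
    exact mul_mem h2 h1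
  have htrans : ∀ y ∈ Y, ∃ a ∈ R, a • y₀ = y := fun y hy => (Finset.mem_filter.1 (show y ∈ Orb from htr.ge hy)).2
  -- a maximal subgroup above the stabiliser
  set St : Subgroup R := (MulAction.stabilizer G y₀).subgroupOf R with hSt
  obtain ⟨E₁, hE₁, hE₁R, e₁, he₁, he₁y⟩ := hmove y₀ hy₀
  have hStne : St ≠ ⊤ := fun h => he₁y ((h.ge (Subgroup.mem_top ⟨e₁, hE₁R he₁⟩) : _))
  obtain ⟨M, hM, hStM⟩ := (eq_top_or_exists_le_coatom St).resolve_left hStne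
  have hMn : M.Normal := CfsgLib.PGroup.normal_of_isCoatom hR hM
  have hMi : M.index = p := CfsgLib.PGroup.index_of_isCoatom hR hM
  set R₀ := M.map R.subtype with hR₀
  have hR₀R : R₀ ≤ R := Subgroup.map_subtype_le _
  have hmemR₀ : ∀ x : R, (x : G) ∈ R₀ ↔ x ∈ M := fun x =>
    Subgroup.mem_map_iff_mem R.subtype_injective
  have hOR₀ : O ≤ R₀ := fun o ho => (hmemR₀ ⟨o, hOR ho⟩).2 (hStM (hO o ho y₀))
  have hconjR₀ : ∀ a ∈ R, ∀ x ∈ R₀, a * x * a⁻¹ ∈ R₀ := fun a ha x hx =>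
    (hmemR₀ (⟨a, ha⟩ * ⟨x, hR₀R hx⟩ * ⟨a, ha⟩⁻¹)).2
      (hMn.conj_mem _ ((hmemR₀ ⟨x, hR₀R hx⟩).1 hx) _)
  have hlt : Nat.card R₀ < n := by
    subst hn
    rw [hR₀, Subgroup.card_map_of_injective R.subtype_injective]
    exact lt_of_le_of_ne (Subgroup.card_le_card_group M)
      fun h => hM.1 (Subgroup.eq_top_of_card_eq M h)
  by_cases hA : ∃ E ∈ ℰ, E ≤ R₀ ∧ ∃ e ∈ E, ∃ y ∈ Y, e • y ≠ y
  · -- reduce to the maximal subgroup
    obtain ⟨E, hE, hER₀, e, he, y, hy, hey⟩ := hA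
    refine ih _ hlt R₀ rfl (hR.to_le hR₀R) hOR₀
      (fun E' hE' R' r' hE'R hR' => hstep E' hE' R' r' (hE'R.trans hR₀R) (hR'.trans hR₀R))
      Y (fun r hr => hYinv r (hR₀R hr)) fun y' hy' => ?_
    obtain ⟨a, ha, rfl⟩ := htrans y hy
    obtain ⟨b, hb, rfl⟩ := htrans y' hy'
    refine ⟨E.map (MulAut.conj (b * a⁻¹)).toMonoidHom, hℰ E hE _, ?_, _, ⟨e, he, rfl⟩, ?_⟩
    · rintro _ ⟨x, hx, rfl⟩
      exact hconjR₀ _ (mul_mem hb (inv_mem ha)) x (hER₀ hx)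
    · intro h
      apply hey
      simp only [MulEquiv.coe_toMonoidHom, MulAut.conj_apply, ← mul_smul] at h
      have h2 := congrArg (fun z => (b * a⁻¹)⁻¹ • z) h
      simp only [← mul_smul] at h2
      rw [← mul_smul]
      convert h2 using 1 <;> · congr 1; group
  push Not at hA
  -- the orbit of the maximal subgroup
  have hE₁R₀ : ¬ E₁ ≤ R₀ := fun h => he₁y (hA E₁ hE₁ h e₁ he₁ y₀ hy₀)
  obtain ⟨r, hrE, hrR₀⟩ := SetLike.not_le_iff_exists.1 hE₁R₀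
  have hrR : r ∈ R := hE₁R hrE
  set rb : R ⧸ M := ((⟨r, hrR⟩ : R) : R ⧸ M) with hrb
  have hrb1 : rb ≠ 1 := fun h => hrR₀ ((hmemR₀ ⟨r, hrR⟩).2 ((QuotientGroup.eq_one_iff _).1 h))
  have hcard : Nat.card (R ⧸ M) = p := by rw [← Subgroup.index_eq_card, hMi]
  have hord : orderOf rb = p :=
    orderOf_eq_prime (by rw [← hcard]; exact pow_card_eq_one') hrb1
  set Y₀ := Y.filter fun y => ∃ a ∈ R₀, a • y₀ = y with hY₀
  have hbij : ∏ j ∈ Finset.range p ×ˢ Y₀, f (r ^ j.1 • j.2) = ∏ y ∈ Y, f y := by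
    refine Finset.prod_bij (fun j _ => r ^ j.1 • j.2) ?_ ?_ ?_ (fun _ _ => rfl)
    · intro j hj
      exact hYinv _ (pow_mem hrR _) _ (Finset.mem_filter.1 (Finset.mem_product.1 hj).2).1
    · rintro ⟨i, y⟩ hi ⟨j, y'⟩ hj h
      simp only [Finset.mem_product, Finset.mem_range, hY₀, Finset.mem_filter] at hi hj
      obtain ⟨hi, hyY, a, ha, rfl⟩ := hi
      obtain ⟨hj, hy'Y, b, hb, rfl⟩ := hj
      simp only [← mul_smul] at h
      have h1 : (r ^ j * b)⁻¹ * (r ^ i * a) ∈ MulAction.stabilizer G y₀ := by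
        rw [MulAction.mem_stabilizer_iff, mul_smul, h, inv_smul_smul]
      have h2 : (⟨r, hrR⟩ ^ j * ⟨b, hR₀R hb⟩ : R)⁻¹ * (⟨r, hrR⟩ ^ i * ⟨a, hR₀R ha⟩) ∈ M :=
        hStM h1
      have h3 : rb ^ j = rb ^ i := by
        have := QuotientGroup.eq.2 h2
        rwa [QuotientGroup.mk_mul, QuotientGroup.mk_mul, QuotientGroup.mk_pow, QuotientGroup.mk_pow,
          (QuotientGroup.eq_one_iff _).2 ((hmemR₀ ⟨b, hR₀R hb⟩).1 hb),
          (QuotientGroup.eq_one_iff _).2 ((hmemR₀ ⟨a, hR₀R ha⟩).1 ha), mul_one, mul_one] at this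
      have h4 : j = i := pow_injOn_Iio_orderOf (by rwa [Set.mem_Iio, hord]) (by rwa [Set.mem_Iio, hord]) h3
      subst h4
      simp only [mul_smul] at h
      rw [smul_left_cancel _ h]
    · intro y hy
      obtain ⟨a, ha, rfl⟩ := htrans y hy
      have : Fact (Nat.card (R ⧸ M)).Prime := ⟨by rw [hcard]; exact Fact.out⟩
      have h1 : ((⟨a, ha⟩ : R) : R ⧸ M) ∈ Submonoid.powers rb := by
        rw [(isOfFinOrder_of_finite rb).mem_powers_iff_mem_zpowers]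
        exact mem_zpowers_of_prime_card hcard hrb1
      rw [(isOfFinOrder_of_finite rb).mem_powers_iff_mem_range_orderOf, hord] at h1
      obtain ⟨j, hj, hje⟩ := Finset.mem_image.1 h1
      have hm : ((⟨r, hrR⟩ : R) ^ j)⁻¹ * ⟨a, ha⟩ ∈ M := QuotientGroup.eq.1 (by
        rw [QuotientGroup.mk_pow]; exact hje)
      refine ⟨(j, ((r ^ j)⁻¹ * a) • y₀), Finset.mem_product.2 ⟨hj, Finset.mem_filter.2
        ⟨hYinv _ (mul_mem (inv_mem (pow_mem hrR _)) ha) _ hy₀, _, (hmemR₀ _).2 hm, ?_⟩⟩, ?_⟩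
      · simp
      · simp [← mul_smul]
  have hrel : R₀.relIndex E₁ = p := by
    have h1 : R₀.relIndex E₁ = M.relIndex (E₁.subgroupOf R) := by
      rw [← Subgroup.relIndex_map_map_of_injective M (E₁.subgroupOf R) R.subtype_injective,
        Subgroup.map_subgroupOf_eq_of_le hE₁R]
    have h2 : M.relIndex (E₁.subgroupOf R) ∣ p := hMi ▸ Subgroup.relIndex_dvd_index_of_normal _ _
    rw [h1]
    rcases (Nat.dvd_prime (Fact.out : p.Prime)).1 h2 with h | h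
    · exact absurd (Subgroup.relIndex_eq_one.1 (h1.trans h)) hE₁R₀
    · exact h
  set u := ∏ y ∈ Y₀, f y with hu
  have hufix : ∀ g ∈ E₁ ⊓ R₀, φ g u = u := by
    intro g hg
    have hinv : ∀ b ∈ R₀, ∀ y ∈ Y₀, b • y ∈ Y₀ := fun b hb y hy => by
      obtain ⟨hyY, a, ha, rfl⟩ := Finset.mem_filter.1 hy
      exact Finset.mem_filter.2 ⟨hYinv b (hR₀R hb) _ hyY, b * a, mul_mem hb ha, mul_smul _ _ _⟩
    rw [hu, map_prod]
    refine Finset.prod_bij (fun y _ => g • y) (fun y hy => hinv g hg.2 y hy)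
      (fun y _ y' _ h => smul_left_cancel g h)
      (fun y hy => ⟨g⁻¹ • y, hinv _ (inv_mem hg.2) y hy, smul_inv_smul g y⟩) fun y _ => (hf g y).symm
  have hkill := hstep E₁ hE₁ R₀ r hE₁R hR₀R hOR₀ hrE hrR₀ hrel u hufix
  rw [← hbij, Finset.prod_product]
  convert hkill using 2
  refine Finset.prod_congr rfl fun j _ => ?_
  rw [hu, map_prod]
  exact Finset.prod_congr rfl fun y _ => hf _ _

end CfsgLib.Transfer.OrbitProduct
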