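import Cfsg.Agent.Lib.PStab.TameSeries
import Cfsg.Agent.Lib.Cores.PConstrained
import Cfsg.Agent.Lib.Invol.Quaternion
import Cfsg.Agent.Lib.Solvable.CoprimeAction
import Cfsg.Agent.Lib.Solvable.UniqueSubgroup
import Cfsg.Agent.Lib.Transfer.PSolvable

/-!
Finite groups of `2 × 2` matrices in odd characteristic generated by two transvections: they have
non-abelian Sylow `2`-subgroups, and when `p`-soluble involve `SL(2,3)` with `p = 3`.
-/

namespace CfsgLib.Transfer

open Matrix
open scoped commutatorElement MatrixGroups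

/-- A standard pair: two generators mapped to non-commuting transvections. -/
structure StdPair {X : Type*} [Group X] {K : Type*} [Field K]
    (ρ : X →* Matrix (Fin 2) (Fin 2) K) (A B : X) (c : K) : Prop where
  ne : c ≠ 0
  gen : Subgroup.closure ({A, B} : Set X) = ⊤
  mapA : ρ A = !![1, c; 0, 1]
  mapB : ρ B = !![1, 0; 1, 1]

section General

variable {K : Type*} [Field K] {X : Type*} [Group X]

theorem StdPair.det_eq_one {ρ : X →* Matrix (Fin 2) (Fin 2) K} {A B : X} {c : K}
    (h : StdPair ρ A B c) (x : X) : (ρ x).det = 1 := by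
  have hle : Subgroup.closure ({A, B} : Set X) ≤ (Matrix.detMonoidHom.comp ρ).ker := by
    rw [Subgroup.closure_le]
    rintro _ (rfl | rfl)
    · show (ρ _).det = 1
      rw [h.mapA]; simp [Matrix.det_fin_two]
    · show (ρ _).det = 1
      rw [h.mapB]; simp [Matrix.det_fin_two]
  exact hle (h.gen ▸ Subgroup.mem_top x)

/-- A matrix representation of determinant one as a map to `SL(2,K)`. -/
def toSL2 (ρ : X →* Matrix (Fin 2) (Fin 2) K) (h : ∀ x, (ρ x).det = 1) : X →* SL(2, K) where
  toFun x := ⟨ρ x, h x⟩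
  map_one' := Subtype.ext (map_one ρ)
  map_mul' a b := Subtype.ext (map_mul ρ a b)

theorem unipotent_pow (c : K) : ∀ m : ℕ,
    (!![1, c; 0, 1] : Matrix (Fin 2) (Fin 2) K) ^ m = !![1, (m : K) * c; 0, 1]
  | 0 => by simp [Matrix.one_fin_two]
  | m + 1 => by rw [pow_succ, unipotent_pow c m]; simp; ring

/-- The involutions of `SL(2,K)` are scalar. -/
theorem sl2_eq_of_sq_eq_one {M : Matrix (Fin 2) (Fin 2) K} (h2 : (2 : K) ≠ 0) (hd : M.det = 1)
    (h : M * M = 1) : M = 1 ∨ M = -1 := by
  have e : M = Matrix.adjugate M := by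
    calc M = M * (M * Matrix.adjugate M) := by rw [Matrix.mul_adjugate, hd, one_smul, mul_one]
      _ = (M * M) * Matrix.adjugate M := by rw [mul_assoc]
      _ = _ := by rw [h, one_mul]
  rw [Matrix.adjugate_fin_two] at e
  have e00 := congrFun (congrFun e 0) 0
  have e01 := congrFun (congrFun e 0) 1
  have e10 := congrFun (congrFun e 1) 0
  simp only [Matrix.of_apply, Matrix.cons_val', Matrix.cons_val_zero, Matrix.cons_val_one,
    Matrix.empty_val', Matrix.cons_val_fin_one] at e00 e01 e10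
  have h01 : M 0 1 = 0 := by
    have : (2 : K) * M 0 1 = 0 := by linear_combination e01
    exact (mul_eq_zero.1 this).resolve_left h2
  have h10 : M 1 0 = 0 := by
    have : (2 : K) * M 1 0 = 0 := by linear_combination e10
    exact (mul_eq_zero.1 this).resolve_left h2
  rw [Matrix.det_fin_two, h01, h10, mul_zero, sub_zero, ← e00] at hd
  rcases mul_self_eq_one_iff.1 hd with ha | ha
  · left
    ext i j
    fin_cases i <;> fin_cases j <;> simp [h01, h10, ha, ← e00]
  · right
    ext i j
    fin_cases i <;> fin_cases j <;> simp [h01, h10, ha, ← e00]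

/-- An element of trace zero is what squares to `-1`. -/
theorem sl2_trace_eq_zero_of_sq {M : Matrix (Fin 2) (Fin 2) K} (hd : M.det = 1) (h : M * M = -1) :
    M 0 0 + M 1 1 = 0 := by
  have e : Matrix.adjugate M = -M := by
    calc Matrix.adjugate M = -((M * M) * Matrix.adjugate M) := by rw [h, neg_mul, one_mul, neg_neg]
      _ = _ := by rw [mul_assoc, Matrix.mul_adjugate, hd, one_smul, mul_one]
  rw [Matrix.adjugate_fin_two] at e
  have e00 := congrFun (congrFun e 0) 0
  simp only [Matrix.of_apply, Matrix.cons_val', Matrix.cons_val_zero, Matrix.cons_val_one,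
    Matrix.empty_val', Matrix.cons_val_fin_one, Matrix.neg_apply] at e00
  linear_combination e00

/-- The conjugate of a transvection. -/
theorem conj_unipotent {M : Matrix (Fin 2) (Fin 2) K} (hd : M.det = 1) (z : K) :
    M * !![1, z; 0, 1] * Matrix.adjugate M =
      !![1 - z * M 0 0 * M 1 0, z * (M 0 0 * M 0 0); -(z * (M 1 0 * M 1 0)), 1 + z * M 0 0 * M 1 0] := by
  have hd' := hd
  rw [Matrix.det_fin_two] at hd'
  rw [Matrix.adjugate_fin_two, Matrix.eta_fin_two M]
  ext i j
  fin_cases i <;> fin_cases j <;> simp [Matrix.mul_apply, Fin.sum_univ_two] <;>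
    first
      | linear_combination (0 : K)
      | linear_combination hd'
      | linear_combination -hd'

theorem sl2_coe_conj (t u : SL(2, K)) :
    ((t * u * t⁻¹ : SL(2, K)) : Matrix (Fin 2) (Fin 2) K) =
      (t : Matrix (Fin 2) (Fin 2) K) * u * Matrix.adjugate (t : Matrix (Fin 2) (Fin 2) K) := by
  simp [Matrix.SpecialLinearGroup.coe_mul, Matrix.SpecialLinearGroup.coe_inv]

end General

variable {p : ℕ} [hp : Fact p.Prime]

local notation "KK" => AlgebraicClosure (ZMod p)

theorem two_ne_zero_of_ne_two (hp2 : p ≠ 2) : (2 : KK) ≠ 0 := by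
  intro h
  have : ((2 : ℕ) : KK) = 0 := by exact_mod_cast h
  rw [CharP.cast_eq_zero_iff KK p] at this
  exact hp2 ((Nat.prime_dvd_prime_iff_eq hp.out Nat.prime_two).1 this)

/-- In an odd order matrix group containing `u(c)` every element is triangular. -/
theorem lower_eq_zero_of_odd {R : Type*} [Group R] [Finite R] (hR : Odd (Nat.card R))
    (σ : R →* SL(2, KK)) (hσ : Function.Injective σ) {e : R} {c : KK} (hc : c ≠ 0)
    (he : (σ e : Matrix (Fin 2) (Fin 2) KK) = !![1, c; 0, 1]) (r : R) :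
    (σ r : Matrix (Fin 2) (Fin 2) KK) 1 0 = 0 := by
  let τ : R →* Matrix (Fin 2) (Fin 2) KK :=
    { toFun := fun x => (σ x : Matrix (Fin 2) (Fin 2) KK)
      map_one' := by simp
      map_mul' := fun a b => by simp }
  have hτ : Function.Injective τ := fun a b h => hσ (Subtype.ext h)
  have hdvd : p ∣ Nat.card R := by
    have h1 : orderOf e = p := by
      refine orderOf_eq_prime (hτ ?_) fun h => hc ?_
      · rw [map_pow, map_one]
        show (σ e : Matrix (Fin 2) (Fin 2) KK) ^ p = 1
        rw [he, unipotent_pow, CharP.cast_eq_zero, zero_mul, Matrix.one_fin_two]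
      · rw [h, map_one] at he
        simpa using (congrFun (congrFun he 0) 1).symm
    exact h1 ▸ orderOf_dvd_natCard e
  obtain ⟨v, hv, hfix⟩ := PStab.exists_common_eigenvector p hR τ hτ hdvd
  obtain ⟨a, ha⟩ := hfix e
  change (σ e : Matrix (Fin 2) (Fin 2) KK) *ᵥ v = a • v at ha
  rw [he] at ha
  have h0 := congrFun ha 0
  have h1 := congrFun ha 1
  simp [Matrix.mulVec, dotProduct, Fin.sum_univ_two] at h0 h1
  have hv1 : v 1 = 0 := by
    by_contra hne
    have ha1 : a = 1 := mul_right_cancel₀ hne (by linear_combination -h1)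
    rw [ha1] at h0
    have : c * v 1 = 0 := by linear_combination h0
    exact hne ((mul_eq_zero.1 this).resolve_left hc)
  have hv0 : v 0 ≠ 0 := fun h => hv (by ext i; fin_cases i <;> simp [h, hv1])
  obtain ⟨b, hb⟩ := hfix r
  have h2 := congrFun hb 1
  simp [Matrix.mulVec, dotProduct, Fin.sum_univ_two, hv1] at h2
  rcases h2 with h2 | h2
  · exact h2
  · exact absurd h2 hv0

variable {X : Type*} [Group X] [Finite X]

/-- The Sylow `2`-subgroups of a group with a standard pair are not abelian. -/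
theorem StdPair.false_of_abelian_two {ρ : X →* Matrix (Fin 2) (Fin 2) KK} {A B : X} {c : KK}
    (hp2 : p ≠ 2) (h : StdPair ρ A B c)
    (hab : ∀ T : Sylow 2 X, IsMulCommutative (T : Subgroup X)) : False := by
  set φ := toSL2 ρ h.det_eq_one
  have hσ : ∀ x : X, (φ x : Matrix (Fin 2) (Fin 2) KK) = ρ x := fun _ => rfl
  have : Finite φ.range := Finite.of_surjective φ.rangeRestrict φ.rangeRestrict_surjective
  set σ := φ.range.subtype
  have hσi : Function.Injective σ := φ.range.subtype_injective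
  have hnot : ¬ Odd (Nat.card φ.range) := fun ho => by
    have := lower_eq_zero_of_odd ho σ hσi (e := φ.rangeRestrict A) h.ne
      (by show ρ A = _; exact h.mapA) (φ.rangeRestrict B)
    change ρ B 1 0 = 0 at this
    rw [h.mapB] at this
    simp at this
  rw [Nat.not_odd_iff_even] at hnot
  obtain ⟨T₀⟩ : Nonempty (Sylow 2 X) := inferInstance
  let T := T₀.mapSurjective (f := φ.rangeRestrict) φ.rangeRestrict_surjective
  have hcyc : IsCyclic (T : Subgroup φ.range) := by
    refine Solvable.isCyclic_of_unique_of_comm T.2 ?_ ?_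
    · rintro ⟨_, a, ha, rfl⟩ ⟨_, b, hb, rfl⟩
      apply Subtype.ext
      show φ.rangeRestrict a * φ.rangeRestrict b = φ.rangeRestrict b * φ.rangeRestrict a
      have hab' := hab T₀
      rw [← map_mul, ← map_mul,
        show a * b = b * a from congrArg Subtype.val (hab'.is_comm.comm ⟨a, ha⟩ ⟨b, hb⟩)]
    · intro x y hx hy
      have key : ∀ z : (T : Subgroup φ.range), orderOf z = 2 →
          ((z : φ.range) : SL(2, KK)).1 = -1 := by
        intro z hz
        have h2 : z ^ 2 = 1 := orderOf_dvd_iff_pow_eq_one.1 hz.dvd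
        have h2' := congrArg (fun w : (T : Subgroup φ.range) => ((w : φ.range) : SL(2, KK)).1) h2
        simp only [SubmonoidClass.coe_pow, OneMemClass.coe_one,
          Matrix.SpecialLinearGroup.coe_pow, Matrix.SpecialLinearGroup.coe_one] at h2'
        rw [pow_two] at h2'
        rcases sl2_eq_of_sq_eq_one (two_ne_zero_of_ne_two hp2) ((z : φ.range) : SL(2, KK)).2 h2'
          with h1 | h1
        · exfalso
          have : z = 1 := Subtype.ext (Subtype.ext (Subtype.ext h1))
          rw [this, orderOf_one] at hz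
          exact absurd hz (by norm_num)
        · exact h1
      have : x = y := Subtype.ext (Subtype.ext (Subtype.ext ((key x hx).trans (key y hy).symm)))
      exact this ▸ Subgroup.mem_zpowers x
  obtain ⟨ψ, hψ, hodd⟩ := Invol.exists_retraction_of_cyclic_sylow_two T hcyc hnot
  have hord : ∀ x : X, ρ x ^ p = 1 → ψ (φ.rangeRestrict x) = 1 := by
    intro x hx
    refine (hodd _).2 ((hp.out.odd_of_ne_two hp2).of_dvd_nat (orderOf_dvd_of_pow_eq_one ?_))
    exact Subtype.ext (Subtype.ext (by
      show ((φ x : SL(2, KK)) ^ p : SL(2, KK)).1 = 1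
      rw [Matrix.SpecialLinearGroup.coe_pow]
      exact hx))
  have hall : ∀ z, ψ z = 1 := by
    intro z
    obtain ⟨x, rfl⟩ := φ.rangeRestrict_surjective z
    have hle : Subgroup.closure ({A, B} : Set X) ≤ (ψ.comp φ.rangeRestrict).ker := by
      rw [Subgroup.closure_le]
      rintro _ (rfl | rfl)
      · refine hord _ ?_
        rw [h.mapA, unipotent_pow, CharP.cast_eq_zero, zero_mul, Matrix.one_fin_two]
      · refine hord _ ?_
        have e : ∀ m : ℕ, (!![1, 0; 1, 1] : Matrix (Fin 2) (Fin 2) KK) ^ m = !![1, 0; (m : KK), 1] := by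
          intro m
          induction m with
          | zero => simp [Matrix.one_fin_two]
          | succ m ih => rw [pow_succ, ih]; simp
        rw [h.mapB, e, CharP.cast_eq_zero, Matrix.one_fin_two]
    exact hle (h.gen ▸ Subgroup.mem_top x)
  obtain ⟨w, hw⟩ := exists_prime_orderOf_dvd_card' (G := φ.range) 2 hnot.two_dvd
  have := (hodd w).1 (hall w)
  rw [hw] at this
  exact absurd this (by decide)

/-- A surjection from a subgroup onto `SL(2,3)`. -/
def HasSL23 (Y : Type*) [Group Y] : Prop :=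
  ∃ (S : Subgroup Y) (f : S →* SL(2, ZMod 3)), Function.Surjective f

omit [Finite X] in
theorem HasSL23.of_surjective {Y : Type*} [Group Y] (h : HasSL23 Y) {φ : X →* Y}
    (hφ : Function.Surjective φ) : HasSL23 X := by
  obtain ⟨S, f, hf⟩ := h
  refine ⟨S.comap φ, f.comp (φ.subgroupComap S), hf.comp ?_⟩
  rintro ⟨y, hy⟩
  obtain ⟨x, rfl⟩ := hφ y
  exact ⟨⟨x, hy⟩, rfl⟩

omit [Finite X] in
theorem HasSL23.of_subgroup {S : Subgroup X} (h : HasSL23 S) : HasSL23 X := by
  obtain ⟨T, f, hf⟩ := h
  refine ⟨T.map S.subtype, f.comp (T.equivMapOfInjective _ S.subtype_injective).symm.toMonoidHom, ?_⟩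
  exact hf.comp (T.equivMapOfInjective _ S.subtype_injective).symm.surjective

/-- The first standard generator of `SL(2,3)`. -/
def gen₁ : SL(2, ZMod 3) := ⟨!![1, -1; 0, 1], by decide +kernel⟩

/-- The second standard generator of `SL(2,3)`. -/
def gen₂ : SL(2, ZMod 3) := ⟨!![1, 0; 1, 1], by decide +kernel⟩

theorem sl23_word : ∀ M : SL(2, ZMod 3), ∃ i j k l m : Fin 3,
    M = gen₁ ^ (i : ℕ) * gen₂ ^ (j : ℕ) * gen₁ ^ (k : ℕ) * gen₂ ^ (l : ℕ) * gen₁ ^ (m : ℕ) := by
  decide +kernel

variable {Y : Type*} [Group Y] [Finite Y]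

omit [Finite Y] in
/-- Commutation of a triangular element with `u(c)`, given that its commutator with it has order prime to `p`. -/
theorem commute_of_lower_eq_zero (σ : Y →* SL(2, KK)) (hσ : Function.Injective σ) {A t : Y} {c : KK}
    (hA : (σ A : Matrix (Fin 2) (Fin 2) KK) = !![1, c; 0, 1])
    (ht : (σ t : Matrix (Fin 2) (Fin 2) KK) 1 0 = 0) (hcop : (orderOf ⁅A, t⁆).Coprime p) :
    Commute A t := by
  refine commutatorElement_eq_one_iff_mul_comm.1 (orderOf_eq_one_iff.1 ?_)
  refine Nat.eq_one_of_dvd_coprimes hcop dvd_rfl (orderOf_dvd_of_pow_eq_one (hσ (Subtype.ext ?_)))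
  have h1 : ⁅A, t⁆ = A * (t * A⁻¹ * t⁻¹) := by rw [commutatorElement_def]; group
  have h2 : (σ A⁻¹ : Matrix (Fin 2) (Fin 2) KK) = !![1, -c; 0, 1] := by
    rw [map_inv, Matrix.SpecialLinearGroup.coe_inv, hA, Matrix.adjugate_fin_two_of]
    simp
  rw [map_one, Matrix.SpecialLinearGroup.coe_one, map_pow, Matrix.SpecialLinearGroup.coe_pow, h1,
    map_mul, map_mul, map_mul, map_inv σ t, Matrix.SpecialLinearGroup.coe_mul, sl2_coe_conj, h2,
    conj_unipotent (σ t).2, ht, hA]
  have e : (!![1, c; 0, 1] : Matrix (Fin 2) (Fin 2) KK) *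
      !![1 - -c * (σ t).1 0 0 * 0, -c * ((σ t).1 0 0 * (σ t).1 0 0);
        -(-c * (0 * 0)), 1 + -c * (σ t).1 0 0 * 0] =
      !![1, c - c * ((σ t).1 0 0 * (σ t).1 0 0); 0, 1] := by
    simp
    ring
  rw [e, unipotent_pow, CharP.cast_eq_zero, zero_mul, Matrix.one_fin_two]

/-- Two elements with the matrices of `x₀` and `y₀` after a change of basis give a section `SL(2,3)`. -/
theorem hasSL23_of_conj (h3 : p = 3) (σ : Y →* SL(2, KK)) {x y : Y}
    (P : Matrix (Fin 2) (Fin 2) KK) (hP : P.det ≠ 0)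
    (hx : (σ x : Matrix (Fin 2) (Fin 2) KK) * P = P * !![1, -1; 0, 1])
    (hy : (σ y : Matrix (Fin 2) (Fin 2) KK) * P = P * !![1, 0; 1, 1]) : HasSL23 Y := by
  have : CharP KK 3 := h3 ▸ (inferInstance : CharP KK p)
  set ι : ZMod 3 →+* KK := ZMod.castHom dvd_rfl KK
  let Pu : GL (Fin 2) KK := Matrix.GeneralLinearGroup.mkOfDetNeZero P hP
  let Θ : SL(2, ZMod 3) →* SL(2, KK) :=
    { toFun := fun M => ⟨P * (Matrix.SpecialLinearGroup.map ι M : Matrix (Fin 2) (Fin 2) KK) * P⁻¹, by
        rw [Matrix.det_mul, Matrix.det_mul, Matrix.SpecialLinearGroup.det_coe, mul_one,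
          Matrix.det_nonsing_inv, Ring.mul_inverse_cancel _ hP.isUnit]⟩
      map_one' := Subtype.ext (by simp [Matrix.mul_nonsing_inv P hP.isUnit])
      map_mul' := fun M N => Subtype.ext (by
        show P * (Matrix.SpecialLinearGroup.map ι (M * N)).1 * P⁻¹ =
          P * (Matrix.SpecialLinearGroup.map ι M).1 * P⁻¹ * (P * (Matrix.SpecialLinearGroup.map ι N).1 * P⁻¹)
        simp only [map_mul, Matrix.SpecialLinearGroup.coe_mul]
        calc _ = P * (Matrix.SpecialLinearGroup.map ι M).1 * (P⁻¹ * P) *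
              (Matrix.SpecialLinearGroup.map ι N).1 * P⁻¹ := by
              rw [Matrix.nonsing_inv_mul P hP.isUnit]; simp [mul_assoc]
          _ = _ := by simp only [mul_assoc]) }
  have key : ∀ Z : Matrix (Fin 2) (Fin 2) KK, P⁻¹ * (P * Z * P⁻¹) * P = Z := fun Z => by
    calc P⁻¹ * (P * Z * P⁻¹) * P = (P⁻¹ * P) * Z * (P⁻¹ * P) := by simp only [mul_assoc]
      _ = Z := by rw [Matrix.nonsing_inv_mul P hP.isUnit, one_mul, mul_one]
  have hΘv : ∀ M, (Θ M).1 = P * (Matrix.SpecialLinearGroup.map ι M).1 * P⁻¹ := fun _ => rfl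
  have hΘ : Function.Injective Θ := by
    intro M N h
    have h' : (Θ M).1 = (Θ N).1 := by rw [h]
    rw [hΘv, hΘv] at h'
    have h'' := congrArg (fun Z => P⁻¹ * Z * P) h'
    simp only [key] at h''
    ext i j
    exact ι.injective (congrFun (congrFun h'' i) j)
  have hval : ∀ (M : SL(2, ZMod 3)) (N : Matrix (Fin 2) (Fin 2) KK) (z : Y),
      (Matrix.SpecialLinearGroup.map ι M).1 = N → (σ z).1 * P = P * N → Θ M = σ z := by
    intro M N z hM hz
    apply Subtype.ext
    rw [hΘv]
    rw [hM, ← hz, mul_assoc, Matrix.mul_nonsing_inv P hP.isUnit, mul_one]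
  have hrange : Θ.range ≤ σ.range := by
    rintro _ ⟨M, rfl⟩
    obtain ⟨i, j, k, l, m, hM⟩ := sl23_word M
    have ex : Θ gen₁ ∈ σ.range := by
      rw [hval gen₁ _ x ?_ hx]
      · exact ⟨x, rfl⟩
      · ext i j
        show ι ((gen₁ : Matrix (Fin 2) (Fin 2) (ZMod 3)) i j) = _
        fin_cases i <;> fin_cases j <;> simp [gen₁]
    have ey : Θ gen₂ ∈ σ.range := by
      rw [hval gen₂ _ y ?_ hy]
      · exact ⟨y, rfl⟩
      · ext i j
        show ι ((gen₂ : Matrix (Fin 2) (Fin 2) (ZMod 3)) i j) = _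
        fin_cases i <;> fin_cases j <;> simp [gen₂]
    rw [hM, map_mul, map_mul, map_mul, map_mul, map_pow, map_pow, map_pow, map_pow, map_pow]
    exact mul_mem (mul_mem (mul_mem (mul_mem (pow_mem ex _) (pow_mem ey _)) (pow_mem ex _))
      (pow_mem ey _)) (pow_mem ex _)
  refine ⟨Θ.range.comap σ,
    (MonoidHom.ofInjective hΘ).symm.toMonoidHom.comp (σ.subgroupComap Θ.range),
    (MonoidHom.ofInjective hΘ).symm.surjective.comp ?_⟩
  rintro ⟨_, hz⟩
  obtain ⟨w, rfl⟩ := hrange hz
  exact ⟨⟨w, hz⟩, rfl⟩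

/-- A transvection acting non-trivially on a `p'`-group of matrices. -/
theorem eq_three_of_noncentral (hp2 : p ≠ 2) (σ : Y →* SL(2, KK)) (hσ : Function.Injective σ)
    {A : Y} {c : KK} (hc : c ≠ 0) (hA : (σ A : Matrix (Fin 2) (Fin 2) KK) = !![1, c; 0, 1])
    {Q : Subgroup Y} (hAQ : A ∈ Subgroup.normalizer (Q : Set Y)) (hQ : (Nat.card Q).Coprime p)
    (hnc : A ∉ Subgroup.centralizer (Q : Set Y)) : p = 3 ∧ HasSL23 Y := by
  classical
  have hAord : orderOf A = p := by
    refine orderOf_eq_prime (hσ (Subtype.ext ?_)) fun h => ?_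
    · rw [map_pow, map_one, Matrix.SpecialLinearGroup.coe_pow, hA, unipotent_pow, CharP.cast_eq_zero,
        zero_mul, Matrix.SpecialLinearGroup.coe_one, Matrix.one_fin_two]
    · exact hnc (h ▸ one_mem _)
  set Z := Subgroup.zpowers A with hZ
  have hZQ : Z ≤ Subgroup.normalizer (Q : Set Y) := Subgroup.zpowers_le.2 hAQ
  have hcopZ : (Nat.card Z).Coprime (Nat.card Q) := by
    rw [hZ, Nat.card_zpowers, hAord]; exact hQ.symm
  have hZs : Group.IsSolvable Z := inferInstance
  have hcomT : ∀ T : Subgroup Y, T ≤ Q → A ∈ Subgroup.normalizer (T : Set Y) → ∀ t ∈ T,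
      (σ t : Matrix (Fin 2) (Fin 2) KK) 1 0 = 0 → Commute A t := by
    intro T hTQ hAT t ht hlow
    refine commute_of_lower_eq_zero σ hσ hA hlow ?_
    have hmem : ⁅A, t⁆ ∈ Q := hTQ (by
      rw [commutatorElement_def]
      exact mul_mem ((Subgroup.mem_normalizer_iff.1 hAT t).1 ht) (inv_mem ht))
    exact hQ.coprime_dvd_left (Subgroup.orderOf_dvd_natCard _ hmem)
  -- some invariant Sylow subgroup of `Q` is not centralized, and it is a `2`-group
  obtain ⟨T₁, hT₁Q, hT₁p, hT₁A, hT₁nc⟩ : ∃ T : Subgroup Y, T ≤ Q ∧ IsPGroup 2 T ∧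
      A ∈ Subgroup.normalizer (T : Set Y) ∧ A ∉ Subgroup.centralizer (T : Set Y) := by
    by_contra hall
    push Not at hall
    refine hnc ?_
    have hQC : Q ≤ Subgroup.centralizer ({A} : Set Y) := by
      set C := Subgroup.centralizer ({A} : Set Y) ⊓ Q with hC
      have hcard : Nat.card Q ∣ Nat.card C := by
        refine (Nat.dvd_iff_prime_pow_dvd_dvd _ _).2 fun q k hq hqk => ?_
        have : Fact q.Prime := ⟨hq⟩
        obtain ⟨P, hP⟩ := CfsgLib.Solvable.exists_invariant_sylow Z Q hZQ hcopZ (Or.inl hZs) q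
        set T := (P : Subgroup Q).map Q.subtype with hT
        have hAT : A ∈ Subgroup.normalizer (T : Set Y) := hP (Subgroup.mem_zpowers A)
        have hTC : T ≤ Subgroup.centralizer ({A} : Set Y) := by
          intro t ht
          rw [Subgroup.mem_centralizer_singleton_iff]
          rcases eq_or_ne q 2 with rfl | hq2
          · exact (Subgroup.mem_centralizer_iff.1 (hall T (Subgroup.map_subtype_le _) (P.2.map _) hAT) t ht)
          · have hdisj : T ⊓ Z = ⊥ := by
              refine CfsgLib.Solvable.disjoint_of_coprime ?_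
              exact hcopZ.symm.coprime_dvd_left (Subgroup.card_dvd_of_le (Subgroup.map_subtype_le _))
            have hodd : Odd (Nat.card ↥(T ⊔ Z)) := by
              rw [CfsgLib.Solvable.card_sup_of_disjoint (Subgroup.zpowers_le.2 hAT) hdisj]
              refine Nat.odd_mul.2 ⟨?_, ?_⟩
              · obtain ⟨n, hn⟩ := (P.2.map Q.subtype).exists_card_eq
                rw [hn]; exact (hq.odd_of_ne_two hq2).pow
              · rw [Nat.card_zpowers, hAord]; exact hp.out.odd_of_ne_two hp2
            have := lower_eq_zero_of_odd hodd (σ.comp (T ⊔ Z).subtype)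
              (hσ.comp (T ⊔ Z).subtype_injective)
              (e := ⟨A, Subgroup.mem_sup_right (Subgroup.mem_zpowers A)⟩) hc hA
              ⟨t, Subgroup.mem_sup_left ht⟩
            exact (hcomT T (Subgroup.map_subtype_le _) hAT t ht this).symm.eq
        have hle : T ≤ C := le_inf hTC (Subgroup.map_subtype_le _)
        refine dvd_trans ?_ (Subgroup.card_dvd_of_le hle)
        rw [hT, Subgroup.card_map_of_injective Q.subtype_injective]
        exact P.pow_dvd_card_of_pow_dvd_card hqk
      have := Subgroup.eq_of_le_of_card_ge (H := C) (K := Q) inf_le_right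
        (Nat.le_of_dvd Nat.card_pos hcard)
      exact this.ge.trans inf_le_left
    exact Subgroup.mem_centralizer_iff.2 fun q hq =>
      Subgroup.mem_centralizer_singleton_iff.1 (hQC hq)
  obtain ⟨T, ⟨hTQ, hTp, hTA, hTnc⟩, hmin⟩ := Set.exists_min_image
    {T : Subgroup Y | T ≤ Q ∧ IsPGroup 2 T ∧ A ∈ Subgroup.normalizer (T : Set Y) ∧
      A ∉ Subgroup.centralizer (T : Set Y)}
    (fun T => Nat.card T) (Set.toFinite _) ⟨T₁, hT₁Q, hT₁p, hT₁A, hT₁nc⟩
  have h2 := two_ne_zero_of_ne_two (p := p) hp2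
  -- squares are scalar
  have hsq : ∀ s ∈ T, (σ (s * s)).1 = 1 ∨ (σ (s * s)).1 = -1 := by
    intro s hs
    set Φ := (frattini T).map T.subtype with hΦ
    have hΦA : A ∈ Subgroup.normalizer (Φ : Set Y) := by
      refine CfsgLib.Solvable.mem_normalizer_of_conj_mem ?_
      rintro _ ⟨z, hz, rfl⟩
      have hch : (frattini T).map (Subgroup.normalizerMonoidHom T ⟨A, hTA⟩).toMonoidHom = frattini T :=
        Subgroup.characteristic_iff_map_eq.1 inferInstance _
      exact ⟨Subgroup.normalizerMonoidHom T ⟨A, hTA⟩ z, hch.le ⟨z, hz, rfl⟩, rfl⟩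
    have : Nontrivial T := by
      rw [Subgroup.nontrivial_iff_ne_bot]
      intro h
      rw [h] at hTnc
      exact hTnc (Subgroup.mem_centralizer_iff.2 fun q hq => by
        rw [Subgroup.coe_bot, Set.mem_singleton_iff] at hq; rw [hq, one_mul, mul_one])
    have hΦlt : Nat.card Φ < Nat.card T := by
      rw [hΦ, Subgroup.card_map_of_injective T.subtype_injective]
      refine lt_of_le_of_ne (Subgroup.card_le_card_group _) fun h => ?_
      exact PGroup.frattini_ne_top hTp (Subgroup.eq_top_of_card_eq _ h)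
    have hΦC : A ∈ Subgroup.centralizer (Φ : Set Y) := by
      by_contra hne
      have := hmin Φ ⟨(Subgroup.map_subtype_le _).trans hTQ, hTp.to_le (Subgroup.map_subtype_le _),
        hΦA, hne⟩
      omega
    have hmem : s * s ∈ Φ := ⟨⟨s, hs⟩ ^ 2, PGroup.pow_mem_frattini hTp _, by simp [pow_two]⟩
    have hcomm := congrArg (fun z => (σ z).1) (Subgroup.mem_centralizer_iff.1 hΦC _ hmem)
    simp only [map_mul, Matrix.SpecialLinearGroup.coe_mul, hA] at hcomm
    set M := (σ (s * s)).1 with hM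
    have hM' : M = (σ s).1 * (σ s).1 := by rw [hM, map_mul, Matrix.SpecialLinearGroup.coe_mul]
    rw [← hM'] at hcomm
    have e00 := congrFun (congrFun hcomm 0) 0
    have e01 := congrFun (congrFun hcomm 0) 1
    simp [Matrix.mul_apply, Fin.sum_univ_two] at e00 e01
    have hlow : M 1 0 = 0 := by
      rcases e00 with h | h
      · exact absurd h hc
      · exact h
    have hdiag : M 0 0 = M 1 1 := by
      have : c * (M 0 0 - M 1 1) = 0 := by linear_combination e01
      exact sub_eq_zero.1 ((mul_eq_zero.1 this).resolve_left hc)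
    obtain ⟨k, hk⟩ := hTp ⟨s * s, mul_mem hs hs⟩
    have hk' : M ^ 2 ^ k = 1 := by
      have := congrArg (fun z : T => (σ z).1) hk
      simpa [hM] using this
    have hd : M.det = 1 := (σ (s * s)).2
    rw [Matrix.det_fin_two, hlow, mul_zero, sub_zero, ← hdiag] at hd
    have hpow : ∀ n : ℕ, (M ^ n) 0 1 = n * (M 0 0) ^ (n - 1) * M 0 1 ∧ (M ^ n) 1 0 = 0 ∧
        (M ^ n) 0 0 = M 0 0 ^ n ∧ (M ^ n) 1 1 = M 0 0 ^ n := by
      intro n
      induction n with
      | zero => simp
      | succ n ih =>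
        obtain ⟨i1, i2, i3, i4⟩ := ih
        rw [pow_succ]
        refine ⟨?_, ?_, ?_, ?_⟩ <;>
          simp only [Matrix.mul_apply, Fin.sum_univ_two, i1, i2, i3, i4, hlow, ← hdiag]
        · rcases n with _ | n <;> simp [pow_succ] <;> ring
        · ring
        · ring
        · ring
    have hb : M 0 1 = 0 := by
      have := (hpow (2 ^ k)).1
      rw [hk'] at this
      have hne : ((2 ^ k : ℕ) : KK) * M 0 0 ^ (2 ^ k - 1) ≠ 0 := by
        refine mul_ne_zero ?_ (pow_ne_zero _ fun h => by simp [h] at hd)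
        push_cast
        exact pow_ne_zero _ h2
      exact (mul_eq_zero.1 (this.symm.trans (by simp))).resolve_left hne
    rcases mul_self_eq_one_iff.1 hd with ha | ha
    · left; ext i j; fin_cases i <;> fin_cases j <;> simp [hlow, hb, ha, ← hdiag]
    · right; ext i j; fin_cases i <;> fin_cases j <;> simp [hlow, hb, ha, ← hdiag]
  obtain ⟨t, ht, htA⟩ : ∃ t ∈ T, ¬ Commute A t := by
    by_contra h
    push Not at h
    exact hTnc (Subgroup.mem_centralizer_iff.2 fun t ht => (h t ht).symm)
  set r := (σ t).1 1 0 with hr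
  set a := (σ t).1 0 0 with ha
  have hr0 : r ≠ 0 := fun h => htA (hcomT T hTQ hTA t ht h)
  have hpw : ∀ m : ℕ, (σ (A ^ m)).1 = !![1, (m : KK) * c; 0, 1] := fun m => by
    rw [map_pow, Matrix.SpecialLinearGroup.coe_pow, hA, unipotent_pow]
  have hm : ∀ m : ℕ, (m : KK) ≠ 0 → 2 + ((m : KK) * c * r) ^ 2 = 0 := by
    intro m hm0
    set s := A ^ m * t * (A ^ m)⁻¹ * t⁻¹ with hs
    have hsT : s ∈ T := mul_mem ((Subgroup.mem_normalizer_iff.1 (pow_mem hTA m) t).1 ht) (inv_mem ht)
    obtain ⟨h00, h10, h11⟩ : (σ s).1 0 0 = 1 + (m : KK) * c * a * r + ((m : KK) * c * r) ^ 2 ∧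
        (σ s).1 1 0 = (m : KK) * c * (r * r) ∧ (σ s).1 1 1 = 1 - (m : KK) * c * a * r := by
      have h1 : s = A ^ m * (t * (A ^ m)⁻¹ * t⁻¹) := by rw [hs]; group
      have h2' : (σ (A ^ m)⁻¹).1 = !![1, -((m : KK) * c); 0, 1] := by
        rw [map_inv, Matrix.SpecialLinearGroup.coe_inv, hpw, Matrix.adjugate_fin_two_of]
        simp
      rw [h1, map_mul, map_mul, map_mul, map_inv σ t, Matrix.SpecialLinearGroup.coe_mul, sl2_coe_conj,
        h2', conj_unipotent (σ t).2, hpw, ← hr, ← ha]
      refine ⟨?_, ?_, ?_⟩ <;> simp <;> ring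
    have hne : (m : KK) * c * (r * r) ≠ 0 := mul_ne_zero (mul_ne_zero hm0 hc) (mul_ne_zero hr0 hr0)
    have hss : (σ s).1 * (σ s).1 = -1 := by
      rcases hsq s hsT with h | h
      · exfalso
        rw [map_mul, Matrix.SpecialLinearGroup.coe_mul] at h
        rcases sl2_eq_of_sq_eq_one h2 (σ s).2 h with h' | h' <;> rw [h'] at h10 <;>
          exact hne (by simpa using h10.symm)
      · rwa [map_mul, Matrix.SpecialLinearGroup.coe_mul] at h
    have := sl2_trace_eq_zero_of_sq (σ s).2 hss
    rw [h00, h11] at this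
    linear_combination this
  have e1 : 2 + ((1 : KK) * c * r) ^ 2 = 0 := by simpa using hm 1 (by simp)
  have e2 : 2 + ((2 : KK) * c * r) ^ 2 = 0 := by
    simpa using hm 2 (by simpa using h2)
  have h6 : ((6 : ℕ) : KK) = 0 := by push_cast; linear_combination 4 * e1 - e2
  rw [CharP.cast_eq_zero_iff KK p] at h6
  have h3 : p = 3 := by
    have h23 : p ∣ 2 * 3 := h6
    rcases hp.out.dvd_mul.1 h23 with h | h
    · exact absurd ((Nat.prime_dvd_prime_iff_eq hp.out Nat.prime_two).1 h) hp2
    · exact (Nat.prime_dvd_prime_iff_eq hp.out Nat.prime_three).1 h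
  refine ⟨h3, ?_⟩
  have h30 : (3 : KK) = 0 := by
    have : ((3 : ℕ) : KK) = 0 := (CharP.cast_eq_zero_iff KK p 3).2 (h3 ▸ dvd_rfl)
    simpa using this
  refine hasSL23_of_conj h3 σ (x := A) (y := t * A * t⁻¹) !![1, -(c * r * a); 0, -(c * r * r)] ?_ ?_ ?_
  · simp [Matrix.det_fin_two, hc, hr0]
  · rw [hA]
    simp
    linear_combination -e1 + h30
  · rw [map_mul, map_mul, map_inv, sl2_coe_conj, hA, conj_unipotent (σ t).2, ← hr, ← ha]
    simp
    refine ⟨⟨?_, ?_⟩, ?_, ?_⟩ <;> ring

/-- A `p`-soluble group with a standard pair involves `SL(2,3)` and `p = 3`. -/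
theorem StdPair.eq_three_of_isPSolvable {ρ : X →* Matrix (Fin 2) (Fin 2) KK} {A B : X} {c : KK}
    (hp2 : p ≠ 2) (h : StdPair ρ A B c) (hsol : Cfsg.IsPSolvable p X) : p = 3 ∧ HasSL23 X := by
  classical
  set φ := toSL2 ρ h.det_eq_one
  set Y := φ.range
  have : Finite Y := Finite.of_surjective φ.rangeRestrict φ.rangeRestrict_surjective
  set σ := Y.subtype
  have hσi : Function.Injective σ := Y.subtype_injective
  set A' := φ.rangeRestrict A
  set B' := φ.rangeRestrict B
  have hA' : (σ A' : Matrix (Fin 2) (Fin 2) KK) = !![1, c; 0, 1] := h.mapA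
  have hB' : (σ B' : Matrix (Fin 2) (Fin 2) KK) = !![1, 0; 1, 1] := h.mapB
  have hgen : Subgroup.closure ({A', B'} : Set Y) = ⊤ := by
    rw [← Set.image_pair, ← MonoidHom.map_closure, h.gen]
    exact Subgroup.map_top_of_surjective _ φ.rangeRestrict_surjective
  suffices hY : p = 3 ∧ HasSL23 Y from ⟨hY.1, hY.2.of_surjective φ.rangeRestrict_surjective⟩
  set Q := Cfsg.pPrimeCore p Y with hQ
  have hQcop := Cores.coprime_card_pPrimeCore (G := Y) p
  have hmem : ∀ z : Y, z ∈ Subgroup.normalizer (Q : Set Y) := fun z => by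
    rw [Subgroup.normalizer_eq_top]; exact Subgroup.mem_top z
  by_cases hAQ : A' ∈ Subgroup.centralizer (Q : Set Y)
  · by_cases hBQ : B' ∈ Subgroup.centralizer (Q : Set Y)
    · exfalso
      have hcent : ∀ z : Y, z ∈ Subgroup.centralizer (Q : Set Y) := fun z => by
        have : Subgroup.closure ({A', B'} : Set Y) ≤ Subgroup.centralizer (Q : Set Y) := by
          rw [Subgroup.closure_le]; rintro _ (rfl | rfl) <;> assumption
        exact this (hgen ▸ Subgroup.mem_top z)
      -- `O_p(Y) = 1`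
      let τ : Y →* Matrix (Fin 2) (Fin 2) KK :=
        { toFun := fun x => (σ x).1, map_one' := by simp, map_mul' := fun a b => by simp }
      have hPbot : ∀ P : Subgroup Y, P.Normal → IsPGroup p P → P = ⊥ := by
        intro P hPn hPp
        by_contra hne
        obtain ⟨⟨z, hz⟩, hz'⟩ := Subgroup.ne_bot_iff_exists_ne_one.1 hne
        have hz1 : z ≠ 1 := fun e => hz' (Subtype.ext e)
        obtain ⟨v, hv, hfix, huniq⟩ := PStab.exists_fixed_line τ hPp
          ⟨z, hz, fun e => hz1 (hσi (Subtype.ext (by simpa [τ] using e)))⟩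
        have hline : ∀ g : Y, ∃ d : KK, τ g *ᵥ v = d • v := fun g => huniq _ fun t ht => by
          rw [Matrix.mulVec_mulVec, ← map_mul, show t * g = g * (g⁻¹ * t * g) by group, map_mul,
            ← Matrix.mulVec_mulVec, hfix _ (hPn.conj_mem' t ht g)]
        obtain ⟨a, ha⟩ := hline A'
        obtain ⟨b, hb⟩ := hline B'
        change (σ A').1 *ᵥ v = _ at ha
        change (σ B').1 *ᵥ v = _ at hb
        rw [hA'] at ha
        rw [hB'] at hb
        exact PStab.no_plane h.ne hv ha hb
      obtain ⟨P⟩ : Nonempty (Sylow p ↥(Cfsg.pPrimePCore p Y)) := inferInstance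
      set P₀ := (P : Subgroup ↥(Cfsg.pPrimePCore p Y)).map (Cfsg.pPrimePCore p Y).subtype with hP₀
      have hmap := Cores.map_mk'_sylow_pPrimePCore (p := p) P
      have hP₀p : IsPGroup p P₀ := P.2.map _
      have hP₀n : P₀.Normal := by
        refine ⟨fun x hx g => ?_⟩
        have h1 : QuotientGroup.mk' Q (g * x * g⁻¹) ∈ Cfsg.pCore p (Y ⧸ Q) := by
          rw [map_mul, map_mul, map_inv]
          exact (inferInstance : (Cfsg.pCore p (Y ⧸ Q)).Normal).conj_mem _
            (hmap.le (Subgroup.mem_map_of_mem _ hx)) _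
        obtain ⟨y, hy, hye⟩ := hmap.ge h1
        obtain ⟨q, hq, hqe⟩ : ∃ q ∈ Q, y * q = g * x * g⁻¹ := (QuotientGroup.mk'_eq_mk' _).1 hye
        obtain ⟨i, hi⟩ := hP₀p ⟨y, hy⟩
        obtain ⟨j, hj⟩ := hP₀p ⟨x, hx⟩
        have hi' : y ^ p ^ i = 1 := congrArg Subtype.val hi
        have hj' : x ^ p ^ j = 1 := congrArg Subtype.val hj
        have hcm : Commute y q := (Subgroup.mem_centralizer_iff.1 (hcent y) q hq).symm
        have hq1 : q ^ p ^ (i + j) = 1 := by
          have e1 : (y * q) ^ p ^ (i + j) = 1 := by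
            rw [hqe, conj_pow, pow_add, mul_comm, pow_mul, hj', one_pow, mul_one, mul_inv_cancel]
          have e2 : y ^ p ^ (i + j) = 1 := by rw [pow_add, pow_mul, hi', one_pow]
          rwa [hcm.mul_pow, e2, one_mul] at e1
        have : q = 1 := orderOf_eq_one_iff.1 (Nat.eq_one_of_dvd_coprimes
          ((hQcop.coprime_dvd_left (Subgroup.orderOf_dvd_natCard _ hq)).pow_right (i + j))
          dvd_rfl (orderOf_dvd_of_pow_eq_one hq1))
        rw [this, mul_one] at hqe
        exact hqe ▸ hy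
      have hcore : Cfsg.pCore p (Y ⧸ Q) = ⊥ := by
        rw [← hmap, ← hP₀, hPbot P₀ hP₀n hP₀p, Subgroup.map_bot]
      have htop := centralizer_pCore_le_of_isPSolvable
        (isPSolvable_quotient (isPSolvable_of_surjective hsol φ.rangeRestrict_surjective) Q)
        (Cores.pPrimeCore_quotient_self p)
      rw [hcore] at htop
      have hAQ' : QuotientGroup.mk' Q A' = 1 := Subgroup.mem_bot.1 (htop
        (Subgroup.mem_centralizer_iff.2 fun z hz => by
          rw [Subgroup.coe_bot, Set.mem_singleton_iff] at hz; rw [hz, one_mul, mul_one]))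
      have h1 : A' ∈ Q := (QuotientGroup.eq_one_iff _).1 hAQ'
      have h2 : A' ^ p = 1 := hσi (Subtype.ext (by
        rw [map_pow, map_one, Matrix.SpecialLinearGroup.coe_pow, hA', unipotent_pow,
          CharP.cast_eq_zero, zero_mul, Matrix.SpecialLinearGroup.coe_one, Matrix.one_fin_two]))
      have h3 : A' = 1 := orderOf_eq_one_iff.1 (Nat.eq_one_of_dvd_coprimes
        (hQcop.coprime_dvd_left (Subgroup.orderOf_dvd_natCard _ h1)) dvd_rfl
        (orderOf_dvd_of_pow_eq_one h2))
      rw [h3, map_one] at hA'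
      exact h.ne (by simpa using (congrFun (congrFun hA' 0) 1).symm)
    · -- move `B` to upper triangular position
      let w : SL(2, KK) := ⟨!![0, 1; -1, 0], by simp [Matrix.det_fin_two]⟩
      refine eq_three_of_noncentral hp2 ((MulAut.conj w).toMonoidHom.comp σ)
        ((MulAut.conj w).injective.comp hσi) (A := B') (c := (-1 : KK)) (by simp) ?_ (hmem _) hQcop hBQ
      show ((w * σ B' * w⁻¹ : SL(2, KK)) : Matrix (Fin 2) (Fin 2) KK) = _
      rw [sl2_coe_conj, hB']
      simp [w, Matrix.adjugate_fin_two]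
  · exact eq_three_of_noncentral hp2 σ hσi h.ne hA' (hmem _) hQcop hAQ

end CfsgLib.Transfer
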