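import Cfsg.Agent.Lib.Transfer.FixedSpaceAverage
import Cfsg.Agent.Lib.Char.Ito

/-!
A primitive character of a finite solvable group: the `p`-part of its degree is at most the
`p`-part of some class size.
-/

set_option autoImplicit false

namespace CfsgLib.Transfer.PrimDeg

open Finset CfsgLib.Char CfsgLib.CharNormal
open scoped ComplexConjugate commutatorElement

variable {G : Type*} [Group G] [Fintype G]

/-- `A` is abelian of exponent `q` modulo a normal subgroup just below it. -/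
theorem chief_step (hs : Group.IsSolvable G) (M : Subgroup G) [hM : M.Normal] (hne : M ≠ ⊥) :
    ∃ (L : Subgroup G) (q : ℕ), L.Normal ∧ L < M ∧ q.Prime ∧ (∀ a ∈ M, ∀ b ∈ M, ⁅a, b⁆ ∈ L) ∧
      (∀ a ∈ M, a ^ q ∈ L) ∧ ∀ R : Subgroup G, R.Normal → L ≤ R → R ≤ M → R = L ∨ R = M := by
  classical
  obtain ⟨L, ⟨hL, hLM⟩, hmax⟩ := (Set.toFinite {L : Subgroup G | L.Normal ∧ L < M}).exists_maximal
    ⟨⊥, inferInstance, bot_lt_iff_ne_bot.2 hne⟩
  haveI := hL
  have hmid : ∀ R : Subgroup G, R.Normal → L ≤ R → R ≤ M → R = L ∨ R = M := by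
    intro R hR h1 h2
    rcases eq_or_lt_of_le h2 with h | h
    · exact Or.inr h
    · exact Or.inl (le_antisymm (hmax ⟨hR, h⟩ h1) h1)
  have hcomm : ⁅M, M⁆ ≤ L := by
    haveI : (⁅M, M⁆ ⊔ L).Normal := Subgroup.sup_normal _ _
    rcases hmid (⁅M, M⁆ ⊔ L) inferInstance le_sup_right (sup_le (Subgroup.commutator_le_left M M) hLM.le) with h | h
    · exact le_sup_left.trans h.le
    · exfalso
      let π := QuotientGroup.mk' L
      have hπL : L.map π = ⊥ := (Subgroup.map_eq_bot_iff _).2 (QuotientGroup.ker_mk' L).ge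
      have h1 : M.map π = ⁅M.map π, M.map π⁆ := by
        conv_lhs => rw [← h, Subgroup.map_sup, hπL, sup_bot_eq, Subgroup.map_commutator]
      have h2 : ∀ k, M.map π ≤ derivedSeries (G ⧸ L) k := fun k => by
        induction k with
        | zero => simp
        | succ k IH => rw [derivedSeries_succ, h1]; exact Subgroup.commutator_mono IH IH
      haveI := hs
      obtain ⟨k, hk⟩ := (solvable_of_surjective (QuotientGroup.mk'_surjective L)).solvable
      have h3 : M.map π = ⊥ := eq_bot_iff.2 ((h2 k).trans hk.le)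
      exact hLM.not_ge (by simpa [π] using (Subgroup.map_eq_bot_iff _).1 h3)
  have hc : ∀ a ∈ M, ∀ b ∈ M, ⁅a, b⁆ ∈ L := fun a ha b hb => hcomm (Subgroup.commutator_mem_commutator ha hb)
  obtain ⟨q, hq, hqi⟩ : ∃ q : ℕ, q.Prime ∧ q ∣ L.relIndex M := Nat.exists_prime_and_dvd
    (fun h => hLM.not_ge (Subgroup.relIndex_eq_one.1 h))
  haveI : Fact q.Prime := ⟨hq⟩
  obtain ⟨y, hy⟩ := exists_prime_orderOf_dvd_card' (G := ↥M ⧸ L.subgroupOf M) q hqi
  have hmk : ∀ a b : M, (a : ↥M ⧸ L.subgroupOf M) * b = b * a := fun a b => by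
    rw [← QuotientGroup.mk_mul, ← QuotientGroup.mk_mul, QuotientGroup.eq]
    have : ((a * b)⁻¹ * (b * a) : M) = ⁅(b⁻¹ : M), (a⁻¹ : M)⁆ := by
      simp only [commutatorElement_def]; group
    rw [this]
    exact hc _ (M.inv_mem b.2) _ (M.inv_mem a.2)
  let R : Subgroup G :=
    { carrier := {x | x ∈ M ∧ x ^ q ∈ L}
      mul_mem' := fun {a b} ha hb => ⟨M.mul_mem ha.1 hb.1, by
        have h1 : (((⟨a, ha.1⟩ * ⟨b, hb.1⟩ : M) ^ q : M) : ↥M ⧸ L.subgroupOf M) = 1 := by
          rw [QuotientGroup.mk_pow, QuotientGroup.mk_mul,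
            Commute.mul_pow (hmk ⟨a, ha.1⟩ ⟨b, hb.1⟩), ← QuotientGroup.mk_pow, ← QuotientGroup.mk_pow,
            (QuotientGroup.eq_one_iff _).2 (show (⟨a, ha.1⟩ : M) ^ q ∈ L.subgroupOf M from ha.2),
            (QuotientGroup.eq_one_iff _).2 (show (⟨b, hb.1⟩ : M) ^ q ∈ L.subgroupOf M from hb.2), one_mul]
        have h2 := (QuotientGroup.eq_one_iff _).1 h1
        exact h2⟩
      one_mem' := ⟨M.one_mem, by rw [one_pow]; exact L.one_mem⟩
      inv_mem' := fun {a} ha => ⟨M.inv_mem ha.1, by rw [inv_pow]; exact L.inv_mem ha.2⟩ }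
  have hRn : R.Normal := ⟨fun a ha x => ⟨hM.conj_mem a ha.1 x, by rw [conj_pow]; exact hL.conj_mem _ ha.2 x⟩⟩
  obtain ⟨y, rfl⟩ := QuotientGroup.mk_surjective y
  have hyR : (y : G) ∈ R := ⟨y.2, by
    have h1 : ((y ^ q : M) : ↥M ⧸ L.subgroupOf M) = 1 := by rw [QuotientGroup.mk_pow, ← hy, pow_orderOf_eq_one]
    have h2 := (QuotientGroup.eq_one_iff _).1 h1
    exact h2⟩
  rcases hmid R hRn (fun x hx => ⟨hLM.le hx, L.pow_mem hx q⟩) (fun x hx => hx.1) with h | h
  · exfalso
    rw [h] at hyR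
    rw [(QuotientGroup.eq_one_iff y).2 hyR, orderOf_one] at hy
    exact hq.ne_one hy.symm
  · exact ⟨L, q, hL, hLM, hq, hc, fun a ha => (h.ge ha).2, hmid⟩

theorem card_inter_le (M : Subgroup G) [Fintype M] {L : Subgroup G} [Fintype L] (hLM : L ≤ M)
    {θ : M → ℂ} (hθ : Cfsg.IsIrrCharacter M θ) {φ : L → ℂ} (hφ : Cfsg.IsIrrCharacter L φ) {f : ℕ}
    (hres : ∀ l : L, θ ⟨l, hLM l.2⟩ = (f : ℂ) * φ l) : f ^ 2 * Nat.card L ≤ Nat.card M := by
  classical
  have h1 : ∀ {H : Type _} [Group H] [Fintype H] {ψ : H → ℂ}, Cfsg.IsIrrCharacter H ψ →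
      (Nat.card H : ℝ) = ∑ x : H, Complex.normSq (ψ x) := by
    intro H _ _ ψ hψ
    have h2 := card_mul_classInner ψ ψ
    rw [classInner_irr_self hψ, mul_one] at h2
    have h3 : ((Nat.card H : ℝ) : ℂ) = ((∑ x : H, Complex.normSq (ψ x) : ℝ) : ℂ) := by
      push_cast
      rw [h2]
      exact Finset.sum_congr rfl fun x _ => (Complex.mul_conj _).trans rfl
    exact_mod_cast h3
  have h4 : ∑ l : L, Complex.normSq (θ ⟨l, hLM l.2⟩) ≤ ∑ m : M, Complex.normSq (θ m) := by
    rw [← Finset.sum_image (f := fun m : M => Complex.normSq (θ m))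
      (g := fun l : L => (⟨l, hLM l.2⟩ : M))
      (fun a _ b _ h => Subtype.ext (congrArg (fun m : M => (m : G)) h))]
    exact Finset.sum_le_univ_sum_of_nonneg fun m => Complex.normSq_nonneg _
  rw [← h1 hθ] at h4
  simp only [hres, map_mul, Complex.normSq_natCast] at h4
  rw [← Finset.mul_sum, ← h1 hφ, ← sq] at h4
  exact_mod_cast h4

theorem prod_sq_le_of_hom {V : Type*} [AddCommGroup V] [Finite V] (hs : Group.IsSolvable G)
    (ρ : G →* AddMonoid.End V) {p : ℕ} [Fact p.Prime] (hV : ∀ v : V, p • v = 0)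
    (htriv : ¬ ∀ g v, ρ g v = v)
    (hirr : ∀ U : AddSubgroup V, (∀ g : G, ∀ v ∈ U, ρ g v ∈ U) → U = ⊥ ∨ U = ⊤) :
    (∏ g : G, Nat.card (FixAvg.fix ρ ⊤ g)) ^ 2 ≤ Nat.card V ^ Nat.card G := by
  classical
  haveI : Group.IsSolvable (G ⧸ ρ.ker) := by
    haveI := hs
    exact solvable_of_surjective (QuotientGroup.mk'_surjective ρ.ker)
  haveI : Nontrivial (G ⧸ ρ.ker) := by
    refine QuotientGroup.nontrivial_iff.2 fun h => htriv fun g v => ?_
    have : ρ g = 1 := MonoidHom.mem_ker.1 (h.ge (Subgroup.mem_top g))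
    rw [this]; rfl
  let ρ' : G ⧸ ρ.ker →* AddMonoid.End V := QuotientGroup.lift ρ.ker ρ le_rfl
  have hinj : Function.Injective ρ' := by
    intro a b
    obtain ⟨a, rfl⟩ := QuotientGroup.mk_surjective a
    obtain ⟨b, rfl⟩ := QuotientGroup.mk_surjective b
    intro hab
    have h1 : ρ a = ρ b := hab
    rw [QuotientGroup.eq, MonoidHom.mem_ker, map_mul, ← h1, ← map_mul, inv_mul_cancel, map_one]
  have hkey := FixAvg.prod_sq_le ρ' (p := p) inferInstance hV
    hinj
    (fun U hU => hirr U fun g v hv => hU (g : G ⧸ ρ.ker) v hv)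
  have hfibre : ∏ g : G, Nat.card (FixAvg.fix ρ ⊤ g) =
      (∏ x : G ⧸ ρ.ker, Nat.card (FixAvg.fix ρ' ⊤ x)) ^ Nat.card ρ.ker := by
    rw [Fintype.prod_equiv (Subgroup.groupEquivQuotientProdSubgroup (s := ρ.ker))
      (fun g => Nat.card (FixAvg.fix ρ ⊤ g))
      (fun x => Nat.card (FixAvg.fix ρ' ⊤ x.1)) (fun g => ?_),
      Fintype.prod_prod_type, ← Finset.prod_pow]
    · simp [Finset.prod_const, Nat.card_eq_fintype_card]
    · have e : ((Subgroup.groupEquivQuotientProdSubgroup (s := ρ.ker)) g).1 = (g : G ⧸ ρ.ker) := rfl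
      show Nat.card (FixAvg.fix ρ ⊤ g) = Nat.card (FixAvg.fix ρ' ⊤ _)
      rw [e]
      rfl
  have h5 := Nat.pow_le_pow_left hkey (Nat.card ρ.ker)
  rwa [← pow_mul, mul_comm 2, pow_mul, ← hfibre, ← pow_mul,
    ← Subgroup.card_eq_card_quotient_mul_card_subgroup ρ.ker] at h5

/-- The total over the group of the `p`-exponents of centralisers in `M`. -/
noncomputable def total (p : ℕ) (M : Subgroup G) : ℕ :=
  ∑ g : G, (Nat.card ↥(M ⊓ Subgroup.centralizer ({g} : Set G))).factorization p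

set_option maxHeartbeats 800000 in
theorem total_le (p : ℕ) [hp : Fact p.Prime] (hs : Group.IsSolvable G) {χ : G → ℂ}
    (hχ : Cfsg.IsIrrCharacter G χ)
    (hinv : ∀ (M : Subgroup G) (_ : M.Normal) [Fintype M] (θ : M → ℂ), Cfsg.IsIrrCharacter M θ →
      Cfsg.classInner (fun m : M => χ m) θ ≠ 0 →
      ∀ m : M, χ m = Cfsg.classInner (fun m : M => χ m) θ * θ m) :
    ∀ (M : Subgroup G), M.Normal → ∀ [Fintype M] (θ : M → ℂ), Cfsg.IsIrrCharacter M θ →
      Cfsg.classInner (fun m : M => χ m) θ ≠ 0 → ∀ d : ℕ, θ 1 = d →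
      total p M + Nat.card G * d.factorization p ≤ Nat.card G * (Nat.card M).factorization p := by
  classical
  intro M
  induction hk : Nat.card M using Nat.strong_induction_on generalizing M with
  | _ k ih =>
  intro hM _ θ hθ h0 d hd
  subst hk
  rcases eq_or_ne M ⊥ with rfl | hMne
  · have hd1 : θ 1 = 1 := irr_one_eq_one_of_comm (fun a b => Subsingleton.elim _ _) hθ
    have : d = 1 := by exact_mod_cast hd.symm.trans hd1
    subst this
    have h1 : total p (⊥ : Subgroup G) = 0 := Finset.sum_eq_zero fun g _ => by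
      rw [bot_inf_eq, Subgroup.card_bot, Nat.factorization_one]; rfl
    simp [h1]
  haveI := hM
  obtain ⟨L, q, hL, hLM, hq, hc, hexp, hmid⟩ := chief_step hs M hMne
  haveI := hL
  haveI : Fact q.Prime := ⟨hq⟩
  have hlt : Nat.card L < Nat.card M :=
    lt_of_le_of_ne (Subgroup.card_le_of_le hLM.le) fun h => hLM.ne (Subgroup.eq_of_le_of_card_ge hLM.le h.ge)
  letI := Fintype.ofFinite L
  -- the constituent on `L`
  obtain ⟨φ, hφ, hφ0⟩ := exists_constituent (isCharacter_res L (isCharacter_of_isIrr hχ))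
    (fun h => irr_one_ne_zero hχ (by simpa using congrFun h 1))
  obtain ⟨dL, hdL0, hdL⟩ := exists_degree_pos hφ
  have IH := ih _ hlt L rfl hL φ hφ hφ0 dL hdL
  -- the ratio
  have hresχM := hinv M hM θ hθ h0
  have hresχL := hinv L hL φ hφ hφ0
  obtain ⟨f, hf⟩ := classInner_char_nat
    (isCharacter_comp (isCharacter_of_isIrr hθ) (Subgroup.inclusion hLM.le)) (isCharacter_of_isIrr hφ)
  have hres : ∀ l : L, θ ⟨l, hLM.le l.2⟩ = (f : ℂ) * φ l := by
    set eM := Cfsg.classInner (fun m : M => χ m) θ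
    set eL := Cfsg.classInner (fun m : L => χ m) φ
    have h1 : ∀ l : L, θ ⟨l, hLM.le l.2⟩ = eL / eM * φ l := fun l => by
      rw [div_mul_eq_mul_div, eq_div_iff h0, ← hresχL l, mul_comm]
      exact (hresχM ⟨l, hLM.le l.2⟩).symm
    have h2 : Cfsg.classInner (fun x => θ ((Subgroup.inclusion hLM.le) x)) φ = eL / eM := by
      have : (fun x => θ ((Subgroup.inclusion hLM.le) x)) = (eL / eM) • φ := funext fun l => h1 l
      rw [this, classInner_smul_left, classInner_irr_self hφ, mul_one]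
    intro l
    rw [h1 l, ← h2]
    exact congrArg (· * φ l) hf
  have hdf : d = f * dL := by
    have h1 := hres 1
    rw [hdL] at h1
    have h2 : θ 1 = (f : ℂ) * dL := h1
    exact_mod_cast hd.symm.trans h2
  have hf0 : f ≠ 0 := by
    rintro rfl
    rw [zero_mul] at hdf
    subst hdf
    exact irr_one_ne_zero hθ (by simpa using hd)
  have hf2 := card_inter_le M hLM.le hθ hφ hres
  -- the section
  set L' := L.subgroupOf M with hL'
  haveI hL'n : L'.Normal := hL.subgroupOf M
  have hqQ : IsPGroup q (↥M ⧸ L') := by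
    intro z
    obtain ⟨a, rfl⟩ := QuotientGroup.mk_surjective z
    refine ⟨1, ?_⟩
    rw [pow_one, ← QuotientGroup.mk_pow, QuotientGroup.eq_one_iff]
    exact hexp a a.2
  obtain ⟨m, hm⟩ := IsPGroup.iff_card.1 hqQ
  have hcardM : Nat.card M = Nat.card L * q ^ m := by
    rw [← hm, mul_comm, ← Nat.card_congr (Subgroup.subgroupOfEquivOfLe hLM.le).toEquiv]
    exact Subgroup.card_eq_card_quotient_mul_card_subgroup L'
  have hfsq : f ^ 2 ≤ q ^ m := by
    rw [hcardM, mul_comm (Nat.card L)] at hf2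
    exact Nat.le_of_mul_le_mul_right hf2 Nat.card_pos
  have hfdvd : f ∣ q ^ m := by
    letI := Fintype.ofFinite L'
    let eL : L' ≃* L := Subgroup.subgroupOfEquivOfLe hLM.le
    have hφ' : Cfsg.IsIrrCharacter L' (φ ∘ eL) := isIrr_comp_mulEquiv hφ eL
    have h1 : (fun x : L' => θ x) = (f : ℂ) • (φ ∘ eL) := funext fun x => hres (eL x)
    have h2 : Cfsg.classInner (fun x : L' => θ x) (φ ∘ eL) ≠ 0 := by
      rw [h1, classInner_smul_left, classInner_irr_self hφ', mul_one]
      exact_mod_cast hf0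
    obtain ⟨-, h3⟩ := degree_quotient_dvd_index L' hθ hφ' h2 hd (d := dL) (by simpa using hdL)
    rw [hdf, Nat.mul_div_cancel _ hdL0] at h3
    exact hm ▸ h3
  -- the module
  letI : CommGroup (↥M ⧸ L') := { (inferInstance : Group (↥M ⧸ L')) with
    mul_comm := fun a b => by
      obtain ⟨a, rfl⟩ := QuotientGroup.mk_surjective a
      obtain ⟨b, rfl⟩ := QuotientGroup.mk_surjective b
      rw [← QuotientGroup.mk_mul, ← QuotientGroup.mk_mul, QuotientGroup.eq]
      have : ((a * b)⁻¹ * (b * a) : M) = ⁅(b⁻¹ : M), (a⁻¹ : M)⁆ := by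
        simp only [commutatorElement_def]; group
      rw [this]
      exact hc _ (M.inv_mem b.2) _ (M.inv_mem a.2) }
  let act : G → (↥M ⧸ L' →* ↥M ⧸ L') := fun g =>
    QuotientGroup.map L' L' (MulAut.conjNormal g : MulAut M).toMonoidHom fun x hx => by
      simpa [L', Subgroup.mem_subgroupOf, MulAut.conjNormal_apply] using hL.conj_mem _ hx g
  have hact : ∀ (g : G) (x : M), act g (x : ↥M ⧸ L') = ((MulAut.conjNormal g x : M) : ↥M ⧸ L') :=
    fun g x => rfl
  let ρ : G →* AddMonoid.End (Additive (↥M ⧸ L')) :=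
    { toFun := fun g => MonoidHom.toAdditive (act g)
      map_one' := by
        refine DFunLike.ext _ _ fun z => ?_
        obtain ⟨x, hx⟩ := QuotientGroup.mk_surjective (Additive.toMul z)
        show Additive.ofMul (act 1 (Additive.toMul z)) = z
        rw [← hx, hact, map_one, MulAut.one_apply, hx]
        rfl
      map_mul' := fun a b => by
        refine DFunLike.ext _ _ fun z => ?_
        obtain ⟨x, hx⟩ := QuotientGroup.mk_surjective (Additive.toMul z)
        show Additive.ofMul (act (a * b) (Additive.toMul z)) = Additive.ofMul (act a (act b (Additive.toMul z)))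
        rw [← hx, hact, hact, hact, map_mul, MulAut.mul_apply] }
  have hρ : ∀ (g : G) (x : M), ρ g (Additive.ofMul (x : ↥M ⧸ L')) =
      Additive.ofMul ((MulAut.conjNormal g x : M) : ↥M ⧸ L') := fun g x => rfl
  let c : G → ℕ := fun g => (Nat.card (FixAvg.fix ρ ⊤ g)).factorization p
  have hstep : ∀ g : G, (Nat.card ↥(M ⊓ Subgroup.centralizer ({g} : Set G))).factorization p ≤
      (Nat.card ↥(L ⊓ Subgroup.centralizer ({g} : Set G))).factorization p + c g := by
    intro g
    set C := (M ⊓ Subgroup.centralizer ({g} : Set G))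
    let h : C →* ↥M ⧸ L' := (QuotientGroup.mk' L').comp (Subgroup.inclusion (inf_le_left : C ≤ M))
    have hker : Nat.card h.ker = Nat.card ↥(L ⊓ Subgroup.centralizer ({g} : Set G)) := Nat.card_congr
      { toFun := fun x => ⟨x.1.1, (QuotientGroup.eq_one_iff (Subgroup.inclusion (inf_le_left : C ≤ M) x.1)).1 x.2, x.1.2.2⟩
        invFun := fun x => ⟨⟨x, hLM.le x.2.1, x.2.2⟩, (QuotientGroup.eq_one_iff _).2 x.2.1⟩
        left_inv := fun _ => rfl
        right_inv := fun _ => rfl }
    have hsub : ∀ z ∈ h.range, Additive.ofMul z ∈ FixAvg.fix ρ ⊤ g := by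
      rintro _ ⟨x, rfl⟩
      refine ⟨trivial, ?_⟩
      show ρ g (Additive.ofMul ((Subgroup.inclusion (inf_le_left : C ≤ M) x : M) : ↥M ⧸ L')) = _
      rw [hρ]
      congr 2
      refine Subtype.ext ?_
      rw [MulAut.conjNormal_apply]
      have := Subgroup.mem_centralizer_singleton_iff.1 x.2.2
      show g * (x : G) * g⁻¹ = x
      rw [mul_inv_eq_iff_eq_mul]
      exact this.symm
    let Fx : Subgroup (↥M ⧸ L') :=
      { carrier := {z | Additive.ofMul z ∈ FixAvg.fix ρ ⊤ g}
        mul_mem' := fun ha hb => (FixAvg.fix ρ ⊤ g).add_mem ha hb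
        one_mem' := (FixAvg.fix ρ ⊤ g).zero_mem
        inv_mem' := fun ha => (FixAvg.fix ρ ⊤ g).neg_mem ha }
    have hFx : Nat.card Fx = Nat.card (FixAvg.fix ρ ⊤ g) := Nat.card_congr
      { toFun := fun z => ⟨Additive.ofMul z.1, z.2⟩
        invFun := fun z => ⟨Additive.toMul z.1, z.2⟩
        left_inv := fun _ => rfl
        right_inv := fun _ => rfl }
    have hdiv : Nat.card h.range ∣ Nat.card (FixAvg.fix ρ ⊤ g) :=
      hFx ▸ Subgroup.card_dvd_of_le (fun z hz => hsub z hz : h.range ≤ Fx)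
    have hCcard : Nat.card C = Nat.card h.range * Nat.card h.ker := by
      rw [Subgroup.card_eq_card_quotient_mul_card_subgroup h.ker,
        Nat.card_congr (QuotientGroup.quotientKerEquivRange h).toEquiv]
    rw [hCcard, hker, Nat.factorization_mul Nat.card_pos.ne' Nat.card_pos.ne', Finsupp.add_apply, add_comm]
    exact Nat.add_le_add_left ((Nat.factorization_le_iff_dvd Nat.card_pos.ne' Nat.card_pos.ne').2 hdiv p) _
  have htot : total p M ≤ total p L + ∑ g : G, c g := by
    rw [total, total, ← Finset.sum_add_distrib]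
    exact Finset.sum_le_sum fun g _ => hstep g
  have hMfac : (Nat.card M).factorization p = (Nat.card L).factorization p + (q ^ m).factorization p := by
    rw [hcardM, Nat.factorization_mul Nat.card_pos.ne' (pow_ne_zero _ hq.ne_zero), Finsupp.add_apply]
  have hdfac : d.factorization p = f.factorization p + dL.factorization p := by
    rw [hdf, Nat.factorization_mul hf0 hdL0.ne', Finsupp.add_apply]
  suffices hkey : (∑ g : G, c g) + Nat.card G * f.factorization p ≤ Nat.card G * (q ^ m).factorization p by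
    rw [hdfac, hMfac, mul_add, mul_add]
    omega
  have hVcard : Nat.card (Additive (↥M ⧸ L')) = q ^ m := hm
  have hfixdvd : ∀ g, Nat.card (FixAvg.fix ρ ⊤ g) ∣ q ^ m := fun g =>
    hVcard ▸ AddSubgroup.card_addSubgroup_dvd_card _
  have hcle : ∀ g, c g ≤ (q ^ m).factorization p := fun g =>
    (Nat.factorization_le_iff_dvd Nat.card_pos.ne' (pow_ne_zero _ hq.ne_zero)).2 (hfixdvd g) p
  rcases eq_or_ne q p with hqp | hqp
  swap
  · have h1 : (q ^ m).factorization p = 0 := by
      rw [hq.factorization_pow, Finsupp.single_eq_of_ne hqp.symm]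
    have h2 : f.factorization p = 0 := by
      have := (Nat.factorization_le_iff_dvd hf0 (pow_ne_zero _ hq.ne_zero)).2 hfdvd p
      omega
    have h3 : ∑ g : G, c g = 0 := Finset.sum_eq_zero fun g _ => by have := hcle g; omega
    simp [h1, h2, h3]
  subst hqp
  have hqm : (q ^ m).factorization q = m := by rw [hq.factorization_pow, Finsupp.single_eq_same]
  rw [hqm] at hcle ⊢
  obtain ⟨j, hjm, hj⟩ := (Nat.dvd_prime_pow hq).1 hfdvd
  have hfj : f.factorization q = j := by rw [hj, hq.factorization_pow, Finsupp.single_eq_same]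
  have h2j : 2 * j ≤ m := by
    rw [hj, ← pow_mul, mul_comm] at hfsq
    exact (Nat.pow_le_pow_iff_right hq.one_lt).1 hfsq
  rw [hfj]
  -- invariant subgroups of the section
  have hirr : ∀ U : AddSubgroup (Additive (↥M ⧸ L')), (∀ g : G, ∀ v ∈ U, ρ g v ∈ U) → U = ⊥ ∨ U = ⊤ := by
    intro U hU
    let R : Subgroup G :=
      { carrier := {x | ∃ hx : x ∈ M, Additive.ofMul ((⟨x, hx⟩ : M) : ↥M ⧸ L') ∈ U}
        mul_mem' := fun {a b} ⟨ha, ha'⟩ ⟨hb, hb'⟩ => ⟨M.mul_mem ha hb, U.add_mem ha' hb'⟩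
        one_mem' := ⟨M.one_mem, U.zero_mem⟩
        inv_mem' := fun {a} ⟨ha, ha'⟩ => ⟨M.inv_mem ha, U.neg_mem ha'⟩ }
    have hRn : R.Normal := ⟨fun x ⟨hx, hx'⟩ g => ⟨hM.conj_mem x hx g, by
      have := hU g _ hx'
      rw [hρ] at this
      have e : MulAut.conjNormal g (⟨x, hx⟩ : M) = (⟨g * x * g⁻¹, hM.conj_mem x hx g⟩ : M) :=
        Subtype.ext (MulAut.conjNormal_apply g ⟨x, hx⟩)
      rwa [e] at this⟩⟩
    have hLR : L ≤ R := fun x hx => ⟨hLM.le hx, by
      rw [(QuotientGroup.eq_one_iff (⟨x, hLM.le hx⟩ : M)).2 hx]; exact U.zero_mem⟩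
    rcases hmid R hRn hLR (fun x hx => hx.1) with h | h
    · refine Or.inl (eq_bot_iff.2 fun z hz => ?_)
      obtain ⟨x, hx⟩ := QuotientGroup.mk_surjective (Additive.toMul z)
      have h1 : (x : G) ∈ R := ⟨x.2, by rw [Subtype.coe_eta, hx]; exact hz⟩
      rw [h] at h1
      rw [AddSubgroup.mem_bot, ← ofMul_toMul z, ← hx, (QuotientGroup.eq_one_iff x).2 h1]
      rfl
    · refine Or.inr (eq_top_iff.2 fun z _ => ?_)
      obtain ⟨x, hx⟩ := QuotientGroup.mk_surjective (Additive.toMul z)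
      obtain ⟨hxM, h1⟩ := h.ge x.2
      rw [Subtype.coe_eta, hx] at h1
      exact h1
  by_cases htriv : ∀ g v, ρ g v = v
  · -- central
    have hm1 : m ≤ 1 := by
      obtain ⟨z, hz⟩ | hsub := exists_or_forall_not (fun z : Additive (↥M ⧸ L') => z ≠ 0)
      · rcases hirr (AddSubgroup.zmultiples z) (fun g v hv => by rwa [htriv g v]) with h | h
        · exact absurd (AddSubgroup.zmultiples_eq_bot.1 h) hz
        · have h1 : addOrderOf z ∣ q := addOrderOf_dvd_of_nsmul_eq_zero (by
            obtain ⟨x, hx⟩ := QuotientGroup.mk_surjective (Additive.toMul z)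
            rw [← ofMul_toMul z, ← hx, ← ofMul_pow, ← QuotientGroup.mk_pow,
              (QuotientGroup.eq_one_iff (x ^ q)).2 (show ((x ^ q : M) : G) ∈ L from hexp x x.2)]
            rfl)
          rw [← Nat.card_zmultiples, h, AddSubgroup.card_top, hVcard] at h1
          exact (Nat.pow_le_pow_iff_right hq.one_lt).1 ((Nat.le_of_dvd hq.pos h1).trans (pow_one q).ge)
      · haveI : Subsingleton (Additive (↥M ⧸ L')) := ⟨fun a b => by
          rw [not_not.1 (hsub a), not_not.1 (hsub b)]⟩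
        have := Nat.card_eq_one_iff_unique.2 ⟨(inferInstance : Subsingleton (Additive (↥M ⧸ L'))), ⟨0⟩⟩
        rw [hVcard] at this
        have hm0 : m = 0 := by
          rcases Nat.pow_eq_one.1 this with h | h
          · exact absurd h hq.ne_one
          · exact h
        omega
    have hj0 : j = 0 := by omega
    subst hj0
    have := Finset.sum_le_card_nsmul Finset.univ c m fun g _ => hcle g
    rw [Finset.card_univ, ← Nat.card_eq_fintype_card, smul_eq_mul] at this
    simpa using this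
  · -- noncentral: average
    have h5 := prod_sq_le_of_hom (V := Additive (↥M ⧸ L')) hs ρ (p := q) (fun v => by
        obtain ⟨x, hx⟩ := QuotientGroup.mk_surjective (Additive.toMul v)
        rw [← ofMul_toMul v, ← hx, ← ofMul_pow, ← QuotientGroup.mk_pow,
          (QuotientGroup.eq_one_iff (x ^ q)).2 (show ((x ^ q : M) : G) ∈ L from hexp x x.2)]
        rfl) htriv hirr
    rw [hVcard, ← pow_mul] at h5
    have hcg : ∀ g : G, Nat.card (FixAvg.fix ρ ⊤ g) = q ^ c g := fun g => by
      obtain ⟨a, ha, he⟩ := (Nat.dvd_prime_pow hq).1 (hfixdvd g)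
      simp only [c, he, hq.factorization_pow, Finsupp.single_eq_same]
    rw [Finset.prod_congr rfl (fun g _ => hcg g), Finset.prod_pow_eq_pow_sum, ← pow_mul,
      Nat.pow_le_pow_iff_right hq.one_lt] at h5
    have h6 : Nat.card G * (2 * j) ≤ Nat.card G * m := Nat.mul_le_mul_left _ h2j
    rw [mul_comm m] at h5
    rw [mul_left_comm] at h6
    omega

/-- Main statement. -/
theorem exists_class (p : ℕ) [Fact p.Prime] (hs : Group.IsSolvable G) {χ : G → ℂ}
    (hχ : Cfsg.IsIrrCharacter G χ) {d : ℕ} (hd : χ 1 = d)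
    (hinv : ∀ (M : Subgroup G) (_ : M.Normal) [Fintype M] (θ : M → ℂ), Cfsg.IsIrrCharacter M θ →
      Cfsg.classInner (fun m : M => χ m) θ ≠ 0 →
      ∀ m : M, χ m = Cfsg.classInner (fun m : M => χ m) θ * θ m) :
    ∃ g : G, d.factorization p ≤ ((Subgroup.centralizer ({g} : Set G)).index).factorization p := by
  classical
  let e : (⊤ : Subgroup G) ≃* G := Subgroup.topEquiv
  have hθ : Cfsg.IsIrrCharacter (⊤ : Subgroup G) (χ ∘ e) := isIrr_comp_mulEquiv hχ e
  have h1 := total_le p hs hχ hinv ⊤ inferInstance (χ ∘ e) hθ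
    (by rw [show (fun m : (⊤ : Subgroup G) => χ m) = χ ∘ e from rfl, classInner_irr_self hθ]; exact one_ne_zero)
    d (by simpa using hd)
  by_contra hcon
  push Not at hcon
  rw [Subgroup.card_top, total] at h1
  have h2 : ∀ g : G, (Nat.card G).factorization p + 1 ≤
      (Nat.card ↥(⊤ ⊓ Subgroup.centralizer ({g} : Set G))).factorization p + d.factorization p := fun g => by
    rw [top_inf_eq, ← (Subgroup.centralizer ({g} : Set G)).card_mul_index,
      Nat.factorization_mul Nat.card_pos.ne' Subgroup.index_ne_zero_of_finite, Finsupp.add_apply]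
    have := hcon g
    omega
  have h3 := Finset.sum_le_sum (s := Finset.univ) fun g (_ : g ∈ (Finset.univ : Finset G)) => h2 g
  rw [Finset.sum_const, Finset.sum_add_distrib, Finset.sum_const, Finset.card_univ, smul_eq_mul, smul_eq_mul,
    ← Nat.card_eq_fintype_card, mul_add] at h3
  have := Nat.card_pos (α := G)
  omega

end CfsgLib.Transfer.PrimDeg
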