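import Cfsg.Agent.Lib.Transfer.Frobenius
import Cfsg.Agent.Lib.Fusion.Basic
import Cfsg.Agent.Lib.Cores.Basic

/-!
Models from local subgroups: a group realizing a system around a normal centric `p`-subgroup becomes a
model modulo its largest normal subgroup of order prime to `p`.
-/

set_option autoImplicit false

open Cfsg Cfsg.FusionSystem

namespace CfsgLib.Transfer

variable {Ω : Type*} [Group Ω] {T : Subgroup Ω} {p : ℕ} [hp : Fact p.Prime]
  {G : Type*} [Group G] [Finite G]

omit hp [Finite G] in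
/-- An element of a group with normal subgroup of `p`-power index and of order prime to `p` lies in it. -/
theorem mem_of_coprime_orderOf {K : Subgroup G} [K.Normal] {k : ℕ} (hk : K.index = p ^ k) {x : G}
    (hx : (orderOf x).Coprime p) : x ∈ K := by
  refine (QuotientGroup.eq_one_iff x).1 (orderOf_eq_one_iff.1 ?_)
  refine Nat.eq_one_of_dvd_coprimes (hx.pow_right k) (orderOf_map_dvd (QuotientGroup.mk' K) x) ?_
  rw [← hk, Subgroup.index_eq_card]
  exact orderOf_dvd_natCard _

/-- **Reduced models.** -/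
theorem isModel_reduced (hT : IsPGroup p T) {E : FusionSystem T} {P : Subgroup Ω} (hP : P ≤ T)
    (hPc : Cfsg.FusionSystem.centralizerIn T P ≤ P) {j : T →* G} (hj : E.IsRealizedBy j) (TG : Sylow p G)
    (hTG : (TG : Subgroup G) = j.range) (hPn : ((P.subgroupOf T).map j).Normal) :
    E.IsModel p (G ⧸ pPrimeCore p G) ((QuotientGroup.mk' (pPrimeCore p G)).comp j) := by
  classical
  obtain ⟨hji, hreal⟩ := hj
  set K := pPrimeCore p G with hK
  set π := QuotientGroup.mk' K with hπ
  have hπs : Function.Surjective π := QuotientGroup.mk'_surjective K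
  have hKc : (Nat.card K).Coprime p := Cores.coprime_card_pPrimeCore p
  have hdisj : ∀ {x : G}, x ∈ j.range → x ∈ K → x = 1 := by
    rintro _ ⟨t, rfl⟩ hx
    obtain ⟨i, hi⟩ := IsPGroup.iff_orderOf.1 hT t
    exact orderOf_eq_one_iff.1 (Nat.eq_one_of_dvd_coprimes (hKc.pow_right i)
      (Subgroup.orderOf_dvd_natCard _ hx) (hi ▸ orderOf_map_dvd j t))
  have hinj : Function.Injective (π.comp j) := by
    rw [injective_iff_map_eq_one]
    intro t ht
    exact hji ((hdisj ⟨t, rfl⟩ ((QuotientGroup.eq_one_iff _).1 ht)).trans (map_one j).symm)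
  refine ⟨inferInstance, ⟨hinj, fun M hM φ hφ => ⟨fun h => ?_, ?_⟩⟩, ⟨TG.mapSurjective hπs, ?_⟩, ?_⟩
  · obtain ⟨g, hg⟩ := (hreal M hM φ hφ).1 h
    exact ⟨π g, fun x => by
      simp only [MonoidHom.comp_apply, hg x, map_mul, map_inv]⟩
  · rintro ⟨gb, hgb⟩
    obtain ⟨g, rfl⟩ := hπs gb
    set ψ : M →* G := j.comp (φ.codRestrict T hφ) with hψ
    set A : Subgroup G := ψ.range with hA
    set W : Subgroup G := K ⊔ A with hW
    let c : M →* G := (MulAut.conj g).toMonoidHom.comp (j.comp (Subgroup.inclusion hM))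
    have hcW : ∀ x : M, ψ x * (c x)⁻¹ ∈ K := fun x => by
      refine (QuotientGroup.eq_one_iff _).1 ?_
      show π (ψ x * (c x)⁻¹) = 1
      rw [map_mul, map_inv, mul_inv_eq_one]
      refine (hgb x).trans ?_
      simp [c]
      rfl
    have hcmem : ∀ x : M, c x ∈ W := fun x => by
      have h := W.mul_mem (W.inv_mem ((le_sup_left : K ≤ W) (hcW x))) ((le_sup_right : A ≤ W) ⟨x, rfl⟩)
      simpa [mul_assoc] using h
    have hAp : IsPGroup p A := (hT.to_le hM).of_surjective ψ.rangeRestrict ψ.rangeRestrict_surjective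
    have hAr : A ≤ j.range := by
      rintro _ ⟨x, rfl⟩
      exact ⟨_, rfl⟩
    let SA : Sylow p W :=
      { toSubgroup := A.subgroupOf W
        isPGroup' := hAp.comap_of_injective W.subtype W.subtype_injective
        is_maximal' := fun {Q} hQ hAQ => le_antisymm (fun q hq => by
          obtain ⟨k, hk, a, ha, hka⟩ := Subgroup.mem_sup_of_normal_left.1 q.2
          let a' : W := ⟨a, (le_sup_right : A ≤ W) ha⟩
          have hkQ : q * a'⁻¹ ∈ Q := mul_mem hq (inv_mem (hAQ ha))
          have hk1 : k = 1 := by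
            obtain ⟨i, hi⟩ := IsPGroup.iff_orderOf.1 hQ ⟨_, hkQ⟩
            rw [Subgroup.orderOf_mk, ← Subgroup.orderOf_coe,
              show ((q * a'⁻¹ : W) : G) = k by simp [a', ← hka]] at hi
            exact orderOf_eq_one_iff.1 (Nat.eq_one_of_dvd_coprimes (hKc.pow_right i)
              (Subgroup.orderOf_dvd_natCard _ hk) hi.dvd)
          rw [hk1, one_mul] at hka
          show (q : G) ∈ A
          rw [← hka]
          exact ha) hAQ }
    have hcp : IsPGroup p (c.codRestrict W hcmem).range :=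
      (hT.to_le hM).of_surjective _ (MonoidHom.rangeRestrict_surjective _)
    obtain ⟨SB, hSB⟩ := hcp.exists_le_sylow
    obtain ⟨w, hw⟩ := MulAction.exists_smul_eq W SB SA
    obtain ⟨k, hk, a, ha, hka⟩ := Subgroup.mem_sup_of_normal_left.1 w.2
    have hconj : ∀ x : M, (w : G) * c x * (w : G)⁻¹ ∈ A := fun x => by
      have h1 : w * (c.codRestrict W hcmem x) * w⁻¹ ∈ ((w • SB : Sylow p W) : Subgroup W) := by
        rw [Sylow.coe_subgroup_smul]
        exact Subgroup.smul_mem_pointwise_smul _ (MulAut.conj w) _ (hSB ⟨x, rfl⟩)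
      rw [hw] at h1
      exact h1
    -- replace `a * k'` by an element of `K`
    set k' := a⁻¹ * k * a with hk'
    have hk'K : k' ∈ K := by
      have h := (inferInstance : K.Normal).conj_mem k hk a⁻¹
      rwa [inv_inv] at h
    refine (hreal M hM φ hφ).2 ⟨k' * g, fun x => ?_⟩
    have hin : k' * c x * k'⁻¹ ∈ A := by
      have h1 := mul_mem (mul_mem (inv_mem ha) (hconj x)) ha
      rw [← hka] at h1
      convert h1 using 1
      rw [hk']; group
    have h2 : ψ x * (k' * c x * k'⁻¹)⁻¹ ∈ K := by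
      have h3 : π (k' * c x * k'⁻¹) = π (ψ x) := by
        rw [map_mul, map_mul, map_inv, show π k' = 1 from (QuotientGroup.eq_one_iff _).2 hk'K, one_mul,
          inv_one, mul_one]
        exact (mul_inv_eq_one.1 (by
          rw [← map_inv, ← map_mul]; exact (QuotientGroup.eq_one_iff _).2 (hcW x) :
            π (ψ x) * (π (c x))⁻¹ = 1)).symm
      refine (QuotientGroup.eq_one_iff _).1 ?_
      show π _ = 1
      rw [map_mul, map_inv, h3, mul_inv_cancel]
    have h4 : ψ x = k' * c x * k'⁻¹ :=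
      mul_inv_eq_one.1 (hdisj (hAr (mul_mem ⟨x, rfl⟩ (inv_mem hin))) h2)
    refine h4.trans ?_
    simp only [c, MonoidHom.comp_apply, MulEquiv.coe_toMonoidHom, MulAut.conj_apply]
    group
    rfl
  · rw [Sylow.coe_mapSurjective, hTG]
    exact (MonoidHom.range_comp _ _).symm
  · set Q : Subgroup G := (P.subgroupOf T).map j with hQdef
    set C := Subgroup.centralizer (Q : Set G) with hC
    have hQp : IsPGroup p Q := (hT.to_subgroup _).map j
    have hQK : ∀ x : G, π x ∈ Subgroup.centralizer ((Q.map π : Subgroup (G ⧸ K)) : Set (G ⧸ K)) →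
        x ∈ C := by
      intro x hx
      refine Subgroup.mem_centralizer_iff.2 fun y hy => ?_
      have h1 : y * (x * y⁻¹ * x⁻¹) ∈ K := by
        refine (QuotientGroup.eq_one_iff _).1 ?_
        show π (y * (x * y⁻¹ * x⁻¹)) = 1
        rw [map_mul, map_mul, map_mul, map_inv, map_inv,
          ← Subgroup.mem_centralizer_iff.1 hx _ ⟨y⁻¹, inv_mem hy, map_inv π y⟩]
        group
      have h2 : y * (x * y⁻¹ * x⁻¹) ∈ Q := mul_mem hy (hPn.conj_mem _ (inv_mem hy) x)
      have h3 := hdisj (Subgroup.map_le_range _ _ h2) h1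
      calc y * x = y * (x * y⁻¹ * x⁻¹) * (x * y) := by group
        _ = x * y := by rw [h3, one_mul]
    -- `C` has a normal `p`-complement
    have hCn : C.Normal := by
      have := hPn
      infer_instance
    have hfrob : CfsgLib.Transfer.FrobeniusCond p C := by
      intro R hR g _ _
      refine Subgroup.mem_centralizer_iff.2 fun r hr => Subtype.ext ?_
      show (r : G) * g = g * r
      obtain ⟨SR, hSR⟩ := (hR.map C.subtype).exists_le_sylow
      obtain ⟨w, hw⟩ := MulAction.exists_smul_eq G SR TG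
      have hrr : w * (r : G) * w⁻¹ ∈ j.range := by
        rw [← hTG, ← hw, Sylow.coe_subgroup_smul]
        exact Subgroup.smul_mem_pointwise_smul _ (MulAut.conj w) _ (hSR ⟨r, hr, rfl⟩)
      obtain ⟨t, ht⟩ := hrr
      have htC : j t ∈ C := ht ▸ hCn.conj_mem _ r.2 w
      have htP : (t : Ω) ∈ P := hPc ⟨t.2, fun y hy => congrArg Subtype.val (hji (by
        rw [map_mul, map_mul]
        exact Subgroup.mem_centralizer_iff.1 htC _ ⟨⟨y, hP hy⟩, hy, rfl⟩ :
          j (⟨y, hP hy⟩ * t) = j (t * ⟨y, hP hy⟩)))⟩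
      have hrQ : (r : G) ∈ Q := by
        have h := hPn.conj_mem (j t) ⟨t, htP, rfl⟩ w⁻¹
        rw [ht] at h
        convert h using 1
        group
      exact Subgroup.mem_centralizer_iff.1 g.2 _ hrQ
    obtain ⟨N, hN, hNc, k, hk⟩ := CfsgLib.Transfer.hasNormalPComplement_iff.1
      (CfsgLib.Transfer.hasNormalPComplement_of_frobeniusCond hfrob)
    have hNle : N.map C.subtype ≤ K := by
      have : (N.map C.subtype).Normal := ⟨fun x hx g => by
        obtain ⟨y, hy, rfl⟩ := hx
        refine ⟨⟨g * y * g⁻¹, hCn.conj_mem _ y.2 g⟩, mem_of_coprime_orderOf hk ?_, rfl⟩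
        rw [← Subgroup.orderOf_coe]
        show (orderOf (g * (y : G) * g⁻¹)).Coprime p
        rw [← MulAut.conj_apply, MulEquiv.orderOf_eq, Subgroup.orderOf_coe]
        exact hNc.coprime_dvd_left (Subgroup.orderOf_dvd_natCard _ hy)⟩
      refine Cores.le_pPrimeCore ?_
      rwa [Subgroup.card_map_of_injective C.subtype_injective]
    have hCp : IsPGroup p (C.map π) := by
      rintro ⟨_, x, hx, rfl⟩
      refine ⟨k, Subtype.ext ?_⟩
      rw [SubgroupClass.coe_pow, OneMemClass.coe_one, ← map_pow]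
      refine (QuotientGroup.eq_one_iff _).2 (hNle ⟨⟨x, hx⟩ ^ p ^ k, ?_, rfl⟩)
      rw [← hk]
      exact Subgroup.pow_index_mem N _
    intro z hz
    obtain ⟨x, rfl⟩ := hπs z
    have : (C.map π).Normal := hCn.map π hπs
    have : (Q.map π).Normal := hPn.map π hπs
    refine Cores.le_pCore hCp ⟨x, hQK x ?_, rfl⟩
    exact fun t ht => hz t (Cores.le_pCore (hQp.map π) ht)

end CfsgLib.Transfer
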