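import Cfsg.Agent.Lib.PStab.Replacement

/-!
The replacement property of families of abelian subgroups of largest order.
-/

namespace CfsgLib.Transfer

open Subgroup
open scoped commutatorElement

variable {S : Type*} [Group S] [Finite S] {p : ℕ} [Fact p.Prime]

/-- A family of abelian subgroups of a normal subgroup `D`, closed under replacement, has a member
containing `[B,B]`, not `B`, normalized by `B`. -/
theorem exists_normalized_of_replacement (hS : IsPGroup p S) (hp : p ≠ 2) (D : Subgroup S) [D.Normal]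
    (B : Subgroup S) [B.Normal] (F : Set (Subgroup S))
    (hFc : ∀ A ∈ F, A ≤ D ∧ IsMulCommutative A)
    (hFr : ∀ A ∈ F, ∀ b, PStab.ReplaceData A B b → PStab.replaced A b ≤ D → PStab.replaced A b ∈ F)
    (h : ∃ U ∈ F, ⁅B, B⁆ ≤ U ∧ ¬ B ≤ U) :
    ∃ A ∈ F, ⁅B, B⁆ ≤ A ∧ ¬ B ≤ A ∧ B ≤ normalizer (A : Set S) := by
  classical
  obtain ⟨U, hU, hU1, hU2⟩ := h
  obtain ⟨A, ⟨hA, hA1, hA2⟩, hmax⟩ := Set.exists_max_image
    {A : Subgroup S | A ∈ F ∧ ⁅B, B⁆ ≤ A ∧ ¬ B ≤ A}
    (fun A => Nat.card ↥(A ⊓ B)) (Set.toFinite _) ⟨U, hU, hU1, hU2⟩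
  refine ⟨A, hA, hA1, hA2, ?_⟩
  by_contra hnot
  set X := normalizer (A : Set S) with hX
  have := hS.isNilpotent
  have hlt : X.subgroupOf (X ⊔ B) < ⊤ := by
    rw [lt_top_iff_ne_top, Ne, subgroupOf_eq_top]
    exact fun h => hnot (le_sup_right.trans h)
  obtain ⟨g, hg, hgX⟩ := SetLike.exists_of_lt
    (Group.normalizerCondition_of_isNilpotent (G := ↥(X ⊔ B)) _ hlt)
  obtain ⟨x, hx, b, hb, hxb⟩ : ∃ x ∈ X, ∃ b ∈ B, x * b = (g : S) := by
    have := g.2
    rw [← SetLike.mem_coe, mul_normal] at this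
    obtain ⟨x, hx, b, hb, h⟩ := this
    exact ⟨x, hx, b, hb, h⟩
  have hgn : (g : S) ∈ normalizer (X : Set S) := by
    refine Solvable.mem_normalizer_of_conj_mem fun y hy => ?_
    exact mem_subgroupOf.1 ((mem_normalizer_iff.1 hg ⟨y, mem_sup_left hy⟩).1 (mem_subgroupOf.2 hy))
  have hbN : b ∈ normalizer (X : Set S) := by
    have : b = x⁻¹ * g := by rw [← hxb]; group
    rw [this]
    exact mul_mem (inv_mem (le_normalizer hx)) hgn
  have hbA : b ∉ X := fun h => hgX (mem_subgroupOf.2 (hxb ▸ mul_mem hx h))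
  obtain ⟨hAD, hAc⟩ := hFc A hA
  have hd : PStab.ReplaceData A B b :=
    { comm := hAc
      derived := hA1
      normB := by rw [normalizer_eq_top B]; exact le_top
      memB := hb
      conj := fun a ha => (mem_normalizer_iff''.1 hbN a).1 (le_normalizer ha)
      conj' := fun a ha => (mem_normalizer_iff.1 hbN a).1 (le_normalizer ha)
      twist := by
        obtain ⟨k, hk⟩ := IsPGroup.iff_orderOf.1 hS b
        exact Or.inr (hk ▸ ((Fact.out : p.Prime).odd_of_ne_two hp).pow) }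
  have hRD : PStab.replaced A b ≤ D := by
    refine sup_le (inf_le_left.trans hAD) ((closure_le D).2 ?_)
    rintro _ ⟨a, ha, rfl⟩
    have h1 : b⁻¹ * a⁻¹ * b ∈ D := (inferInstance : D.Normal).conj_mem' _ (inv_mem (hAD ha)) b
    have := mul_mem (hAD ha) h1
    simpa [mul_assoc] using this
  have hlt' := hd.inf_lt_replaced_inf hbA
  have hRB : ¬ B ≤ PStab.replaced A b := fun h => hnot (h.trans hd.replaced_le_normalizer)
  have := hmax _ ⟨hFr A hA b hd hRD, hd.derived_le_replaced, hRB⟩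
  exact hlt'.ne (eq_of_le_of_card_ge hlt'.le this)

end CfsgLib.Transfer
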