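import Cfsg.Agent.Lib.Fusion.FunctorMaps
import Cfsg.Agent.Lib.Fusion.ModelExists
import Cfsg.Agent.Lib.Fusion.ModelUnique
import Cfsg.Agent.Lib.Fusion.ModelConstrained
import Cfsg.Agent.Lib.Transfer.FusionInner
import Cfsg.Prelude.Def_FusionReduction

/-!
Models of normalizer systems inside models: if `P` and `Q` lie in the centric subgroup `P₁`, the model of
the normalizer of `P` in `N_F(Q)` is a subgroup of the model of the normalizer of a conjugate of `P₁`.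
-/

set_option autoImplicit false

open Cfsg Cfsg.FusionSystem

namespace CfsgLib.Transfer

open CfsgLib.Fusion

universe u

variable {Ω : Type u} [Group Ω] {S : Subgroup Ω} {F : FusionSystem S} {p : ℕ}

/-- The embedding of a normalizer in the model at a conjugate subgroup. -/
def transportHom {P₁ P'' : Subgroup Ω} {L : Type*} [Group L] (ι : normalizerIn S P'' →* L)
    (χ : normalizerIn S P₁ →* Ω) (hχN : ∀ x, χ x ∈ normalizerIn S P'') : normalizerIn S P₁ →* L :=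
  ι.comp (χ.codRestrict _ hχN)

theorem transportHom_apply {P₁ P'' : Subgroup Ω} {L : Type*} [Group L] (ι : normalizerIn S P'' →* L)
    (χ : normalizerIn S P₁ →* Ω) (hχN : ∀ x, χ x ∈ normalizerIn S P'') (x : normalizerIn S P₁) :
    transportHom ι χ hχN x = ι ⟨χ x, hχN x⟩ := rfl

section Transport

variable {P₁ P'' : Subgroup Ω} {hP'' : P'' ≤ S} {L : Type*} [Group L] {ι : normalizerIn S P'' →* L}
  {χ : normalizerIn S P₁ →* Ω} {hχN : ∀ x, χ x ∈ normalizerIn S P''}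

theorem transportHom_injective (hι : Function.Injective ι) (hχ : χ ∈ F.Hom (normalizerIn S P₁)) :
    Function.Injective (transportHom ι χ hχN) := fun _ _ h =>
  F.injective_of_mem hχ (congrArg Subtype.val (hι h))

theorem map_transportHom (_hP₁ : P₁ ≤ S) (hχP : img χ P₁ = P'') :
    (P₁.subgroupOf (normalizerIn S P₁)).map (transportHom ι χ hχN) =
      (P''.subgroupOf (normalizerIn S P'')).map ι := by
  ext y
  constructor
  · rintro ⟨x, hx, rfl⟩
    exact ⟨⟨χ x, hχN x⟩, hχP.le (apply_mem_img χ hx), rfl⟩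
  · rintro ⟨z, hz, rfl⟩
    obtain ⟨x, hx, hxz⟩ := mem_img.1 (hχP.ge hz)
    exact ⟨x, hx, congrArg ι (Subtype.ext hxz)⟩

variable [Finite S] [Fact p.Prime]

omit [Finite S] [Fact p.Prime] in
/-- An element of the model gives a map of the system on a subgroup it carries into the image. -/
theorem exists_map_of_transport (_hP₁ : P₁ ≤ S)
    (hM : (normSys F P'' (rfl : normalizerIn S P'' = _) hP'').IsModel p L ι)
    (hχ : χ ∈ F.Hom (normalizerIn S P₁)) {W : Subgroup Ω} (hWN : W ≤ normalizerIn S P₁) {g : L}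
    (hg : ∀ x : W, g * transportHom ι χ hχN ⟨x, hWN x.2⟩ * g⁻¹ ∈ (transportHom ι χ hχN).range) :
    ∃ ψ ∈ F.Hom W, ∃ hψN : ∀ x, ψ x ∈ normalizerIn S P₁, ∀ x : W,
      transportHom ι χ hχN ⟨ψ x, hψN x⟩ = g * transportHom ι χ hχN ⟨x, hWN x.2⟩ * g⁻¹ := by
  obtain ⟨hinj, hreal⟩ := hM.2.1
  have hW' : img χ W ≤ normalizerIn S P'' := by
    intro y hy
    obtain ⟨x, -, rfl⟩ := mem_img.1 hy
    exact hχN x
  obtain ⟨eW, heW, heWe⟩ : ∃ f : W ≃* img χ W, IsIso F f ∧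
      ∀ x : W, (f x : Ω) = χ (Subgroup.inclusion hWN x) :=
    exists_iso_of_range (res_mem F hχ hWN) (range_comp_inclusion χ hWN)
  set k := transportHom ι χ hχN with hk
  have heq : ∀ x : W, ι ⟨(eW x : Ω), hW' (eW x).2⟩ = k ⟨x, hWN x.2⟩ := fun x =>
    congrArg ι (Subtype.ext (heWe x))
  obtain ⟨θ, hθ, hθS, hθe⟩ := exists_map_of_conj hM.2.1 hW' (g := g) fun y => by
    obtain ⟨x, rfl⟩ := eW.surjective y
    obtain ⟨s, hs⟩ := hg x
    rw [heq]
    exact ⟨⟨χ s, hχN s⟩, hs⟩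
  obtain ⟨e, he, hee⟩ := exists_iso_of_mem hχ
  have hθr : ∀ x : W, θ (eW x) ∈ χ.range := fun x => by
    obtain ⟨s, hs⟩ := hg x
    refine ⟨s, congrArg Subtype.val (hinj (a₁ := ⟨χ s, hχN s⟩) (a₂ := ⟨θ (eW x), hθS _⟩) ?_)⟩
    rw [hθe, heq]
    exact hs
  let ψ₀ : W →* normalizerIn S P₁ :=
    e.symm.toMonoidHom.comp ((θ.comp eW.toMonoidHom).codRestrict χ.range hθr)
  have hψ₀ : (normalizerIn S P₁).subtype.comp ψ₀ ∈ F.Hom W := by
    have h1 : θ.comp eW.toMonoidHom ∈ F.Hom W := F.comp_mem heW hθ.1 fun x => (eW x).2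
    exact F.comp_mem h1 he.symm hθr
  refine ⟨_, hψ₀, fun x => (ψ₀ x).2, fun x => ?_⟩
  have h1 : χ (ψ₀ x) = θ (eW x) := by
    rw [← hee]
    exact congrArg Subtype.val (e.apply_symm_apply ⟨θ (eW x), hθr _⟩)
  calc k ⟨(ψ₀ x : Ω), (ψ₀ x).2⟩ = ι ⟨θ (eW x), hθS _⟩ := congrArg ι (Subtype.ext h1)
    _ = _ := by rw [hθe, heq]

omit [Fact p.Prime] in
/-- A map stabilising `P₁` is realized by an element of the model. -/
theorem exists_conj_of_map (hM : (normSys F P'' (rfl : normalizerIn S P'' = _) hP'').IsModel p L ι)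
    (hχ : χ ∈ F.Hom (normalizerIn S P₁)) (hχP : img χ P₁ = P'') {W : Subgroup Ω}
    (hWN : W ≤ normalizerIn S P₁) (hPW : P₁ ≤ W) {ψ : W →* Ω} (hψ : ψ ∈ F.Hom W)
    (hψP : img ψ P₁ = P₁) (hψN : ∀ x, ψ x ∈ normalizerIn S P₁) :
    ∃ g : L, ∀ x : W,
      transportHom ι χ hχN ⟨ψ x, hψN x⟩ = g * transportHom ι χ hχN ⟨x, hWN x.2⟩ * g⁻¹ := by
  obtain ⟨hinj, hreal⟩ := hM.2.1
  have hW' : img χ W ≤ normalizerIn S P'' := by
    intro y hy
    obtain ⟨x, -, rfl⟩ := mem_img.1 hy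
    exact hχN x
  obtain ⟨eW, heW, heWe⟩ : ∃ f : W ≃* img χ W, IsIso F f ∧
      ∀ x : W, (f x : Ω) = χ (Subgroup.inclusion hWN x) :=
    exists_iso_of_range (res_mem F hχ hWN) (range_comp_inclusion χ hWN)
  obtain ⟨θ, hθ, hθe⟩ : ∃ θ ∈ F.Hom (img χ W), ∀ x : W, θ (eW x) = χ ⟨ψ x, hψN x⟩ := by
    refine ⟨(χ.comp (ψ.codRestrict _ hψN)).comp eW.symm.toMonoidHom, ?_, fun x => ?_⟩
    · have h1 : χ.comp (ψ.codRestrict _ hψN) ∈ F.Hom W := F.comp_mem hψ hχ hψN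
      exact F.comp_mem heW.symm h1 fun x => (eW.symm x).2
    · simp
  have hP''W : P'' ≤ img χ W := hχP ▸ img_mono χ hPW
  have hθP : ∀ y : img χ W, (y : Ω) ∈ P'' → θ y ∈ P'' := by
    intro y hy
    obtain ⟨x, rfl⟩ := eW.surjective y
    rw [hθe]
    rw [heWe] at hy
    obtain ⟨z, hz, hzx⟩ := mem_img.1 (hχP.ge hy)
    have hx : (x : Ω) ∈ P₁ := by rwa [F.injective_of_mem hχ hzx] at hz
    exact hχP.le (apply_mem_img χ (x := ⟨ψ x, hψN x⟩) (hψP.le (apply_mem_img ψ hx)))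
  have hθN : ∀ y, θ y ∈ normalizerIn S P'' := fun y => by
    obtain ⟨x, rfl⟩ := eW.surjective y
    rw [hθe]
    exact hχN _
  obtain ⟨g, hg⟩ := (hreal _ hW' θ hθN).1 (mem_normalizerHom_of_img hθ le_rfl hP''W
    (img_eq_of_apply_mem (F.injective_of_mem hθ) hP''W hP'' hθP) (fun _ => rfl) hW' hθN)
  refine ⟨g, fun x => ?_⟩
  rw [transportHom_apply, transportHom_apply]
  calc ι ⟨χ ⟨ψ x, hψN x⟩, hχN _⟩ = ι ⟨θ (eW x), hθN _⟩ := congrArg ι (Subtype.ext (hθe x).symm)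
    _ = g * ι ⟨(eW x : Ω), hW' (eW x).2⟩ * g⁻¹ := hg _
    _ = _ := by
      rw [show (⟨(eW x : Ω), hW' (eW x).2⟩ : normalizerIn S P'') = ⟨χ ⟨x, hWN x.2⟩, hχN _⟩
        from Subtype.ext (heWe x)]

end Transport

variable [Finite S] [hp : Fact p.Prime]

/-- **Models of normalizers inside models.** -/
theorem exists_submodel (hS : IsPGroup p S) (hF : F.IsSaturated p) {Q T : Subgroup Ω}
    (hT : T = normalizerIn S Q) (hQ : Q ≤ S) (hQn : F.IsFullyNormalized Q) {P T₁ P₁ : Subgroup Ω}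
    (hT₁ : T₁ = normalizerIn T P) (hPT : P ≤ T) (hPc : (normSys F Q hT hQ).IsCentric P)
    (hPn : (normSys F Q hT hQ).IsFullyNormalized P) (hQ₁ : Q ≤ P₁) (hPP₁ : P ≤ P₁) (hP₁T : P₁ ≤ T)
    (hT₁n : T₁ ≤ normalizerIn S P₁) (hc : F.IsCentric P₁)
    (hext : ∀ M : Subgroup Ω, ∀ φ ∈ (normSys F Q hT hQ).normalizerHom P M, ∃ W : Subgroup Ω,
      ∃ hMW : M ≤ W, P₁ ≤ W ∧ ∃ ψ ∈ F.Hom W, (∀ x : M, ψ (Subgroup.inclusion hMW x) = φ x) ∧
        img ψ P₁ = P₁ ∧ img ψ P = P ∧ img ψ Q = Q)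
    {P'' : Subgroup Ω} {hP'' : P'' ≤ S} {L : Type u} [Group L] {ι : normalizerIn S P'' →* L}
    (hM : (normSys F P'' (rfl : normalizerIn S P'' = _) hP'').IsModel p L ι)
    {χ : normalizerIn S P₁ →* Ω} (hχ : χ ∈ F.Hom (normalizerIn S P₁))
    (hχN : ∀ x, χ x ∈ normalizerIn S P'') (hχP : img χ P₁ = P'') :
    ∃ (H : Subgroup L) (j : T₁ →* H), (normSys (normSys F Q hT hQ) P hT₁ hPT).IsModel p H j := by
  classical
  set N := normSys F Q hT hQ with hN
  have hTS : T ≤ S := hT ▸ normalizerIn_le Q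
  have : Finite T := finite_of_le hTS
  have hNsat : N.IsSaturated p := isSaturated_normSys hS hF hT hQ hQn
  have hTp : IsPGroup p T := hS.to_le hTS
  have hT₁T : T₁ ≤ T := hT₁ ▸ normalizerIn_le P
  have : Finite (normalizerIn S P'') := finite_of_le (normalizerIn_le P'')
  have : Finite T₁ := finite_of_le (S := S) (hT₁T.trans hTS)
  have hP₁S : P₁ ≤ S := hP₁T.trans hTS
  have hP₁N : P₁ ≤ normalizerIn S P₁ := le_normalizerIn hP₁S
  have : Finite P₁ := finite_of_le hP₁S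
  obtain ⟨hL, ⟨hinj, hreal⟩, ⟨TL, hTL⟩, hCL⟩ := id hM
  set k := transportHom ι χ hχN with hk
  have hki : Function.Injective k := transportHom_injective hinj hχ
  set kP : Subgroup L := (P.subgroupOf (normalizerIn S P₁)).map k with hkP
  set kQ : Subgroup L := (Q.subgroupOf (normalizerIn S P₁)).map k with hkQ
  set H : Subgroup L := Subgroup.normalizer (kP : Set L) ⊓ Subgroup.normalizer (kQ : Set L) with hH
  have hNkey : ∀ (A : Subgroup Ω), A ≤ normalizerIn S P₁ → ∀ x : normalizerIn S P₁,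
      (x : Ω) ∈ Subgroup.normalizer (A : Set Ω) →
      k x ∈ Subgroup.normalizer (((A.subgroupOf (normalizerIn S P₁)).map k : Subgroup L) : Set L) := by
    intro A hA x hx
    refine mem_normalizer_of_forall ?_
    rintro _ ⟨a, ha, rfl⟩
    exact ⟨x * a * x⁻¹, (Subgroup.mem_normalizer_iff.1 hx a).1 ha, by simp⟩
  have hjH : ∀ x : T₁, (k.comp (Subgroup.inclusion hT₁n)) x ∈ H := fun x =>
    ⟨hNkey P (hPP₁.trans hP₁N) _ (hT₁.le x.2).2,
      hNkey Q (hQ₁.trans hP₁N) _ (hT.le (hT₁T x.2)).2⟩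
  set j : T₁ →* H := (k.comp (Subgroup.inclusion hT₁n)).codRestrict H hjH with hj
  have hji : Function.Injective j := fun a b h => by
    have h1 := hki (congrArg Subtype.val h)
    exact Subtype.ext (congrArg (fun z : normalizerIn S P₁ => (z : Ω)) h1)
  -- a subgroup mapped into itself by a transported map
  have hpull : ∀ (A : Subgroup Ω) {W : Subgroup Ω} (hWN : W ≤ normalizerIn S P₁) {ψ : W →* Ω}
      (hψN : ∀ x, ψ x ∈ normalizerIn S P₁) (g : L),
      g ∈ Subgroup.normalizer (((A.subgroupOf (normalizerIn S P₁)).map k : Subgroup L) : Set L) →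
      (∀ x : W, k ⟨ψ x, hψN x⟩ = g * k ⟨x, hWN x.2⟩ * g⁻¹) →
      ∀ x : W, (x : Ω) ∈ A → ψ x ∈ A := by
    intro A W hWN ψ hψN g hg hψ x hx
    have h1 : k ⟨ψ x, hψN x⟩ ∈ (A.subgroupOf (normalizerIn S P₁)).map k := by
      rw [hψ]
      exact (Subgroup.mem_normalizer_iff.1 hg _).1 ⟨_, hx, rfl⟩
    obtain ⟨z, hz, hze⟩ := h1
    rw [hki hze] at hz
    exact hz
  have hn : ((P''.subgroupOf (normalizerIn S P'')).map ι).Normal :=
    map_normal_of_isModel hM (isNormal_normalizerSystem hP''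
      (E := normSys F P'' (rfl : normalizerIn S P'' = _) hP'') fun _ => rfl)
  have hkP₁ : (P₁.subgroupOf (normalizerIn S P₁)).map k = (P''.subgroupOf (normalizerIn S P'')).map ι :=
    map_transportHom hP₁S hχP
  rw [← hkP₁] at hn
  -- maps of `N` from elements of `H`
  have hback : ∀ (M : Subgroup Ω) (hMT : M ≤ T₁) (φ : M →* Ω) (hφT : ∀ x, φ x ∈ T₁) (h : L), h ∈ H →
      (∀ x : M, k ⟨φ x, hT₁n (hφT x)⟩ = h * k ⟨x, hT₁n (hMT x.2)⟩ * h⁻¹) →
      φ ∈ (normSys F Q hT hQ).normalizerHom P M := by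
    intro M hMT φ hφT h hh hφ
    have hWN : M ⊔ P₁ ≤ normalizerIn S P₁ := sup_le (hMT.trans hT₁n) hP₁N
    let K : Subgroup (normalizerIn S P₁) := (k.range.comap (MulAut.conj h).toMonoidHom).comap k
    have hWK : M ⊔ P₁ ≤ K.map (normalizerIn S P₁).subtype := sup_le
      (fun x hx => ⟨⟨x, hT₁n (hMT hx)⟩, ⟨⟨φ ⟨x, hx⟩, hT₁n (hφT _)⟩, hφ ⟨x, hx⟩⟩, rfl⟩)
      fun x hx => ⟨⟨x, hP₁N hx⟩, Subgroup.map_le_range _ _ (hn.conj_mem _ ⟨_, hx, rfl⟩ h), rfl⟩
    obtain ⟨ψ, hψ, hψN, hψe⟩ := exists_map_of_transport hP₁S hM hχ hWN (g := h) fun x => by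
      obtain ⟨z, hz, hze⟩ := hWK x.2
      rw [show (⟨(x : Ω), hWN x.2⟩ : normalizerIn S P₁) = z from Subtype.ext hze.symm]
      exact hz
    have hext' : ∀ x : M, ψ (Subgroup.inclusion le_sup_left x) = φ x := fun x =>
      congrArg Subtype.val (hki (a₁ := ⟨_, hψN (Subgroup.inclusion le_sup_left x)⟩)
        (a₂ := ⟨φ x, hT₁n (hφT x)⟩) ((hψe _).trans (hφ x).symm))
    have hψi := F.injective_of_mem hψ
    have hψP₁ : img ψ P₁ = P₁ := img_eq_of_apply_mem hψi le_sup_right hP₁S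
      (hpull P₁ hWN hψN h (by rw [Subgroup.normalizer_eq_top_iff.2 hn]; trivial) hψe)
    have hψP : img ψ P = P := img_eq_of_apply_mem hψi (hPP₁.trans le_sup_right) (hPT.trans hTS)
      (hpull P hWN hψN h hh.1 hψe)
    have hψQ : img ψ Q = Q := img_eq_of_apply_mem hψi (hQ₁.trans le_sup_right) hQ
      (hpull Q hWN hψN h hh.2 hψe)
    have hψT : ∀ x, ψ x ∈ T := fun x => by
      have h1 := apply_mem_sup (R := T) hext' (fun y => hT₁T (hφT y)) hψP₁.le x
      rwa [sup_eq_left.2 hP₁T] at h1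
    have hWT : M ⊔ P₁ ≤ normalizerIn S Q := hT ▸ sup_le (hMT.trans hT₁T) hP₁T
    have hψN' : ψ ∈ (normSys F Q hT hQ).Hom (M ⊔ P₁) :=
      mem_normalizerHom_of_img hψ le_rfl (hQ₁.trans le_sup_right) hψQ (fun _ => rfl) hWT
        fun x => hT ▸ hψT x
    exact mem_normalizerHom_of_img hψN' le_sup_left (hPP₁.trans le_sup_right) hψP hext'
      (hT₁ ▸ hMT) fun x => hT₁ ▸ hφT x
  refine ⟨H, j, inferInstance, ⟨hji, fun M hMT φ hφT => ⟨fun hφ => ?_, fun ⟨g, hg⟩ => ?_⟩⟩, ?_, ?_⟩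
  · -- maps are realized
    obtain ⟨W, hMW, hPW, ψ, hψ, hψe, hψP₁, hψP, hψQ⟩ := hext M φ hφ
    have hW₀ : M ⊔ P₁ ≤ W := sup_le hMW hPW
    set ψ₀ := ψ.comp (Subgroup.inclusion hW₀) with hψ₀
    have hψ₀m : ψ₀ ∈ F.Hom (M ⊔ P₁) := res_mem F hψ hW₀
    have hext' : ∀ x : M, ψ₀ (Subgroup.inclusion le_sup_left x) = φ x := fun x => hψe x
    have himg : ∀ A : Subgroup Ω, A ≤ M ⊔ P₁ → img ψ A = A → img ψ₀ A = A := fun A hA h => by
      rw [hψ₀, img_res ψ hW₀ hA, h]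
    have hψ₀N : ∀ x, ψ₀ x ∈ normalizerIn S P₁ := fun x => by
      have h1 := apply_mem_sup (R := normalizerIn S P₁) hext' (fun y => hT₁n (hφT y))
        (himg P₁ le_sup_right hψP₁).le x
      rwa [sup_eq_left.2 hP₁N] at h1
    have hWN : M ⊔ P₁ ≤ normalizerIn S P₁ := sup_le (hMT.trans hT₁n) hP₁N
    obtain ⟨g, hg⟩ := exists_conj_of_map hM hχ hχP hWN le_sup_right hψ₀m (himg P₁ le_sup_right hψP₁) hψ₀N
    have hgA : ∀ A : Subgroup Ω, A ≤ P₁ → img ψ A = A →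
        g ∈ Subgroup.normalizer (((A.subgroupOf (normalizerIn S P₁)).map k : Subgroup L) : Set L) := by
      intro A hA hψA
      refine mem_normalizer_of_forall ?_
      rintro _ ⟨a, ha, rfl⟩
      let a' : ↥(M ⊔ P₁) := ⟨a, (le_sup_right : P₁ ≤ M ⊔ P₁) (hA ha)⟩
      have h1 : ψ₀ a' ∈ A := (himg A (hA.trans le_sup_right) hψA).le (apply_mem_img ψ₀ (x := a') ha)
      exact ⟨⟨ψ₀ a', hψ₀N a'⟩, h1, hg a'⟩
    refine ⟨⟨g, hgA P hPP₁ hψP, hgA Q hQ₁ hψQ⟩, fun x => Subtype.ext ?_⟩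
    have h1 := hg (Subgroup.inclusion le_sup_left x)
    show k ⟨φ x, hT₁n (hφT x)⟩ = g * k ⟨x, hT₁n (hMT x.2)⟩ * g⁻¹
    rw [← show (⟨ψ₀ (Subgroup.inclusion le_sup_left x), hψ₀N _⟩ : normalizerIn S P₁) = ⟨φ x, hT₁n (hφT x)⟩
      from Subtype.ext (hext' x)]
    exact h1
  · exact hback M hMT φ hφT g g.2 fun x => congrArg Subtype.val (hg x)
  · -- the Sylow subgroup
    have hjp : IsPGroup p j.range := (hS.to_le (hT₁T.trans hTS)).of_surjective j.rangeRestrict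
      j.rangeRestrict_surjective
    obtain ⟨U, hU⟩ := hjp.exists_le_sylow
    refine ⟨U, (Subgroup.eq_of_le_of_card_ge hU ?_).symm⟩
    set UL : Subgroup L := (U : Subgroup H).map H.subtype with hUL
    obtain ⟨TL', hTL'⟩ := (U.2.map H.subtype).exists_le_sylow
    obtain ⟨l, hl⟩ := MulAction.exists_smul_eq L TL' TL
    have hlU : ∀ u ∈ UL, l * u * l⁻¹ ∈ ι.range := fun u hu => by
      rw [← hTL, ← hl, Sylow.coe_subgroup_smul]
      exact Subgroup.smul_mem_pointwise_smul u (MulAut.conj l) _ (hTL' hu)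
    -- the map induced by `l` on the image of `P₁`
    have hmapP : ∀ x : P₁, l * k ⟨x, hP₁N x.2⟩ * l⁻¹ ∈ (P₁.subgroupOf (normalizerIn S P₁)).map k :=
      fun x => hn.conj_mem _ ⟨_, x.2, rfl⟩ l
    have hP''N : P'' ≤ normalizerIn S P'' := le_normalizerIn hP''
    obtain ⟨eP, heP, hePe⟩ : ∃ f : P₁ ≃* P'', IsIso F f ∧
        ∀ x : P₁, (f x : Ω) = χ (Subgroup.inclusion hP₁N x) :=
      exists_iso_of_range (res_mem F hχ hP₁N) ((range_comp_inclusion χ hP₁N).trans hχP)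
    have hePι : ∀ x : P₁, ι ⟨(eP x : Ω), hP''N (eP x).2⟩ = k ⟨x, hP₁N x.2⟩ := fun x =>
      congrArg ι (Subtype.ext (hePe x))
    obtain ⟨θ, hθ, hθS, hθe⟩ := exists_map_of_conj hM.2.1 hP''N (g := l) fun y => by
      obtain ⟨x, rfl⟩ := eP.surjective y
      rw [hePι]
      rw [hkP₁] at hmapP
      exact Subgroup.map_le_range _ _ (hmapP x)
    set μ : P₁ →* Ω := θ.comp eP.toMonoidHom with hμ
    have hμm : μ ∈ F.Hom P₁ := F.comp_mem heP hθ.1 fun x => (eP x).2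
    have hμe : ∀ x : P₁, ι ⟨μ x, hθS _⟩ = l * k ⟨x, hP₁N x.2⟩ * l⁻¹ := fun x =>
      (hθe (eP x)).trans (by rw [hePι])
    set P' := img μ P with hP'
    set Q' := img μ Q with hQ'
    have hQ'S : Q' ≤ S := fun y hy => by
      obtain ⟨x, -, rfl⟩ := mem_img.1 hy
      exact apply_mem_S F hμm x
    have hQ'c : F.IsConj Q' Q := isConj_symm ⟨_, res_mem F hμm hQ₁, range_comp_inclusion μ hQ₁⟩
    obtain ⟨eQ, hQ'N, heQ, ψ, hψ, hψe, hψN⟩ := exists_hom_normalizerIn_of_fullyNormalized hS hF hQn hQ'c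
    -- the pullback of the Sylow subgroup
    set U' : Subgroup Ω := ((UL.map (MulAut.conj l).toMonoidHom).comap ι).map (normalizerIn S P'').subtype
      with hU'
    have hU'S : U' ≤ normalizerIn S P'' := Subgroup.map_subtype_le _
    have hU'card : Nat.card U' = Nat.card U := by
      have h1 : (U'.subgroupOf (normalizerIn S P'')).map ι = UL.map (MulAut.conj l).toMonoidHom := by
        rw [hU', Subgroup.subgroupOf,
          Subgroup.comap_map_eq_self_of_injective (normalizerIn S P'').subtype_injective,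
          Subgroup.map_comap_eq_self]
        rintro _ ⟨u, hu, rfl⟩
        exact hlU u hu
      have h2 := congrArg (fun A : Subgroup L => Nat.card A) h1
      simp only [Subgroup.card_map_of_injective hinj,
        Subgroup.card_map_of_injective (f := (MulAut.conj l).toMonoidHom) (MulAut.conj l).injective] at h2
      rw [hUL, Subgroup.card_map_of_injective H.subtype_injective] at h2
      rw [← h2]
      exact (Nat.card_congr (Subgroup.subgroupOfEquivOfLe hU'S).toEquiv).symm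
    have hU'norm : ∀ (A : Subgroup Ω), A ≤ P₁ → (∀ u ∈ UL,
        u ∈ Subgroup.normalizer (((A.subgroupOf (normalizerIn S P₁)).map k : Subgroup L) : Set L)) →
        U' ≤ Subgroup.normalizer (img μ A : Set Ω) := by
      intro A hA hUA y hy
      obtain ⟨y, ⟨u, hu, huy⟩, rfl⟩ := hy
      have hAS : img μ A ≤ S := fun w hw => by
        obtain ⟨x, -, rfl⟩ := mem_img.1 hw
        exact apply_mem_S F hμm x
      have := finite_of_le hAS
      refine mem_normalizer_of_forall fun w hw => ?_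
      obtain ⟨x, hx, rfl⟩ := mem_img.1 hw
      obtain ⟨z, hz, hze⟩ := (Subgroup.mem_normalizer_iff.1 (hUA u hu) _).1
        ⟨⟨x, hP₁N x.2⟩, hx, rfl⟩
      let a : normalizerIn S P'' := ⟨μ ⟨z, hA hz⟩, hθS _⟩
      let b : normalizerIn S P'' := ⟨μ x, hθS _⟩
      suffices h : a = y * b * y⁻¹ from mem_img.2 ⟨⟨z, hA hz⟩, hz, congrArg Subtype.val h⟩
      refine hinj ?_
      rw [hμe, map_mul, map_mul, map_inv, hμe, show (⟨(z : Ω), hP₁N (hA hz)⟩ : normalizerIn S P₁) = z from rfl,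
        hze, ← huy]
      simp only [MulEquiv.coe_toMonoidHom, MulAut.conj_apply]
      group
    have hUH : ∀ u ∈ UL, u ∈ H := fun u hu => Subgroup.map_subtype_le _ hu
    have hU'Q : U' ≤ normalizerIn S Q' :=
      le_inf (hU'S.trans (normalizerIn_le P'')) (hU'norm Q hQ₁ fun u hu => (hUH u hu).2)
    have hμQ : ∀ x : P₁, μ x ∈ normalizerIn S Q' := fun x => ⟨apply_mem_S F hμm x, by
      have := finite_of_le hQ'S
      refine mem_normalizer_of_forall fun w hw => ?_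
      obtain ⟨z, hz, rfl⟩ := mem_img.1 hw
      refine mem_img.2 ⟨x * z * x⁻¹, ?_, by simp⟩
      exact (Subgroup.mem_normalizer_iff.1 (hT.le (hP₁T x.2)).2 _).1 hz⟩
    set ν : P₁ →* Ω := ψ.comp (μ.codRestrict _ hμQ) with hν
    have hνm : ν ∈ F.Hom P₁ := F.comp_mem hμm hψ hμQ
    have hνQ : img ν Q = Q := img_eq_of_apply_mem (F.injective_of_mem hνm) hQ₁ hQ fun x hx => by
      have h1 : μ x ∈ Q' := apply_mem_img μ hx
      show ψ ⟨μ x, hμQ x⟩ ∈ Q
      rw [show (⟨μ x, hμQ x⟩ : normalizerIn S Q') = Subgroup.inclusion hQ'N ⟨μ x, h1⟩ from rfl, hψe]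
      exact (eQ _).2
    have hνT : ∀ x, ν x ∈ T := fun x => hT ▸ hψN _
    set P₂ := img ν P with hP₂
    have hP₂c : (normSys F Q hT hQ).IsConj P P₂ := by
      refine ⟨ν.comp (Subgroup.inclusion hPP₁), ?_, range_comp_inclusion ν hPP₁⟩
      exact mem_normalizerHom_of_img hνm hPP₁ hQ₁ hνQ (fun _ => rfl) (hT ▸ hPT)
        fun x => hT ▸ hνT _
    have hP₂T : P₂ ≤ T := fun y hy => by
      obtain ⟨x, -, rfl⟩ := mem_img.1 hy
      exact hνT x
    have hU'T₂ : img ψ U' ≤ normalizerIn T P₂ := by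
      intro y hy
      obtain ⟨z, hz, rfl⟩ := mem_img.1 hy
      refine ⟨hT ▸ hψN z, ?_⟩
      have := finite_of_le (hP₂T.trans hTS)
      refine mem_normalizer_of_forall fun w hw => ?_
      obtain ⟨x, hx, rfl⟩ := mem_img.1 hw
      have h1 := (Subgroup.mem_normalizer_iff.1 (hU'norm P hPP₁ (fun u hu => (hUH u hu).1) hz) (μ x)).1
        (apply_mem_img μ hx)
      obtain ⟨x', hx', hxe⟩ := mem_img.1 h1
      refine mem_img.2 ⟨x', hx', ?_⟩
      show ψ ⟨μ x', hμQ x'⟩ = ψ z * ψ ⟨μ x, hμQ x⟩ * (ψ z)⁻¹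
      rw [← map_inv, ← map_mul, ← map_mul]
      exact congrArg ψ (Subtype.ext hxe)
    have : Finite (normalizerIn T P₂) := finite_of_le (normalizerIn_le P₂)
    calc Nat.card (U : Subgroup H) = Nat.card (img ψ U') := by
          rw [card_img (F.injective_of_mem hψ) hU'Q]; exact hU'card.symm
      _ ≤ Nat.card (normalizerIn T P₂) := Subgroup.card_le_of_le hU'T₂
      _ ≤ Nat.card (normalizerIn T P) := hPn.2 P₂ hP₂c
      _ = Nat.card T₁ := by rw [hT₁]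
      _ = Nat.card j.range := Nat.card_congr (MonoidHom.ofInjective hji).toEquiv
  · -- the centralizer of the `p`-core
    have hPT₁ : P ≤ T₁ := hT₁ ▸ le_normalizerIn hPT
    set jP : Subgroup H := (P.subgroupOf T₁).map j with hjP
    have hjPn : jP.Normal := by
      refine ⟨?_⟩
      rintro _ ⟨x, hx, rfl⟩ g
      obtain ⟨z, hz, hze⟩ := (Subgroup.mem_normalizer_iff.1 g.2.1 _).1
        ⟨Subgroup.inclusion hT₁n x, hx, rfl⟩
      exact ⟨⟨z, hPT₁ hz⟩, hz, Subtype.ext hze⟩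
    have hjPc : jP ≤ pCore p H := Cores.le_pCore
      (((hS.to_le (hT₁T.trans hTS)).to_subgroup (P.subgroupOf T₁)).map j)
    intro c hcent
    refine hjPc ?_
    have hfix : ∀ x : P₁, (x : Ω) ∈ P → (c : L) * k ⟨x, hP₁N x.2⟩ * (c : L)⁻¹ = k ⟨x, hP₁N x.2⟩ := by
      intro x hx
      have h1 := congrArg Subtype.val (Subgroup.mem_centralizer_iff.1 hcent (j ⟨x, hPT₁ hx⟩)
        (hjPc ⟨_, hx, rfl⟩))
      exact mul_inv_eq_iff_eq_mul.2 (h1.symm)
    -- the automorphism of `P₁` induced by `c`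
    obtain ⟨ψ, hψ, hψN, hψe⟩ := exists_map_of_transport hP₁S hM hχ hP₁N (g := (c : L)) fun x =>
      Subgroup.map_le_range _ _ (hn.conj_mem _ ⟨_, x.2, rfl⟩ _)
    have hψi := F.injective_of_mem hψ
    have hψP₁ : ∀ x : P₁, ψ x ∈ P₁ := fun x =>
      hpull P₁ hP₁N hψN c (by rw [Subgroup.normalizer_eq_top_iff.2 hn]; trivial) hψe x x.2
    have hψQ : img ψ Q = Q := img_eq_of_apply_mem hψi hQ₁ hQ (hpull Q hP₁N hψN c c.2.2 hψe)
    have hψm : ψ ∈ (normSys F Q hT hQ).Hom P₁ :=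
      mem_normalizerHom_of_img hψ le_rfl hQ₁ hψQ (fun _ => rfl) (hT ▸ hP₁T)
        fun x => hT ▸ hP₁T (hψP₁ x)
    obtain ⟨z, hzP, -, hze⟩ := eq_comp_conj hTp hNsat hPP₁ hPc
      (id_mem (normSys F Q hT hQ) hP₁T) hψm fun x hx =>
        (congrArg Subtype.val (hki (a₁ := ⟨ψ x, hψN x⟩) (a₂ := ⟨x, hP₁N x.2⟩)
          ((hψe x).trans (hfix x hx)))).symm
    -- `c` differs from the image of `z` by an element centralising the image of `P₁`
    have hcz : (k ⟨z, hP₁N z.2⟩)⁻¹ * (c : L) ∈ Subgroup.centralizer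
        (((P''.subgroupOf (normalizerIn S P'')).map ι : Subgroup L) : Set L) := by
      rw [← hkP₁]
      refine Subgroup.mem_centralizer_iff.2 ?_
      rintro _ ⟨y, hy, rfl⟩
      let y' : P₁ := ⟨y, hy⟩
      have h1 : (⟨ψ y', hψN y'⟩ : normalizerIn S P₁) = ⟨z, hP₁N z.2⟩ * y * ⟨z, hP₁N z.2⟩⁻¹ :=
        Subtype.ext ((hze y').trans rfl)
      have h2 := hψe y'
      rw [h1, map_mul, map_mul, map_inv] at h2
      have h3 : k ⟨z, hP₁N z.2⟩ * k y * (k ⟨z, hP₁N z.2⟩)⁻¹ = (c : L) * k y * (c : L)⁻¹ := h2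
      calc k y * ((k ⟨z, hP₁N z.2⟩)⁻¹ * (c : L))
          = (k ⟨z, hP₁N z.2⟩)⁻¹ * (k ⟨z, hP₁N z.2⟩ * k y * (k ⟨z, hP₁N z.2⟩)⁻¹) * (c : L) := by group
        _ = (k ⟨z, hP₁N z.2⟩)⁻¹ * ((c : L) * k y * (c : L)⁻¹) * (c : L) := by rw [h3]
        _ = (k ⟨z, hP₁N z.2⟩)⁻¹ * (c : L) * k y := by group
    have hP''c : F.IsCentric P'' :=
      CfsgLib.Fusion.isCentric_of_isConj hc ⟨χ.comp (Subgroup.inclusion hP₁N),
        res_mem F hχ hP₁N, (range_comp_inclusion χ hP₁N).trans hχP⟩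
    have hc'' : (normSys F P'' (rfl : normalizerIn S P'' = _) hP'').IsCentric P'' := by
      refine ⟨le_normalizerIn hP'', fun R hR y hy => ?_⟩
      obtain ⟨φ, hφ, rfl⟩ := hR
      exact hP''c.2 _ ⟨φ, hφ.1, rfl⟩ ⟨hy.1.1, hy.2⟩
    have : Finite (normalizerIn S P'') := finite_of_le (normalizerIn_le P'')
    obtain ⟨s, hs, hse⟩ := centralizer_img_le_of_isModel (hS.to_le (normalizerIn_le P'')) hM
      (isNormal_normalizerSystem hP'' (E := normSys F P'' (rfl : normalizerIn S P'' = _) hP'')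
        fun _ => rfl) hc'' hcz
    have hsP : (s : Ω) ∈ P'' := hc''.2 P'' (isConj_refl (le_normalizerIn hP'')) hs
    obtain ⟨w, hw, hwe⟩ := hkP₁.ge (⟨s, hsP, rfl⟩ : ι s ∈ (P''.subgroupOf (normalizerIn S P'')).map ι)
    have hckzw : (c : L) = k (⟨z, hP₁N z.2⟩ * w) := by
      rw [map_mul, hwe, hse]; group
    -- the element lies in `P`
    have hmemP : (z : Ω) * w ∈ P := by
      refine hPc.2 P (isConj_refl hPT) ⟨mul_mem (hPT hzP) (hP₁T hw), fun y hy => ?_⟩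
      have h1 := hfix ⟨y, hPP₁ hy⟩ hy
      rw [hckzw, ← map_inv, ← map_mul, ← map_mul] at h1
      have h2 : (z : Ω) * w * y * ((z : Ω) * w)⁻¹ = y := congrArg Subtype.val (hki h1)
      exact (mul_inv_eq_iff_eq_mul.1 h2).symm
    exact ⟨⟨(z : Ω) * w, hPT₁ hmemP⟩, hmemP, Subtype.ext hckzw.symm⟩

end CfsgLib.Transfer
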