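import Cfsg.Agent.S4089
import Mathlib.GroupTheory.Sylow
import Mathlib.Tactic

/-!
Casolo's count of the subnormalizer of a `p`-subgroup by weights on the posets of invariant
`p`-subgroups.
-/

set_option autoImplicit false

namespace CfsgLib.Transfer.Casolo

open Subgroup
open scoped Classical

/-- Weights on a finite poset with all up-sums equal to one. -/
theorem exists_upWeight {α : Type*} [PartialOrder α] [Finite α] (U : Finset α) :
    ∃ w : α → ℤ, ∀ K ∈ U, ∑ R ∈ U.filter (fun R => K ≤ R), w R = 1 := by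
  induction U using Finset.strongInduction with
  | H U ih =>
  rcases U.eq_empty_or_nonempty with rfl | hne
  · exact ⟨fun _ => 0, fun K hK => absurd hK (Finset.notMem_empty K)⟩
  obtain ⟨m, hm, hmin⟩ := U.exists_minimal hne
  obtain ⟨w, hw⟩ := ih _ (Finset.erase_ssubset hm)
  refine ⟨Function.update w m (1 - ∑ R ∈ (U.erase m).filter (fun R => m ≤ R), w R), fun K hK => ?_⟩
  by_cases hKm : K ≤ m
  · obtain rfl : K = m := le_antisymm hKm (hmin hK hKm)
    rw [← Finset.add_sum_erase _ _ (Finset.mem_filter.2 ⟨hm, le_rfl⟩), Function.update_self,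
      ← Finset.filter_erase, Finset.sum_congr rfl fun R hR => Function.update_of_ne
        (Finset.ne_of_mem_erase (Finset.mem_filter.1 hR).1) _ w, sub_add_cancel]
  · have he : U.filter (fun R => K ≤ R) = (U.erase m).filter (fun R => K ≤ R) := by
      ext R
      simp only [Finset.mem_filter, Finset.mem_erase]
      exact ⟨fun h => ⟨⟨fun hR => hKm (hR ▸ h.2), h.1⟩, h.2⟩, fun h => ⟨h.1.2, h.2⟩⟩
    rw [he, Finset.sum_congr rfl fun R hR => Function.update_of_ne
      (Finset.ne_of_mem_erase (Finset.mem_filter.1 hR).1) _ w]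
    exact hw K (Finset.mem_erase.2 ⟨fun h => hKm h.le, hK⟩)

/-- Down-sums equal to one. -/
theorem exists_downWeight {α : Type*} [PartialOrder α] [Finite α] (U : Finset α) :
    ∃ v : α → ℤ, ∀ K ∈ U, ∑ R ∈ U.filter (fun R => R ≤ K), v R = 1 :=
  exists_upWeight (α := αᵒᵈ) U

variable {G : Type*} [Group G] [Finite G] (p : ℕ)

/-- The `p`-subgroups of `M` normalised by `g`. -/
noncomputable def invSet (M : Subgroup G) (g : G) : Finset (Subgroup G) :=
  (Set.toFinite {R : Subgroup G | R ≤ M ∧ IsPGroup p R ∧ g ∈ normalizer (R : Set G)}).toFinset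

theorem mem_invSet {M : Subgroup G} {g : G} {R : Subgroup G} :
    R ∈ invSet p M g ↔ R ≤ M ∧ IsPGroup p R ∧ g ∈ normalizer (R : Set G) := by
  simp [invSet]

/-- The up-weight. -/
noncomputable def wt (M : Subgroup G) (g : G) : Subgroup G → ℤ :=
  (exists_upWeight (invSet p M g)).choose

theorem wt_spec (M : Subgroup G) (g : G) {K : Subgroup G} (hK : K ∈ invSet p M g) :
    ∑ R ∈ (invSet p M g).filter (fun R => K ≤ R), wt p M g R = 1 :=
  (exists_upWeight (invSet p M g)).choose_spec K hK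

/-- The weight of a subgroup. -/
noncomputable def wtTotal (M K : Subgroup G) : ℤ :=
  ∑ g ∈ (Set.toFinite ((M ⊓ normalizer (K : Set G) : Subgroup G) : Set G)).toFinset, wt p M g K

variable [Fact p.Prime]

theorem exists_normalizer_step {R K : Subgroup G} (hR : IsPGroup p R) (hKR : K < R) :
    K < R ⊓ normalizer (K : Set G) := by
  refine lt_of_le_of_ne (le_inf hKR.le le_normalizer) fun heq => ?_
  have hlt : K.subgroupOf R < ⊤ := lt_top_iff_ne_top.2 fun h => hKR.not_ge (subgroupOf_eq_top.1 h)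
  haveI : Group.IsNilpotent R := hR.isNilpotent
  obtain ⟨⟨a, haR⟩, haN, haK⟩ := SetLike.exists_of_lt
    (Group.normalizerCondition_of_isNilpotent _ hlt)
  refine haK (show a ∈ K from ?_)
  rw [heq]
  refine ⟨haR, ?_⟩
  show a ∈ normalizer (K : Set G)
  rw [Subgroup.mem_normalizer_iff] at haN ⊢
  intro x
  by_cases hx : x ∈ R
  · exact haN ⟨x, hx⟩
  · refine ⟨fun h => absurd (hKR.le h) hx, fun h => absurd ?_ hx⟩
    have h2 := mul_mem (mul_mem (inv_mem haR) (hKR.le h)) haR
    rwa [show a⁻¹ * (a * x * a⁻¹) * a = x by group] at h2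

theorem mem_normalizer_inf {A B : Subgroup G} {g : G} (hA : g ∈ normalizer (A : Set G))
    (hB : g ∈ normalizer (B : Set G)) : g ∈ normalizer ((A ⊓ B : Subgroup G) : Set G) := by
  rw [Subgroup.mem_normalizer_iff] at *
  exact fun x => ⟨fun h => ⟨(hA x).1 h.1, (hB x).1 h.2⟩, fun h => ⟨(hA x).2 h.1, (hB x).2 h.2⟩⟩

theorem mem_normalizer_normalizer' {K : Subgroup G} {g : G} (h : g ∈ normalizer (K : Set G)) :
    g ∈ normalizer ((normalizer (K : Set G) : Subgroup G) : Set G) := le_normalizer h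

/-- The weight is computed inside the normalizer. -/
theorem wt_local {M K : Subgroup G} {g : G} (hK : K ≤ M) (hKp : IsPGroup p K)
    (hgK : g ∈ normalizer (K : Set G)) (hgM : g ∈ M) :
    wt p M g K = wt p (M ⊓ normalizer (K : Set G)) g K := by
  set U' := (invSet p (M ⊓ normalizer (K : Set G)) g).filter (fun R => K < R) with hU'
  obtain ⟨v, hv⟩ := exists_downWeight U'
  have key : ∀ M₁ : Subgroup G, K ≤ M₁ → g ∈ M₁ →
      M₁ ⊓ normalizer (K : Set G) = M ⊓ normalizer (K : Set G) →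
      wt p M₁ g K = 1 - ∑ R ∈ U', v R := by
    intro M₁ hK₁ hg₁ hM₁
    set P := invSet p M₁ g
    have hKP : K ∈ P := (mem_invSet p).2 ⟨hK₁, hKp, hgK⟩
    have h1 := wt_spec p M₁ g hKP
    rw [← Finset.add_sum_erase _ _ (Finset.mem_filter.2 ⟨hKP, le_rfl⟩)] at h1
    have he : (P.filter (fun R => K ≤ R)).erase K = P.filter (fun R => K < R) := by
      ext R
      simp only [Finset.mem_erase, Finset.mem_filter, lt_iff_le_and_ne]
      exact ⟨fun h => ⟨h.2.1, h.2.2, fun e => h.1 e.symm⟩, fun h => ⟨fun e => h.2.2 e.symm, h.1, h.2.1⟩⟩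
    rw [he] at h1
    have h2 : ∑ R ∈ P.filter (fun R => K < R), wt p M₁ g R = ∑ R' ∈ U', v R' := by
      calc ∑ R ∈ P.filter (fun R => K < R), wt p M₁ g R
          = ∑ R ∈ P.filter (fun R => K < R),
              ∑ R' ∈ U'.filter (fun R' => R' ≤ R), wt p M₁ g R * v R' := by
            refine Finset.sum_congr rfl fun R hR => ?_
            obtain ⟨hRP, hKR⟩ := Finset.mem_filter.1 hR
            obtain ⟨hRM, hRp, hgR⟩ := (mem_invSet p).1 hRP
            have hmem : R ⊓ normalizer (K : Set G) ∈ U' := Finset.mem_filter.2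
              ⟨(mem_invSet p).2 ⟨hM₁ ▸ inf_le_inf_right _ hRM, hRp.to_le inf_le_left,
                mem_normalizer_inf hgR (mem_normalizer_normalizer' hgK)⟩,
                exists_normalizer_step p hRp hKR⟩
            have h3 := hv _ hmem
            rw [← Finset.mul_sum, show U'.filter (fun R' => R' ≤ R) =
              U'.filter (fun R' => R' ≤ R ⊓ normalizer (K : Set G)) from Finset.filter_congr fun R' hR' =>
                ⟨fun h => le_inf h (((mem_invSet p).1 (Finset.mem_filter.1 hR').1).1.trans inf_le_right),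
                  fun h => h.trans inf_le_left⟩, h3, mul_one]
        _ = ∑ R' ∈ U', ∑ R ∈ P.filter (fun R => R' ≤ R), wt p M₁ g R * v R' := by
            refine Finset.sum_comm' fun R R' => ?_
            simp only [Finset.mem_filter]
            exact ⟨fun h => ⟨⟨h.1.1, h.2.2⟩, h.2.1⟩,
              fun h => ⟨⟨h.1.1, (Finset.mem_filter.1 h.2).2.trans_le h.1.2⟩, h.2, h.1.2⟩⟩
        _ = ∑ R' ∈ U', v R' := by
            refine Finset.sum_congr rfl fun R' hR' => ?_
            rw [← Finset.sum_mul, wt_spec p M₁ g, one_mul]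
            obtain ⟨hR'M, hR'p, hgR'⟩ := (mem_invSet p).1 (Finset.mem_filter.1 hR').1
            exact (mem_invSet p).2 ⟨hR'M.trans (hM₁ ▸ inf_le_left), hR'p, hgR'⟩
    rw [h2] at h1
    linarith
  rw [key M hK hgM rfl, key _ (le_inf hK le_normalizer) ⟨hgM, hgK⟩ (by rw [inf_assoc, inf_idem])]

/-- Maximal `p`-subgroup of `M`. -/
def IsMaxP (M R : Subgroup G) : Prop :=
  R ≤ M ∧ IsPGroup p R ∧ ∀ T : Subgroup G, T ≤ M → IsPGroup p T → R ≤ T → T = R

omit [Finite G] [Fact p.Prime] in
theorem isMaxP_map {M : Subgroup G} (Q : Sylow p M) : IsMaxP p M ((Q : Subgroup M).map M.subtype) := by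
  refine ⟨map_subtype_le _, Q.2.map _, fun T hT hTp hle => ?_⟩
  have h1 : T.subgroupOf M = (Q : Subgroup M) := Q.3 hTp.comap_subtype fun x hx =>
    hle ⟨x, hx, rfl⟩
  rw [← h1, map_subgroupOf_eq_of_le hT]

omit [Fact p.Prime] in
theorem exists_sylow_of_isMaxP {M R : Subgroup G} (h : IsMaxP p M R) :
    ∃ Q : Sylow p M, (Q : Subgroup M).map M.subtype = R := by
  obtain ⟨Q, hQ⟩ := (h.2.1.comap_subtype (K := M)).exists_le_sylow
  refine ⟨Q, h.2.2 _ (map_subtype_le _) (Q.2.map _) fun x hx => ⟨⟨x, h.1 hx⟩, hQ ?_, rfl⟩⟩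
  exact hx

theorem sum_normalizer_maxP (M : Subgroup G) :
    ∑ R ∈ (Set.toFinite {R : Subgroup G | IsMaxP p M R}).toFinset,
      (Nat.card ↥(M ⊓ normalizer (R : Set G)) : ℤ) = Nat.card M := by
  obtain ⟨Q₀⟩ := (inferInstance : Nonempty (Sylow p M))
  letI := Fintype.ofFinite (Sylow p M)
  have hbij : ∑ R ∈ (Set.toFinite {R : Subgroup G | IsMaxP p M R}).toFinset,
      (Nat.card ↥(M ⊓ normalizer (R : Set G)) : ℤ) =
      ∑ Q : Sylow p M, (Nat.card (normalizer ((Q : Subgroup M) : Set M)) : ℤ) := by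
    symm
    refine Finset.sum_bij (fun Q _ => (Q : Subgroup M).map M.subtype) (fun Q _ => ?_) ?_ ?_ ?_
    · simpa using isMaxP_map p Q
    · exact fun Q _ Q' _ h => Sylow.ext (map_injective M.subtype_injective h)
    · intro R hR
      obtain ⟨Q, hQ⟩ := exists_sylow_of_isMaxP p (by simpa using hR)
      exact ⟨Q, Finset.mem_univ _, hQ⟩
    · intro Q _
      rw [← card_map_of_injective (K := normalizer ((Q : Subgroup M) : Set M)) M.subtype_injective]
      congr 3
      ext x
      constructor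
      · rintro ⟨a, ha, rfl⟩
        refine ⟨a.2, ?_⟩
        show (a : G) ∈ normalizer (((Q : Subgroup M).map M.subtype : Subgroup G) : Set G)
        exact le_normalizer_map M.subtype ⟨a, ha, rfl⟩
      · rintro ⟨hxM, hxN⟩
        refine ⟨⟨x, hxM⟩, ?_, rfl⟩
        show (⟨x, hxM⟩ : M) ∈ normalizer ((Q : Subgroup M) : Set M)
        have hxN : x ∈ normalizer (((Q : Subgroup M).map M.subtype : Subgroup G) : Set G) := hxN
        rw [Subgroup.mem_normalizer_iff] at hxN ⊢
        intro y
        have h := hxN y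
        simp only [mem_map, coe_subtype] at h
        exact ⟨fun hy => by obtain ⟨z, hz, hzy⟩ := h.1 ⟨y, hy, rfl⟩; rwa [← Subtype.ext (a1 := z)
            (a2 := (⟨x, hxM⟩ * y * ⟨x, hxM⟩⁻¹ : M)) hzy],
          fun hy => by obtain ⟨z, hz, hzy⟩ := h.2 ⟨_, hy, rfl⟩; rwa [← Subtype.ext hzy]⟩
  rw [hbij, ← Nat.cast_sum]
  norm_cast
  have hQ : ∀ Q : Sylow p M, Nat.card (normalizer ((Q : Subgroup M) : Set M)) =
      Nat.card (normalizer ((Q₀ : Subgroup M) : Set M)) := fun Q => by
    have h1 := Subgroup.card_mul_index (normalizer ((Q : Subgroup M) : Set M))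
    have h2 := Subgroup.card_mul_index (normalizer ((Q₀ : Subgroup M) : Set M))
    rw [show (normalizer ((Q : Subgroup M) : Set M)).index = Nat.card (Sylow p M) from
      (Sylow.card_eq_index_normalizer Q).symm] at h1
    rw [show (normalizer ((Q₀ : Subgroup M) : Set M)).index = Nat.card (Sylow p M) from
      (Sylow.card_eq_index_normalizer Q₀).symm] at h2
    exact Nat.eq_of_mul_eq_mul_right Nat.card_pos (h1.trans h2.symm)
  rw [Finset.sum_congr rfl fun Q _ => hQ Q, Finset.sum_const, smul_eq_mul, Finset.card_univ,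
    ← Nat.card_eq_fintype_card, show Nat.card (Sylow p M) = (normalizer ((Q₀ : Subgroup M) : Set M)).index from
      Sylow.card_eq_index_normalizer Q₀, Subgroup.index_mul_card]

omit [Fact p.Prime] in
theorem card_filter_eq {M : Subgroup G} (H : Subgroup G) :
    ∑ g ∈ (Set.toFinite ((M : Subgroup G) : Set G)).toFinset, ∑ R ∈ (invSet p M g).filter (fun R => H ≤ R),
      wt p M g R = ∑ R ∈ (Set.toFinite {R : Subgroup G | R ≤ M ∧ IsPGroup p R ∧ H ≤ R}).toFinset,
        wtTotal p M R := by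
  refine Finset.sum_comm' fun g R => ?_
  simp [mem_invSet]
  tauto

/-- The total weight vanishes except on the Sylow subgroups. -/
theorem wtTotal_eq : ∀ (n : ℕ) (M K : Subgroup G), Nat.card M - Nat.card K = n → K ≤ M →
    IsPGroup p K →
    wtTotal p M K = if IsMaxP p M K then (Nat.card ↥(M ⊓ normalizer (K : Set G)) : ℤ) else 0 := by
  intro n
  induction n using Nat.strong_induction_on with
  | _ n ih =>
  intro M K hn hKM hKp
  by_cases hmax : IsMaxP p M K
  · rw [if_pos hmax, wtTotal, Finset.sum_congr rfl (g := fun _ => (1 : ℤ)), Finset.sum_const]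
    · rw [nsmul_one, ← Nat.card_eq_card_finite_toFinset]
      rfl
    intro g hg
    have hg : g ∈ M ⊓ normalizer (K : Set G) := by simpa using hg
    have hKP : K ∈ invSet p M g := (mem_invSet p).2 ⟨hKM, hKp, hg.2⟩
    have h1 := wt_spec p M g hKP
    rwa [Finset.sum_eq_single K] at h1
    · intro R hR hne
      obtain ⟨hR1, hR2⟩ := Finset.mem_filter.1 hR
      obtain ⟨hRM, hRp, -⟩ := (mem_invSet p).1 hR1
      exact absurd (hmax.2.2 R hRM hRp hR2) hne
    · exact fun h => absurd (Finset.mem_filter.2 ⟨hKP, le_rfl⟩) h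
  rw [if_neg hmax]
  set M' := M ⊓ normalizer (K : Set G) with hM'
  have hKM' : K ≤ M' := le_inf hKM le_normalizer
  have heq : wtTotal p M K = wtTotal p M' K := by
    unfold wtTotal
    refine Finset.sum_congr (Finset.ext fun x => ?_) fun g hg => ?_
    · simp [hM']
    have hg : g ∈ M' := by simpa [hM'] using hg
    exact wt_local p hKM hKp hg.2 hg.1
  have hmax' : ¬ IsMaxP p M' K := by
    intro h
    apply hmax
    refine ⟨hKM, hKp, fun T hTM hTp hKT => ?_⟩
    by_contra hne
    have h1 := exists_normalizer_step p hTp (lt_of_le_of_ne hKT (Ne.symm hne))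
    exact h1.ne (h.2.2 _ (inf_le_inf_right _ hTM) (hTp.to_le inf_le_left) h1.le).symm
  by_cases hMM' : M' = M
  swap
  · rw [heq, ih (Nat.card M' - Nat.card K) ?_ M' K rfl hKM' hKp, if_neg hmax']
    have h1 : Nat.card K ≤ Nat.card M' := card_le_of_le hKM'
    have h2 : Nat.card M' < Nat.card M := lt_of_le_of_ne (card_le_of_le inf_le_left) fun h =>
      hMM' (eq_of_le_of_card_ge inf_le_left h.ge)
    omega
  have hMK : M ≤ normalizer (K : Set G) := hMM' ▸ inf_le_right
  have h0 : (Nat.card M : ℤ) = ∑ R ∈ (Set.toFinite {R : Subgroup G | R ≤ M ∧ IsPGroup p R ∧ K ≤ R}).toFinset,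
      wtTotal p M R := by
    rw [← card_filter_eq, Finset.sum_congr rfl (g := fun _ => (1 : ℤ)), Finset.sum_const, nsmul_one,
      ← Nat.card_eq_card_finite_toFinset]
    · rfl
    intro g hg
    have hg : g ∈ M := by simpa using hg
    exact wt_spec p M g ((mem_invSet p).2 ⟨hKM, hKp, hMK hg⟩)
  rw [← Finset.add_sum_erase _ _ (a := K) (by simp [hKM, hKp]),
    Finset.sum_congr rfl (g := fun R => if IsMaxP p M R then (Nat.card ↥(M ⊓ normalizer (R : Set G)) : ℤ) else 0),
    ← Finset.sum_filter] at h0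
  · have hset : ((Set.toFinite {R : Subgroup G | R ≤ M ∧ IsPGroup p R ∧ K ≤ R}).toFinset.erase K).filter
        (IsMaxP p M) = (Set.toFinite {R : Subgroup G | IsMaxP p M R}).toFinset := by
      ext R
      simp only [Finset.mem_filter, Finset.mem_erase, Set.Finite.mem_toFinset, Set.mem_setOf_eq]
      refine ⟨fun h => h.2, fun h => ⟨⟨fun e => hmax (e ▸ h), h.1, h.2.1, ?_⟩, h⟩⟩
      have h2 := h.2.2 (R ⊔ K) (sup_le h.1 hKM)
        (IsPGroup.to_sup_of_normal_right' h.2.1 hKp (h.1.trans hMK)) le_sup_left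
      exact h2 ▸ le_sup_right
    rw [hset, sum_normalizer_maxP] at h0
    linarith
  intro R hR
  obtain ⟨hne, hR⟩ := Finset.mem_erase.1 hR
  obtain ⟨hRM, hRp, hKR⟩ : R ≤ M ∧ IsPGroup p R ∧ K ≤ R := by simpa using hR
  refine ih _ ?_ M R rfl hRM hRp
  have h1 : Nat.card R ≤ Nat.card M := card_le_of_le hRM
  have h2 : Nat.card K < Nat.card R := lt_of_le_of_ne (card_le_of_le hKR) fun h =>
    hne (eq_of_le_of_card_ge hKR h.ge).symm
  omega

/-- Casolo's formula. -/
theorem card_subnormalizer (H : Subgroup G) (hH : IsPGroup p H) (P : Sylow p G) :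
    Nat.card {g : G // ((H).subgroupOf (H ⊔ zpowers g)).IsSubnormal} =
      Nat.card {Q : Sylow p G // H ≤ (Q : Subgroup G)} *
        Nat.card (normalizer ((P : Subgroup G) : Set G)) := by
  letI := Fintype.ofFinite G
  letI := Fintype.ofFinite (Sylow p G)
  have hg : ∀ g : G, ∑ R ∈ (invSet p ⊤ g).filter (fun R => H ≤ R), wt p ⊤ g R =
      if ((H).subgroupOf (H ⊔ zpowers g)).IsSubnormal then 1 else 0 := by
    intro g
    rw [Cfsg.Agent.S4089.subnormal_iff H hH g]
    split_ifs with h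
    · obtain ⟨R, hHR, hRad, hgR⟩ := h
      have hRp : IsPGroup p R := hRad ▸ (CfsgLib.Cores.isPGroup_pCore p).map _
      set K := sInf {T : Subgroup G | H ≤ T ∧ g ∈ normalizer (T : Set G)} with hK
      have hgK : g ∈ normalizer (K : Set G) := by
        rw [Subgroup.mem_normalizer_iff]
        intro x
        rw [hK, mem_sInf, mem_sInf]
        exact ⟨fun h T hT => (Subgroup.mem_normalizer_iff.1 hT.2 x).1 (h T hT),
          fun h T hT => (Subgroup.mem_normalizer_iff.1 hT.2 x).2 (h T hT)⟩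
      have hHK : H ≤ K := le_sInf fun T hT => hT.1
      have hKP : K ∈ invSet p ⊤ g := (mem_invSet p).2 ⟨le_top, hRp.to_le (sInf_le ⟨hHR, hgR⟩), hgK⟩
      rw [← wt_spec p ⊤ g hKP]
      refine Finset.sum_congr (Finset.filter_congr fun T hT => ?_) fun _ _ => rfl
      exact ⟨fun h => sInf_le ⟨h, ((mem_invSet p).1 hT).2.2⟩, hHK.trans⟩
    · refine Finset.sum_eq_zero fun T hT => absurd ?_ h
      obtain ⟨hT1, hT2⟩ := Finset.mem_filter.1 hT
      obtain ⟨-, hTp, hgT⟩ := (mem_invSet p).1 hT1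
      refine (Cfsg.Agent.S4089.subnormal_iff H hH g).1 ?_
      have hLN : H ⊔ zpowers g ≤ normalizer (T : Set G) :=
        sup_le (hT2.trans le_normalizer) (zpowers_le.2 hgT)
      have hn : (T.subgroupOf (H ⊔ zpowers g)).Normal := normal_subgroupOf_of_le_normalizer hLN
      refine IsSubnormal.trans (K := T.subgroupOf (H ⊔ zpowers g)) (fun x hx => hT2 hx) ?_ hn.isSubnormal
      haveI : Group.IsNilpotent (T.subgroupOf (H ⊔ zpowers g)) :=
        (hTp.comap_subtype (K := H ⊔ zpowers g)).isNilpotent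
      exact CfsgLib.PGroup.isSubnormal_of_isNilpotent _
  have h1 := card_filter_eq p (M := (⊤ : Subgroup G)) H
  rw [Finset.sum_congr rfl fun g _ => hg g, Finset.sum_boole,
    Finset.sum_congr rfl (g := fun R => if IsMaxP p ⊤ R then
      (Nat.card ↥(⊤ ⊓ normalizer (R : Set G) : Subgroup G) : ℤ) else 0), ← Finset.sum_filter] at h1
  swap
  · intro R hR
    obtain ⟨hRM, hRp, -⟩ : R ≤ ⊤ ∧ IsPGroup p R ∧ H ≤ R := by simpa using hR
    exact wtTotal_eq p _ ⊤ R rfl hRM hRp
  rw [Finset.sum_bij (t := Finset.univ.filter fun Q : Sylow p G => H ≤ (Q : Subgroup G))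
    (g := fun _ => (Nat.card (normalizer ((P : Subgroup G) : Set G)) : ℤ))
    (fun R hR => (⟨R, ((Finset.mem_filter.1 hR).2).2.1, fun {T} hT hle =>
      ((Finset.mem_filter.1 hR).2).2.2 T le_top hT hle⟩ : Sylow p G))] at h1
  rotate_left
  · intro R hR
    simp only [Finset.mem_filter, Finset.mem_univ, true_and]
    exact (show R ≤ ⊤ ∧ IsPGroup p R ∧ H ≤ R by simpa using (Finset.mem_filter.1 hR).1).2.2
  · intro R _ R' _ h
    exact congrArg (fun Q : Sylow p G => (Q : Subgroup G)) h
  · intro Q hQ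
    refine ⟨Q, ?_, Sylow.ext rfl⟩
    simp only [Finset.mem_filter, Set.Finite.mem_toFinset, Set.mem_setOf_eq]
    exact ⟨⟨le_top, Q.2, (Finset.mem_filter.1 hQ).2⟩, le_top, Q.2, fun T _ hT hle => Q.3 hT hle⟩
  · intro R hR
    simp only [top_inf_eq]
    norm_cast
    obtain ⟨g, hg⟩ := MulAction.exists_smul_eq G P (⟨R, ((Finset.mem_filter.1 hR).2).2.1, fun {T} hT hle =>
      ((Finset.mem_filter.1 hR).2).2.2 T le_top hT hle⟩ : Sylow p G)
    have h2 := Subgroup.card_mul_index (normalizer ((P : Subgroup G) : Set G))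
    have h3 := Subgroup.card_mul_index (normalizer (R : Set G))
    rw [show (normalizer ((P : Subgroup G) : Set G)).index = Nat.card (Sylow p G) from
      (Sylow.card_eq_index_normalizer P).symm] at h2
    rw [show (normalizer (R : Set G)).index = Nat.card (Sylow p G) from
      (Sylow.card_eq_index_normalizer (⟨R, ((Finset.mem_filter.1 hR).2).2.1, fun {T} hT hle =>
      ((Finset.mem_filter.1 hR).2).2.2 T le_top hT hle⟩ : Sylow p G)).symm] at h3
    exact Nat.eq_of_mul_eq_mul_right Nat.card_pos (h3.trans h2.symm)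
  rw [Finset.sum_const, nsmul_eq_mul] at h1
  have h2 : (((Set.toFinite ((⊤ : Subgroup G) : Set G)).toFinset).filter
      fun g => ((H).subgroupOf (H ⊔ zpowers g)).IsSubnormal).card =
      Nat.card {g : G // ((H).subgroupOf (H ⊔ zpowers g)).IsSubnormal} := by
    rw [Nat.card_eq_fintype_card, Fintype.card_subtype]
    congr 1
    ext g
    simp
  rw [h2] at h1
  have h3 : Nat.card {Q : Sylow p G // H ≤ (Q : Subgroup G)} =
      (Finset.univ.filter fun Q : Sylow p G => H ≤ (Q : Subgroup G)).card := by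
    rw [Nat.card_eq_fintype_card, Fintype.card_subtype]
  rw [h3]
  exact_mod_cast h1

omit [Fact p.Prime] in
/-- Fibres of a map constant exactly on the cosets `g U`. -/
theorem card_mul_of_cosets {α β : Type*} [Finite α] (f : α → β) (c : ℕ)
    (hf : ∀ b, Nat.card {a // f a = b} = c) (hs : Function.Surjective f) :
    Nat.card α = Nat.card β * c := by
  haveI := Finite.of_surjective f hs
  letI := Fintype.ofFinite β
  rw [← Nat.card_congr (Equiv.sigmaFiberEquiv f), Nat.card_sigma, Finset.sum_congr rfl fun b _ => hf b,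
    Finset.sum_const, smul_eq_mul, Finset.card_univ, ← Nat.card_eq_fintype_card]

/-- The number of elements moving `H` into a Sylow subgroup. -/
theorem card_moving_eq (H : Subgroup G) (P : Sylow p G) :
    Nat.card {g : G // H.map (MulAut.conj g).toMonoidHom ≤ (P : Subgroup G)} =
      Nat.card {Q : Sylow p G // H ≤ (Q : Subgroup G)} *
        Nat.card (normalizer ((P : Subgroup G) : Set G)) := by
  let Φ := {g : G // H.map (MulAut.conj g).toMonoidHom ≤ (P : Subgroup G)}
  have hQmem : ∀ (g : G) (x : G), x ∈ ((g • P : Sylow p G) : Subgroup G) ↔ g⁻¹ * x * g ∈ (P : Subgroup G) := by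
    intro g x
    rw [Sylow.coe_subgroup_smul, mem_pointwise_smul_iff_inv_smul_mem, ← map_inv, MulAut.smul_def,
      MulAut.conj_apply, inv_inv]
  refine card_mul_of_cosets (fun g : Φ => (⟨g.1⁻¹ • P, fun x hx => (hQmem _ x).2 (g.2 ⟨x, hx, by
    show g.1 * x * g.1⁻¹ = _
    rw [inv_inv]⟩)⟩ : {Q : Sylow p G // H ≤ (Q : Subgroup G)})) _ ?_ ?_
  · rintro ⟨Q, hQ⟩
    obtain ⟨a, rfl⟩ := MulAction.exists_smul_eq G P Q
    have hkey : ∀ g : G, g⁻¹ • P = a • P ↔ g * a ∈ normalizer ((P : Subgroup G) : Set G) := fun g => by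
      rw [inv_smul_eq_iff, ← mul_smul, eq_comm, Sylow.smul_eq_iff_mem_normalizer]; rfl
    refine Nat.card_congr
      { toFun := fun z => ⟨z.1.1 * a, (hkey _).1 (congrArg Subtype.val z.2)⟩
        invFun := fun n => ⟨⟨n.1 * a⁻¹, ?_⟩, ?_⟩
        left_inv := fun z => Subtype.ext (Subtype.ext (by simp))
        right_inv := fun n => Subtype.ext (by simp) }
    · rintro _ ⟨x, hx, rfl⟩
      show n.1 * a⁻¹ * x * (n.1 * a⁻¹)⁻¹ ∈ (P : Subgroup G)
      rw [show n.1 * a⁻¹ * x * (n.1 * a⁻¹)⁻¹ = n.1 * (a⁻¹ * x * a) * n.1⁻¹ by group]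
      exact (Subgroup.mem_normalizer_iff.1 n.2 _).1 ((hQmem a x).1 (hQ hx))
    · exact Subtype.ext ((hkey _).2 (by rw [inv_mul_cancel_right]; exact n.2))
  · rintro ⟨Q, hQ⟩
    obtain ⟨a, rfl⟩ := MulAction.exists_smul_eq G P Q
    refine ⟨⟨a⁻¹, ?_⟩, Subtype.ext (by show a⁻¹⁻¹ • P = a • P; rw [inv_inv])⟩
    rintro _ ⟨x, hx, rfl⟩
    show a⁻¹ * x * a⁻¹⁻¹ ∈ (P : Subgroup G)
    rw [inv_inv]
    exact (hQmem a x).1 (hQ hx)

/-- Double counting of the elements moving `H` into `P`. -/
theorem card_conjugates_mul (H : Subgroup G) (P : Sylow p G) :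
    Nat.card {Q : Sylow p G // H ≤ (Q : Subgroup G)} *
        Nat.card (normalizer ((P : Subgroup G) : Set G)) =
      Nat.card {K : Subgroup G // K ≤ (P : Subgroup G) ∧ ∃ g : G, K = H.map (MulAut.conj g).toMonoidHom} *
        Nat.card (normalizer (H : Set G)) := by
  let Φ := {g : G // H.map (MulAut.conj g).toMonoidHom ≤ (P : Subgroup G)}
  have hconj : ∀ (g : G) (K : Subgroup G) (x : G),
      x ∈ K.map (MulAut.conj g).toMonoidHom ↔ g⁻¹ * x * g ∈ K := fun g K x => by
    constructor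
    · rintro ⟨y, hy, rfl⟩
      rwa [show g⁻¹ * (MulAut.conj g).toMonoidHom y * g = y by
        show g⁻¹ * (g * y * g⁻¹) * g = y
        group]
    · intro h
      exact ⟨_, h, by show g * (g⁻¹ * x * g) * g⁻¹ = x; group⟩
  have h1 : Nat.card Φ = Nat.card {Q : Sylow p G // H ≤ (Q : Subgroup G)} *
      Nat.card (normalizer ((P : Subgroup G) : Set G)) := card_moving_eq p H P
  have h2 : Nat.card Φ = Nat.card {K : Subgroup G // K ≤ (P : Subgroup G) ∧ ∃ g : G, K = H.map (MulAut.conj g).toMonoidHom} *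
      Nat.card (normalizer (H : Set G)) := by
    refine card_mul_of_cosets (fun g : Φ => (⟨H.map (MulAut.conj g.1).toMonoidHom, g.2, g.1, rfl⟩ :
      {K : Subgroup G // K ≤ (P : Subgroup G) ∧ ∃ g : G, K = H.map (MulAut.conj g).toMonoidHom})) _ ?_ ?_
    · rintro ⟨K, hK, a, rfl⟩
      have hkey : ∀ g : G, H.map (MulAut.conj g).toMonoidHom = H.map (MulAut.conj a).toMonoidHom ↔
          a⁻¹ * g ∈ normalizer (H : Set G) := by
        intro g
        rw [Subgroup.mem_normalizer_iff]
        constructor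
        · intro h x
          have h3 := SetLike.ext_iff.1 h (g * x * g⁻¹)
          rw [hconj, hconj, show g⁻¹ * (g * x * g⁻¹) * g = x by group] at h3
          rw [h3, show a⁻¹ * g * x * (a⁻¹ * g)⁻¹ = a⁻¹ * (g * x * g⁻¹) * a by group]
        · intro h
          ext x
          rw [hconj, hconj, h (g⁻¹ * x * g),
            show a⁻¹ * g * (g⁻¹ * x * g) * (a⁻¹ * g)⁻¹ = a⁻¹ * x * a by group]
      refine Nat.card_congr
        { toFun := fun z => ⟨a⁻¹ * z.1.1, (hkey _).1 (congrArg Subtype.val z.2)⟩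
          invFun := fun n => ⟨⟨a * n.1, ?_⟩, ?_⟩
          left_inv := fun z => Subtype.ext (Subtype.ext (by simp))
          right_inv := fun n => Subtype.ext (by simp) }
      · rw [(hkey _).2 (by rw [inv_mul_cancel_left]; exact n.2)]
        exact hK
      · exact Subtype.ext ((hkey _).2 (by rw [inv_mul_cancel_left]; exact n.2))
    · rintro ⟨K, hK, a, rfl⟩
      exact ⟨⟨a, hK⟩, rfl⟩
  rw [← h1, h2]

end CfsgLib.Transfer.Casolo
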