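import Cfsg.Agent.Lib.Transfer.SubnormalizerSeries
import Cfsg.Agent.Lib.Transfer.FixedPointProduct
import Mathlib.Analysis.MeanInequalities

/-!
The number of `p`-elements against the number of Sylow subgroups in a `p`-solvable group.
-/

set_option autoImplicit false

namespace CfsgLib.Transfer.Casolo

open Subgroup
open scoped Classical BigOperators

universe u

variable {G : Type u} [Group G] [Finite G] {p : ℕ} [hp : Fact p.Prime]

omit hp in
theorem card_centModSet_div (H : Subgroup G) {N M : Subgroup G} [M.Normal] (hMN : M ≤ N) :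
    Nat.card (centModSet H N M) / Nat.card M = Nat.card {k : N.map (QuotientGroup.mk' M) //
      ∀ h ∈ H, (QuotientGroup.mk' M h) * (k : G ⧸ M) * (QuotientGroup.mk' M h)⁻¹ = k} := by
  have hle : M ≤ centModGroup H N M := fun m hm => ⟨hMN hm, fun h _ =>
    mul_mem ((inferInstance : M.Normal).conj_mem m hm h) (inv_mem hm)⟩
  rw [show Nat.card (centModSet H N M) = Nat.card (centModGroup H N M) from rfl,
    CfsgLib.Cores.card_eq_card_map_mk'_mul (N := M), inf_eq_right.2 hle, Nat.mul_div_cancel _ Nat.card_pos]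
  have hkey : ∀ u h : G, (QuotientGroup.mk' M h * QuotientGroup.mk' M u * (QuotientGroup.mk' M h)⁻¹ =
      QuotientGroup.mk' M u ↔ h * u * h⁻¹ * u⁻¹ ∈ M) := fun u h => by
    rw [← map_mul, ← map_inv, ← map_mul, ← mul_inv_eq_one, ← map_inv, ← map_mul]
    exact QuotientGroup.eq_one_iff _
  symm
  refine Nat.card_congr
    { toFun := fun k => ⟨(k.1 : G ⧸ M), ?_⟩
      invFun := fun k => ⟨⟨k.1, map_mono (fun u (hu : u ∈ centModGroup H N M) => hu.1) k.2⟩, ?_⟩
      left_inv := fun k => rfl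
      right_inv := fun k => rfl }
  · obtain ⟨u, hu, hk⟩ := k.1.2
    exact ⟨u, ⟨hu, fun h hh => (hkey u h).1 (by rw [hk]; exact k.2 h hh)⟩, hk⟩
  · intro h hh
    obtain ⟨u, hu, hk⟩ := k.2
    rw [show ((⟨k.1, map_mono (fun u (hu : u ∈ centModGroup H N M) => hu.1) k.2⟩ : N.map (QuotientGroup.mk' M)) : G ⧸ M) = k.1 from rfl,
      ← hk]
    exact (hkey u h).2 (hu.2 h hh)

/-- The inequality on one `p'`-factor. -/
theorem prod_centModSet_le (P : Sylow p G) {N M : Subgroup G} [M.Normal] [N.Normal] (hMN : M ≤ N)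
    (hcop : (M.relIndex N).Coprime p) [Fintype (P : Subgroup G)] :
    (∏ x : (P : Subgroup G), Nat.card (centModSet (zpowers (x : G)) N M) / Nat.card M) ^ p ≤
      (Nat.card (centModSet (⊥ : Subgroup G) N M) / Nat.card M) ^ Nat.card (P : Subgroup G) *
      (Nat.card (centModSet (P : Subgroup G) N M) / Nat.card M) ^ ((p - 1) * Nat.card (P : Subgroup G)) := by
  haveI : (N.map (QuotientGroup.mk' M)).Normal :=
    (inferInstance : N.Normal).map _ (QuotientGroup.mk'_surjective M)
  set K := N.map (QuotientGroup.mk' M)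
  let φ : (P : Subgroup G) →* MulAut K :=
    MulAut.conjNormal.comp ((QuotientGroup.mk' M).comp (P : Subgroup G).subtype)
  have hφ : ∀ (x : (P : Subgroup G)) (k : K), φ x k = k ↔
      QuotientGroup.mk' M (x : G) * (k : G ⧸ M) * (QuotientGroup.mk' M (x : G))⁻¹ = k := fun x k => by
    rw [← Subtype.coe_inj]; rfl
  have e1 : ∀ x : (P : Subgroup G), Nat.card (centModSet (zpowers (x : G)) N M) / Nat.card M =
      Nat.card {k : K // φ x k = k} := by
    intro x
    rw [card_centModSet_div _ hMN]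
    refine Nat.card_congr (Equiv.subtypeEquivRight fun k => ⟨fun h => (hφ x k).2 (h _ (mem_zpowers _)),
      fun h g hg => ?_⟩)
    have hle : zpowers (x : G) ≤ (centralizer ({(k : G ⧸ M)} : Set (G ⧸ M))).comap (QuotientGroup.mk' M) :=
      zpowers_le.2 (mem_centralizer_singleton_iff.2 (mul_inv_eq_iff_eq_mul.1 ((hφ x k).1 h)))
    exact mul_inv_eq_iff_eq_mul.2 (mem_centralizer_singleton_iff.1 (hle hg))
  have hK : Nat.card (centModSet (⊥ : Subgroup G) N M) / Nat.card M = Nat.card K := by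
    rw [card_centModSet_div _ hMN]
    exact Nat.card_congr (Equiv.subtypeUnivEquiv fun k h hh => by rw [mem_bot.1 hh]; simp)
  have hKc : (Nat.card K).Coprime p := by
    rwa [show Nat.card K = M.relIndex N by
      rw [← relIndex_ker (K := N) (QuotientGroup.mk' M), QuotientGroup.ker_mk']]
  have e2 : Nat.card (centModSet (P : Subgroup G) N M) / Nat.card M =
      Nat.card {k : K // ∀ x, φ x k = k} := by
    rw [card_centModSet_div _ hMN]
    exact Nat.card_congr (Equiv.subtypeEquivRight fun k =>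
      ⟨fun h x => (hφ x k).2 (h _ x.2), fun h g hg => (hφ ⟨g, hg⟩ k).1 (h ⟨g, hg⟩)⟩)
  rw [hK, e2, Finset.prod_congr rfl fun x _ => e1 x, Nat.card_eq_fintype_card (α := (P : Subgroup G))]
  exact prod_fixed_le _ _ K φ rfl P.2 hKc

/-- The number of Sylow subgroups containing an element. -/
noncomputable def lam (p : ℕ) (g : G) : ℕ := Nat.card {Q : Sylow p G // g ∈ (Q : Subgroup G)}

omit hp in
theorem lam_eq (g : G) : lam p g = Nat.card {Q : Sylow p G // zpowers g ≤ (Q : Subgroup G)} :=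
  Nat.card_congr (Equiv.subtypeEquivRight fun Q => zpowers_le.symm)

theorem card_moveSet_eq_mul (H : Subgroup G) (P : Sylow p G) :
    Nat.card (moveSet H (P : Subgroup G)) = Nat.card {Q : Sylow p G // H ≤ (Q : Subgroup G)} *
        Nat.card (normalizer ((P : Subgroup G) : Set G)) := by
  rw [← card_moving_eq p H P]
  exact Nat.card_congr
    (Equiv.subtypeEquivRight fun g => ⟨fun hg => by rintro _ ⟨x, hx, rfl⟩; exact hg x hx,
      fun hg x hx => hg ⟨x, hx, rfl⟩⟩)

/-- `∏ λ(x)` against the Sylow number. -/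
theorem prod_lam_le (hG : Cfsg.IsPSolvable p G) (P : Sylow p G) [Fintype (P : Subgroup G)] :
    (∏ x : (P : Subgroup G), lam p (x : G)) ^ p ≤ Nat.card (Sylow p G) ^ Nat.card (P : Subgroup G) := by
  obtain ⟨n, M, h0, hn, hmono, hnormal, hfac⟩ := hG
  set c : Subgroup G → Fin n → ℕ := fun H i => if ((M i.castSucc).relIndex (M i.succ)).Coprime p then
    Nat.card (centModSet H (M i.succ) (M i.castSucc)) / Nat.card (M i.castSucc) else 1 with hc
  set NP := Nat.card (normalizer ((P : Subgroup G) : Set G)) with hNP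
  set s := Nat.card (P : Subgroup G) with hs
  have hser : ∀ H : Subgroup G, IsPGroup p H →
      Nat.card {Q : Sylow p G // H ≤ (Q : Subgroup G)} * NP = s * ∏ i, c H i := fun H hH => by
    rw [← card_moveSet_eq_mul, card_moveSet_series H hH P n M h0 hn hmono hnormal hfac]
  have hx : ∀ x : (P : Subgroup G), lam p (x : G) * NP = s * ∏ i, c (zpowers (x : G)) i := fun x => by
    rw [lam_eq]
    exact hser _ (P.2.to_le (zpowers_le.2 x.2))
  have hP : NP = s * ∏ i, c (P : Subgroup G) i := by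
    have h := hser _ P.2
    rwa [show Nat.card {Q : Sylow p G // (P : Subgroup G) ≤ (Q : Subgroup G)} = 1 from
      Nat.card_eq_one_iff_exists.2 ⟨⟨P, le_rfl⟩, fun ⟨Q, hQ⟩ => Subtype.ext (Sylow.ext (P.3 Q.2 hQ))⟩,
      one_mul] at h
  have hbot : Nat.card (Sylow p G) * NP = s * ∏ i, c ⊥ i := by
    rw [← hser ⊥ IsPGroup.of_bot]
    congr 1
    exact (Nat.card_congr (Equiv.subtypeUnivEquiv fun Q => bot_le)).symm
  have hmain : (∏ x : (P : Subgroup G), ∏ i, c (zpowers (x : G)) i) ^ p ≤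
      (∏ i, c ⊥ i) ^ s * (∏ i, c (P : Subgroup G) i) ^ ((p - 1) * s) := by
    rw [Finset.prod_comm, ← Finset.prod_pow, ← Finset.prod_pow, ← Finset.prod_pow, ← Finset.prod_mul_distrib]
    refine Finset.prod_le_prod' fun i _ => ?_
    by_cases hcop : ((M i.castSucc).relIndex (M i.succ)).Coprime p
    · simp only [hc, if_pos hcop]
      haveI := hnormal i.castSucc
      haveI := hnormal i.succ
      exact prod_centModSet_le P (hmono (Fin.castSucc_lt_succ (i := i)).le) hcop
    · simp [hc, if_neg hcop]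
  have hpos : 0 < NP ^ (p * s) := pow_pos Nat.card_pos _
  refine Nat.le_of_mul_le_mul_right ?_ hpos
  obtain ⟨q, hq⟩ : ∃ q, p = q + 1 := ⟨p - 1, (Nat.sub_add_cancel hp.out.one_le).symm⟩
  calc (∏ x : (P : Subgroup G), lam p (x : G)) ^ p * NP ^ (p * s)
      = (∏ x : (P : Subgroup G), lam p (x : G) * NP) ^ p := by
        rw [Finset.prod_mul_distrib, Finset.prod_const, Finset.card_univ, ← Nat.card_eq_fintype_card, mul_pow,
          ← pow_mul, mul_comm s p]
    _ = s ^ (s * p) * (∏ x : (P : Subgroup G), ∏ i, c (zpowers (x : G)) i) ^ p := by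
        rw [Finset.prod_congr rfl fun x _ => hx x, Finset.prod_mul_distrib, Finset.prod_const,
          Finset.card_univ, ← Nat.card_eq_fintype_card, mul_pow, ← pow_mul]
    _ ≤ s ^ (s * p) * ((∏ i, c ⊥ i) ^ s * (∏ i, c (P : Subgroup G) i) ^ ((p - 1) * s)) :=
        Nat.mul_le_mul_left _ hmain
    _ = (s * ∏ i, c ⊥ i) ^ s * (s * ∏ i, c (P : Subgroup G) i) ^ ((p - 1) * s) := by
        subst hq
        rw [Nat.add_sub_cancel, mul_pow, mul_pow, show s * (q + 1) = s + q * s by ring, pow_add]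
        ring
    _ = Nat.card (Sylow p G) ^ s * NP ^ (p * s) := by
        rw [← hbot, ← hP, mul_pow, mul_assoc, ← pow_add]
        congr 2
        subst hq
        rw [Nat.add_sub_cancel]
        ring

/-- The count of `p`-elements. -/
theorem card_pElements_bound (hG : Cfsg.IsPSolvable p G) (P : Sylow p G) :
    Nat.card (P : Subgroup G) ^ p * Nat.card (Sylow p G) ^ (p - 1) ≤
      Nat.card {g : G // ∃ k : ℕ, orderOf g = p ^ k} ^ p := by
  letI := Fintype.ofFinite G
  letI := Fintype.ofFinite (Sylow p G)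
  letI := Fintype.ofFinite (P : Subgroup G)
  set n := Nat.card (Sylow p G) with hndef
  set s := Nat.card (P : Subgroup G) with hsdef
  set U := Finset.univ.filter fun g : G => ∃ k : ℕ, orderOf g = p ^ k with hU
  have hu : Nat.card {g : G // ∃ k : ℕ, orderOf g = p ^ k} = U.card := by
    rw [Nat.card_eq_fintype_card, Fintype.card_subtype]
  have hmemU : ∀ {Q : Sylow p G} {g : G}, g ∈ (Q : Subgroup G) → g ∈ U := fun {Q g} hg => by
    obtain ⟨k, hk⟩ := IsPGroup.iff_orderOf.1 Q.2 ⟨g, hg⟩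
    exact Finset.mem_filter.2 ⟨Finset.mem_univ _, k, by rwa [← Subgroup.orderOf_coe] at hk⟩
  set f : G → ℝ := fun g => (lam p g : ℝ)⁻¹ with hf
  have hlamconj : ∀ (a g : G), lam p (a * g * a⁻¹) = lam p g := fun a g => by
    refine Nat.card_congr ((MulAction.toPerm a⁻¹).subtypeEquiv fun Q => ?_)
    show _ ↔ g ∈ ((a⁻¹ • Q : Sylow p G) : Subgroup G)
    rw [Sylow.coe_subgroup_smul, mem_pointwise_smul_iff_inv_smul_mem, ← map_inv, inv_inv, MulAut.smul_def,
      MulAut.conj_apply]
  have hlampos : ∀ {Q : Sylow p G} {g : G}, g ∈ (Q : Subgroup G) → 0 < lam p g := fun {Q g} hg =>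
    Nat.card_pos_iff.2 ⟨⟨⟨Q, hg⟩⟩, inferInstance⟩
  have hu2 : (U.card : ℝ) = (n : ℝ) * ∑ x : (P : Subgroup G), f (x : G) := by
    have h1 : (U.card : ℝ) = ∑ g ∈ U, ∑ Q ∈ Finset.univ.filter (fun Q : Sylow p G => g ∈ (Q : Subgroup G)), f g := by
      rw [Finset.card_eq_sum_ones]
      push_cast
      refine Finset.sum_congr rfl fun g hg => ?_
      rw [Finset.sum_const, nsmul_eq_mul, ← Fintype.card_subtype, ← Nat.card_eq_fintype_card]
      show (1 : ℝ) = (lam p g : ℝ) * (lam p g : ℝ)⁻¹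
      obtain ⟨k, hk⟩ := (Finset.mem_filter.1 hg).2
      obtain ⟨Q, hQ⟩ := (IsPGroup.of_card (p := p) (n := k) (G := zpowers g)
        (by rw [Nat.card_zpowers, hk])).exists_le_sylow
      rw [mul_inv_cancel₀ (Nat.cast_ne_zero.2 (hlampos (hQ (mem_zpowers g))).ne')]
    rw [h1, Finset.sum_comm' (t' := Finset.univ)
      (s' := fun Q : Sylow p G => U.filter fun g => g ∈ (Q : Subgroup G)) (fun g Q => by simp)]
    rw [Finset.sum_congr rfl (g := fun _ => ∑ x : (P : Subgroup G), f (x : G)), Finset.sum_const,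
      nsmul_eq_mul, Finset.card_univ, ← Nat.card_eq_fintype_card]
    intro Q _
    obtain ⟨a, rfl⟩ := MulAction.exists_smul_eq G P Q
    have hQmem : ∀ x : G, x ∈ ((a • P : Sylow p G) : Subgroup G) ↔ a⁻¹ * x * a ∈ (P : Subgroup G) := fun x => by
      rw [Sylow.coe_subgroup_smul, mem_pointwise_smul_iff_inv_smul_mem, ← map_inv, MulAut.smul_def,
        MulAut.conj_apply, inv_inv]
    symm
    refine Finset.sum_bij (fun (x : (P : Subgroup G)) _ => a * (x : G) * a⁻¹) (fun x _ => ?_) ?_ ?_ ?_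
    · have : a * (x : G) * a⁻¹ ∈ ((a • P : Sylow p G) : Subgroup G) := (hQmem _).2 (by
        rw [show a⁻¹ * (a * (x : G) * a⁻¹) * a = x by group]; exact x.2)
      exact Finset.mem_filter.2 ⟨hmemU this, this⟩
    · intro x _ y _ h
      exact Subtype.ext (mul_left_cancel (mul_right_cancel h))
    · intro g hg
      exact ⟨⟨a⁻¹ * g * a, (hQmem g).1 (Finset.mem_filter.1 hg).2⟩, Finset.mem_univ _, by group⟩
    · intro x _
      show f x = f _
      simp only [hf, hlamconj]
  set r : ↥(P : Subgroup G) → ℝ := fun x => (n : ℝ) * f (x : G) with hr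
  have hrpos : ∀ x, 0 ≤ r x := fun x => by positivity
  have husum : (U.card : ℝ) = ∑ x, r x := by rw [hu2, Finset.mul_sum]
  have hamgm : ∏ x, r x ≤ ((U.card : ℝ) / s) ^ s := by
    have h := Real.geom_mean_le_arith_mean Finset.univ (fun _ : (P : Subgroup G) => (1 : ℝ)) r
      (fun _ _ => zero_le_one) (by simpa using Fintype.card_pos) (fun x _ => hrpos x)
    simp only [Real.rpow_one, Finset.sum_const, Finset.card_univ, nsmul_eq_mul, mul_one, one_mul,
      ← Nat.card_eq_fintype_card] at h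
    rw [← husum] at h
    have h2 := pow_le_pow_left₀ (by positivity) h s
    rwa [Real.rpow_inv_natCast_pow (Finset.prod_nonneg fun x _ => hrpos x) Nat.card_pos.ne'] at h2
  have hlow : ((n : ℝ) ^ (p - 1)) ^ s ≤ (∏ x, r x) ^ p := by
    have hl : ((∏ x : (P : Subgroup G), lam p (x : G) : ℕ) : ℝ) ^ p ≤ (n : ℝ) ^ s := by
      exact_mod_cast prod_lam_le hG P
    have hprod : ∏ x, r x = (n : ℝ) ^ s / ((∏ x : (P : Subgroup G), lam p (x : G) : ℕ) : ℝ) := by
      simp only [hr, hf]
      rw [Finset.prod_mul_distrib, Finset.prod_const, Finset.card_univ, ← Nat.card_eq_fintype_card,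
        Finset.prod_inv_distrib, div_eq_mul_inv, Nat.cast_prod]
    have hlp : (0 : ℝ) < ((∏ x : (P : Subgroup G), lam p (x : G) : ℕ) : ℝ) :=
      Nat.cast_pos.2 (Finset.prod_pos fun x _ => hlampos x.2)
    rw [hprod, div_pow, le_div_iff₀ (pow_pos hlp p)]
    calc ((n : ℝ) ^ (p - 1)) ^ s * ((∏ x : (P : Subgroup G), lam p (x : G) : ℕ) : ℝ) ^ p
        ≤ ((n : ℝ) ^ (p - 1)) ^ s * (n : ℝ) ^ s := by gcongr
      _ = ((n : ℝ) ^ s) ^ p := by
          rw [← mul_pow, ← pow_succ, Nat.sub_add_cancel hp.out.one_le, ← pow_mul, ← pow_mul, mul_comm]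
  have hfin : ((n : ℝ) ^ (p - 1)) ^ s ≤ (((U.card : ℝ) / s) ^ p) ^ s := by
    refine hlow.trans ((pow_le_pow_left₀ (Finset.prod_nonneg fun x _ => hrpos x) hamgm p).trans_eq ?_)
    rw [← pow_mul, ← pow_mul, mul_comm]
  have h4 := le_of_pow_le_pow_left₀ Nat.card_pos.ne' (by positivity) hfin
  rw [div_pow, le_div_iff₀ (pow_pos (Nat.cast_pos.2 Nat.card_pos) p)] at h4
  rw [hu, mul_comm]
  exact_mod_cast h4

end CfsgLib.Transfer.Casolo
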