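import Cfsg.Agent.Lib.Transfer.Subnormalizer
import Cfsg.Prelude.Def_Local

/-!
The number of elements moving a `p`-subgroup into a Sylow subgroup, along a normal series with
`p`- and `p'`-factors.
-/

set_option autoImplicit false

namespace CfsgLib.Transfer.Casolo

open Subgroup
open scoped Classical BigOperators

variable {G : Type*} [Group G] [Finite G] {p : ℕ} [hp : Fact p.Prime]

/-- The elements moving `H` into `X`. -/
def moveSet (H X : Subgroup G) : Set G := {g | ∀ h ∈ H, g * h * g⁻¹ ∈ X}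

/-- The centraliser of `H` in `N` modulo `M`, as a set. -/
def centModSet (H N M : Subgroup G) : Set G := {u | u ∈ N ∧ ∀ h ∈ H, h * u * h⁻¹ * u⁻¹ ∈ M}

/-- The centraliser of `H` in `N` modulo the normal subgroup `M`. -/
def centModGroup (H N M : Subgroup G) [M.Normal] : Subgroup G where
  carrier := centModSet H N M
  one_mem' := ⟨one_mem _, fun h _ => by simp [M.one_mem]⟩
  mul_mem' := fun {a b} ⟨ha, ha'⟩ ⟨hb, hb'⟩ => ⟨mul_mem ha hb, fun h hh => by
    rw [show h * (a * b) * h⁻¹ * (a * b)⁻¹ =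
      (h * a * h⁻¹ * a⁻¹) * (a * (h * b * h⁻¹ * b⁻¹) * a⁻¹) by group]
    exact mul_mem (ha' h hh) ((inferInstance : M.Normal).conj_mem _ (hb' h hh) a)⟩
  inv_mem' := fun {a} ⟨ha, ha'⟩ => ⟨inv_mem ha, fun h hh => by
    rw [show h * a⁻¹ * h⁻¹ * a⁻¹⁻¹ = a⁻¹ * (h * a * h⁻¹ * a⁻¹)⁻¹ * a⁻¹⁻¹ by group]
    exact (inferInstance : M.Normal).conj_mem _ (M.inv_mem (ha' h hh)) a⁻¹⟩

theorem card_dvd_centModSet (H : Subgroup G) {N M : Subgroup G} [M.Normal] (hMN : M ≤ N) :
    Nat.card M ∣ Nat.card (centModSet H N M) := by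
  have hle : M ≤ centModGroup H N M := fun m hm => ⟨hMN hm, fun h _ =>
    mul_mem ((inferInstance : M.Normal).conj_mem m hm h) (inv_mem hm)⟩
  exact Subgroup.card_dvd_of_le hle

omit hp in
theorem card_mul_relIndex_of_le' {A B : Subgroup G} (h : A ≤ B) :
    Nat.card A * A.relIndex B = Nat.card B := by
  rw [← relIndex_bot_left, relIndex_mul_relIndex _ _ _ bot_le h, relIndex_bot_left]

theorem relIndex_sup_normal (X N : Subgroup G) [N.Normal] : X.relIndex (X ⊔ N) = X.relIndex N := by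
  refine Nat.eq_of_mul_eq_mul_left (Nat.card_pos (α := X)) ?_
  rw [card_mul_relIndex_of_le' le_sup_left, ← card_mul_relIndex_of_le' (le_sup_right : N ≤ X ⊔ N),
    relIndex_sup_right, ← card_mul_relIndex_of_le' (inf_le_left : X ⊓ N ≤ X), inf_relIndex_left,
    ← inf_relIndex_right X N, ← card_mul_relIndex_of_le' (inf_le_right : X ⊓ N ≤ N)]
  ring

omit hp in
theorem inf_of_coprime {M N : Subgroup G} [M.Normal] (hMN : M ≤ N) {P : Subgroup G}
    (hP : IsPGroup p P) (hcop : (M.relIndex N).Coprime p) : (P ⊔ M) ⊓ N ≤ M := by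
  intro x hx
  obtain ⟨hxX, hxN⟩ := Subgroup.mem_inf.1 hx
  rw [← SetLike.mem_coe, Subgroup.mul_normal] at hxX
  obtain ⟨a, ha, m, hm, rfl⟩ := hxX
  have haN : a ∈ N := by
    have := mul_mem hxN (inv_mem (hMN hm))
    rwa [mul_inv_cancel_right] at this
  obtain ⟨j, hj⟩ := hP ⟨a, ha⟩
  have hj' : a ^ p ^ j = 1 := congrArg Subtype.val hj
  haveI : (M.subgroupOf N).Normal := inferInstance
  have h1 : orderOf (QuotientGroup.mk' (M.subgroupOf N) ⟨a, haN⟩) = 1 := by
    refine Nat.eq_one_of_dvd_coprimes ((Nat.Coprime.pow_right j hcop)) (orderOf_dvd_natCard _)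
      (orderOf_dvd_of_pow_eq_one ?_)
    rw [← map_pow, show (⟨a, haN⟩ : N) ^ p ^ j = 1 from Subtype.ext hj', map_one]
  exact mul_mem (Subgroup.mem_subgroupOf.1 ((QuotientGroup.eq_one_iff _).1 (orderOf_eq_one_iff.1 h1))) hm

theorem sup_eq_sup_of_pfactor (P : Sylow p G) {M N : Subgroup G} [M.Normal] [N.Normal] (hMN : M ≤ N)
    (hp' : ∃ k, M.relIndex N = p ^ k) : (P : Subgroup G) ⊔ M = (P : Subgroup G) ⊔ N := by
  refine le_antisymm (sup_le_sup_left hMN _) (sup_le le_sup_left ?_)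
  set I := ((P : Subgroup G) ⊔ M) ⊓ N
  have hI : I ≤ N := inf_le_right
  obtain ⟨k, hk⟩ := hp'
  have h1 : ((P : Subgroup G) ⊔ M).relIndex N ∣ p ^ k := hk ▸
    Subgroup.relIndex_dvd_of_le_left N le_sup_right
  have h2 : ((P : Subgroup G) ⊔ M).relIndex N ∣ (P : Subgroup G).index := by
    rw [← relIndex_sup_normal]
    exact ((dvd_mul_right _ _).trans (Subgroup.relIndex_mul_index le_sup_left).dvd).trans
      (Subgroup.index_dvd_of_le le_sup_left)
  obtain ⟨j, -, hj⟩ := (Nat.dvd_prime_pow hp.out).1 h1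
  rcases Nat.eq_zero_or_pos j with rfl | hj0
  · rw [pow_zero] at hj
    exact Subgroup.relIndex_eq_one.1 hj
  · exact absurd ((dvd_pow_self p hj0.ne').trans (hj ▸ h2)) P.not_dvd_index

/-- One step of the series. -/
theorem moveSet_step (H : Subgroup G) (hH : IsPGroup p H) (P : Sylow p G) {M N : Subgroup G} [M.Normal] [N.Normal]
    (hMN : M ≤ N) (hcop : (M.relIndex N).Coprime p) :
    Nat.card (moveSet H ((P : Subgroup G) ⊔ M)) * Nat.card N =
      Nat.card (moveSet H ((P : Subgroup G) ⊔ N)) * Nat.card (centModSet H N M) := by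
  set X := (P : Subgroup G) ⊔ M
  set Y := (P : Subgroup G) ⊔ N
  have hXY : X ≤ Y := sup_le_sup_left hMN _
  let T := {z : G × N // z.1 ∈ moveSet H Y ∧ (z.2 : G) * z.1 ∈ moveSet H X}
  have h1 : Nat.card T = Nat.card (moveSet H X) * Nat.card N := by
    rw [← Nat.card_prod]
    refine Nat.card_congr
      { toFun := fun z => (⟨(z.1.2 : G) * z.1.1, z.2.2⟩, z.1.2)
        invFun := fun z => ⟨((z.2 : G)⁻¹ * z.1.1, z.2), fun h hh => ?_, ?_⟩
        left_inv := fun z => Subtype.ext (Prod.ext (inv_mul_cancel_left _ _) rfl)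
        right_inv := fun z => Prod.ext (Subtype.ext (mul_inv_cancel_left _ _)) rfl }
    · rw [show (z.2 : G)⁻¹ * z.1.1 * h * ((z.2 : G)⁻¹ * z.1.1)⁻¹ =
        (z.2 : G)⁻¹ * (z.1.1 * h * z.1.1⁻¹) * (z.2 : G) by group]
      have hz : (z.2 : G) ∈ Y := Subgroup.mem_sup_right z.2.2
      exact mul_mem (mul_mem (inv_mem hz) (hXY (z.1.2 h hh))) hz
    · show (z.2 : G) * ((z.2 : G)⁻¹ * z.1.1) ∈ moveSet H X
      rw [mul_inv_cancel_left]
      exact z.1.2
  have hfib : ∀ g ∈ moveSet H Y, Nat.card {u : N // (u : G) * g ∈ moveSet H X} =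
      Nat.card (centModSet H N M) := by
    intro g hg
    have hgp : IsPGroup p (H.map (MulAut.conj g).toMonoidHom) := hH.map _
    have hgY : H.map (MulAut.conj g).toMonoidHom ≤ Y := by rintro _ ⟨h, hh, rfl⟩; exact hg h hh
    obtain ⟨Q, hQ⟩ := (hgp.comap_subtype (K := Y)).exists_le_sylow
    obtain ⟨⟨y, hy⟩, hy'⟩ := MulAction.exists_smul_eq Y (P.subtype le_sup_left) Q
    have hy2 := hy
    rw [show Y = N ⊔ (P : Subgroup G) from sup_comm _ _, ← SetLike.mem_coe, Subgroup.normal_mul] at hy2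
    obtain ⟨v, hv, x, hx, hvx⟩ := hy2
    have hmem : ∀ h ∈ H, v⁻¹ * g * h * (v⁻¹ * g)⁻¹ ∈ X := by
      intro h hh
      have h2 : (⟨g * h * g⁻¹, hg h hh⟩ : Y) ∈ ((⟨y, hy⟩ : Y) • P.subtype le_sup_left : Sylow p Y) :=
        hy' ▸ hQ (show g * h * g⁻¹ ∈ H.map (MulAut.conj g).toMonoidHom from ⟨h, hh, rfl⟩)
      rw [← SetLike.mem_coe, Sylow.coe_smul, Set.mem_smul_set_iff_inv_smul_mem, ← map_inv,
        MulAut.smul_def, MulAut.conj_apply, inv_inv] at h2
      have h3 : y⁻¹ * (g * h * g⁻¹) * y ∈ (P : Subgroup G) := h2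
      rw [show v⁻¹ * g * h * (v⁻¹ * g)⁻¹ = x * (y⁻¹ * (g * h * g⁻¹) * y) * x⁻¹ by
        subst hvx; group]
      exact Subgroup.mem_sup_left (mul_mem (mul_mem hx h3) (inv_mem hx))
    set g₀ := v⁻¹ * g
    have hinf := inf_of_coprime hMN P.2 hcop
    have hiff : ∀ u ∈ N, (u * g₀ ∈ moveSet H X ↔ g₀⁻¹ * u * g₀ ∈ centModSet H N M) := by
      intro u hu
      have hN : N.Normal := inferInstance
      have hMn : M.Normal := inferInstance
      constructor
      · intro h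
        refine ⟨by simpa using hN.conj_mem u hu g₀⁻¹, fun a ha => ?_⟩
        have hk : g₀ * a * g₀⁻¹ ∈ X := hmem a ha
        have h1 : u * (g₀ * a * g₀⁻¹) * u⁻¹ ∈ X := by
          have := h a ha
          rwa [show u * g₀ * a * (u * g₀)⁻¹ = u * (g₀ * a * g₀⁻¹) * u⁻¹ by group] at this
        have h2 : (g₀ * a * g₀⁻¹) * u * (g₀ * a * g₀⁻¹)⁻¹ * u⁻¹ ∈ M             := hinf (Subgroup.mem_inf.2 ⟨by
            rw [show (g₀ * a * g₀⁻¹) * u * (g₀ * a * g₀⁻¹)⁻¹ * u⁻¹ =
              (g₀ * a * g₀⁻¹) * (u * (g₀ * a * g₀⁻¹) * u⁻¹)⁻¹ by group]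
            exact mul_mem hk (inv_mem h1),
          mul_mem (hN.conj_mem u hu _) (inv_mem hu)⟩)
        rw [show a * (g₀⁻¹ * u * g₀) * a⁻¹ * (g₀⁻¹ * u * g₀)⁻¹ =
          g₀⁻¹ * ((g₀ * a * g₀⁻¹) * u * (g₀ * a * g₀⁻¹)⁻¹ * u⁻¹) * g₀⁻¹⁻¹ by group]
        exact hMn.conj_mem _ h2 _
      · intro h a ha
        have hk : g₀ * a * g₀⁻¹ ∈ X := hmem a ha
        have h2 := hMn.conj_mem _ (h.2 a ha) g₀
        rw [show g₀ * (a * (g₀⁻¹ * u * g₀) * a⁻¹ * (g₀⁻¹ * u * g₀)⁻¹) * g₀⁻¹ =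
          (g₀ * a * g₀⁻¹) * u * (g₀ * a * g₀⁻¹)⁻¹ * u⁻¹ by group] at h2
        rw [show u * g₀ * a * (u * g₀)⁻¹ =
          ((g₀ * a * g₀⁻¹) * u * (g₀ * a * g₀⁻¹)⁻¹ * u⁻¹)⁻¹ * (g₀ * a * g₀⁻¹) by group]
        exact mul_mem (inv_mem (Subgroup.mem_sup_right h2)) hk
    have hN : N.Normal := inferInstance
    refine Nat.card_congr
      { toFun := fun z => ⟨g₀⁻¹ * ((z.1 : G) * v) * g₀, (hiff _ (mul_mem z.1.2 hv)).1 (by
          rw [show (z.1 : G) * v * g₀ = (z.1 : G) * g by simp [g₀, mul_assoc]]; exact z.2)⟩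
        invFun := fun w => ⟨⟨g₀ * w.1 * g₀⁻¹ * v⁻¹,
          mul_mem (hN.conj_mem _ w.2.1 _) (inv_mem hv)⟩, ?_⟩
        left_inv := fun z => Subtype.ext (Subtype.ext (by simp [mul_assoc]))
        right_inv := fun w => Subtype.ext (by simp [mul_assoc]) }
    show g₀ * w.1 * g₀⁻¹ * v⁻¹ * g ∈ moveSet H X
    rw [show g₀ * w.1 * g₀⁻¹ * v⁻¹ * g = g₀ * w.1 * g₀⁻¹ * g₀ by simp [g₀, mul_assoc]]
    refine (hiff _ (hN.conj_mem _ w.2.1 _)).2 ?_
    rw [show g₀⁻¹ * (g₀ * w.1 * g₀⁻¹) * g₀ = w.1 by group]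
    exact w.2
  have h2 : Nat.card T = Nat.card (moveSet H Y) * Nat.card (centModSet H N M) := by
    let e : T ≃ Σ g : moveSet H Y, {u : N // (u : G) * (g : G) ∈ moveSet H X} :=
      { toFun := fun z => ⟨⟨z.1.1, z.2.1⟩, z.1.2, z.2.2⟩
        invFun := fun z => ⟨(z.1.1, z.2.1), z.1.2, z.2.2⟩
        left_inv := fun _ => rfl
        right_inv := fun _ => rfl }
    letI := Fintype.ofFinite (moveSet H Y)
    rw [Nat.card_congr e, Nat.card_sigma, Finset.sum_congr rfl fun g _ => hfib g.1 g.2,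
      Finset.sum_const, smul_eq_mul, Finset.card_univ, ← Nat.card_eq_fintype_card]
  rw [← h1, h2]

/-- The counts along a series. -/
theorem card_moveSet_series (H : Subgroup G) (hH : IsPGroup p H) (P : Sylow p G) (n : ℕ)
    (M : Fin (n + 1) → Subgroup G) (h0 : M 0 = ⊥) (hn : M (Fin.last n) = ⊤) (hmono : Monotone M)
    (hnormal : ∀ i, (M i).Normal)
    (hfac : ∀ i : Fin n, (∃ m : ℕ, (M i.castSucc).relIndex (M i.succ) = p ^ m) ∨
      ((M i.castSucc).relIndex (M i.succ)).Coprime p) :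
    Nat.card (moveSet H (P : Subgroup G)) = Nat.card (P : Subgroup G) *
      ∏ i : Fin n, (if ((M i.castSucc).relIndex (M i.succ)).Coprime p then
        Nat.card (centModSet H (M i.succ) (M i.castSucc)) / Nat.card (M i.castSucc) else 1) := by
  set c : Fin n → ℕ := fun i => if ((M i.castSucc).relIndex (M i.succ)).Coprime p then
    Nat.card (centModSet H (M i.succ) (M i.castSucc)) / Nat.card (M i.castSucc) else 1 with hc
  set d : Fin n → ℕ := fun i => if ((M i.castSucc).relIndex (M i.succ)).Coprime p then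
    (M i.castSucc).relIndex (M i.succ) else 1 with hd
  let F : ℕ → ℕ := fun k => if h : k ≤ n then
    Nat.card (moveSet H ((P : Subgroup G) ⊔ M ⟨k, by omega⟩)) else 0
  let Z : ℕ → ℕ := fun k => if h : k ≤ n then Nat.card ↥((P : Subgroup G) ⊔ M ⟨k, by omega⟩) else 0
  have hstep : ∀ i : Fin n, F i * d i = F (i + 1) * c i ∧ Z (i + 1) = Z i * d i := by
    intro i
    haveI := hnormal i.castSucc
    haveI := hnormal i.succ
    have hMN : M i.castSucc ≤ M i.succ := hmono (Fin.castSucc_lt_succ (i := i)).le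
    have e1 : F i = Nat.card (moveSet H ((P : Subgroup G) ⊔ M i.castSucc)) := dif_pos i.2.le
    have e2 : F (i + 1) = Nat.card (moveSet H ((P : Subgroup G) ⊔ M i.succ)) := dif_pos i.2
    have e3 : Z i = Nat.card ↥((P : Subgroup G) ⊔ M i.castSucc) := dif_pos i.2.le
    have e4 : Z (i + 1) = Nat.card ↥((P : Subgroup G) ⊔ M i.succ) := dif_pos i.2
    rw [e1, e2, e3, e4]
    by_cases hcop : ((M i.castSucc).relIndex (M i.succ)).Coprime p
    · simp only [hc, hd, if_pos hcop]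
      obtain ⟨a, ha⟩ := card_dvd_centModSet H hMN
      constructor
      · rw [ha, Nat.mul_div_cancel_left _ Nat.card_pos]
        have h := moveSet_step H hH P hMN hcop
        rw [ha, ← card_mul_relIndex_of_le' hMN] at h
        refine Nat.eq_of_mul_eq_mul_left (Nat.card_pos (α := M i.castSucc)) ?_
        linarith
      · rw [← card_mul_relIndex_of_le' (sup_le_sup_left hMN (P : Subgroup G))]
        congr 1
        have hle : (P : Subgroup G) ⊔ M i.succ = ((P : Subgroup G) ⊔ M i.castSucc) ⊔ M i.succ := by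
          rw [sup_assoc, sup_eq_right.2 hMN]
        rw [hle, relIndex_sup_normal, ← Subgroup.inf_relIndex_right]
        congr 1
        exact le_antisymm (inf_of_coprime hMN P.2 hcop) (le_inf le_sup_right hMN)
    · simp only [hc, hd, if_neg hcop, mul_one]
      rw [sup_eq_sup_of_pfactor P hMN ((hfac i).resolve_right hcop)]
      exact ⟨rfl, rfl⟩
  have hind : ∀ k (hk : k ≤ n),
      F 0 * ∏ i ∈ Finset.univ.filter (fun i : Fin n => (i : ℕ) < k), d i =
        F k * ∏ i ∈ Finset.univ.filter (fun i : Fin n => (i : ℕ) < k), c i ∧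
      Z k = Z 0 * ∏ i ∈ Finset.univ.filter (fun i : Fin n => (i : ℕ) < k), d i := by
    intro k
    induction k with
    | zero => intro _; simp
    | succ k ih =>
      intro hk
      obtain ⟨ih1, ih2⟩ := ih (by omega)
      obtain ⟨s1, s2⟩ := hstep ⟨k, hk⟩
      have he : Finset.univ.filter (fun i : Fin n => (i : ℕ) < k + 1) =
          insert ⟨k, hk⟩ (Finset.univ.filter (fun i : Fin n => (i : ℕ) < k)) := by
        ext i
        simp only [Finset.mem_filter, Finset.mem_univ, true_and, Finset.mem_insert, Fin.ext_iff]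
        omega
      rw [he, Finset.prod_insert (by simp), Finset.prod_insert (by simp)]
      refine ⟨?_, ?_⟩
      · calc F 0 * (d ⟨k, hk⟩ * ∏ i ∈ _, d i) = (F 0 * ∏ i ∈ _, d i) * d ⟨k, hk⟩ := by ring
          _ = (F k * d ⟨k, hk⟩) * ∏ i ∈ Finset.univ.filter (fun i : Fin n => (i : ℕ) < k), c i := by
              rw [ih1]; ring
          _ = _ := by rw [s1]; ring
      · rw [s2, ih2]; ring
  obtain ⟨hF, hZ⟩ := hind n le_rfl
  rw [Finset.filter_true_of_mem fun i _ => i.2] at hF hZ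
  have eF0 : F 0 = Nat.card (moveSet H (P : Subgroup G)) := by
    show (if h : 0 ≤ n then _ else 0) = _
    rw [dif_pos (Nat.zero_le n), show M ⟨0, by omega⟩ = ⊥ from h0, sup_bot_eq]
  have eFn : F n = Nat.card G := by
    show (if h : n ≤ n then _ else 0) = _
    rw [dif_pos le_rfl, show M ⟨n, by omega⟩ = ⊤ from hn, sup_top_eq]
    exact Nat.card_congr (Equiv.subtypeUnivEquiv fun g h _ => Subgroup.mem_top _)
  have eZ0 : Z 0 = Nat.card (P : Subgroup G) := by
    show (if h : 0 ≤ n then _ else 0) = _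
    rw [dif_pos (Nat.zero_le n), show M ⟨0, by omega⟩ = ⊥ from h0, sup_bot_eq]
  have eZn : Z n = Nat.card G := by
    show (if h : n ≤ n then _ else 0) = _
    rw [dif_pos le_rfl, show M ⟨n, by omega⟩ = ⊤ from hn, sup_top_eq, Subgroup.card_top]
  rw [eF0, eFn] at hF
  rw [eZ0, eZn] at hZ
  have hd0 : 0 < ∏ i, d i := Nat.pos_of_ne_zero fun h0' =>
    Nat.card_pos.ne' (hZ.trans (by rw [h0', mul_zero]))
  refine Nat.eq_of_mul_eq_mul_right hd0 ?_
  rw [hF, hZ]
  ring

theorem card_moveSet_eq (H : Subgroup G) (hH : IsPGroup p H) (P : Sylow p G) :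
    Nat.card (moveSet H (P : Subgroup G)) =
      Nat.card {g : G // ((H).subgroupOf (H ⊔ zpowers g)).IsSubnormal} := by
  rw [card_subnormalizer p H hH P, ← card_moving_eq p H P]
  exact Nat.card_congr
    (Equiv.subtypeEquivRight fun g => ⟨fun hg => by rintro _ ⟨x, hx, rfl⟩; exact hg x hx,
      fun hg x hx => hg ⟨x, hx, rfl⟩⟩)

end CfsgLib.Transfer.Casolo
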