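import Cfsg.Agent.Lib.Transfer.PlaneGroup
import Cfsg.Agent.Lib.PStab.Complement

/-!
The normal `p`-complement theorem for the stable normal closure.
-/

namespace CfsgLib.Transfer

open Cfsg Subgroup
open scoped commutatorElement

universe u

variable {p : ℕ} [hp : Fact p.Prime]

section
variable {G : Type u} [Group G] [Finite G]

/-- `W(P)` inside the ambient group. -/
def wOf (p : ℕ) (P : Subgroup G) : Subgroup G := (stableNormalClosure p P).map P.subtype

omit [Finite G] in
theorem wOf_le (p : ℕ) (P : Subgroup G) : wOf p P ≤ P := map_subtype_le _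

theorem wOf_ne_bot {P : Subgroup G} (hP : IsPGroup p P) (hne : P ≠ ⊥) : wOf p P ≠ ⊥ := fun h => by
  have := (nontrivial_iff_ne_bot P).2 hne
  exact stableNormalClosure_ne_bot hP ((Subgroup.map_eq_bot_iff_of_injective _ P.subtype_injective).1 h)

omit hp in
theorem wOf_map {H : Type u} [Group H] (f : G →* H) {P : Subgroup G}
    (hinj : Function.Injective (f.comp P.subtype)) : wOf p (P.map f) = (wOf p P).map f := by
  have hrange : (f.comp P.subtype).range = P.map f := by rw [MonoidHom.range_comp, range_subtype]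
  let η : ↥P ≃* ↥(P.map f) := (MulEquiv.ofBijective (f.comp P.subtype).rangeRestrict
    ⟨fun x y hxy => hinj (congrArg Subtype.val hxy), (f.comp P.subtype).rangeRestrict_surjective⟩).trans
      (MulEquiv.subgroupCongr hrange)
  rw [wOf, wOf, ← stableNormalClosure_map η, Subgroup.map_map, Subgroup.map_map]
  rfl

theorem normalizer_le_normalizer_wOf (p : ℕ) (P : Subgroup G) :
    normalizer (P : Set G) ≤ normalizer (wOf p P : Set G) :=
  PStab.le_normalizer_of_forall_conj fun g hg x hx => by
    have hP : P.map (MulAut.conj g).toMonoidHom = P := by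
      rw [← CfsgLib.Solvable.conj_smul_eq_map]
      exact CfsgLib.Solvable.conj_smul_self_of_mem_normalizer hg
    have := wOf_map (p := p) (MulAut.conj g).toMonoidHom (P := P)
      ((MulAut.conj g).injective.comp P.subtype_injective)
    rw [hP] at this
    rw [this]
    exact ⟨x, hx, rfl⟩

/-- The middle factor of a minimal configuration is abelian. -/
theorem commutator_le_of_maximal_sylow (P : Sylow p G) {H K : Subgroup G} [H.Normal] [K.Normal]
    (hHP : H ≤ (P : Subgroup G)) (hHK : H ≤ K) (hcop : (H.relIndex K).Coprime p)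
    (hsup : K ⊔ (P : Subgroup G) = ⊤)
    (hmax : ∀ M : Subgroup G, (P : Subgroup G) ≤ M → M ≠ ⊤ → M = P) : ⁅K, K⁆ ≤ H := by
  set π := QuotientGroup.mk' H with hπd
  have hπ : Function.Surjective π := QuotientGroup.mk'_surjective H
  set Kb := K.map π with hKb
  set Pb := (P : Subgroup G).map π with hPb
  have hKbn : Kb.Normal := Normal.map inferInstance π hπ
  have hcard : Nat.card Kb = H.relIndex K := by
    rw [← relIndex_bot_left Kb, hKb, ← relIndex_comap, MonoidHom.comap_bot, hπd, QuotientGroup.ker_mk']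
  obtain ⟨j, hj⟩ := IsPGroup.iff_card.1 (P.2.map π)
  have hd : Kb ⊓ Pb = ⊥ := (Subgroup.disjoint_of_coprime_natCard (by rw [hcard, hj]; exact hcop.pow_right j)).eq_bot
  have hbound : ∀ X : Subgroup (G ⧸ H), X ≤ Kb → Pb ≤ normalizer (X : Set (G ⧸ H)) → X = ⊥ ∨ X = Kb := by
    intro X hXK hPX
    set M := (X ⊔ Pb).comap π
    have hPM : (P : Subgroup G) ≤ M := fun x hx => mem_sup_right ⟨x, hx, rfl⟩
    by_cases hM : M = ⊤
    · right
      refine le_antisymm hXK fun y hy => ?_
      have htop : X ⊔ Pb = ⊤ := by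
        rw [← map_comap_eq_self_of_surjective hπ (X ⊔ Pb), show (X ⊔ Pb).comap π = ⊤ from hM,
          map_top_of_surjective _ hπ]
      obtain ⟨u, hu, v, hv, rfl⟩ := CfsgLib.Solvable.exists_mul_of_mem_sup hPX (htop.ge (mem_top y))
      have hvK : v ∈ Kb := by simpa using mul_mem (inv_mem (hXK hu)) hy
      have hv1 : v ∈ Kb ⊓ Pb := ⟨hvK, hv⟩
      rw [hd, mem_bot] at hv1
      rwa [hv1, mul_one]
    · left
      refine le_bot_iff.1 (le_trans (le_inf hXK fun y hy => ?_) hd.le)
      obtain ⟨x, rfl⟩ := hπ y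
      exact ⟨x, (hmax M hPM hM).le (mem_sup_left hy), rfl⟩
  rw [← QuotientGroup.ker_mk' H, ← Subgroup.map_eq_bot_iff, map_commutator]
  by_contra hne
  have hKne : Kb ≠ ⊥ := fun e => hne (by rw [← hπd, ← hKb, e]; exact commutator_bot_left _)
  obtain ⟨q, hq, hqd⟩ := Nat.exists_prime_and_dvd (n := Nat.card Kb) fun e =>
    hKne (eq_bot_of_card_eq _ e)
  have := Fact.mk hq
  have hPnil : Group.IsNilpotent Pb := (P.2.map π).isNilpotent
  obtain ⟨Q, hQ⟩ := CfsgLib.Solvable.exists_invariant_sylow Pb Kb
    (by rw [normalizer_eq_top]; exact le_top) (by rw [hj, hcard]; exact (hcop.pow_right j).symm)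
    (Or.inl inferInstance) q
  have hQK : (Q : Subgroup Kb).map Kb.subtype = Kb := by
    refine (hbound _ (map_subtype_le _) hQ).resolve_left fun e => ?_
    rw [Subgroup.map_eq_bot_iff_of_injective _ Kb.subtype_injective] at e
    have h1 := Q.card_eq_multiplicity
    rw [e, card_bot] at h1
    exact (Nat.one_lt_pow (hq.factorization_pos_of_dvd Nat.card_pos.ne' hqd).ne' hq.one_lt).ne h1
  have hKq : IsPGroup q Kb := by rw [← hQK]; exact Q.2.map _
  have : Nontrivial Kb := (nontrivial_iff_ne_bot Kb).2 hKne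
  rcases hbound ⁅Kb, Kb⁆ (commutator_le_self Kb) (le_top.trans (normalizer_eq_top _).ge) with e | e
  · exact hne e
  · refine PGroup.frattini_ne_top (G := Kb) hKq (top_le_iff.1 fun x _ => ?_)
    have h2 : (_root_.commutator Kb).map Kb.subtype = Kb := by rw [map_subtype_commutator]; exact e
    obtain ⟨y, hy, hye⟩ := h2.ge x.2
    rw [← Kb.subtype_injective hye]
    exact PGroup.commutator_le_frattini hKq hy

end

/-- The statement in order `n`. -/
def WStatement (p : ℕ) (n : ℕ) : Prop :=
  ∀ (G : Type u) [Group G] [Finite G] (P : Sylow p G), Nat.card G = n →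
    HasNormalPComplement p (normalizer (wOf p (P : Subgroup G) : Set G)) → HasNormalPComplement p G

theorem wStatement (hp2 : p ≠ 2) (n : ℕ) : WStatement.{u} p n := by
  induction n using Nat.strong_induction_on with
  | _ n ih =>
  intro G _ _ P hn hW
  by_contra hG
  have hPne : (P : Subgroup G) ≠ ⊥ := fun e0 => hG ((PStab.npc_top_iff (by
    rw [show wOf p (P : Subgroup G) = ⊥ from le_bot_iff.1 ((wOf_le p _).trans e0.le)]
    exact normalizer_eq_top _)).1 hW)
  obtain ⟨hHne, hprop, hK⟩ := PStab.reduce_pCore P (fun P1 => wOf p P1) (fun P1 _ => wOf_le p P1)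
    (fun P1 h1 _ h3 => wOf_ne_bot (P.2.to_le h1) h3)
    (fun P1 _ => inf_le_right.trans (normalizer_le_normalizer_wOf p P1)) hW
    (fun N hN hT _ h => by
      obtain ⟨T, hT⟩ := hT
      have hlt : Nat.card N < n := hn ▸ lt_of_le_of_ne (card_le_card_group N)
          fun e => hN (eq_top_of_card_eq N e)
      refine ih _ hlt N T rfl (PStab.npc_congr_subgroupOf (X := wOf p ((P : Subgroup G) ⊓ N)) ?_ h)
      rw [← hT, wOf_map N.subtype (N.subtype_injective.comp (T : Subgroup N).subtype_injective)])
    hG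
  by_cases hO : pPrimeCore p G = ⊥
  swap
  · apply hG
    set N := pPrimeCore p G
    have hNc := CfsgLib.Cores.coprime_card_pPrimeCore (G := G) p
    refine PStab.npc_of_quotient hNc ?_
    set π := QuotientGroup.mk' N
    have hπ : Function.Surjective π := QuotientGroup.mk'_surjective N
    have hinj : Function.Injective (π.comp (P : Subgroup G).subtype) := by
      rw [injective_iff_map_eq_one]
      intro x hx
      have hxN : (x : G) ∈ N := (QuotientGroup.eq_one_iff _).1 hx
      exact CfsgLib.Transfer.eq_one_of_coprime_of_isPGroup P.2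
        (Nat.Coprime.coprime_dvd_left (Subgroup.orderOf_coe x ▸ Subgroup.orderOf_dvd_natCard N hxN) hNc)
    refine ih _ (hn ▸ CfsgLib.Solvable.card_quotient_lt _ hO) (G ⧸ N) (P.mapSurjective hπ) rfl ?_
    show HasNormalPComplement p (normalizer (wOf p ((P : Subgroup G).map π) : Set (G ⧸ N)))
    rw [wOf_map π hinj]
    exact PStab.npc_of_le_map π (PStab.normalizer_map_le hNc (P.2.to_le (wOf_le p _))) hW
  set H := pCore p G with hH
  have hHP : H ≤ (P : Subgroup G) := Cores.pCore_le_sylow P
  by_cases hPH : (P : Subgroup G) ≤ H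
  · apply hG
    refine (PStab.npc_top_iff (eq_top_iff.2 (le_trans ?_ (normalizer_le_normalizer_wOf p _)))).1 hW
    rw [show (P : Subgroup G) = H from le_antisymm hPH hHP, normalizer_eq_top]
  have hHp := CfsgLib.Cores.isPGroup_pCore p (G := G)
  set π := QuotientGroup.mk' H
  have hπ : Function.Surjective π := QuotientGroup.mk'_surjective H
  set Pb := (P : Subgroup G).map π with hPb
  have hPbne : Pb ≠ ⊥ := fun e0 => hPH fun x hx =>
    (QuotientGroup.eq_one_iff x).1 (mem_bot.1 (e0.le ⟨x, hx, rfl⟩))
  set K := (wOf p Pb).comap π with hKdef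
  have hKp : IsPGroup p K :=
    ((P.2.map π).to_le (wOf_le p _)).comap_of_ker_isPGroup π
      (by rw [QuotientGroup.ker_mk']; exact hHp)
  have hHK : H < K := by
    refine lt_of_le_of_ne (fun x hx => ?_) fun e0 => ?_
    · show π x ∈ wOf p Pb
      rw [show π x = 1 from (QuotientGroup.eq_one_iff x).2 hx]; exact one_mem _
    · refine wOf_ne_bot (P.2.map π) hPbne (le_bot_iff.1 fun y hy => ?_)
      obtain ⟨x, rfl⟩ := hπ y
      exact mem_bot.2 ((QuotientGroup.eq_one_iff x).2 (e0.ge hy))
  have hNK : normalizer (K : Set G) = (normalizer (wOf p Pb : Set (G ⧸ H))).comap π :=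
    (comap_normalizer_eq_of_surjective _ hπ).symm
  have hPK : (P : Subgroup G) ≤ normalizer (K : Set G) := by
    rw [hNK]
    intro x hx
    exact normalizer_le_normalizer_wOf p _ (le_normalizer (show π x ∈ Pb from ⟨x, hx, rfl⟩))
  have hquot : HasNormalPComplement p (G ⧸ H) := by
    refine ih _ (hn ▸ CfsgLib.Solvable.card_quotient_lt _ hHne) (G ⧸ H) (P.mapSurjective hπ) rfl
      (PStab.npc_of_le_map π ?_ (hK K hKp hHK hPK))
    rw [hNK, map_comap_eq_self_of_surjective hπ]
    rfl
  obtain ⟨hc, hst, hmax, L, hLn, hHL, hcop, hsup⟩ := PStab.final_structure hp2 P hG hO hquot hprop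
  have hab := commutator_le_of_maximal_sylow P hHP hHL hcop hsup hmax
  obtain ⟨k, hk⟩ : ∃ k, L.index = p ^ k := by
    obtain ⟨j, hj⟩ := P.2.exists_card_eq
    have h1 := CfsgLib.Cores.card_sup_dvd_mul L (P : Subgroup G)
    rw [hsup, card_top, ← card_mul_index L] at h1
    have h2 := Nat.dvd_of_mul_dvd_mul_left Nat.card_pos h1
    rw [hj] at h2
    obtain ⟨i, -, hi⟩ := (Nat.dvd_prime_pow hp.out).1 h2
    exact ⟨i, hi⟩
  set Φ := (frattini ↥H).map H.subtype
  have hq : PStab.StableAll p (G ⧸ Φ) := by
    set f := QuotientGroup.mk' Φ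
    have hf : Function.Surjective f := QuotientGroup.mk'_surjective Φ
    have : (H.map f).Normal := Normal.map inferInstance f hf
    have : (L.map f).Normal := Normal.map hLn f hf
    refine PStab.stableAll_of_series hp2 (H.map f) (L.map f) (hHp.map f)
      (hcop.coprime_dvd_left (relIndex_map_dvd hHL f)) (by rw [← map_commutator]; exact map_mono hab) ?_
    obtain ⟨i, -, hi⟩ := (Nat.dvd_prime_pow hp.out).1 (hk ▸ L.index_map_dvd (f := f) hf)
    exact ⟨i, hi⟩
  have hn' := stableNormalClosure_normal (isActionPStable_of_stableAll hst hq) hc P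
  exact hG ((PStab.npc_top_iff (normalizer_eq_top_iff.2 hn')).1 hW)

/-- Thompson's normal `p`-complement theorem, `W(S)` form. -/
theorem hasNormalPComplement_of_normalizer_wOf (hp2 : p ≠ 2) {G : Type u} [Group G] [Finite G]
    (P : Sylow p G) (hW : HasNormalPComplement p (normalizer (wOf p (P : Subgroup G) : Set G))) :
    HasNormalPComplement p G :=
  wStatement hp2 _ G P rfl hW

end CfsgLib.Transfer
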