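import Cfsg.Agent.Lib.FGS.PByCyclic
import Mathlib.GroupTheory.SpecificGroups.Alternating
import Mathlib.Tactic

/-!
Groups whose 2-closed subgroups with cyclic quotient are cyclic, dihedral or alternating of
degree four.
-/

set_option autoImplicit false

namespace CfsgLib.Transfer.TwoByCyclic

open Subgroup
open CfsgLib.FGS.PByCyclic

variable {G : Type*} [Group G] [Finite G]

/-- An element of odd order normalising a cyclic 2-group centralises it. -/
theorem commute_of_cyclic_two (S : Subgroup G) (hS : IsPGroup 2 S) (hc : IsCyclic S) {y : G}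
    (hy : y ∈ normalizer (S : Set G)) (hyo : (orderOf y).Coprime 2) : ∀ s ∈ S, y * s = s * y := by
  haveI : Fact (Nat.Prime 2) := ⟨Nat.prime_two⟩
  obtain ⟨m, hm⟩ := IsPGroup.iff_card.1 hS
  rcases m with _ | m
  · rw [pow_zero, Subgroup.card_eq_one] at hm
    intro s hs
    rw [hm, mem_bot] at hs
    simp [hs]
  obtain ⟨⟨q, hqS⟩, hqo⟩ := exists_prime_orderOf_dvd_card' (G := S) 2 (hm ▸ dvd_pow_self 2 m.succ_ne_zero)
  rw [Subgroup.orderOf_mk] at hqo
  refine commute_of_fix_omega S hS hc hy hyo hqS hqo ?_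
  obtain ⟨k, hk⟩ := mem_zpowers_iff.1 (conj_mem_zpowers_of_cyclic S hc hy hqS)
  rw [← hk, ← zpow_mod_orderOf, hqo]
  rcases Int.emod_two_eq_zero_or_one k with h | h
  · exfalso
    rw [← zpow_mod_orderOf, hqo, show k % ((2 : ℕ) : ℤ) = 0 by simpa using h, zpow_zero] at hk
    have h2 : q = 1 := by
      rw [show q = y⁻¹ * (y * q * y⁻¹) * y by group, ← hk]
      group
    rw [h2, orderOf_one] at hqo
    omega
  · rw [show k % ((2 : ℕ) : ℤ) = 1 by simpa using h, zpow_one]

/-- The subgroup formed by two commuting involutions. -/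
theorem exists_four_subgroup {q s : G} (hq : q * q = 1) (hs : s * s = 1) (hqs : q * s = s * q)
    (hq1 : q ≠ 1) (hs1 : s ≠ 1) (hne : q ≠ s) :
    ∃ K : Subgroup G, Nat.card K = 4 ∧ (∀ k ∈ K, k ^ 2 = 1) ∧ q ∈ K ∧ s ∈ K ∧
      ∀ S : Subgroup G, q ∈ S → s ∈ S → K ≤ S := by
  classical
  let φ : Multiplicative (ZMod 2) × Multiplicative (ZMod 2) → G := fun x =>
    q ^ (Multiplicative.toAdd x.1).val * s ^ (Multiplicative.toAdd x.2).val
  have h2 : ∀ (a : G), a * a = 1 → ∀ i j : ZMod 2, a ^ (i + j).val = a ^ i.val * a ^ j.val := by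
    intro a ha i j
    rw [← pow_add, ZMod.val_add, pow_eq_pow_iff_modEq]
    refine ((Nat.mod_modEq _ 2).of_dvd ?_)
    exact orderOf_dvd_of_pow_eq_one (by rw [pow_two, ha])
  let f : Multiplicative (ZMod 2) × Multiplicative (ZMod 2) →* G :=
    MonoidHom.mk' φ (by
      intro x y
      simp only [φ, Prod.fst_mul, Prod.snd_mul, toAdd_mul]
      rw [h2 q hq, h2 s hs]
      simp only [mul_assoc]
      congr 1
      rw [← mul_assoc, ((show Commute q s from hqs).pow_pow _ _).eq, mul_assoc])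
  refine ⟨f.range, ?_, ?_, ⟨(Multiplicative.ofAdd 1, 1), by simp [f, φ, ZMod.val_one]⟩,
    ⟨(1, Multiplicative.ofAdd 1), by simp [f, φ, ZMod.val_one]⟩, ?_⟩
  · rw [← Nat.card_congr (MonoidHom.ofInjective (f := f) ?_).toEquiv]
    · simp [Nat.card_prod, Nat.card_eq_fintype_card]
    · rw [injective_iff_map_eq_one]
      rintro ⟨a, b⟩ hab
      change q ^ (Multiplicative.toAdd a).val * s ^ (Multiplicative.toAdd b).val = 1 at hab
      obtain ⟨a, rfl⟩ := Multiplicative.ofAdd.surjective a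
      obtain ⟨b, rfl⟩ := Multiplicative.ofAdd.surjective b
      simp only [toAdd_ofAdd] at hab
      have hcase : ∀ i : ZMod 2, i = 0 ∨ i = 1 := by decide
      rcases hcase a with rfl | rfl <;> rcases hcase b with rfl | rfl <;>
        simp [ZMod.val_one] at hab ⊢
      · exact hs1 hab
      · exact hq1 hab
      · refine hne ?_
        calc q = q * s * s := by rw [mul_assoc, hs, mul_one]
          _ = s := by rw [hab, one_mul]
  · rintro _ ⟨x, rfl⟩
    rw [← map_pow, ← map_one f]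
    congr 1
    rcases x with ⟨a, b⟩
    revert a b
    decide
  · rintro S hqS hsS _ ⟨x, rfl⟩
    exact mul_mem (pow_mem hqS _) (pow_mem hsS _)

/-- The subgroups of a dihedral group. -/
theorem cyclic_or_rotation {S : Type*} [Group S] [Finite S] {m : ℕ} (φ : S →* DihedralGroup m)
    (hφ : Function.Injective φ) :
    IsCyclic S ∨ ∃ r s : S, s * s = 1 ∧ s * r * s = r⁻¹ ∧ s ∉ zpowers r ∧ Nat.card S = 2 * orderOf r ∧
      ∀ x ∉ zpowers r, x * x = 1 := by
  let Rot : Subgroup (DihedralGroup m) := zpowers (DihedralGroup.r 1)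
  have hrot : ∀ i, (DihedralGroup.r i : DihedralGroup m) ∈ Rot := fun i => by
    obtain ⟨k, rfl⟩ := ZMod.intCast_surjective i
    exact ⟨k, DihedralGroup.r_one_zpow k⟩
  have hsr : ∀ i, (DihedralGroup.sr i : DihedralGroup m) ∉ Rot := fun i ⟨k, hk⟩ => by
    simp only [DihedralGroup.r_one_zpow] at hk
    exact nomatch hk
  let R := Rot.comap φ
  haveI hRc : IsCyclic R := isCyclic_of_injective ((φ.comp R.subtype).codRestrict Rot (fun x => x.2))
    (fun a b hab => Subtype.ext (hφ (congrArg Subtype.val hab)))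
  obtain ⟨r, hr⟩ := R.isCyclic_iff_exists_zpowers_eq_top.1 hRc
  by_cases hall : ∀ x : S, x ∈ R
  · exact Or.inl ((Subgroup.topEquiv (G := S)).isCyclic.1 ((eq_top_iff' R).2 hall ▸ hRc))
  push Not at hall
  obtain ⟨s, hs⟩ := hall
  right
  have hout : ∀ x, x ∉ R → ∃ i, φ x = DihedralGroup.sr i := by
    intro x hx
    rcases hφx : φ x with i | i
    · exact absurd (show φ x ∈ Rot from hφx ▸ hrot i) hx
    · exact ⟨i, rfl⟩
  have hsq : ∀ x, x ∉ R → x * x = 1 := fun x hx => by
    obtain ⟨i, hi⟩ := hout x hx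
    exact hφ (by rw [map_mul, map_one, hi, DihedralGroup.sr_mul_self])
  refine ⟨r, s, hsq s hs, hφ ?_, hr ▸ hs, ?_, fun x hx => hsq x (hr ▸ hx)⟩
  · obtain ⟨i, hi⟩ := hout s hs
    rcases hφr : φ r with j | j
    · simp [map_mul, map_inv, hi, hφr]
    · exact absurd (show φ r ∈ Rot from (hr ▸ mem_zpowers r : r ∈ R)) (hφr ▸ hsr j)
  · have hidx : R.index = 2 := by
      rw [Subgroup.index_eq_two_iff]
      refine ⟨s, fun b => ?_⟩
      by_cases hb : b ∈ R
      · exact Or.inr ⟨hb, fun h => hs ((mul_mem_cancel_left hb).1 h)⟩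
      · refine Or.inl ⟨?_, hb⟩
        obtain ⟨i, hi⟩ := hout b hb
        obtain ⟨j, hj⟩ := hout s hs
        show φ (b * s) ∈ Rot
        rw [map_mul, hi, hj, DihedralGroup.sr_mul_sr]
        exact hrot _
    rw [← R.card_mul_index, hidx, ← hr, Nat.card_zpowers, mul_comm]

/-- The A4 recognition. -/
theorem alt_four_of_order_twelve {H : Type*} [Group H] [Finite H] (hcard : Nat.card H = 12) {y : H}
    (hy : orderOf y = 3) (hn : ¬ (zpowers y).Normal) : Nonempty (H ≃* alternatingGroup (Fin 4)) := by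
  classical
  set T := zpowers y
  have hT : Nat.card T = 3 := by rw [Nat.card_zpowers, hy]
  have hidx : Nat.card (H ⧸ T) = 4 := by
    have := Subgroup.card_eq_card_quotient_mul_card_subgroup T
    rw [hcard, hT] at this
    omega
  letI := Fintype.ofFinite (H ⧸ T)
  let e := (Fintype.equivFinOfCardEq ((Nat.card_eq_fintype_card).symm.trans hidx))
  let π : H →* Equiv.Perm (Fin 4) := (e.permCongrHom.toMonoidHom).comp (MulAction.toPermHom H (H ⧸ T))
  have hinj : Function.Injective π := by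
    refine e.permCongrHom.injective.comp ?_
    rw [← MonoidHom.ker_eq_bot_iff, ← Subgroup.normalCore_eq_ker]
    by_contra hne
    refine hn ?_
    have h1 : Nat.card T.normalCore ∣ 3 := hT ▸ card_dvd_of_le (normalCore_le T)
    rcases (Nat.dvd_prime Nat.prime_three).1 h1 with h | h
    · exact absurd (Subgroup.card_eq_one.1 h) hne
    · exact (eq_of_le_of_card_ge (normalCore_le T) (by rw [h, hT])) ▸ normalCore_normal T
  have hr : π.range = alternatingGroup (Fin 4) := by
    refine Equiv.Perm.eq_alternatingGroup_of_index_eq_two ?_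
    have h1 := π.range.card_mul_index
    rw [← Nat.card_congr (MonoidHom.ofInjective hinj).toEquiv, hcard, Nat.card_perm, Nat.card_fin,
      show Nat.factorial 4 = 24 from rfl] at h1
    omega
  exact ⟨(MonoidHom.ofInjective hinj).trans (MulEquiv.subgroupCongr hr)⟩

theorem alt_four_centralizer : ∀ a b : alternatingGroup (Fin 4),
    a * a = 1 → a ≠ 1 → a * b = b * a → b ^ 3 = 1 → b = 1 := by decide +kernel

/-- The hypothesis on 2-closed subgroups with cyclic quotient. -/
def Restricted (G : Type*) [Group G] : Prop :=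
  ∀ H : Subgroup G, (∀ S : Sylow 2 ↥H, (S : Subgroup ↥H).Normal) →
    (∀ (S : Sylow 2 ↥H) [(S : Subgroup ↥H).Normal], IsCyclic (↥H ⧸ (S : Subgroup ↥H))) →
    IsCyclic H ∨ (∃ n : ℕ, Nonempty (H ≃* DihedralGroup (2 ^ n))) ∨ Nonempty (H ≃* alternatingGroup (Fin 4))

theorem card_alt_four : Nat.card (alternatingGroup (Fin 4)) = 12 := by
  rw [Nat.card_eq_fintype_card]; decide

/-- The type of a 2-subgroup. -/
theorem twoGroup_type (hR : Restricted G) (S : Subgroup G) (hS : IsPGroup 2 S) :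
    IsCyclic S ∨ ∃ n : ℕ, 1 ≤ n ∧ Nonempty (S ≃* DihedralGroup (2 ^ n)) := by
  haveI : Fact (Nat.Prime 2) := ⟨Nat.prime_two⟩
  obtain ⟨h1, h2⟩ := pClosed_sup_zpowers S hS (y := 1) (one_mem _) (by simp) S (by simp)
  rcases hR S h1 h2 with h | ⟨n, ⟨e⟩⟩ | ⟨⟨e⟩⟩
  · exact Or.inl h
  · rcases Nat.eq_zero_or_pos n with rfl | hn
    · left
      haveI : Fact (Nat.Prime 2) := ⟨Nat.prime_two⟩
      exact isCyclic_of_prime_card (p := 2) (by rw [Nat.card_congr e.toEquiv, DihedralGroup.nat_card, pow_zero, mul_one])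
    · exact Or.inr ⟨n, hn, ⟨e⟩⟩
  · exfalso
    obtain ⟨k, hk⟩ := IsPGroup.iff_card.1 hS
    rw [Nat.card_congr e.toEquiv, card_alt_four] at hk
    have : 3 ∣ 2 ^ k := hk ▸ (by norm_num)
    have := Nat.prime_three.dvd_of_dvd_pow this
    omega

theorem not_cyclic_of_four {K H : Subgroup G} (hKH : K ≤ H) (hK : Nat.card K = 4) (hK2 : ∀ k ∈ K, k ^ 2 = 1) :
    ¬ IsCyclic H := by
  intro hc
  haveI := hc
  haveI : IsCyclic K := isCyclic_of_injective (Subgroup.inclusion hKH) (Subgroup.inclusion_injective hKH)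
  obtain ⟨⟨g, hg⟩, hgen⟩ := IsCyclic.exists_ofOrder_eq_natCard (α := K)
  rw [Subgroup.orderOf_mk, hK] at hgen
  have := orderOf_dvd_of_pow_eq_one (hK2 g hg)
  rw [hgen] at this
  omega

/-- Necessity. -/
theorem centralizer_four_eq (hR : Restricted G) {K : Subgroup G} (hK : Nat.card K = 4)
    (hK2 : ∀ k ∈ K, k ^ 2 = 1) : centralizer (K : Set G) = K := by
  haveI : Fact (Nat.Prime 2) := ⟨Nat.prime_two⟩
  have hKp : IsPGroup 2 K := IsPGroup.of_card (n := 2) (by rw [hK]; rfl)
  have hKc : ∀ a ∈ K, ∀ b ∈ K, a * b = b * a := fun a ha b hb => by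
    have ha' := inv_eq_of_mul_eq_one_right (by rw [← pow_two]; exact hK2 a ha : a * a = 1)
    have hb' := inv_eq_of_mul_eq_one_right (by rw [← pow_two]; exact hK2 b hb : b * b = 1)
    have hab' := inv_eq_of_mul_eq_one_right (by rw [← pow_two]; exact hK2 _ (mul_mem ha hb) : a * b * (a * b) = 1)
    rwa [mul_inv_rev, ha', hb', eq_comm] at hab'
  refine le_antisymm (fun c hc => ?_) (fun a ha => mem_centralizer_iff.2 fun b hb => hKc b hb a ha)
  obtain ⟨i, j, hi, hj, hij, -⟩ := CfsgLib.FGS.exists_p_parts 2 c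
  obtain ⟨k, hk⟩ := hi
  have hu : c ^ i ∈ centralizer (K : Set G) := pow_mem hc i
  have hy : c ^ j ∈ centralizer (K : Set G) := pow_mem hc j
  rw [← hij]
  have huK : c ^ i ∈ K := by
    set U := K ⊔ zpowers (c ^ i)
    have hUp : IsPGroup 2 U :=
      hKp.to_sup_of_normal_left' (CfsgLib.FGS.isPGroup_zpowers hk) (zpowers_le.2 (centralizer_le_normalizer _ hu))
    have hUc : IsMulCommutative U := by
      have hle : U ≤ centralizer (U : Set G) := by
        have hiK : ∀ b ∈ K, Commute b (c ^ i) := fun b hb => mem_centralizer_iff.1 hu b hb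
        refine sup_le (fun a ha => mem_centralizer_iff.2 fun b hb => ?_) (zpowers_le.2 (mem_centralizer_iff.2 fun b hb => ?_))
        · have hle2 : U ≤ centralizer ({a} : Set G) := sup_le
            (fun b hb => mem_centralizer_singleton_iff.2 (hKc b hb a ha))
            (zpowers_le.2 (mem_centralizer_singleton_iff.2 (hiK a ha).eq.symm))
          exact mem_centralizer_singleton_iff.1 (hle2 hb)
        · have hle2 : U ≤ centralizer ({c ^ i} : Set G) := sup_le
            (fun b hb => mem_centralizer_singleton_iff.2 (hiK b hb).eq)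
            (zpowers_le.2 (mem_centralizer_singleton_iff.2 rfl))
          exact mem_centralizer_singleton_iff.1 (hle2 hb)
      exact ⟨⟨fun a b => Subtype.ext (mem_centralizer_iff.1 (hle b.2) a a.2)⟩⟩
    rcases twoGroup_type hR U hUp with h | ⟨n, hn, ⟨e⟩⟩
    · exact absurd h (not_cyclic_of_four le_sup_left hK hK2)
    · haveI : NeZero (2 ^ n) := ⟨pow_ne_zero _ two_ne_zero⟩
      have h1 := congrArg e (hUc.is_comm.comm (e.symm (DihedralGroup.r 1)) (e.symm (DihedralGroup.sr 0)))
      simp only [map_mul, MulEquiv.apply_symm_apply, DihedralGroup.r_mul_sr, DihedralGroup.sr_mul_r,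
        DihedralGroup.sr.injEq, zero_sub, zero_add] at h1
      have h2 : ((2 : ℕ) : ZMod (2 ^ n)) = 0 := by
        push_cast
        calc (2 : ZMod (2 ^ n)) = 1 + 1 := one_add_one_eq_two.symm
          _ = -1 + 1 := by rw [h1]
          _ = 0 := neg_add_cancel 1
      have h3 := (ZMod.natCast_eq_zero_iff _ _).1 h2
      have hn1 : n = 1 := le_antisymm (by
        by_contra hlt
        have h4 := (pow_dvd_pow 2 (show 2 ≤ n by omega)).trans h3
        omega) hn
      have hcard : Nat.card U = 4 := by rw [Nat.card_congr e.toEquiv, DihedralGroup.nat_card, hn1]; rfl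
      rw [eq_of_le_of_card_ge (le_sup_left : K ≤ U) (by rw [hcard, hK])]
      exact mem_sup_right (mem_zpowers _)
  refine mul_mem huK ?_
  suffices h : c ^ j = 1 by rw [h]; exact one_mem K
  set H := K ⊔ zpowers (c ^ j)
  obtain ⟨h1, h2⟩ := pClosed_sup_zpowers K hKp (centralizer_le_normalizer _ hy) hj H rfl
  have hyH : c ^ j ∈ H := mem_sup_right (mem_zpowers _)
  rcases hR H h1 h2 with h | ⟨n, ⟨e⟩⟩ | ⟨⟨e⟩⟩
  · exact absurd h (not_cyclic_of_four le_sup_left hK hK2)
  · have hd := orderOf_dvd_natCard (⟨_, hyH⟩ : H)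
    rw [Subgroup.orderOf_mk, Nat.card_congr e.toEquiv, DihedralGroup.nat_card, ← pow_succ'] at hd
    exact orderOf_eq_one_iff.1 (Nat.eq_one_of_dvd_coprimes (hj.pow_right (n + 1)) dvd_rfl hd)
  · have hd := orderOf_dvd_natCard (⟨_, hyH⟩ : H)
    rw [Subgroup.orderOf_mk, Nat.card_congr e.toEquiv, card_alt_four] at hd
    have h3 : (c ^ j) ^ 3 = 1 := orderOf_dvd_iff_pow_eq_one.1
      ((Nat.Coprime.dvd_mul_left (k := orderOf (c ^ j)) (m := 4) (n := 3) (hj.pow_right 2)).1 hd)
    haveI : Nontrivial K := Finite.one_lt_card_iff_nontrivial.1 (by omega)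
    obtain ⟨⟨v, hv⟩, hv1⟩ := exists_ne (1 : K)
    have hvH : v ∈ H := mem_sup_left hv
    have := alt_four_centralizer (e ⟨v, hvH⟩) (e ⟨_, hyH⟩)
      (by rw [← map_mul, ← map_one e]; exact congrArg e (Subtype.ext (show v * v = 1 by rw [← pow_two]; exact hK2 v hv)))
      (fun h => hv1 (Subtype.ext (congrArg Subtype.val (e.injective (h.trans (map_one e).symm)) : v = 1)))
      (by rw [← map_mul, ← map_mul]; exact congrArg e (Subtype.ext (mem_centralizer_iff.1 hy v hv)))
      (by rw [← map_pow, ← map_one e]; exact congrArg e (Subtype.ext h3))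
    exact congrArg Subtype.val (e.injective (this.trans (map_one e).symm))

/-- Sufficiency. -/
theorem restricted_of (P : Sylow 2 G)
    (hP : IsCyclic P ∨ ((∃ n : ℕ, 1 ≤ n ∧ Nonempty ((P : Subgroup G) ≃* DihedralGroup (2 ^ n))) ∧
      ∀ K : Subgroup G, K ≤ P → Nat.card K = 4 → (∀ k ∈ K, k ^ 2 = 1) → centralizer (K : Set G) = K)) :
    Restricted G := by
  classical
  haveI : Fact (Nat.Prime 2) := ⟨Nat.prime_two⟩
  intro H hnorm hquot
  obtain ⟨S⟩ := (inferInstance : Nonempty (Sylow 2 H))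
  haveI := hnorm S
  obtain ⟨ξ, hξ⟩ := (hquot S).exists_generator
  obtain ⟨⟨h, hh⟩, rfl⟩ := QuotientGroup.mk'_surjective (S : Subgroup H) ξ
  obtain ⟨i, j, hi, hj, hij, -⟩ := CfsgLib.FGS.exists_p_parts 2 (⟨h, hh⟩ : H)
  obtain ⟨k, hk⟩ := hi
  set u : H := (⟨h, hh⟩ : H) ^ i
  set y : H := (⟨h, hh⟩ : H) ^ j
  have huS : u ∈ (S : Subgroup H) := by
    have h1 : IsPGroup 2 ↥((S : Subgroup H) ⊔ zpowers u) :=
      S.2.to_sup_of_normal_left (CfsgLib.FGS.isPGroup_zpowers hk)
    exact (S.3 h1 le_sup_left).le (mem_sup_right (mem_zpowers u))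
  let S0 : Subgroup G := (S : Subgroup H).map H.subtype
  have hS0p : IsPGroup 2 S0 := S.2.map _
  have hHgen : H = S0 ⊔ zpowers (y : G) := by
    refine le_antisymm (fun g hg => ?_) (sup_le (map_subtype_le _) (zpowers_le.2 y.2))
    obtain ⟨m, hm⟩ := mem_zpowers_iff.1 (hξ (QuotientGroup.mk' _ ⟨g, hg⟩))
    have hmem : (⟨h, hh⟩ : H) ∈ (S : Subgroup H) ⊔ zpowers y := by
      rw [← hij]
      exact mul_mem (mem_sup_left huS) (mem_sup_right (mem_zpowers y))
    have h2 : (⟨g, hg⟩ : H) ∈ (S : Subgroup H) ⊔ zpowers y := by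
      rw [← map_zpow] at hm
      have := QuotientGroup.eq.1 hm
      have h3 := mul_mem (zpow_mem hmem m) (mem_sup_left (T := zpowers y) this)
      rwa [mul_inv_cancel_left] at h3
    have h4 : g ∈ ((S : Subgroup H) ⊔ zpowers y).map H.subtype := ⟨_, h2, rfl⟩
    rwa [Subgroup.map_sup, MonoidHom.map_zpowers] at h4
  have hyN : (y : G) ∈ normalizer (S0 : Set G) := by
    refine mem_normalizer_of_conj fun s hs => ?_
    obtain ⟨s', hs', rfl⟩ := hs
    exact ⟨_, (hnorm S).conj_mem s' hs' y, by simp⟩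
  have hyo : (orderOf (y : G)).Coprime 2 := by rw [Subgroup.orderOf_coe]; exact hj
  obtain ⟨P', hP'⟩ := hS0p.exists_le_sylow
  obtain ⟨g, hg⟩ := MulAction.exists_smul_eq G P' P
  let ψ : G ≃* G := MulAut.conj g
  have hψP : ∀ s ∈ S0, ψ s ∈ (P : Subgroup G) := by
    intro s hs
    have h1 : g * s * g⁻¹ ∈ ((g • P' : Sylow 2 G) : Subgroup G) := ⟨s, hP' hs, rfl⟩
    rw [hg] at h1
    exact h1
  let ι : S0 →* (P : Subgroup G) := (ψ.toMonoidHom.comp S0.subtype).codRestrict (P : Subgroup G) (fun s => hψP s s.2)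
  have hι : Function.Injective ι := fun a b hab => Subtype.ext (ψ.injective (congrArg Subtype.val hab))
  by_cases hcyc : IsCyclic S0
  · exact Or.inl (hHgen ▸ isCyclic_sup_zpowers S0 hS0p hcyc hyo (commute_of_cyclic_two S0 hS0p hcyc hyN hyo))
  rcases hP with hPc | ⟨⟨n, -, ⟨e⟩⟩, hKself⟩
  · haveI := hPc
    exact absurd (isCyclic_of_injective ι hι) hcyc
  have hself : ∀ K : Subgroup G, K ≤ S0 → Nat.card K = 4 → (∀ k ∈ K, k ^ 2 = 1) →
      centralizer (K : Set G) ≤ K := by
    intro K hKS hK hK2 c hc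
    have h1 : centralizer ((K.map ψ.toMonoidHom : Subgroup G) : Set G) = K.map ψ.toMonoidHom := by
      refine hKself _ ?_ (by rw [card_map_of_injective ψ.injective, hK]) ?_
      · rintro _ ⟨x, hx, rfl⟩; exact hψP x (hKS hx)
      · rintro _ ⟨x, hx, rfl⟩; rw [← map_pow, hK2 x hx, map_one]
    have h2 : ψ c ∈ K.map ψ.toMonoidHom := by
      rw [← h1, mem_centralizer_iff]
      rintro _ ⟨x, hx, rfl⟩
      show ψ x * ψ c = ψ c * ψ x
      rw [← map_mul, ← map_mul, mem_centralizer_iff.1 hc x hx]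
    obtain ⟨x, hx, hxc⟩ := h2
    rwa [← ψ.injective hxc]
  haveI : NeZero (2 ^ n) := ⟨pow_ne_zero _ two_ne_zero⟩
  obtain ⟨r, s, hs2, hsrs, hsr, hcard, hinv⟩ :=
    (cyclic_or_rotation (e.toMonoidHom.comp ι) (e.injective.comp hι)).resolve_left hcyc
  obtain ⟨b, hb⟩ := IsPGroup.iff_orderOf.1 hS0p r
  by_cases hy1 : (y : G) = 1
  · right; left
    refine ⟨b, ?_⟩
    obtain ⟨d⟩ := CfsgLib.Classical.dihedral_of_rotation (orderOf_pos r) rfl hs2 hsrs hsr hcard
    rw [hb] at d
    exact ⟨(MulEquiv.subgroupCongr (by rw [hHgen, hy1]; simp)).trans d⟩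
  have hyS : (y : G) ∉ S0 := fun hmem => by
    obtain ⟨t, ht⟩ := IsPGroup.iff_orderOf.1 hS0p ⟨_, hmem⟩
    rw [Subgroup.orderOf_mk] at ht
    rcases t with _ | t
    · exact hy1 (orderOf_eq_one_iff.1 (by rw [ht, pow_zero]))
    · exact Nat.prime_two.ne_one (Nat.eq_one_of_dvd_coprimes hyo (ht ▸ dvd_pow_self 2 t.succ_ne_zero) dvd_rfl)
  match b, hb with
  | 0, hb =>
    rw [pow_zero] at hb
    haveI : Fact (Nat.Prime 2) := ⟨Nat.prime_two⟩
    exact absurd (isCyclic_of_prime_card (p := 2) (by rw [hcard, hb, mul_one])) hcyc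
  | 1, hb =>
    -- the Klein four group
    have hS4 : Nat.card S0 = 4 := by rw [hcard, hb]; rfl
    have hS2 : ∀ x ∈ S0, x ^ 2 = 1 := by
      intro x hx
      have h : (⟨x, hx⟩ : S0) ^ 2 = 1 := by
        by_cases hxr : (⟨x, hx⟩ : S0) ∈ zpowers r
        · exact orderOf_dvd_iff_pow_eq_one.1 ((orderOf_dvd_of_mem_zpowers hxr).trans (by rw [hb]; rfl))
        · rw [pow_two]; exact hinv _ hxr
      exact congrArg Subtype.val h
    right; right
    let σ : normalizer (S0 : Set G) →* Equiv.Perm S0 :=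
      { toFun := fun a => (S0.normalizerMonoidHom a).toEquiv
        map_one' := by rw [map_one]; rfl
        map_mul' := fun a c => by rw [map_mul]; rfl }
    have h3 : σ ⟨y, hyN⟩ ^ 3 = 1 := by
      refine orderOf_dvd_iff_pow_eq_one.1 ?_
      have h1 : orderOf (σ ⟨y, hyN⟩) ∣ 24 := by
        refine (_root_.orderOf_dvd_natCard _).trans ?_
        rw [Nat.card_perm, hS4]
        rfl
      have h2 : orderOf (σ ⟨y, hyN⟩) ∣ orderOf (y : G) := by
        have := orderOf_map_dvd σ ⟨y, hyN⟩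
        rwa [Subgroup.orderOf_mk] at this
      exact (Nat.Coprime.dvd_mul_left (k := orderOf (σ ⟨y, hyN⟩)) (m := 8) (n := 3)
        ((hyo.coprime_dvd_left h2).pow_right 3)).1 h1
    have hy3C : (y : G) ^ 3 ∈ S0 := by
      refine hself S0 le_rfl hS4 hS2 (mem_centralizer_iff.2 fun x hx => ?_)
      rw [← map_pow] at h3
      have h4 := congrArg Subtype.val (Equiv.ext_iff.1 h3 ⟨x, hx⟩)
      have h5 : (y : G) ^ 3 * x * ((y : G) ^ 3)⁻¹ = x := h4
      exact (mul_inv_eq_iff_eq_mul.1 h5).symm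
    have hy3 : (y : G) ^ 3 = 1 := by
      have h1 : orderOf ((y : G) ^ 3) ∣ 4 := by
        rw [← hS4, ← Subgroup.orderOf_mk _ hy3C]; exact orderOf_dvd_natCard _
      exact orderOf_eq_one_iff.1 (Nat.eq_one_of_dvd_coprimes
        ((hyo.coprime_dvd_left (orderOf_pow_dvd 3)).pow_right 2) dvd_rfl h1)
    have hyo3 : orderOf (y : G) = 3 :=
      (Nat.dvd_prime Nat.prime_three).1 (orderOf_dvd_of_pow_eq_one hy3) |>.resolve_left
        fun h => hy1 (orderOf_eq_one_iff.1 h)
    obtain ⟨-, hdvd, -⟩ := sup_zpowers_card_dvd S0 hyN H hHgen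
    have hSH : S0 ≤ H := map_subtype_le _
    have hH12 : Nat.card H = 12 := by
      rw [← (S0.subgroupOf H).card_mul_index, Nat.card_congr (subgroupOfEquivOfLe hSH).toEquiv, hS4]
      rw [hyo3] at hdvd
      rcases (Nat.dvd_prime Nat.prime_three).1 hdvd with h | h
      · exact absurd (Subgroup.mem_subgroupOf.1 (Subgroup.index_eq_one.1 h ▸ mem_top y)) hyS
      · rw [h]
    refine alt_four_of_order_twelve hH12 (y := y) (by rw [← Subgroup.orderOf_coe, hyo3]) fun hn => ?_
    refine hyS (hself S0 le_rfl hS4 hS2 (mem_centralizer_iff.2 fun x hx => ?_))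
    obtain ⟨x', hx', rfl⟩ := hx
    have hdisj : Disjoint (S : Subgroup H) (zpowers y) := by
      refine disjoint_iff_inf_le.2 fun z hz => ?_
      obtain ⟨t, ht⟩ := IsPGroup.iff_orderOf.1 S.2 ⟨z, hz.1⟩
      rw [Subgroup.orderOf_mk] at ht
      have h1 := orderOf_dvd_of_mem_zpowers hz.2
      exact mem_bot.2 (orderOf_eq_one_iff.1 (Nat.eq_one_of_dvd_coprimes (hj.pow_right t) h1 (ht ▸ dvd_rfl)))
    exact congrArg Subtype.val
      (Subgroup.commute_of_normal_of_disjoint _ _ (hnorm S) hn hdisj x' y hx' (mem_zpowers y)).eq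
  | b + 2, hb =>
    exfalso
    let R : Subgroup G := (zpowers r).map S0.subtype
    have hRS : R ≤ S0 := map_subtype_le _
    have hyR : (y : G) ∈ normalizer (R : Set G) := by
      refine mem_normalizer_of_conj fun x hx => ?_
      have hRz : R = zpowers (r : G) := by rw [show R = (zpowers r).map S0.subtype from rfl, MonoidHom.map_zpowers]; rfl
      rw [hRz] at hx ⊢
      obtain ⟨m, rfl⟩ := hx
      show (y : G) * (r : G) ^ m * (y : G)⁻¹ ∈ zpowers (r : G)
      rw [← conj_zpow]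
      refine zpow_mem ?_ m
      by_contra hout
      have hmem : (y : G) * r * (y : G)⁻¹ ∈ S0 := (mem_normalizer_iff.1 hyN _).1 r.2
      have h2 := hinv ⟨_, hmem⟩ (fun hin => hout (hRz ▸ ⟨_, hin, rfl⟩))
      have h3 : orderOf r ∣ 2 := by
        rw [← Subgroup.orderOf_coe]
        refine orderOf_dvd_of_pow_eq_one ?_
        have h4 : (y : G) * r * (y : G)⁻¹ * ((y : G) * r * (y : G)⁻¹) = 1 := congrArg Subtype.val h2
        rw [show (r : G) ^ 2 = (y : G)⁻¹ * ((y : G) * r * (y : G)⁻¹ * ((y : G) * r * (y : G)⁻¹)) * y by rw [pow_two]; group, h4]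
        group
      rw [hb] at h3
      have := Nat.le_of_dvd two_pos h3
      have : 2 ^ 2 ≤ 2 ^ (b + 2) := Nat.pow_le_pow_right two_pos (by omega)
      omega
    haveI : IsCyclic R := isCyclic_of_surjective ((zpowers r).equivMapOfInjective S0.subtype S0.subtype_injective).toMonoidHom
      (MulEquiv.surjective _)
    have hcomR := commute_of_cyclic_two R (hS0p.to_le hRS) inferInstance hyR hyo
    have hrR : (r : G) ∈ R := ⟨r, mem_zpowers r, rfl⟩
    -- the reflection
    set w : S0 := s * ⟨(y : G) * s * (y : G)⁻¹, (mem_normalizer_iff.1 hyN _).1 s.2⟩ with hw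
    have hws : (y : G) * s * (y : G)⁻¹ = s * w := by
      rw [hw, Subgroup.coe_mul, ← mul_assoc, show (s : G) * s = 1 from congrArg Subtype.val hs2, one_mul]
    have hwR : (w : G) ∈ R := by
      refine ⟨w, ?_, rfl⟩
      have hidx : (zpowers r).index = 2 := by
        have h1 := (zpowers r).card_mul_index
        rw [Nat.card_zpowers, hcard, mul_comm 2] at h1
        exact Nat.eq_of_mul_eq_mul_left (orderOf_pos r) h1
      rw [hw]
      refine (Subgroup.mul_mem_iff_of_index_two hidx).2 ⟨fun h => absurd h hsr, fun h => ?_⟩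
      exfalso
      apply hsr
      have h1 : (y : G) * s * (y : G)⁻¹ ∈ R := ⟨_, h, rfl⟩
      have h2 : (s : G) ∈ R := by
        have := (mem_normalizer_iff''.1 hyR _).1 h1
        rwa [show (y : G)⁻¹ * ((y : G) * s * (y : G)⁻¹) * y = s by group] at this
      obtain ⟨s', hs', he⟩ := h2
      rwa [← Subtype.ext (a1 := s') (a2 := s) he]
    have hiter : ∀ m : ℕ, (y : G) ^ m * s * ((y : G) ^ m)⁻¹ = s * (w : G) ^ m := by
      intro m
      induction m with
      | zero => simp
      | succ m ih =>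
        rw [pow_succ', show (y : G) * (y : G) ^ m * s * ((y : G) * (y : G) ^ m)⁻¹ =
          (y : G) * ((y : G) ^ m * s * ((y : G) ^ m)⁻¹) * (y : G)⁻¹ by group, ih,
          show (y : G) * (s * (w : G) ^ m) * (y : G)⁻¹ = ((y : G) * s * (y : G)⁻¹) * ((y : G) * (w : G) ^ m * (y : G)⁻¹) by group,
          hws, hcomR _ (pow_mem hwR m), mul_inv_cancel_right, pow_succ' (w : G), mul_assoc]
    have hw1 : (w : G) = 1 := by
      have h1 := hiter (orderOf (y : G))
      rw [pow_orderOf_eq_one, one_mul, inv_one, mul_one, left_eq_mul] at h1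
      obtain ⟨t, ht⟩ := IsPGroup.iff_orderOf.1 hS0p w
      rw [← Subgroup.orderOf_coe] at ht
      exact orderOf_eq_one_iff.1 (Nat.eq_one_of_dvd_coprimes (hyo.pow_right t)
        (orderOf_dvd_of_pow_eq_one h1) (ht ▸ dvd_rfl))
    have hys : (y : G) * s = s * y := by
      rw [hw1, mul_one] at hws
      exact mul_inv_eq_iff_eq_mul.1 hws
    set q : G := (r : G) ^ (2 ^ (b + 1)) with hq
    have hqo : orderOf q = 2 := by
      rw [hq, orderOf_pow, Subgroup.orderOf_coe, hb, Nat.gcd_eq_right (pow_dvd_pow 2 (by omega)),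
        Nat.pow_div (by omega) two_pos, show b + 2 - (b + 1) = 1 by omega, pow_one]
    have hq2 : q * q = 1 := by rw [← pow_two, ← hqo, pow_orderOf_eq_one]
    have hqR : q ∈ R := pow_mem hrR _
    have hsn : (s : G) ∉ R := by
      rintro ⟨s', hs', he⟩
      exact hsr (Subtype.ext (a1 := s') (a2 := s) he ▸ hs')
    have hqs : q * s = s * q := by
      have hG2 : (s : G) * r * s = (r : G)⁻¹ := congrArg Subtype.val hsrs
      have hss : (s : G)⁻¹ = s := inv_eq_of_mul_eq_one_right (congrArg Subtype.val hs2)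
      have h1 : (s : G) * q * (s : G)⁻¹ = q := by
        rw [hq, ← conj_pow, hss, hG2, inv_pow, ← hq]
        exact inv_eq_of_mul_eq_one_right hq2
      exact (mul_inv_eq_iff_eq_mul.1 h1).symm
    obtain ⟨K, hK4, hK2, hqK, hsK, hKle⟩ := exists_four_subgroup hq2 (congrArg Subtype.val hs2) hqs
      (fun h => by rw [h, orderOf_one] at hqo; omega) (fun h => hsn (h ▸ one_mem R))
      (fun h => hsn (h ▸ hqR))
    refine hyS (hKle S0 (hRS hqR) s.2 (hself K (hKle S0 (hRS hqR) s.2) hK4 hK2 (mem_centralizer_iff.2 fun x hx => ?_)))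
    have hle : K ≤ centralizer ({(y : G)} : Set G) := hKle _ (mem_centralizer_singleton_iff.2 (hcomR q hqR).symm)
      (mem_centralizer_singleton_iff.2 hys.symm)
    exact mem_centralizer_singleton_iff.1 (hle hx)

end CfsgLib.Transfer.TwoByCyclic
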