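import Mathlib.LinearAlgebra.Dual.Lemmas
import Mathlib.LinearAlgebra.Finsupp.LinearCombination
import Mathlib.RingTheory.Finiteness.Basic
import Mathlib.LinearAlgebra.FiniteDimensional.Lemmas
import Mathlib.LinearAlgebra.Basis.VectorSpace
import Mathlib.Tactic

/-!
The centralizer of a nilpotent operator `K` with `K ^ N = 0` on a space of dimension `d` has dimension
at least `d ^ 2 / N`; if `K ^ (N - 1) = 0` and the centralizer is as small as `1 + (d ^ 2 - 1) / N`,
then `K` is a single block of size `N - 1`.
-/

set_option autoImplicit false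

namespace CfsgLib.Transfer.HHB

variable {k : Type*} [Field k] {W : Type*} [AddCommGroup W] [Module k W]

/-- The operators commuting with `K`. -/
def opCentralizer (K : Module.End k W) : Submodule k (Module.End k W) :=
  LinearMap.ker (LinearMap.mulLeft k K - LinearMap.mulRight k K)

theorem mem_opCentralizer {K Φ : Module.End k W} : Φ ∈ opCentralizer K ↔ K * Φ = Φ * K := by
  simp [opCentralizer, sub_eq_zero]

variable [FiniteDimensional k W]

/-- A cyclic block of maximal length splits off. -/
theorem exists_block_split (K : Module.End k W) {e : ℕ} (hK : K ^ (e + 1) = 0) (hKe : K ^ e ≠ 0) :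
    ∃ (W' : Submodule k W) (hW' : ∀ w ∈ W', K w ∈ W'),
      Module.finrank k W' + (e + 1) = Module.finrank k W ∧
      Module.finrank k W + Module.finrank k W' +
          Module.finrank k (opCentralizer (K.restrict hW')) ≤
        Module.finrank k (opCentralizer K) := by
  classical
  obtain ⟨v, hv⟩ : ∃ v, (K ^ e) v ≠ 0 := by
    by_contra hc
    push Not at hc
    exact hKe (LinearMap.ext hc)
  have hzero : ∀ j, e + 1 ≤ j → K ^ j = 0 := fun j hj => by
    rw [← Nat.add_sub_cancel' hj, pow_add, hK, zero_mul]
  have happ : ∀ i j (w : W), (K ^ i) ((K ^ j) w) = (K ^ (i + j)) w := fun i j w => by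
    rw [pow_add]; rfl
  -- the powers of `K` applied to `v` are independent
  have hind : LinearIndependent k fun i : Fin (e + 1) => (K ^ (i : ℕ)) v := by
    rw [Fintype.linearIndependent_iff]
    intro a ha
    by_contra hne
    push Not at hne
    obtain ⟨i₀, hi₀⟩ := hne
    obtain ⟨i, hi, hmin⟩ := Finset.exists_min_image (Finset.univ.filter fun i => a i ≠ 0) id
      ⟨i₀, by simp [hi₀]⟩
    have h1 := congrArg (K ^ (e - (i : ℕ))) ha
    rw [map_sum, map_zero, Finset.sum_eq_single i] at h1
    · rw [map_smul, happ, Nat.sub_add_cancel (by omega), smul_eq_zero] at h1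
      exact h1.elim (by simpa using hi) hv
    · intro j _ hji
      rw [map_smul, happ]
      by_cases hj : a j = 0
      · rw [hj, zero_smul]
      · have h2 : (i : ℕ) ≤ j := hmin j (by simp [hj])
        have h3 : (i : ℕ) < j := lt_of_le_of_ne h2 fun h => hji (Fin.ext h).symm
        rw [hzero (e - (i : ℕ) + j) (by omega), LinearMap.zero_apply, smul_zero]
    · exact fun h => absurd (Finset.mem_univ _) h
  -- a functional dual to the last vector
  obtain ⟨f, hf1, hf0⟩ : ∃ f : W →ₗ[k] k, f ((K ^ e) v) = 1 ∧ ∀ j, j < e → f ((K ^ j) v) = 0 := by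
    set U : Submodule k W := Submodule.span k ((fun i : Fin (e + 1) => (K ^ (i : ℕ)) v) ''
      {i : Fin (e + 1) | (i : ℕ) < e})
    have hnot : (K ^ e) v ∉ U := fun h =>
      hind.notMem_span_image (s := {i : Fin (e + 1) | (i : ℕ) < e}) (x := Fin.last e)
        (by simp) h
    obtain ⟨g, hg, hgU⟩ := Submodule.exists_dual_map_eq_bot_of_notMem hnot inferInstance
    refine ⟨(g ((K ^ e) v))⁻¹ • g, ?_, fun j hj => ?_⟩
    · rw [LinearMap.smul_apply, smul_eq_mul, inv_mul_cancel₀ hg]
    · have : g ((K ^ j) v) = 0 := by
        have hmem : (K ^ j) v ∈ U := Submodule.subset_span ⟨⟨j, by omega⟩, hj, rfl⟩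
        have h2 : g ((K ^ j) v) ∈ U.map g := Submodule.mem_map_of_mem hmem
        rwa [hgU, Submodule.mem_bot] at h2
      rw [LinearMap.smul_apply, this, smul_zero]
  have hfj : ∀ j, j ≠ e → f ((K ^ j) v) = 0 := fun j hj => by
    rcases lt_or_gt_of_ne hj with h | h
    · exact hf0 j h
    · rw [hzero j h, LinearMap.zero_apply, map_zero]
  -- the operators built from a functional and a vector
  let H : (W →ₗ[k] k) → W → Module.End k W := fun g w =>
    ∑ i : Fin (e + 1), (g.comp (K ^ (e - (i : ℕ)))).smulRight ((K ^ (i : ℕ)) w)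
  have hH : ∀ g w u, H g w u = ∑ i : Fin (e + 1), g ((K ^ (e - (i : ℕ))) u) • (K ^ (i : ℕ)) w :=
    fun g w u => by simp [H, LinearMap.sum_apply]
  have hHcomm : ∀ g w, H g w ∈ opCentralizer K := by
    intro g w
    rw [mem_opCentralizer]
    refine LinearMap.ext fun u => ?_
    rw [Module.End.mul_apply, Module.End.mul_apply, hH, hH, map_sum, Fin.sum_univ_castSucc,
      Fin.sum_univ_succ]
    have eK : ∀ (j : ℕ) (x : W), K ((K ^ j) x) = (K ^ (j + 1)) x := fun j x => by
      rw [pow_succ']; rfl
    have eK' : ∀ (j : ℕ) (x : W), (K ^ j) (K x) = (K ^ (j + 1)) x := fun j x => by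
      rw [pow_succ]; rfl
    simp only [map_smul, eK, eK', Fin.val_last, Fin.val_zero, Fin.val_castSucc, Fin.val_succ,
      Nat.sub_zero]
    rw [hK]
    simp only [LinearMap.zero_apply, smul_zero, add_zero, map_zero, zero_smul, zero_add]
    refine Finset.sum_congr rfl fun i _ => ?_
    rw [show e - ((i : ℕ) + 1) + 1 = e - i by omega]
  set P := H f v with hP
  have hfH : ∀ g u, f (H g v u) = g u := by
    intro g u
    rw [hH, map_sum, Finset.sum_eq_single (Fin.last e)]
    · simp [hf1]
    · intro j _ hj
      rw [map_smul, hfj _ fun h => hj (Fin.ext h), smul_zero]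
    · exact fun h => absurd (Finset.mem_univ _) h
  have hPv : ∀ j, j ≤ e → P ((K ^ j) v) = (K ^ j) v := by
    intro j hj
    rw [hP, hH, Finset.sum_eq_single ⟨j, by omega⟩]
    · simp only
      rw [happ, Nat.sub_add_cancel hj, hf1, one_smul]
    · intro i _ hi
      rw [happ, hfj _ (fun h => hi (Fin.ext (show (i : ℕ) = j by omega))), zero_smul]
    · exact fun h => absurd (Finset.mem_univ _) h
  have hfixP : ∀ g u, P (H g v u) = H g v u := fun g u => by
    rw [hH g v u, map_sum]
    exact Finset.sum_congr rfl fun i _ => by rw [map_smul, hPv _ (by omega)]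
  have hPP : ∀ u, P (P u) = P u := fun u => hfixP f u
  have hW' : ∀ w ∈ LinearMap.ker P, K w ∈ LinearMap.ker P := fun w hw => by
    rw [LinearMap.mem_ker] at hw ⊢
    have h := LinearMap.congr_fun (mem_opCentralizer.1 (hHcomm f v)) w
    rw [Module.End.mul_apply, Module.End.mul_apply, ← hP, hw, map_zero] at h
    exact h.symm
  refine ⟨LinearMap.ker P, hW', ?_, ?_⟩
  · have hrange : LinearMap.range P =
        Submodule.span k (Set.range fun i : Fin (e + 1) => (K ^ (i : ℕ)) v) := by
      refine le_antisymm ?_ (Submodule.span_le.2 ?_)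
      · rintro _ ⟨u, rfl⟩
        rw [hP, hH]
        exact Submodule.sum_mem _ fun i _ =>
          Submodule.smul_mem _ _ (Submodule.subset_span ⟨i, rfl⟩)
      · rintro _ ⟨i, rfl⟩
        exact ⟨_, hPv _ (by omega)⟩
    have h1 := LinearMap.finrank_range_add_finrank_ker P
    rw [hrange, finrank_span_eq_card hind, Fintype.card_fin] at h1
    omega
  · set W' := LinearMap.ker P
    let ι : W →ₗ[k] W' := (LinearMap.id - P).codRestrict W' fun u => by
      simp [W', LinearMap.mem_ker, map_sub, hPP]
    have hι : ∀ u, (ι u : W) = u - P u := fun u => rfl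
    have hιmem : ∀ w : W', ι (w : W) = w := fun w => Subtype.ext (by
      rw [hι, LinearMap.mem_ker.1 w.2, sub_zero])
    have hιK : ∀ u, ι (K u) = (K.restrict hW') (ι u) := fun u => Subtype.ext (by
      have h := LinearMap.congr_fun (mem_opCentralizer.1 (hHcomm f v)) u
      rw [Module.End.mul_apply, Module.End.mul_apply, ← hP] at h
      rw [LinearMap.coe_restrict_apply, hι, hι, map_sub, h])
    let L : ((W →ₗ[k] k) × W' × opCentralizer (K.restrict hW')) →ₗ[k] Module.End k W :=
      { toFun := fun t => H t.1 v + H f (t.2.1 : W) +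
          W'.subtype.comp ((t.2.2 : Module.End k W').comp ι)
        map_add' := fun s t => LinearMap.ext fun u => by
          simp only [LinearMap.add_apply, hH, Prod.fst_add, Prod.snd_add, Submodule.coe_add,
            map_add, smul_add, add_smul, Finset.sum_add_distrib, LinearMap.comp_apply,
            Submodule.subtype_apply]
          abel
        map_smul' := fun c t => LinearMap.ext fun u => by
          simp only [LinearMap.add_apply, LinearMap.smul_apply, hH, Prod.smul_fst, Prod.smul_snd,
            map_smul, SetLike.val_smul, LinearMap.comp_apply,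
            Submodule.subtype_apply, smul_eq_mul, RingHom.id_apply, smul_add, Finset.smul_sum]
          simp only [smul_smul, mul_comm c] }
    have hLmem : ∀ t, L t ∈ opCentralizer K := by
      rintro ⟨g, w, Φ⟩
      refine Submodule.add_mem _ (Submodule.add_mem _ (hHcomm _ _) (hHcomm _ _)) ?_
      rw [mem_opCentralizer]
      refine LinearMap.ext fun u => ?_
      show K ((Φ : Module.End k W') (ι u) : W) = ((Φ : Module.End k W') (ι (K u)) : W)
      rw [hιK, ← Module.End.mul_apply (Φ : Module.End k W'), ← mem_opCentralizer.1 Φ.2]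
      rfl
    have hwmem : ∀ (w : W') (i : ℕ), P ((K ^ i) (w : W)) = 0 := by
      intro w i
      induction i with
      | zero => exact LinearMap.mem_ker.1 w.2
      | succ i ih =>
        rw [pow_succ', Module.End.mul_apply]
        exact LinearMap.mem_ker.1 (hW' _ (LinearMap.mem_ker.2 ih))
    have hLinj : Function.Injective (L.codRestrict _ hLmem) := by
      rw [injective_iff_map_eq_zero]
      rintro ⟨g, w, Φ⟩ h0'
      have h0 : L (g, w, Φ) = 0 := congrArg Subtype.val h0'
      clear h0'
      have h0' : ∀ u, H g v u + H f (w : W) u + ((Φ : Module.End k W') (ι u) : W) = 0 :=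
        fun u => LinearMap.congr_fun h0 u
      have hg : g = 0 := LinearMap.ext fun u => by
        have h := congrArg P (h0' u)
        rw [map_add, map_add, hfixP, map_zero,
          LinearMap.mem_ker.1 ((Φ : Module.End k W') (ι u)).2, add_zero,
          hH f (w : W) u, map_sum, Finset.sum_eq_zero fun i _ => by rw [map_smul, hwmem, smul_zero],
          add_zero] at h
        rw [← hfH g u, h, map_zero, LinearMap.zero_apply]
      subst hg
      have hw : w = 0 := Subtype.ext (by
        have h := h0' v
        have hιv : ι v = 0 := Subtype.ext (by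
          have := hPv 0 (Nat.zero_le _)
          rw [pow_zero, Module.End.one_apply] at this
          rw [hι, this, sub_self]; rfl)
        rw [hιv, map_zero, ZeroMemClass.coe_zero, add_zero, hH, hH,
          Finset.sum_eq_single (a := (0 : Fin (e + 1))) (f := fun i : Fin (e + 1) =>
            f ((K ^ (e - (i : ℕ))) v) • (K ^ (i : ℕ)) (w : W))] at h
        · simpa [hf1] using h
        · intro i _ hi
          rw [hfj _ fun h2 => hi (Fin.ext (show (i : ℕ) = 0 by omega)), zero_smul]
        · exact fun h2 => absurd (Finset.mem_univ _) h2)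
      subst hw
      refine Prod.ext rfl (Prod.ext rfl (Subtype.ext (LinearMap.ext fun u => Subtype.ext ?_)))
      have h := h0' (u : W)
      rw [hιmem] at h
      simpa [hH] using h
    have h := LinearMap.finrank_le_finrank_of_injective hLinj
    have hfree : Module.Free k (opCentralizer (K.restrict hW')) := Module.Free.of_divisionRing k (opCentralizer (K.restrict hW'))
    have : Module.Free k W' := Module.Free.of_divisionRing k _
    have : Module.Finite k W' := inferInstance
    have : Module.Finite k (opCentralizer (K.restrict hW')) := inferInstance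
    rw [Module.finrank_prod, Module.finrank_prod, Module.finrank_linearMap_self] at h
    change _ + Module.finrank k W' + Module.finrank k (opCentralizer (K.restrict hW')) ≤ _
    omega

omit [FiniteDimensional k W] in
theorem pow_restrict_eq_zero {K : Module.End k W} {W' : Submodule k W} (hW' : ∀ w ∈ W', K w ∈ W')
    {N : ℕ} (hN : K ^ N = 0) : (K.restrict hW') ^ N = 0 := by
  have key : ∀ i (w : W'), (((K.restrict hW') ^ i) w : W) = (K ^ i) w := by
    intro i
    induction i with
    | zero => intro w; rfl
    | succ i ih => intro w; rw [pow_succ', pow_succ', Module.End.mul_apply,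
        LinearMap.coe_restrict_apply, ih]; rfl
  exact LinearMap.ext fun w => Subtype.ext (by rw [key, hN]; rfl)

omit [FiniteDimensional k W] in
theorem exists_nilpotency [Nontrivial W] {K : Module.End k W} {N : ℕ} (hN : K ^ N = 0) :
    ∃ e, e < N ∧ K ^ (e + 1) = 0 ∧ K ^ e ≠ 0 := by
  classical
  have hex : ∃ i, K ^ i = 0 := ⟨N, hN⟩
  have h0 : Nat.find hex ≠ 0 := fun h => by
    have := Nat.find_spec hex
    rw [h, pow_zero] at this
    exact one_ne_zero this
  refine ⟨Nat.find hex - 1, ?_, ?_, Nat.find_min hex (by omega)⟩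
  · have := Nat.find_min' hex hN
    omega
  · rw [Nat.sub_add_cancel (Nat.one_le_iff_ne_zero.2 h0)]
    exact Nat.find_spec hex

omit [FiniteDimensional k W] in
theorem block_bound {e N d' c' : ℕ} (he : e < N) (h : d' * d' ≤ N * c') :
    (d' + (e + 1)) * (d' + (e + 1)) ≤ N * (d' + (e + 1) + d' + c') := by
  nlinarith [Nat.mul_le_mul_left (2 * d' + e + 1) (Nat.succ_le_of_lt he), h]

/-- The centralizer of an operator with `K ^ N = 0` has dimension at least `d ^ 2 / N`. -/
theorem sq_finrank_le {N : ℕ} : ∀ (d : ℕ) {W : Type*} [AddCommGroup W] [Module k W]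
    [FiniteDimensional k W] (K : Module.End k W), Module.finrank k W = d → K ^ N = 0 →
    d * d ≤ N * Module.finrank k (opCentralizer K) := by
  intro d
  induction d using Nat.strong_induction_on with
  | _ d ih =>
  intro W _ _ _ K hd hK
  rcases Nat.eq_zero_or_pos d with rfl | hd0
  · simp
  have : Nontrivial W := Module.nontrivial_of_finrank_pos (R := k) (by rw [hd]; exact hd0)
  obtain ⟨e, heN, he, hee⟩ := exists_nilpotency hK
  obtain ⟨W', hW', hdim, hc⟩ := exists_block_split K he hee
  have h1 := ih (Module.finrank k W') (by omega) (K.restrict hW') rfl (pow_restrict_eq_zero hW' hK)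
  have h2 := block_bound heN h1
  rw [hdim, hd] at h2
  refine h2.trans (Nat.mul_le_mul_left _ ?_)
  rw [hd] at hc
  exact hc

/-- A single block of size `N - 1` in the extremal case. -/
theorem extremal_block {N : ℕ} {K : Module.End k W} (hd : 1 < Module.finrank k W)
    (hK : K ^ (N - 1) = 0)
    (hc : N * Module.finrank k (opCentralizer K) + 1 ≤ Module.finrank k W * Module.finrank k W + N) :
    Module.finrank k W = N - 1 ∧ ∀ i, K ^ i = 0 → N - 1 ≤ i := by
  have : Nontrivial W := Module.nontrivial_of_finrank_pos (R := k) (by omega)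
  obtain ⟨e, heN, he, hee⟩ := exists_nilpotency hK
  obtain ⟨W', hW', hdim, hcc⟩ := exists_block_split K he hee
  have hKN : K ^ N = 0 := by
    rw [show N = N - 1 + 1 by omega, pow_succ, hK, zero_mul]
  have h1 := sq_finrank_le (k := k) (N := N) (Module.finrank k W') (K.restrict hW') rfl
    (pow_restrict_eq_zero hW' hKN)
  set d' := Module.finrank k W'
  set c' := Module.finrank k (opCentralizer (K.restrict hW'))
  set c := Module.finrank k (opCentralizer K)
  rw [← hdim] at hc hcc hd
  have h2 : (N - (e + 1)) * (e + 1 + 2 * d') + 1 ≤ N := by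
    obtain ⟨r, hr⟩ : ∃ r, N = e + 1 + r := ⟨N - (e + 1), by omega⟩
    subst hr
    rw [Nat.add_sub_cancel_left]
    have h3 := Nat.mul_le_mul_left (e + 1 + r) hcc
    nlinarith
  obtain ⟨r, hr⟩ : ∃ r, N = e + 2 + r := ⟨N - (e + 2), by omega⟩
  subst hr
  rw [show e + 2 + r - (e + 1) = r + 1 by omega] at h2
  have hd' : d' = 0 := by nlinarith [Nat.zero_le (e * r)]
  rw [hd'] at h2 hd
  have hr0 : r = 0 := by
    have he1 : 1 ≤ e := by omega
    nlinarith
  refine ⟨by omega, fun i hi => ?_⟩
  by_contra hlt
  exact hee (by
    rw [show e = i + (e - i) by omega, pow_add, hi, zero_mul])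

end CfsgLib.Transfer.HHB
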